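import Mathlib.GroupTheory.Sylow
import Mathlib.GroupTheory.Transfer

set_option autoImplicit false

namespace Cfsg.Agent.Lib.Helper2

open scoped Pointwise

theorem mem_map_conj_iff {G : Type*} [Group G] (Z : Subgroup G) (g x : G) :
    x ∈ Z.map (MulAut.conj g).toMonoidHom ↔ g⁻¹ * x * g ∈ Z := by
  constructor
  · rintro ⟨z, hz, rfl⟩
    simpa [mul_assoc] using hz
  · intro h
    exact ⟨g⁻¹ * x * g, h, by simp [mul_assoc]⟩

theorem mem_smul_sylow_iff {G : Type*} [Group G] {p : ℕ} (P : Sylow p G) (g x : G) :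
    x ∈ g • P ↔ g⁻¹ * x * g ∈ P := by
  change x ∈ MulAut.conj g • (P : Subgroup G) ↔ _
  rw [Subgroup.mem_pointwise_smul_iff_inv_smul_mem]
  simp only [MulAut.smul_def, MulAut.conj_inv_apply, mul_assoc]
  exact Iff.rfl

theorem sylow_conj_in_subgroup {G : Type*} [Group G] [Finite G] {p : ℕ} [Fact p.Prime]
    (P R : Sylow p G) (H : Subgroup G) (hP : (P : Subgroup G) ≤ H) (hR : (R : Subgroup G) ≤ H) :
    ∃ h ∈ H, h • R = P := by
  obtain ⟨h, hh⟩ := MulAction.exists_smul_eq H (R.subtype hR) (P.subtype hP)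
  rw [Sylow.smul_subtype] at hh
  exact ⟨h, h.2, Sylow.subtype_injective hh⟩

theorem mem_normalizer_iff' {G : Type*} [Group G] (H : Subgroup G) (g : G) :
    g ∈ Subgroup.normalizer (H : Set G) ↔ ∀ h, h ∈ H ↔ g * h * g⁻¹ ∈ H :=
  Iff.rfl

end Cfsg.Agent.Lib.Helper2
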