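import Cfsg.Prelude.Def_Transfer
import Mathlib.GroupTheory.Transfer
import Cfsg.Agent.Lib.Helper2.Basic

set_option autoImplicit false

namespace Cfsg.Agent.Lib.Helper2

variable {G : Type*} [Group G]

/-- Some `p`-power power of an element of finite order has order prime to `p`. -/
theorem exists_pow_prime_pow_coprime {p : ℕ} [hp : Fact p.Prime] (g : G) (hg : orderOf g ≠ 0) :
    ∃ a : ℕ, Nat.Coprime (orderOf (g ^ (p ^ a))) p := by
  obtain ⟨e, n', hn', hn⟩ := Nat.exists_eq_pow_mul_and_not_dvd hg p hp.out.ne_one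
  refine ⟨e, ?_⟩
  have hpe : p ^ e ≠ 0 := pow_ne_zero _ hp.out.ne_zero
  rw [orderOf_pow' g hpe, hn]
  have hgcd : Nat.gcd (p ^ e * n') (p ^ e) = p ^ e := Nat.gcd_eq_right (dvd_mul_right _ _)
  rw [hgcd, Nat.mul_div_cancel_left _ (Nat.pos_of_ne_zero hpe)]
  rw [Nat.coprime_comm]
  exact (Nat.Prime.coprime_iff_not_dvd hp.out).mpr hn'

theorem orderOf_conj_eq (g x : G) : orderOf (g * x * g⁻¹) = orderOf x := by
  have hsc : SemiconjBy g x (g * x * g⁻¹) := by
    unfold SemiconjBy; group
  exact hsc.orderOf_eq.symm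

theorem pResidual_normal (p : ℕ) : (Cfsg.pResidual p G).Normal := by
  have h : Cfsg.pResidual p G = Subgroup.normalClosure {g : G | Nat.Coprime (orderOf g) p} := by
    unfold Cfsg.pResidual Subgroup.normalClosure
    congr 1
    apply Set.Subset.antisymm Group.subset_conjugatesOfSet
    intro x hx
    rw [Group.mem_conjugatesOfSet_iff] at hx
    obtain ⟨a, ha, hax⟩ := hx
    obtain ⟨c, rfl⟩ := isConj_iff.mp hax
    show Nat.Coprime (orderOf (c * a * c⁻¹)) p
    rw [orderOf_conj_eq]
    exact ha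
  rw [h]
  infer_instance

theorem mem_pResidual_of_coprime {p : ℕ} {g : G} (h : Nat.Coprime (orderOf g) p) :
    g ∈ Cfsg.pResidual p G :=
  Subgroup.subset_closure h

theorem isPGroup_quotient_of_coprime_mem [Finite G] {p : ℕ} [hp : Fact p.Prime] (K : Subgroup G)
    [K.Normal] (h : ∀ g : G, Nat.Coprime (orderOf g) p → g ∈ K) : IsPGroup p (G ⧸ K) := by
  intro q
  obtain ⟨g, rfl⟩ := QuotientGroup.mk_surjective q
  obtain ⟨a, ha⟩ := exists_pow_prime_pow_coprime (p := p) g (orderOf_pos g).ne'
  refine ⟨a, ?_⟩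
  rw [← QuotientGroup.mk_pow, QuotientGroup.eq_one_iff]
  exact h _ ha

theorem isPGroup_quotient_pResidual [Finite G] (p : ℕ) [hp : Fact p.Prime] :
    haveI := pResidual_normal (G := G) p
    IsPGroup p (G ⧸ Cfsg.pResidual p G) := by
  haveI := pResidual_normal (G := G) p
  exact isPGroup_quotient_of_coprime_mem _ (fun g hg => mem_pResidual_of_coprime hg)

/-- Elements of order prime to `p` lie in every normal subgroup with `p`-group quotient. -/
theorem mem_of_coprime_of_isPGroup_quotient {p : ℕ} [hp : Fact p.Prime] (K : Subgroup G) [K.Normal]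
    (hK : IsPGroup p (G ⧸ K)) {g : G} (hg : Nat.Coprime (orderOf g) p) : g ∈ K := by
  obtain ⟨k, hk⟩ := hK (QuotientGroup.mk' K g)
  have h1 : orderOf (QuotientGroup.mk' K g) ∣ orderOf g := orderOf_map_dvd _ g
  have h2 : orderOf (QuotientGroup.mk' K g) ∣ p ^ k := orderOf_dvd_of_pow_eq_one hk
  have h4 : Nat.Coprime (orderOf g) (p ^ k) := Nat.Coprime.pow_right k hg
  have h5 : orderOf (QuotientGroup.mk' K g) = 1 := Nat.eq_one_of_dvd_coprimes h4 h1 h2
  rw [orderOf_eq_one_iff] at h5
  exact (QuotientGroup.eq_one_iff g).mp h5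

theorem pResidual_le_of_isPGroup_quotient {p : ℕ} [hp : Fact p.Prime] (K : Subgroup G) [K.Normal]
    (hK : IsPGroup p (G ⧸ K)) : Cfsg.pResidual p G ≤ K := by
  unfold Cfsg.pResidual
  rw [Subgroup.closure_le]
  intro g hg
  exact mem_of_coprime_of_isPGroup_quotient K hK hg

theorem pResidual_le_map_pResidual {p : ℕ} [hp : Fact p.Prime] (K : Subgroup G)
    (h : ∀ g : G, Nat.Coprime (orderOf g) p → g ∈ K) :
    Cfsg.pResidual p G ≤ (Cfsg.pResidual p K).map K.subtype := by
  unfold Cfsg.pResidual
  rw [Subgroup.closure_le]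
  intro g hg
  refine ⟨⟨g, h g hg⟩, Subgroup.subset_closure ?_, rfl⟩
  show Nat.Coprime (orderOf (⟨g, h g hg⟩ : K)) p
  rw [← Subgroup.orderOf_coe]
  exact hg

/-- A normal complement of a Sylow `p`-subgroup exists iff `O^p(G)` has order prime to `p`. -/
theorem exists_normal_complement_iff_not_dvd_card_pResidual [Finite G] {p : ℕ} [hp : Fact p.Prime]
    (P : Sylow p G) :
    (∃ N : Subgroup G, N.Normal ∧ N.IsComplement' (P : Subgroup G)) ↔
      ¬ p ∣ Nat.card (Cfsg.pResidual p G) := by
  constructor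
  · rintro ⟨N, hN, hc⟩
    have hcardN : Nat.card N = (P : Subgroup G).index := hc.index_eq_card.symm
    have hidxN : N.index = Nat.card (P : Subgroup G) := hc.symm.index_eq_card
    have hQ : IsPGroup p (G ⧸ N) := by
      obtain ⟨k, hk⟩ := P.2.exists_card_eq
      apply IsPGroup.of_card (n := k)
      rw [← hk]; exact hidxN
    have hle := pResidual_le_of_isPGroup_quotient N hQ
    intro hdvd
    have h1 : p ∣ Nat.card N := hdvd.trans (Subgroup.card_dvd_of_le hle)
    rw [hcardN] at h1
    exact P.not_dvd_index h1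
  · intro h
    haveI := pResidual_normal (G := G) p
    refine ⟨Cfsg.pResidual p G, inferInstance, ?_⟩
    have hQ := isPGroup_quotient_pResidual (G := G) p
    obtain ⟨k, hk⟩ := hQ.exists_card_eq
    obtain ⟨j, hj⟩ := P.2.exists_card_eq
    have hmul := Subgroup.card_eq_card_quotient_mul_card_subgroup (Cfsg.pResidual p G)
    have hmul2 : Nat.card (P : Subgroup G) * (P : Subgroup G).index = Nat.card G :=
      Subgroup.card_mul_index _
    have hcopR : Nat.Coprime (Nat.card (Cfsg.pResidual p G)) p :=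
      (Nat.coprime_comm.mp ((Nat.Prime.coprime_iff_not_dvd hp.out).mpr h))
    have hcopI : Nat.Coprime (P : Subgroup G).index p :=
      (Nat.coprime_comm.mp ((Nat.Prime.coprime_iff_not_dvd hp.out).mpr P.not_dvd_index))
    -- p^k * |R| = p^j * index
    have hEq : p ^ k * Nat.card (Cfsg.pResidual p G) = p ^ j * (P : Subgroup G).index := by
      rw [← hk, ← hj, ← hmul, hmul2]
    have hR : Nat.card (Cfsg.pResidual p G) = (P : Subgroup G).index := by
      have d1 : Nat.card (Cfsg.pResidual p G) ∣ (P : Subgroup G).index := by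
        have : Nat.card (Cfsg.pResidual p G) ∣ p ^ j * (P : Subgroup G).index :=
          Dvd.intro_left _ hEq
        exact (Nat.Coprime.pow_right j hcopR).dvd_of_dvd_mul_left this
      have d2 : (P : Subgroup G).index ∣ Nat.card (Cfsg.pResidual p G) := by
        have : (P : Subgroup G).index ∣ p ^ k * Nat.card (Cfsg.pResidual p G) :=
          Dvd.intro_left _ hEq.symm
        exact (Nat.Coprime.pow_right k hcopI).dvd_of_dvd_mul_left this
      exact Nat.dvd_antisymm d1 d2
    apply Subgroup.isComplement'_of_coprime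
    · rw [hR, mul_comm]; exact hmul2
    · rw [hR, Nat.coprime_comm]; exact P.card_coprime_index

end Cfsg.Agent.Lib.Helper2
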