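import Mathlib.GroupTheory.Sylow
import Mathlib.GroupTheory.Frattini
import Mathlib.GroupTheory.Nilpotent
import Mathlib.GroupTheory.Perm.Cycle.Type
import Mathlib.GroupTheory.SpecificGroups.Cyclic

set_option autoImplicit false

namespace Cfsg.Agent.Lib.Helper2

open scoped commutatorElement

theorem coatom_normal {P : Type*} [Group P] [Finite P] {p : ℕ} [Fact p.Prime] (hP : IsPGroup p P)
    (M : Subgroup P) (hM : IsCoatom M) : M.Normal := by
  have hnil : Group.IsNilpotent P := hP.isNilpotent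
  exact Subgroup.NormalizerCondition.normal_of_coatom M Group.normalizerCondition_of_isNilpotent hM

theorem coatom_card_quotient {P : Type*} [Group P] [Finite P] {p : ℕ} [hp : Fact p.Prime]
    (hP : IsPGroup p P) (M : Subgroup P) [M.Normal] (hM : IsCoatom M) : Nat.card (P ⧸ M) = p := by
  have hQ : IsPGroup p (P ⧸ M) := hP.to_quotient M
  have hnt : Nontrivial (P ⧸ M) := by
    rw [← not_subsingleton_iff_nontrivial]
    intro hs
    apply hM.1
    rw [eq_top_iff]
    intro g _
    have : (QuotientGroup.mk' M g) = 1 := Subsingleton.elim _ _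
    exact (QuotientGroup.eq_one_iff g).mp this
  obtain ⟨n, hn0, hn⟩ := hQ.nontrivial_iff_card.mp hnt
  have hdvd : p ∣ Nat.card (P ⧸ M) := by rw [hn]; exact dvd_pow_self p hn0.ne'
  obtain ⟨x, hx⟩ := exists_prime_orderOf_dvd_card' (G := P ⧸ M) p hdvd
  have hx1 : x ≠ 1 := by
    intro h; rw [h, orderOf_one] at hx; exact hp.out.one_lt.ne hx
  obtain ⟨g, rfl⟩ := QuotientGroup.mk'_surjective M x
  have hle : M ≤ (Subgroup.zpowers (QuotientGroup.mk' M g)).comap (QuotientGroup.mk' M) := by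
    intro m hm
    rw [Subgroup.mem_comap]
    have : QuotientGroup.mk' M m = 1 := (QuotientGroup.eq_one_iff m).mpr hm
    rw [this]; exact Subgroup.one_mem _
  have hg : g ∈ (Subgroup.zpowers (QuotientGroup.mk' M g)).comap (QuotientGroup.mk' M) :=
    Subgroup.mem_zpowers _
  have hgM : g ∉ M := fun h => hx1 ((QuotientGroup.eq_one_iff g).mpr h)
  have hlt : M < (Subgroup.zpowers (QuotientGroup.mk' M g)).comap (QuotientGroup.mk' M) :=
    lt_of_le_of_ne hle (fun h => hgM (h ▸ hg))
  have htop := hM.2 _ hlt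
  have hz : Subgroup.zpowers (QuotientGroup.mk' M g) = ⊤ := by
    rw [eq_top_iff]
    intro q _
    obtain ⟨a, rfl⟩ := QuotientGroup.mk'_surjective M q
    have : a ∈ (Subgroup.zpowers (QuotientGroup.mk' M g)).comap (QuotientGroup.mk' M) := by
      rw [htop]; trivial
    exact this
  rw [← hx, ← Nat.card_zpowers, hz, Subgroup.card_top]

theorem pow_mem_coatom {P : Type*} [Group P] [Finite P] {p : ℕ} [hp : Fact p.Prime]
    (hP : IsPGroup p P) (M : Subgroup P) (hM : IsCoatom M) (x : P) : x ^ p ∈ M := by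
  have := coatom_normal hP M hM
  have hc := coatom_card_quotient hP M hM
  rw [← QuotientGroup.eq_one_iff, QuotientGroup.mk_pow, ← hc]
  exact pow_card_eq_one'

theorem commutator_le_coatom {P : Type*} [Group P] [Finite P] {p : ℕ} [hp : Fact p.Prime]
    (hP : IsPGroup p P) (M : Subgroup P) (hM : IsCoatom M) : commutator P ≤ M := by
  have := coatom_normal hP M hM
  have hc := coatom_card_quotient hP M hM
  have hcyc : IsCyclic (P ⧸ M) := isCyclic_of_prime_card hc
  apply Subgroup.Normal.quotient_commutative_iff_commutator_le.mp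
  exact IsCyclic.isMulCommutative

theorem mem_frattini_iff {P : Type*} [Group P] (x : P) :
    x ∈ frattini P ↔ ∀ M : Subgroup P, IsCoatom M → x ∈ M := by
  unfold frattini Order.radical
  simp [Subgroup.mem_iInf]

theorem pow_mem_frattini {P : Type*} [Group P] [Finite P] {p : ℕ} [hp : Fact p.Prime]
    (hP : IsPGroup p P) (x : P) : x ^ p ∈ frattini P := by
  rw [mem_frattini_iff]
  intro M hM
  exact pow_mem_coatom hP M hM x

theorem commutator_le_frattini {P : Type*} [Group P] [Finite P] {p : ℕ} [hp : Fact p.Prime]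
    (hP : IsPGroup p P) : commutator P ≤ frattini P := by
  intro x hx
  rw [mem_frattini_iff]
  intro M hM
  exact commutator_le_coatom hP M hM hx

/-- If `⁅a, b⁆` commutes with `a` then `⁅a ^ n, b⁆ = ⁅a, b⁆ ^ n`. -/
theorem commutator_pow_left {G : Type*} [Group G] (a b : G) (h : Commute ⁅a, b⁆ a) (n : ℕ) :
    ⁅a ^ n, b⁆ = ⁅a, b⁆ ^ n := by
  induction n with
  | zero => simp
  | succ n ih =>
    have h1 : ⁅a ^ (n + 1), b⁆ = a * ⁅a ^ n, b⁆ * a⁻¹ * ⁅a, b⁆ := by
      simp only [commutatorElement_def, pow_succ']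
      group
    rw [h1, ih]
    have h2 : Commute (⁅a, b⁆ ^ n) a := h.pow_left n
    have h3 : a * ⁅a, b⁆ ^ n * a⁻¹ = ⁅a, b⁆ ^ n := by
      rw [← h2.eq, mul_assoc, mul_inv_cancel, mul_one]
    rw [h3, pow_succ]

/-- If `⁅a, b⁆` commutes with `b` then `⁅a, b ^ n⁆ = ⁅a, b⁆ ^ n`. -/
theorem commutator_pow_right {G : Type*} [Group G] (a b : G) (h : Commute ⁅a, b⁆ b) (n : ℕ) :
    ⁅a, b ^ n⁆ = ⁅a, b⁆ ^ n := by
  induction n with
  | zero => simp
  | succ n ih =>
    have h1 : ⁅a, b ^ (n + 1)⁆ = ⁅a, b⁆ * (b * ⁅a, b ^ n⁆ * b⁻¹) := by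
      simp only [commutatorElement_def, pow_succ']
      group
    rw [h1, ih]
    have h2 : Commute (⁅a, b⁆ ^ n) b := h.pow_left n
    have h3 : b * ⁅a, b⁆ ^ n * b⁻¹ = ⁅a, b⁆ ^ n := by
      rw [← h2.eq, mul_assoc, mul_inv_cancel, mul_one]
    rw [h3, pow_succ']

end Cfsg.Agent.Lib.Helper2
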