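import Cfsg.Prelude.Def_Transfer
import Mathlib.GroupTheory.Transfer
import Cfsg.Agent.Lib.Helper2.Basic

set_option autoImplicit false

namespace Cfsg.Agent.Lib.Helper2

/-- A normal complement to one Sylow `p`-subgroup is a complement to every Sylow `p`-subgroup. -/
theorem isComplement'_sylow_of_isComplement'_sylow {G : Type*} [Group G] [Finite G] {p : ℕ}
    [hp : Fact p.Prime] (P P' : Sylow p G) (N : Subgroup G)
    (hN : N.IsComplement' (P' : Subgroup G)) : N.IsComplement' (P : Subgroup G) := by
  have hcard : Nat.card (P : Subgroup G) = Nat.card (P' : Subgroup G) :=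
    Nat.card_congr (Sylow.equiv P P').toEquiv
  have h1 : Nat.card N * Nat.card (P : Subgroup G) = Nat.card G := by
    rw [hcard]; exact hN.card_mul_card
  have h2 : Nat.card N = (P' : Subgroup G).index := hN.index_eq_card.symm
  apply Subgroup.isComplement'_of_coprime h1
  rw [h2, hcard, Nat.coprime_comm]
  exact P'.card_coprime_index

theorem hasNormalPComplement_iff {G : Type*} [Group G] [Finite G] {p : ℕ}
    [hp : Fact p.Prime] (P : Sylow p G) :
    Cfsg.HasNormalPComplement p G ↔ ∃ N : Subgroup G, N.Normal ∧ N.IsComplement' (P : Subgroup G) := by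
  constructor
  · rintro ⟨P', N, hN, hc⟩
    exact ⟨N, hN, isComplement'_sylow_of_isComplement'_sylow P P' N hc⟩
  · rintro ⟨N, hN, hc⟩
    exact ⟨P, N, hN, hc⟩

/-- Burnside's normal `p`-complement theorem in the vocabulary of the statements. -/
theorem hasNormalPComplement_of_normalizer_le_centralizer {G : Type*} [Group G] [Finite G] {p : ℕ}
    [hp : Fact p.Prime] (P : Sylow p G)
    (h : Subgroup.normalizer (P : Set G) ≤ Subgroup.centralizer (P : Set G)) :
    Cfsg.HasNormalPComplement p G :=
  ⟨P, (MonoidHom.transferSylow P h).ker, inferInstance,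
    MonoidHom.ker_transferSylow_isComplement' P h⟩

end Cfsg.Agent.Lib.Helper2
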