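import Cfsg.Agent.Lib.Helper2.AlperinTame
import Cfsg.Agent.Lib.Helper2.PResidual
import Mathlib.GroupTheory.Focal

set_option autoImplicit false

namespace Cfsg.Agent.Lib.Helper2

open Cfsg.Agent.Lib.Helper33
open scoped commutatorElement

variable {G : Type*} [Group G]

/-- Frobenius' condition: `p'`-elements normalizing a `p`-subgroup centralize it. -/
def FrobCond (p : ℕ) (G : Type*) [Group G] : Prop :=
  ∀ Q : Subgroup G, IsPGroup p Q → ∀ g ∈ Subgroup.normalizer (Q : Set G),
    Nat.Coprime (orderOf g) p → g ∈ Subgroup.centralizer (Q : Set G)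

theorem centralizer_subgroupOf_normalizer_normal (D : Subgroup G) :
    ((Subgroup.centralizer (D : Set G)).subgroupOf (Subgroup.normalizer (D : Set G))).Normal := by
  refine ⟨fun c hc n => ?_⟩
  rw [Subgroup.mem_subgroupOf] at hc ⊢
  rw [Subgroup.mem_centralizer_iff] at hc ⊢
  intro d hd
  have hn : (n : G) ∈ Subgroup.normalizer (D : Set G) := n.2
  have hd' : (n : G)⁻¹ * d * (n : G) ∈ D := by
    have := (Subgroup.mem_normalizer_iff.mp (Subgroup.inv_mem _ hn) d).mp hd
    simpa using this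
  have h1 := hc _ hd'
  simp only [Subgroup.coe_mul, Subgroup.coe_inv]
  calc d * ((n : G) * c * (n : G)⁻¹) = n * (((n : G)⁻¹ * d * n) * c) * (n : G)⁻¹ := by group
    _ = n * ((c : G) * ((n : G)⁻¹ * d * n)) * (n : G)⁻¹ := by rw [h1]
    _ = (n : G) * c * (n : G)⁻¹ * d := by group

/-- Under Frobenius' condition, if `N_P(D)` is Sylow in `N(D)` then `N(D) = C(D) N_P(D)`. -/
theorem normalizer_factor [Finite G] {p : ℕ} [hp : Fact p.Prime] (hF : FrobCond p G)
    (P : Sylow p G) (D : Subgroup G) (hDP : D ≤ (P : Subgroup G))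
    (hfull : ¬ p ∣ ((P : Subgroup G) ⊓ Subgroup.normalizer (D : Set G)).relIndex
      (Subgroup.normalizer (D : Set G)))
    (x : G) (hx : x ∈ Subgroup.normalizer (D : Set G)) :
    ∃ c ∈ Subgroup.centralizer (D : Set G), ∃ s ∈ (P : Subgroup G), x = c * s := by
  set N := Subgroup.normalizer (D : Set G) with hN
  set C' := (Subgroup.centralizer (D : Set G)).subgroupOf N with hC'
  set S' := ((P : Subgroup G) ⊓ N).subgroupOf N with hS'
  haveI : C'.Normal := centralizer_subgroupOf_normalizer_normal D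
  have hDp : IsPGroup p D := P.2.to_le hDP
  have hQ : IsPGroup p (N ⧸ C') := by
    apply isPGroup_quotient_of_coprime_mem
    intro g hg
    rw [hC', Subgroup.mem_subgroupOf]
    apply hF D hDp g g.2
    rw [← Subgroup.orderOf_coe] at hg
    exact hg
  obtain ⟨k, hk⟩ := hQ.exists_card_eq
  have h1 : (C' ⊔ S').index ∣ p ^ k := by
    rw [← hk, ← Subgroup.index_eq_card]
    exact Subgroup.index_dvd_of_le le_sup_left
  have h2 : (C' ⊔ S').index ∣ ((P : Subgroup G) ⊓ N).relIndex N :=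
    Subgroup.index_dvd_of_le le_sup_right
  have hcop : Nat.Coprime (p ^ k) (((P : Subgroup G) ⊓ N).relIndex N) :=
    Nat.Coprime.pow_left k ((Nat.Prime.coprime_iff_not_dvd hp.out).mpr hfull)
  have h3 : (C' ⊔ S').index = 1 := Nat.eq_one_of_dvd_coprimes hcop h1 h2
  have h4 : C' ⊔ S' = ⊤ := Subgroup.index_eq_one.mp h3
  have hx' : (⟨x, hx⟩ : N) ∈ ((C' ⊔ S' : Subgroup N) : Set N) := by
    rw [h4]; trivial
  rw [Subgroup.normal_mul] at hx'
  obtain ⟨c, hc, s, hs, hcs⟩ := hx'
  refine ⟨c, Subgroup.mem_subgroupOf.mp hc, s, (Subgroup.mem_subgroupOf.mp hs).1, ?_⟩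
  have := congrArg Subtype.val hcs
  simpa using this.symm

/-- Under Frobenius' condition a Sylow `p`-subgroup controls its own fusion (strongly). -/
theorem control_of_reach [Finite G] {p : ℕ} [hp : Fact p.Prime] (hF : FrobCond p G)
    (P : Sylow p G) {A : Set G} {g : G} (h : Reach (tameFamily P) A g) :
    ∃ s ∈ (P : Subgroup G), ∀ a ∈ A, g⁻¹ * a * g = s⁻¹ * a * s := by
  induction h with
  | nil A => exact ⟨1, Subgroup.one_mem _, fun a _ => by simp⟩
  | cons A T x g hT hx hAT _ ih =>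
    obtain ⟨s₂, hs₂, h₂⟩ := ih
    obtain ⟨Q, rfl, htame⟩ := hT
    obtain ⟨c, hc, s₁, hs₁, rfl⟩ := normalizer_factor hF P _ inf_le_left htame.1 x hx
    refine ⟨s₁ * s₂, Subgroup.mul_mem _ hs₁ hs₂, ?_⟩
    intro a ha
    have hca : c⁻¹ * a * c = a := by
      have := (Subgroup.mem_centralizer_iff.mp hc) a (hAT ha)
      calc c⁻¹ * a * c = c⁻¹ * (a * c) := by group
        _ = c⁻¹ * (c * a) := by rw [this]
        _ = a := by group
    have hmem : (c * s₁)⁻¹ * a * (c * s₁) ∈ rc (c * s₁) A := conj_mem_rc ha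
    have h3 := h₂ _ hmem
    calc (c * s₁ * g)⁻¹ * a * (c * s₁ * g) = g⁻¹ * ((c * s₁)⁻¹ * a * (c * s₁)) * g := by group
      _ = s₂⁻¹ * ((c * s₁)⁻¹ * a * (c * s₁)) * s₂ := h3
      _ = s₂⁻¹ * (s₁⁻¹ * (c⁻¹ * a * c) * s₁) * s₂ := by group
      _ = s₂⁻¹ * (s₁⁻¹ * a * s₁) * s₂ := by rw [hca]
      _ = (s₁ * s₂)⁻¹ * a * (s₁ * s₂) := by group

theorem focalSubgroup_le_commutator_of_frobCond [Finite G] {p : ℕ} [hp : Fact p.Prime]
    (hF : FrobCond p G) (P : Sylow p G) :
    (P : Subgroup G).focalSubgroup ≤ ⁅(P : Subgroup G), (P : Subgroup G)⁆ := by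
  rw [Subgroup.focalSubgroup_def, Subgroup.closure_le]
  rintro g ⟨hgP, x, hx, u, rfl⟩
  have hxinv : x⁻¹ ∈ (P : Subgroup G) := Subgroup.inv_mem _ hx
  have h2 : u * x⁻¹ * u⁻¹ ∈ (P : Subgroup G) := by
    have e : u * x⁻¹ * u⁻¹ = x⁻¹ * ⁅x, u⁆ := by
      rw [commutatorElement_def]; group
    rw [e]
    exact Subgroup.mul_mem _ hxinv hgP
  have hA : ({x⁻¹} : Set G) ⊆ (P : Subgroup G) := by
    rintro a rfl; exact hxinv
  have hAg : rc u⁻¹ ({x⁻¹} : Set G) ⊆ (P : Subgroup G) := by
    rintro a ⟨b, rfl, rfl⟩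
    have e : u⁻¹⁻¹ * x⁻¹ * u⁻¹ = u * x⁻¹ * u⁻¹ := by group
    show u⁻¹⁻¹ * x⁻¹ * u⁻¹ ∈ (P : Subgroup G)
    rw [e]
    exact h2
  obtain ⟨s, hs, hs2⟩ := control_of_reach hF P (reach_tame P _ _ hA hAg)
  have h3 := hs2 x⁻¹ rfl
  have e2 : ⁅x, u⁆ = ⁅x, s⁻¹⁆ := by
    rw [commutatorElement_def, commutatorElement_def]
    calc x * u * x⁻¹ * u⁻¹ = x * (u⁻¹⁻¹ * x⁻¹ * u⁻¹) := by group
      _ = x * (s⁻¹ * x⁻¹ * s) := by rw [h3]
      _ = x * s⁻¹ * x⁻¹ * s⁻¹⁻¹ := by group
  rw [SetLike.mem_coe, e2]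
  exact Subgroup.commutator_mem_commutator hx (Subgroup.inv_mem _ hs)

theorem frobCond_subgroup {p : ℕ} (hF : FrobCond p G) (K : Subgroup G) : FrobCond p K := by
  intro Q hQ g hg hgo
  have hQ' : IsPGroup p (Q.map K.subtype) := hQ.map _
  have hg' : (g : G) ∈ Subgroup.normalizer ((Q.map K.subtype : Subgroup G) : Set G) := by
    rw [Subgroup.mem_normalizer_iff]
    intro h
    constructor
    · rintro ⟨q, hq, rfl⟩
      exact ⟨g * q * g⁻¹, (Subgroup.mem_normalizer_iff.mp hg q).mp hq, rfl⟩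
    · rintro ⟨q, hq, hqe⟩
      have hqe' : (q : G) = (g : G) * h * (g : G)⁻¹ := hqe
      have hhK : h ∈ K := by
        have : h = (g : G)⁻¹ * (q : G) * g := by
          rw [hqe']; group
        rw [this]
        exact K.mul_mem (K.mul_mem (K.inv_mem g.2) q.2) g.2
      refine ⟨⟨h, hhK⟩, ?_, rfl⟩
      apply (Subgroup.mem_normalizer_iff.mp hg ⟨h, hhK⟩).mpr
      have : g * ⟨h, hhK⟩ * g⁻¹ = q := Subtype.ext hqe'.symm
      rw [this]; exact hq
  have hgo' : Nat.Coprime (orderOf (g : G)) p := by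
    rw [Subgroup.orderOf_coe]; exact hgo
  have hc := hF _ hQ' g hg' hgo'
  rw [Subgroup.mem_centralizer_iff] at hc ⊢
  intro q hq
  have := hc q ⟨q, hq, rfl⟩
  exact Subtype.ext this

theorem not_dvd_card_pResidual_of_frobCond {p : ℕ} [hp : Fact p.Prime] :
    ∀ (n : ℕ) (G : Type*) [Group G] [Finite G], Nat.card G = n → FrobCond p G →
      ¬ p ∣ Nat.card (Cfsg.pResidual p G) := by
  intro n
  induction n using Nat.strong_induction_on with
  | _ n ih =>
  intro G _ _ hn hF
  let P : Sylow p G := default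
  by_cases hP : (P : Subgroup G) = ⊥
  · intro hdvd
    have h1 : p ∣ Nat.card G := hdvd.trans (Subgroup.card_subgroup_dvd_card _)
    have h2 : Nat.card (P : Subgroup G) * (P : Subgroup G).index = Nat.card G :=
      Subgroup.card_mul_index _
    rw [hP, Subgroup.card_bot, one_mul] at h2
    rw [← h2, ← hP] at h1
    exact P.not_dvd_index h1
  · have hfoc := focalSubgroup_le_commutator_of_frobCond hF P
    have hnil : Group.IsNilpotent (P : Subgroup G) := P.2.isNilpotent
    have hnt : Nontrivial (P : Subgroup G) := (Subgroup.nontrivial_iff_ne_bot _).mpr hP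
    have h5 : ⁅(P : Subgroup G), (P : Subgroup G)⁆ < (P : Subgroup G) := by
      have := Group.IsSolvable.commutator_lt_top_of_nontrivial (P : Subgroup G)
      rw [← (P : Subgroup G).map_subtype_commutator]
      calc Subgroup.map (P : Subgroup G).subtype (commutator (P : Subgroup G))
          < Subgroup.map (P : Subgroup G).subtype ⊤ :=
            (Subgroup.map_subtype_lt_map_subtype).mpr this
        _ = (P : Subgroup G) := by rw [← MonoidHom.range_eq_map, Subgroup.range_subtype]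
    have hfoclt : (P : Subgroup G).focalSubgroup < (P : Subgroup G) := lt_of_le_of_lt hfoc h5
    set K : Subgroup G := (Subgroup.transferFocal (P : Subgroup G)).ker with hK
    have hK1 : ∀ g : G, Nat.Coprime (orderOf g) p → g ∈ K := by
      intro g hg
      have hQ : IsPGroup p ((P : Subgroup G) ⧸ (P : Subgroup G).focalSubgroupOf) :=
        P.2.to_quotient _
      obtain ⟨k, hk⟩ := hQ (Subgroup.transferFocal (P : Subgroup G) g)
      have h1 : orderOf (Subgroup.transferFocal (P : Subgroup G) g) ∣ orderOf g :=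
        orderOf_map_dvd _ g
      have h2 : orderOf (Subgroup.transferFocal (P : Subgroup G) g) ∣ p ^ k :=
        orderOf_dvd_of_pow_eq_one hk
      have h4 : Nat.Coprime (orderOf g) (p ^ k) := Nat.Coprime.pow_right k hg
      have h5 : orderOf (Subgroup.transferFocal (P : Subgroup G) g) = 1 :=
        Nat.eq_one_of_dvd_coprimes h4 h1 h2
      rw [orderOf_eq_one_iff] at h5
      exact h5
    have hK2 : K ≠ ⊤ := by
      intro htop
      obtain ⟨x, hxP, hxf⟩ := SetLike.exists_of_lt hfoclt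
      obtain ⟨g, hg⟩ := Subgroup.transferFocal_surjective P
        (QuotientGroup.mk' _ (⟨x, hxP⟩ : (P : Subgroup G)))
      have hgK : g ∈ K := by rw [htop]; trivial
      rw [hK, MonoidHom.mem_ker, hg] at hgK
      have := (QuotientGroup.eq_one_iff _).mp hgK
      rw [Subgroup.focalSubgroupOf_def, Subgroup.mem_subgroupOf] at this
      exact hxf this
    have hcardK : Nat.card K < n := by
      rw [← hn]
      have hlt : K < ⊤ := lt_top_iff_ne_top.mpr hK2
      have := card_lt_of_lt' hlt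
      rwa [Subgroup.card_top] at this
    have hIH := ih (Nat.card K) hcardK K rfl (frobCond_subgroup hF K)
    intro hdvd
    apply hIH
    have hle := pResidual_le_map_pResidual K hK1
    have h1 := Subgroup.card_dvd_of_le hle
    rw [Subgroup.card_map_of_injective K.subtype_injective] at h1
    exact hdvd.trans h1

end Cfsg.Agent.Lib.Helper2
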