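import Cfsg.Agent.Lib.Helper2.PGroup
import Mathlib.Data.Nat.Choose.Dvd

set_option autoImplicit false

namespace Cfsg.Agent.Lib.Helper2

open scoped commutatorElement

variable {G : Type*} [Group G]

theorem pow_mul_comm_of_commutator_central (x y : G) (hcx : Commute ⁅y, x⁆ x) (hcy : Commute ⁅y, x⁆ y)
    (n : ℕ) : y ^ n * x = ⁅y, x⁆ ^ n * x * y ^ n := by
  induction n with
  | zero => simp
  | succ n ih =>
    have hyx : y * x = ⁅y, x⁆ * x * y := by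
      rw [commutatorElement_def]; group
    have hcn : Commute (⁅y, x⁆ ^ n) y := hcy.pow_left n
    calc y ^ (n + 1) * x = y * (y ^ n * x) := by rw [pow_succ']; group
      _ = y * (⁅y, x⁆ ^ n * x * y ^ n) := by rw [ih]
      _ = (y * ⁅y, x⁆ ^ n) * x * y ^ n := by group
      _ = (⁅y, x⁆ ^ n * y) * x * y ^ n := by rw [hcn.eq]
      _ = ⁅y, x⁆ ^ n * (y * x) * y ^ n := by group
      _ = ⁅y, x⁆ ^ n * (⁅y, x⁆ * x * y) * y ^ n := by rw [hyx]
      _ = ⁅y, x⁆ ^ (n + 1) * x * y ^ (n + 1) := by rw [pow_succ, pow_succ']; group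

/-- The class-two power formula: `(xy)^n = x^n y^n [y,x]^(n choose 2)`. -/
theorem mul_pow_of_commutator_central (x y : G) (hcx : Commute ⁅y, x⁆ x) (hcy : Commute ⁅y, x⁆ y)
    (n : ℕ) : (x * y) ^ n = x ^ n * y ^ n * ⁅y, x⁆ ^ (n.choose 2) := by
  induction n with
  | zero => simp
  | succ n ih =>
    have h1 := pow_mul_comm_of_commutator_central x y hcx hcy n
    have hcxn : Commute (⁅y, x⁆ ^ n) (x ^ n) := (hcx.pow_left n).pow_right n
    have hcc : ∀ k, Commute (⁅y, x⁆ ^ k) (x * y) := fun k => (hcx.mul_right hcy).pow_left k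
    have hc2 : ∀ k m, Commute (⁅y, x⁆ ^ k) (x ^ m) := fun k m => (hcx.pow_left k).pow_right m
    have hc3 : ∀ k m, Commute (⁅y, x⁆ ^ k) (y ^ m) := fun k m => (hcy.pow_left k).pow_right m
    have hchoose : (n + 1).choose 2 = n.choose 2 + n := by
      rw [Nat.choose_succ_succ' n 1, Nat.choose_one_right, add_comm]
    calc (x * y) ^ (n + 1) = (x * y) ^ n * (x * y) := pow_succ _ _
      _ = x ^ n * y ^ n * ⁅y, x⁆ ^ (n.choose 2) * (x * y) := by rw [ih]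
      _ = x ^ n * y ^ n * ((x * y) * ⁅y, x⁆ ^ (n.choose 2)) := by
          rw [mul_assoc (x ^ n * y ^ n), (hcc _).eq]
      _ = x ^ n * (y ^ n * x) * y * ⁅y, x⁆ ^ (n.choose 2) := by group
      _ = x ^ n * (⁅y, x⁆ ^ n * x * y ^ n) * y * ⁅y, x⁆ ^ (n.choose 2) := by rw [h1]
      _ = (x ^ n * ⁅y, x⁆ ^ n) * x * y ^ n * y * ⁅y, x⁆ ^ (n.choose 2) := by group
      _ = (⁅y, x⁆ ^ n * x ^ n) * x * y ^ n * y * ⁅y, x⁆ ^ (n.choose 2) := by rw [(hc2 n n).eq]
      _ = ⁅y, x⁆ ^ n * (x ^ (n + 1) * y ^ (n + 1)) * ⁅y, x⁆ ^ (n.choose 2) := by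
          rw [pow_succ x, pow_succ y]; group
      _ = (x ^ (n + 1) * y ^ (n + 1)) * ⁅y, x⁆ ^ n * ⁅y, x⁆ ^ (n.choose 2) := by
          rw [((hc2 n (n+1)).mul_right (hc3 n (n+1))).eq]
      _ = x ^ (n + 1) * y ^ (n + 1) * ⁅y, x⁆ ^ ((n + 1).choose 2) := by
          rw [hchoose, mul_assoc (x ^ (n + 1) * y ^ (n + 1)), ← pow_add, add_comm n (n.choose 2)]

/-- In a group where commutators are central, for an odd prime `p`, if `x^p = y^p = 1`
then `(xy)^p = 1`; more generally `(xy)^p = x^p y^p` as soon as `[y,x]^p = 1`. -/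
theorem mul_pow_prime_of_commutator_central {p : ℕ} (hp : p.Prime) (hp2 : p ≠ 2) (x y : G)
    (hcx : Commute ⁅y, x⁆ x) (hcy : Commute ⁅y, x⁆ y) (hc : ⁅y, x⁆ ^ p = 1) :
    (x * y) ^ p = x ^ p * y ^ p := by
  rw [mul_pow_of_commutator_central x y hcx hcy p]
  have h2 : 2 < p := lt_of_le_of_ne hp.two_le (Ne.symm hp2)
  obtain ⟨k, hk⟩ := Nat.Prime.dvd_choose_self hp (by norm_num : (2 : ℕ) ≠ 0) h2
  rw [hk, pow_mul, hc, one_pow, mul_one]

end Cfsg.Agent.Lib.Helper2
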