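import Mathlib

/-! # Invariant subspaces of semisimple operators (helper2, for S5949/S5951) -/

set_option autoImplicit false

namespace Cfsg.Agent.Lib.Helper2.BG

open Polynomial Module

section lin
variable {F V : Type*} [Field F] [AddCommGroup V] [Module F V]

/-- all irreducible factors of `P` have degree `d` -/
def AllIrrDeg (P : F[X]) (d : ℕ) : Prop :=
  ∀ g : F[X], Irreducible g → g ∣ P → g.natDegree = d

/-- invariant subspace -/
def Inv (f : Module.End F V) (W : Submodule F V) : Prop := ∀ v ∈ W, f v ∈ W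

lemma Inv.pow {f : Module.End F V} {W : Submodule F V} (h : Inv f W) (n : ℕ) :
    ∀ v ∈ W, (f ^ n) v ∈ W := by
  induction n with
  | zero => intro v hv; simpa using hv
  | succ n ih =>
    intro v hv
    rw [pow_succ', Module.End.mul_apply]
    exact h _ (ih v hv)

lemma Inv.aeval {f : Module.End F V} {W : Submodule F V} (h : Inv f W) (Q : F[X]) :
    ∀ v ∈ W, aeval f Q v ∈ W := by
  induction Q using Polynomial.induction_on' with
  | add p q hp hq =>
    intro v hv
    simp only [map_add, LinearMap.add_apply]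
    exact W.add_mem (hp v hv) (hq v hv)
  | monomial n a =>
    intro v hv
    rw [aeval_monomial, Module.End.mul_apply, Module.algebraMap_end_apply]
    exact W.smul_mem _ (h.pow n v hv)

lemma Inv.sup {f : Module.End F V} {W W' : Submodule F V} (h : Inv f W) (h' : Inv f W') :
    Inv f (W ⊔ W') := by
  intro v hv
  obtain ⟨a, ha, b, hb, rfl⟩ := Submodule.mem_sup.mp hv
  rw [map_add]
  exact Submodule.add_mem_sup (h a ha) (h' b hb)

lemma Inv.inf {f : Module.End F V} {W W' : Submodule F V} (h : Inv f W) (h' : Inv f W') :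
    Inv f (W ⊓ W') := fun v hv => ⟨h v hv.1, h' v hv.2⟩

lemma inv_bot (f : Module.End F V) : Inv f ⊥ := by
  intro v hv
  rw [Submodule.mem_bot] at hv
  subst hv
  simp

lemma inv_top (f : Module.End F V) : Inv f ⊤ := fun _ _ => Submodule.mem_top

lemma inv_iff_map_le (f : Module.End F V) (W : Submodule F V) : Inv f W ↔ W.map f ≤ W := by
  rw [Submodule.map_le_iff_le_comap]
  rfl

lemma inv_iff_mem (f : Module.End F V) (W : Submodule F V) :
    Inv f W ↔ W ∈ Module.End.invtSubmodule f := by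
  rw [Module.End.mem_invtSubmodule]
  rfl

lemma inv_ker_aeval (f : Module.End F V) (Q : F[X]) : Inv f (LinearMap.ker (aeval f Q)) := by
  intro v hv
  rw [LinearMap.mem_ker] at hv ⊢
  have : aeval f Q (f v) = f (aeval f Q v) := by
    have h1 : aeval f Q * f = f * aeval f Q := by
      have : (aeval f) (Q * X) = (aeval f) (X * Q) := by rw [mul_comm]
      simpa using this
    exact congrArg (fun g : Module.End F V => g v) h1
  rw [this, hv, map_zero]

/-- the orbit map `A ↦ A(f) v` -/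
noncomputable def orbitMap (f : Module.End F V) (v : V) : F[X] →ₗ[F] V where
  toFun A := aeval f A v
  map_add' A B := by simp
  map_smul' a A := by simp

@[simp] lemma orbitMap_apply (f : Module.End F V) (v : V) (A : F[X]) :
    orbitMap f v A = aeval f A v := rfl

/-- A nonzero invariant subspace killed by `P` contains an invariant subspace of dimension `d`. -/
theorem exists_inv_finrank_eq (f : Module.End F V) {P : F[X]} (hP0 : P ≠ 0) {d : ℕ}
    (hd : AllIrrDeg P d) {W : Submodule F V} (hW : Inv f W)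
    (hWP : ∀ v ∈ W, aeval f P v = 0) (hne : W ≠ ⊥) :
    0 < d ∧ ∃ Z : Submodule F V, Z ≤ W ∧ Inv f Z ∧ Module.finrank F Z = d := by
  classical
  obtain ⟨v0, hv0W, hv0⟩ := (Submodule.ne_bot_iff W).mp hne
  -- the set of candidate degrees
  let S : Set ℕ := {k | ∃ Q : F[X], Q ∣ P ∧ Q.natDegree = k ∧ ∃ v ∈ W, v ≠ 0 ∧ aeval f Q v = 0}
  have hS : ∃ k, k ∈ S := ⟨P.natDegree, P, dvd_rfl, rfl, v0, hv0W, hv0, hWP v0 hv0W⟩
  have hmin : ∀ {m : ℕ}, m < Nat.find hS → ¬ m ∈ S := fun {m} h => Nat.find_min hS h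
  obtain ⟨Q, hQP, hQdeg, v, hvW, hv, hQv⟩ := Nat.find_spec hS
  have hQ0 : Q ≠ 0 := ne_zero_of_dvd_ne_zero hP0 hQP
  have hQnu : ¬ IsUnit Q := by
    intro hu
    obtain ⟨c, hc, rfl⟩ := Polynomial.isUnit_iff.mp hu
    rw [aeval_C, Module.algebraMap_end_apply] at hQv
    exact hv ((smul_eq_zero.mp hQv).resolve_left hc.ne_zero)
  have hQirr : Irreducible Q := by
    rw [irreducible_iff]
    refine ⟨hQnu, ?_⟩
    intro A B hAB
    by_contra hcon
    push Not at hcon
    obtain ⟨hA, hB⟩ := hcon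
    have hA0 : A ≠ 0 := by rintro rfl; simp at hAB; exact hQ0 hAB
    have hB0 : B ≠ 0 := by rintro rfl; simp at hAB; exact hQ0 hAB
    have hdegA : 0 < A.natDegree := by
      rw [Nat.pos_iff_ne_zero]
      intro h0
      apply hA
      rw [Polynomial.isUnit_iff]
      refine ⟨A.coeff 0, ?_, (Polynomial.eq_C_of_natDegree_eq_zero h0).symm⟩
      rw [isUnit_iff_ne_zero]
      intro hc
      apply hA0
      rw [Polynomial.eq_C_of_natDegree_eq_zero h0, hc, map_zero]
    have hdegB : 0 < B.natDegree := by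
      rw [Nat.pos_iff_ne_zero]
      intro h0
      apply hB
      rw [Polynomial.isUnit_iff]
      refine ⟨B.coeff 0, ?_, (Polynomial.eq_C_of_natDegree_eq_zero h0).symm⟩
      rw [isUnit_iff_ne_zero]
      intro hc
      apply hB0
      rw [Polynomial.eq_C_of_natDegree_eq_zero h0, hc, map_zero]
    have hdeg : Q.natDegree = A.natDegree + B.natDegree := by
      rw [hAB, Polynomial.natDegree_mul hA0 hB0]
    by_cases hw : aeval f B v = 0
    · apply hmin (m := B.natDegree) (by omega)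
      exact ⟨B, (Dvd.intro_left A hAB.symm).trans hQP, rfl, v, hvW, hv, hw⟩
    · apply hmin (m := A.natDegree) (by omega)
      refine ⟨A, (Dvd.intro B hAB.symm).trans hQP, rfl, aeval f B v, hW.aeval B v hvW, hw, ?_⟩
      rw [← Module.End.mul_apply, ← map_mul, ← hAB, hQv]
  have hQd : Q.natDegree = d := hd Q hQirr hQP
  -- the cyclic subspace
  let ψ := orbitMap f v
  let ψd : ↥(degreeLT F d) →ₗ[F] V := ψ.comp (degreeLT F d).subtype
  have hinj : Function.Injective ψd := by
    rw [← LinearMap.ker_eq_bot, LinearMap.ker_eq_bot']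
    rintro ⟨A, hA⟩ hA0
    have hAv : aeval f A v = 0 := hA0
    by_contra hne0
    have hAne : A ≠ 0 := fun h => hne0 (Subtype.ext h)
    have hcop : IsCoprime Q A := by
      apply (Irreducible.coprime_iff_not_dvd hQirr).mpr
      intro hdvd
      have h1 := Polynomial.degree_le_of_dvd hdvd hAne
      have h2 : A.degree < d := Polynomial.mem_degreeLT.mp hA
      have h3 : Q.degree = d := by rw [Polynomial.degree_eq_natDegree hQ0, hQd]
      rw [h3] at h1
      exact absurd (lt_of_le_of_lt h1 h2) (lt_irrefl _)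
    obtain ⟨u, w, huw⟩ := hcop
    have : aeval f (u * Q + w * A) v = 0 := by
      simp only [map_add, map_mul, LinearMap.add_apply, Module.End.mul_apply, hQv, hAv, map_zero,
        add_zero]
    rw [huw] at this
    simp at this
    exact hv this
  have hrange : LinearMap.range ψd = LinearMap.range ψ := by
    apply le_antisymm
    · rintro _ ⟨A, rfl⟩
      exact ⟨A.1, rfl⟩
    · rintro _ ⟨A, rfl⟩
      have hmod : (A % Q) ∈ degreeLT F d := by
        rw [Polynomial.mem_degreeLT]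
        have := Polynomial.degree_mod_lt A hQ0
        rwa [Polynomial.degree_eq_natDegree hQ0, hQd] at this
      refine ⟨⟨A % Q, hmod⟩, ?_⟩
      show aeval f (A % Q) v = aeval f A v
      conv_rhs => rw [← EuclideanDomain.div_add_mod A Q]
      simp only [map_add, map_mul, LinearMap.add_apply, Module.End.mul_apply]
      have : aeval f (A / Q) v = aeval f (A / Q) v := rfl
      have hcomm : (aeval f Q) ((aeval f (A / Q)) v) = (aeval f (A / Q)) ((aeval f Q) v) := by
        rw [← Module.End.mul_apply, ← Module.End.mul_apply, ← map_mul, ← map_mul, mul_comm]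
      rw [hcomm, hQv, map_zero, zero_add]
  refine ⟨hQd ▸ hQirr.natDegree_pos, LinearMap.range ψ, ?_, ?_, ?_⟩
  · rintro _ ⟨A, rfl⟩
    exact hW.aeval A v hvW
  · rintro _ ⟨A, rfl⟩
    refine ⟨X * A, ?_⟩
    show aeval f (X * A) v = f (aeval f A v)
    rw [map_mul, aeval_X, Module.End.mul_apply]
  · rw [← hrange, LinearMap.finrank_range_of_inj hinj]
    rw [LinearEquiv.finrank_eq (Polynomial.degreeLTEquiv F d)]
    simp

lemma finrank_sup_of_disjoint' [FiniteDimensional F V] (A B : Submodule F V) (h : Disjoint A B) :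
    Module.finrank F ↥(A ⊔ B) = Module.finrank F A + Module.finrank F B := by
  have := Submodule.finrank_sup_add_finrank_inf_eq A B
  rw [disjoint_iff.mp h, finrank_bot] at this
  omega

/-- an invariant complement inside an invariant subspace -/
lemma exists_inv_compl_in [FiniteDimensional F V] {f : Module.End F V} (hss : f.IsSemisimple)
    {Y T : Submodule F V} (hY : Inv f Y) (hT : Inv f T) (hYT : Y ≤ T) :
    ∃ T' : Submodule F V, Inv f T' ∧ T' ≤ T ∧ Disjoint Y T' ∧ Y ⊔ T' = T ∧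
      Module.finrank F T = Module.finrank F Y + Module.finrank F T' := by
  obtain ⟨Q, hQ, hc⟩ := (Module.End.isSemisimple_iff.mp hss) Y ((inv_iff_mem f Y).mp hY)
  have hQ' : Inv f Q := (inv_iff_mem f Q).mpr hQ
  have hdisj : Disjoint Y (T ⊓ Q) := hc.disjoint.mono_right inf_le_right
  have hsup : Y ⊔ T ⊓ Q = T := by
    have h1 : (Y ⊔ Q) ⊓ T = Y ⊔ Q ⊓ T := sup_inf_assoc_of_le Q hYT
    rw [hc.sup_eq_top, top_inf_eq] at h1
    rw [inf_comm T Q, ← h1]
  refine ⟨T ⊓ Q, hT.inf hQ', inf_le_left, hdisj, hsup, ?_⟩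
  rw [← finrank_sup_of_disjoint' Y (T ⊓ Q) hdisj, hsup]

/-- the dimension of an invariant subspace killed by `P` is divisible by `d` -/
theorem dvd_finrank_of_inv [FiniteDimensional F V] {f : Module.End F V} (hss : f.IsSemisimple)
    {P : F[X]} (hP0 : P ≠ 0) {d : ℕ} (hd : AllIrrDeg P d) :
    ∀ (k : ℕ) (W : Submodule F V), Module.finrank F W = k → Inv f W →
      (∀ v ∈ W, aeval f P v = 0) → d ∣ Module.finrank F W := by
  intro k
  induction k using Nat.strong_induction_on with
  | _ k ih =>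
    intro W hk hW hWP
    by_cases hne : W = ⊥
    · subst hne; simp
    obtain ⟨hdpos, Z, hZW, hZ, hZd⟩ := exists_inv_finrank_eq f hP0 hd hW hWP hne
    obtain ⟨W', hW', hW'W, hdisj, hsup, hfr⟩ := exists_inv_compl_in hss hZ hW hZW
    have hlt : Module.finrank F W' < k := by omega
    have := ih _ hlt W' rfl hW' (fun v hv => hWP v (hW'W hv))
    rw [hfr, hZd]
    exact (Nat.dvd_add_right (dvd_refl d)).mpr this

/-- chain extension: invariant subspaces of all admissible dimensions above a given one -/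
theorem exists_inv_extension [FiniteDimensional F V] {f : Module.End F V} (hss : f.IsSemisimple)
    {P : F[X]} (hP0 : P ≠ 0) {d : ℕ} (hd : AllIrrDeg P d) {T Y : Submodule F V} (hT : Inv f T)
    (hTP : ∀ v ∈ T, aeval f P v = 0) (hY : Inv f Y) (hYT : Y ≤ T) (s : ℕ)
    (hs : Module.finrank F Y + s * d ≤ Module.finrank F T) :
    ∃ Y' : Submodule F V, Inv f Y' ∧ Y ≤ Y' ∧ Y' ≤ T ∧
      Module.finrank F Y' = Module.finrank F Y + s * d := by
  induction s with
  | zero => exact ⟨Y, hY, le_rfl, hYT, by simp⟩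
  | succ s ih =>
    obtain ⟨Y1, hY1, hYY1, hY1T, hfr1⟩ := ih (by rw [Nat.succ_mul] at hs; omega)
    obtain ⟨T', hT', hT'T, hdisj, hsup, hfr⟩ := exists_inv_compl_in hss hY1 hT hY1T
    rcases Nat.eq_zero_or_pos d with hd0 | hdpos
    · refine ⟨Y1, hY1, hYY1, hY1T, ?_⟩
      rw [hfr1, hd0]; simp
    have hne : T' ≠ ⊥ := by
      intro h
      rw [h, finrank_bot] at hfr
      rw [Nat.succ_mul] at hs
      omega
    obtain ⟨_, Z, hZT', hZ, hZd⟩ :=
      exists_inv_finrank_eq f hP0 hd hT' (fun v hv => hTP v (hT'T hv)) hne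
    have hdisj' : Disjoint Y1 Z := hdisj.mono_right hZT'
    refine ⟨Y1 ⊔ Z, hY1.sup hZ, hYY1.trans le_sup_left, sup_le hY1T (hZT'.trans hT'T), ?_⟩
    rw [finrank_sup_of_disjoint' Y1 Z hdisj', hfr1, hZd, Nat.succ_mul]
    ring

/-- splitting of an invariant subspace along coprime factors -/
theorem finrank_inv_split [FiniteDimensional F V] {f : Module.End F V} {P₁ P₂ : F[X]}
    (hcop : IsCoprime P₁ P₂) {W : Submodule F V} (hW : Inv f W)
    (hWP : ∀ v ∈ W, aeval f (P₁ * P₂) v = 0) :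
    W = (W ⊓ LinearMap.ker (aeval f P₁)) ⊔ (W ⊓ LinearMap.ker (aeval f P₂)) ∧
    Disjoint (LinearMap.ker (aeval f P₁)) (LinearMap.ker (aeval f P₂)) ∧
    Module.finrank F W = Module.finrank F ↥(W ⊓ LinearMap.ker (aeval f P₁)) +
      Module.finrank F ↥(W ⊓ LinearMap.ker (aeval f P₂)) := by
  obtain ⟨u, w, huw⟩ := hcop
  have hdisj : Disjoint (LinearMap.ker (aeval f P₁)) (LinearMap.ker (aeval f P₂)) := by
    rw [Submodule.disjoint_def]
    intro v h1 h2
    rw [LinearMap.mem_ker] at h1 h2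
    have : aeval f (u * P₁ + w * P₂) v = 0 := by
      simp only [map_add, map_mul, LinearMap.add_apply, Module.End.mul_apply, h1, h2, map_zero,
        add_zero]
    rw [huw] at this
    simpa using this
  have hsplit : W = (W ⊓ LinearMap.ker (aeval f P₁)) ⊔ (W ⊓ LinearMap.ker (aeval f P₂)) := by
    apply le_antisymm
    · intro v hv
      have hv1 : v = aeval f (w * P₂) v + aeval f (u * P₁) v := by
        rw [← LinearMap.add_apply, ← map_add, add_comm, huw]
        simp
      rw [hv1]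
      apply Submodule.add_mem_sup
      · refine ⟨hW.aeval _ v hv, ?_⟩
        show _ ∈ LinearMap.ker _
        rw [LinearMap.mem_ker, ← Module.End.mul_apply, ← map_mul]
        have : P₁ * (w * P₂) = w * (P₁ * P₂) := by ring
        rw [this, map_mul, Module.End.mul_apply, hWP v hv, map_zero]
      · refine ⟨hW.aeval _ v hv, ?_⟩
        show _ ∈ LinearMap.ker _
        rw [LinearMap.mem_ker, ← Module.End.mul_apply, ← map_mul]
        have : P₂ * (u * P₁) = u * (P₁ * P₂) := by ring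
        rw [this, map_mul, Module.End.mul_apply, hWP v hv, map_zero]
    · exact sup_le inf_le_left inf_le_left
  refine ⟨hsplit, hdisj, ?_⟩
  have hd' : Disjoint (W ⊓ LinearMap.ker (aeval f P₁)) (W ⊓ LinearMap.ker (aeval f P₂)) :=
    hdisj.mono inf_le_right inf_le_right
  rw [← finrank_sup_of_disjoint' _ _ hd', ← hsplit]

/-- dimensions of invariant subspaces, upper bound form -/
theorem finrank_inv_form [FiniteDimensional F V] {f : Module.End F V} (hss : f.IsSemisimple)
    {P₁ P₂ : F[X]} (hcop : IsCoprime P₁ P₂) (h1 : P₁ ≠ 0) (h2 : P₂ ≠ 0) {d₁ d₂ : ℕ}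
    (hd1 : AllIrrDeg P₁ d₁) (hd2 : AllIrrDeg P₂ d₂) {W : Submodule F V} (hW : Inv f W)
    (hWP : ∀ v ∈ W, aeval f (P₁ * P₂) v = 0) :
    ∃ t j : ℕ, Module.finrank F W = t * d₁ + j * d₂ ∧
      t * d₁ = Module.finrank F ↥(W ⊓ LinearMap.ker (aeval f P₁)) ∧
      j * d₂ = Module.finrank F ↥(W ⊓ LinearMap.ker (aeval f P₂)) ∧
      t * d₁ ≤ Module.finrank F (LinearMap.ker (aeval f P₁)) ∧
      j * d₂ ≤ Module.finrank F (LinearMap.ker (aeval f P₂)) := by
  obtain ⟨_, _, hfr⟩ := finrank_inv_split hcop hW hWP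
  have hk1 : ∀ v ∈ W ⊓ LinearMap.ker (aeval f P₁), aeval f P₁ v = 0 := fun v hv =>
    LinearMap.mem_ker.mp hv.2
  have hk2 : ∀ v ∈ W ⊓ LinearMap.ker (aeval f P₂), aeval f P₂ v = 0 := fun v hv =>
    LinearMap.mem_ker.mp hv.2
  obtain ⟨t, ht⟩ := dvd_finrank_of_inv hss h1 hd1 _ _ rfl (hW.inf (inv_ker_aeval f P₁)) hk1
  obtain ⟨j, hj⟩ := dvd_finrank_of_inv hss h2 hd2 _ _ rfl (hW.inf (inv_ker_aeval f P₂)) hk2
  refine ⟨t, j, ?_, ?_, ?_, ?_, ?_⟩
  · rw [hfr, ht, hj, mul_comm d₁, mul_comm d₂]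
  · rw [ht, mul_comm]
  · rw [hj, mul_comm]
  · rw [mul_comm, ← ht]; exact Submodule.finrank_mono inf_le_right
  · rw [mul_comm, ← hj]; exact Submodule.finrank_mono inf_le_right

/-- existence of invariant flags with prescribed dimensions -/
theorem exists_inv_flag [FiniteDimensional F V] {f : Module.End F V} (hss : f.IsSemisimple)
    {P₁ P₂ : F[X]} (hcop : IsCoprime P₁ P₂) (h1 : P₁ ≠ 0) (h2 : P₂ ≠ 0) {d₁ d₂ : ℕ}
    (hd1 : AllIrrDeg P₁ d₁) (hd2 : AllIrrDeg P₂ d₂) {t t' j j' : ℕ} (htt : t ≤ t') (hjj : j ≤ j')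
    (ht' : t' * d₁ ≤ Module.finrank F (LinearMap.ker (aeval f P₁)))
    (hj' : j' * d₂ ≤ Module.finrank F (LinearMap.ker (aeval f P₂))) :
    ∃ U W : Submodule F V, U ≤ W ∧ Inv f U ∧ Inv f W ∧
      Module.finrank F U = t * d₁ + j * d₂ ∧ Module.finrank F W = t' * d₁ + j' * d₂ := by
  have hK1P : ∀ v ∈ LinearMap.ker (aeval f P₁), aeval f P₁ v = 0 :=
    fun v hv => LinearMap.mem_ker.mp hv
  have hK2P : ∀ v ∈ LinearMap.ker (aeval f P₂), aeval f P₂ v = 0 :=
    fun v hv => LinearMap.mem_ker.mp hv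
  have hdisj : Disjoint (LinearMap.ker (aeval f P₁)) (LinearMap.ker (aeval f P₂)) := by
    have := (finrank_inv_split (f := f) hcop (inv_bot f) (W := ⊥)
      (by intro v hv; rw [Submodule.mem_bot] at hv; subst hv; simp)).2.1
    exact this
  have hle1 : t * d₁ ≤ t' * d₁ := Nat.mul_le_mul_right _ htt
  have hle2 : j * d₂ ≤ j' * d₂ := Nat.mul_le_mul_right _ hjj
  obtain ⟨U₁, hU1, _, hU1K, hU1d⟩ := exists_inv_extension hss h1 hd1 (inv_ker_aeval f P₁) hK1P
    (inv_bot f) bot_le t (by rw [finrank_bot]; omega)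
  obtain ⟨W₁, hW1, hUW1, hW1K, hW1d⟩ := exists_inv_extension hss h1 hd1 (inv_ker_aeval f P₁) hK1P
    hU1 hU1K (t' - t) (by rw [hU1d, finrank_bot, Nat.sub_mul]; omega)
  obtain ⟨U₂, hU2, _, hU2K, hU2d⟩ := exists_inv_extension hss h2 hd2 (inv_ker_aeval f P₂) hK2P
    (inv_bot f) bot_le j (by rw [finrank_bot]; omega)
  obtain ⟨W₂, hW2, hUW2, hW2K, hW2d⟩ := exists_inv_extension hss h2 hd2 (inv_ker_aeval f P₂) hK2P
    hU2 hU2K (j' - j) (by rw [hU2d, finrank_bot, Nat.sub_mul]; omega)
  refine ⟨U₁ ⊔ U₂, W₁ ⊔ W₂, sup_le_sup hUW1 hUW2, hU1.sup hU2, hW1.sup hW2, ?_, ?_⟩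
  · rw [finrank_sup_of_disjoint' _ _ (hdisj.mono hU1K hU2K), hU1d, hU2d, finrank_bot]
    omega
  · rw [finrank_sup_of_disjoint' _ _ (hdisj.mono hW1K hW2K), hW1d, hW2d, hU1d, hU2d, finrank_bot,
      Nat.sub_mul, Nat.sub_mul]
    omega

end lin

end Cfsg.Agent.Lib.Helper2.BG
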