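import Mathlib

set_option autoImplicit false

/-! Entrywise computations in `SL(2,F)`. -/

namespace Cfsg.Agent.Lib.Helper2.SL2

open Matrix

variable {F : Type*} [Field F]

local notation "SL2" => Matrix.SpecialLinearGroup (Fin 2) F

theorem ext2 {g h : SL2} (h00 : g 0 0 = h 0 0) (h01 : g 0 1 = h 0 1) (h10 : g 1 0 = h 1 0)
    (h11 : g 1 1 = h 1 1) : g = h := by
  apply Matrix.SpecialLinearGroup.ext
  intro i j
  fin_cases i <;> fin_cases j <;> assumption

theorem det2 (g : SL2) : g 0 0 * g 1 1 - g 0 1 * g 1 0 = 1 := by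
  have := g.2
  rw [Matrix.det_fin_two] at this
  exact this

theorem mul00 (g h : SL2) : (g * h) 0 0 = g 0 0 * h 0 0 + g 0 1 * h 1 0 := by
  simp [Matrix.mul_apply, Fin.sum_univ_two]
theorem mul01 (g h : SL2) : (g * h) 0 1 = g 0 0 * h 0 1 + g 0 1 * h 1 1 := by
  simp [Matrix.mul_apply, Fin.sum_univ_two]
theorem mul10 (g h : SL2) : (g * h) 1 0 = g 1 0 * h 0 0 + g 1 1 * h 1 0 := by
  simp [Matrix.mul_apply, Fin.sum_univ_two]
theorem mul11 (g h : SL2) : (g * h) 1 1 = g 1 0 * h 0 1 + g 1 1 * h 1 1 := by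
  simp [Matrix.mul_apply, Fin.sum_univ_two]

theorem inv00 (g : SL2) : g⁻¹ 0 0 = g 1 1 := by
  simp [Matrix.SpecialLinearGroup.coe_inv, Matrix.adjugate_fin_two]
theorem inv01 (g : SL2) : g⁻¹ 0 1 = - g 0 1 := by
  simp [Matrix.SpecialLinearGroup.coe_inv, Matrix.adjugate_fin_two]
theorem inv10 (g : SL2) : g⁻¹ 1 0 = - g 1 0 := by
  simp [Matrix.SpecialLinearGroup.coe_inv, Matrix.adjugate_fin_two]
theorem inv11 (g : SL2) : g⁻¹ 1 1 = g 0 0 := by
  simp [Matrix.SpecialLinearGroup.coe_inv, Matrix.adjugate_fin_two]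

theorem one00 : (1 : SL2) 0 0 = 1 := by simp
theorem one01 : (1 : SL2) 0 1 = 0 := by simp
theorem one10 : (1 : SL2) 1 0 = 0 := by simp
theorem one11 : (1 : SL2) 1 1 = 1 := by simp

theorem neg00 (g : SL2) : (-g) 0 0 = - g 0 0 := by simp
theorem neg01 (g : SL2) : (-g) 0 1 = - g 0 1 := by simp
theorem neg10 (g : SL2) : (-g) 1 0 = - g 1 0 := by simp
theorem neg11 (g : SL2) : (-g) 1 1 = - g 1 1 := by simp

theorem entries_of_eq {g h : SL2} (e : g = h) :
    g 0 0 = h 0 0 ∧ g 0 1 = h 0 1 ∧ g 1 0 = h 1 0 ∧ g 1 1 = h 1 1 := by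
  subst e; exact ⟨rfl, rfl, rfl, rfl⟩

theorem eq_one_or_neg_one_of_mul_self (h2 : (2:F) ≠ 0) (g : SL2) (hg : g * g = 1) :
    g = 1 ∨ g = -1 := by
  obtain ⟨h00, h01, h10, h11⟩ := entries_of_eq hg
  simp only [mul00, mul01, mul10, mul11, one00, one01, one10, one11] at h00 h01 h10 h11
  have hd := det2 g
  have : (g 0 0 = 1 ∧ g 0 1 = 0 ∧ g 1 0 = 0 ∧ g 1 1 = 1) ∨
      (g 0 0 = -1 ∧ g 0 1 = 0 ∧ g 1 0 = 0 ∧ g 1 1 = -1) := by
    grind
  rcases this with ⟨a, b, c, d⟩ | ⟨a, b, c, d⟩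
  · left; apply ext2 <;> simp only [one00, one01, one10, one11] <;> assumption
  · right; apply ext2 <;> simp only [neg00, neg01, neg10, neg11, one00, one01, one10, one11] <;>
      first | assumption | simp [*]

/-- the centralizer of a non-scalar element is commutative -/
theorem commute_of_commute_nonscalar (z x y : SL2) (hz1 : z ≠ 1) (hz2 : z ≠ -1)
    (hx : x * z = z * x) (hy : y * z = z * y) : x * y = y * x := by
  obtain ⟨x00, x01, x10, x11⟩ := entries_of_eq hx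
  obtain ⟨y00, y01, y10, y11⟩ := entries_of_eq hy
  simp only [mul00, mul01, mul10, mul11] at x00 x01 x10 x11 y00 y01 y10 y11
  have hdz := det2 z
  have hns : ¬ (z 0 1 = 0 ∧ z 1 0 = 0 ∧ z 0 0 = z 1 1) := by
    rintro ⟨h1, h2, h3⟩
    have h4 : z 0 0 * z 0 0 = 1 := by grind
    have h5 : z 0 0 = 1 ∨ z 0 0 = -1 := by
      have : (z 0 0 - 1) * (z 0 0 + 1) = 0 := by linear_combination h4
      rcases mul_eq_zero.mp this with h | h
      · left; linear_combination h
      · right; linear_combination h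
    rcases h5 with h5 | h5
    · apply hz1; apply ext2 <;> simp only [one00, one01, one10, one11] <;> grind
    · apply hz2; apply ext2 <;> simp only [neg00, neg01, neg10, neg11, one00, one01, one10, one11] <;> grind
  apply ext2 <;> simp only [mul00, mul01, mul10, mul11] <;> grind


theorem trace_conj (g y : SL2) :
    (g * y * g⁻¹) 0 0 + (g * y * g⁻¹) 1 1 = y 0 0 + y 1 1 := by
  simp only [mul00, mul01, mul10, mul11, inv00, inv01, inv10, inv11]
  have := det2 g
  grind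

theorem eq_or_eq_inv_of_commute (y y' : SL2) (htr : y' 0 0 + y' 1 1 = y 0 0 + y 1 1)
    (hτ : (y 0 0 + y 1 1) ^ 2 ≠ 4) (hc : y' * y = y * y') : y' = y ∨ y' = y⁻¹ := by
  obtain ⟨x00, x01, x10, x11⟩ := entries_of_eq hc
  simp only [mul00, mul01, mul10, mul11] at x00 x01 x10 x11
  have h1 := det2 y
  have h2 := det2 y'
  have : (y' 0 0 = y 0 0 ∧ y' 0 1 = y 0 1 ∧ y' 1 0 = y 1 0 ∧ y' 1 1 = y 1 1) ∨
      (y' 0 0 = y 1 1 ∧ y' 0 1 = - y 0 1 ∧ y' 1 0 = - y 1 0 ∧ y' 1 1 = y 0 0) := by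
    grind
  rcases this with ⟨a, b, c, d⟩ | ⟨a, b, c, d⟩
  · left; exact ext2 a b c d
  · right; apply ext2 <;> simp only [inv00, inv01, inv10, inv11] <;> assumption

theorem pow_entries (c : SL2) (htr : c 0 0 + c 1 1 = 2) (m : ℕ) :
    (c ^ m) 0 0 = 1 + m * (c 0 0 - 1) ∧ (c ^ m) 0 1 = m * c 0 1 ∧ (c ^ m) 1 0 = m * c 1 0 ∧
      (c ^ m) 1 1 = 1 + m * (c 1 1 - 1) := by
  have hd := det2 c
  induction m with
  | zero => simp
  | succ m ih =>
    obtain ⟨i0, i1, i2, i3⟩ := ih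
    rw [pow_succ]
    simp only [mul00, mul01, mul10, mul11, i0, i1, i2, i3]
    push_cast
    refine ⟨?_, ?_, ?_, ?_⟩ <;> grind

theorem eq_one_of_trace_two (c : SL2) (htr : c 0 0 + c 1 1 = 2) (m : ℕ) (hm : (m : F) ≠ 0)
    (hc : c ^ m = 1) : c = 1 := by
  obtain ⟨i0, i1, i2, i3⟩ := pow_entries c htr m
  rw [hc] at i0 i1 i2 i3
  simp only [one00, one01, one10, one11] at i0 i1 i2 i3
  apply ext2 <;> simp only [one00, one01, one10, one11]
  · have : (m : F) * (c 0 0 - 1) = 0 := by linear_combination -i0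
    rcases mul_eq_zero.mp this with h | h
    · exact absurd h hm
    · linear_combination h
  · rcases mul_eq_zero.mp i1.symm with h | h
    · exact absurd h hm
    · exact h
  · rcases mul_eq_zero.mp i2.symm with h | h
    · exact absurd h hm
    · exact h
  · have : (m : F) * (c 1 1 - 1) = 0 := by linear_combination -i3
    rcases mul_eq_zero.mp this with h | h
    · exact absurd h hm
    · linear_combination h

theorem pow_char_eq_one (p : ℕ) [CharP F p] (c : SL2) (htr : c 0 0 + c 1 1 = 2) : c ^ p = 1 := by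
  obtain ⟨i0, i1, i2, i3⟩ := pow_entries c htr p
  simp only [CharP.cast_eq_zero, zero_mul, add_zero] at i0 i1 i2 i3
  apply ext2 <;> simp only [one00, one01, one10, one11] <;> assumption

theorem neg_pow_two_mul (c : SL2) (m : ℕ) : (-c) ^ (2 * m) = c ^ (2 * m) := by
  rw [pow_mul, pow_mul, pow_two, pow_two, neg_mul_neg]

theorem eq_neg_one_of_trace_neg_two (h2 : (2 : F) ≠ 0) (c : SL2) (htr : c 0 0 + c 1 1 = -2)
    (m : ℕ) (hm : (m : F) ≠ 0) (hc : c ^ m = 1) : c = -1 := by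
  have h1 : (-c) = 1 := by
    apply eq_one_of_trace_two (-c) _ (2 * m)
    · push_cast; exact mul_ne_zero h2 hm
    · rw [neg_pow_two_mul, pow_mul', hc, one_pow]
    · simp only [neg00, neg11]; linear_combination -htr
  rw [← h1, neg_neg]

theorem trace_sq_ne_four (h2 : (2 : F) ≠ 0) (y : SL2) (m : ℕ) (hm : (m : F) ≠ 0)
    (hy : y ^ m = 1) (h1 : y ≠ 1) (h2' : y ≠ -1) : (y 0 0 + y 1 1) ^ 2 ≠ 4 := by
  intro h
  have : (y 0 0 + y 1 1 - 2) * (y 0 0 + y 1 1 + 2) = 0 := by linear_combination h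
  rcases mul_eq_zero.mp this with h | h
  · exact h1 (eq_one_of_trace_two y (by linear_combination h) m hm hy)
  · exact h2' (eq_neg_one_of_trace_neg_two h2 y (by linear_combination h) m hm hy)

theorem trace_sq_eq_four_of_commute (a c : SL2) (htr : a 0 0 + a 1 1 = 2) (ha : a ≠ 1)
    (hc : c * a = a * c) : (c 0 0 + c 1 1) ^ 2 = 4 := by
  obtain ⟨x00, x01, x10, x11⟩ := entries_of_eq hc
  simp only [mul00, mul01, mul10, mul11] at x00 x01 x10 x11
  have h1 := det2 a
  have h2 := det2 c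
  have hns : ¬ (a 0 0 = 1 ∧ a 0 1 = 0 ∧ a 1 0 = 0 ∧ a 1 1 = 1) := by
    rintro ⟨e1, e2, e3, e4⟩
    apply ha; apply ext2 <;> simp only [one00, one01, one10, one11] <;> assumption
  grind


end Cfsg.Agent.Lib.Helper2.SL2
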