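import Mathlib.GroupTheory.Sylow
import Mathlib.GroupTheory.Perm.Cycle.Type
import Mathlib.GroupTheory.Subgroup.Centralizer

set_option autoImplicit false

namespace Cfsg.Agent.Lib.Helper2

variable {G : Type*} [Group G]

/-- Conjugation action of a subgroup `R` normalizing `T` on the type `T`. -/
@[reducible] def conjAction (T R : Subgroup G) (hR : R ≤ Subgroup.normalizer (T : Set G)) :
    MulAction R T where
  smul z t := ⟨z * t * (z : G)⁻¹, (Subgroup.mem_normalizer_iff.mp (hR z.2) t).mp t.2⟩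
  one_smul t := by
    apply Subtype.ext
    show ((1 : R) : G) * t * ((1 : R) : G)⁻¹ = t
    simp
  mul_smul a b t := by
    apply Subtype.ext
    show ((a * b : R) : G) * t * ((a * b : R) : G)⁻¹ = (a : G) * ((b : G) * t * (b : G)⁻¹) * (a : G)⁻¹
    simp only [Subgroup.coe_mul]
    group

/-- Fixed point congruence: if `y` normalizes the finite subgroup `T` and has `r`-power order,
then `|T| ≡ |C_T(y)|` modulo `r`. -/
theorem card_modEq_card_inf_centralizer (T : Subgroup G) [Finite T] (y : G)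
    (hy : y ∈ Subgroup.normalizer (T : Set G)) {r k : ℕ} [Fact r.Prime] (hyr : y ^ (r ^ k) = 1) :
    Nat.card T ≡ Nat.card (T ⊓ Subgroup.centralizer {y} : Subgroup G) [MOD r] := by
  have hz : IsPGroup r (Subgroup.zpowers y) := by
    rintro ⟨z, hz⟩
    obtain ⟨n, rfl⟩ := Subgroup.mem_zpowers_iff.mp hz
    refine ⟨k, Subtype.ext ?_⟩
    simp only [Subgroup.coe_pow, Subgroup.coe_one]
    rw [← zpow_natCast, ← zpow_mul, mul_comm, zpow_mul, zpow_natCast, hyr, one_zpow]
  have hle : Subgroup.zpowers y ≤ Subgroup.normalizer (T : Set G) :=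
    (Subgroup.zpowers_le).mpr hy
  letI := conjAction T (Subgroup.zpowers y) hle
  have h1 := hz.card_modEq_card_fixedPoints T
  have e : Nat.card (T ⊓ Subgroup.centralizer {y} : Subgroup G) =
      Nat.card (MulAction.fixedPoints (Subgroup.zpowers y) T) := by
    apply Nat.card_congr
    refine ⟨fun t => ⟨⟨t.1, (Subgroup.mem_inf.mp t.2).1⟩, ?_⟩,
      fun t => ⟨t.1.1, Subgroup.mem_inf.mpr ⟨t.1.2, ?_⟩⟩, ?_, ?_⟩
    · intro z
      apply Subtype.ext
      show (z : G) * t.1 * (z : G)⁻¹ = t.1
      have hc := Subgroup.mem_centralizer_singleton_iff.mp (Subgroup.mem_inf.mp t.2).2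
      obtain ⟨n, hn⟩ := Subgroup.mem_zpowers_iff.mp z.2
      have hcomm : Commute (t.1 : G) y := hc
      have hcomm' : Commute (t.1 : G) (z : G) := by
        rw [← hn]; exact hcomm.zpow_right n
      rw [← hcomm'.eq, mul_assoc, mul_inv_cancel, mul_one]
    · rw [Subgroup.mem_centralizer_singleton_iff]
      have h2 := t.2 ⟨y, Subgroup.mem_zpowers y⟩
      have h3 : y * (t.1 : G) * y⁻¹ = t.1 := congrArg Subtype.val h2
      calc (t.1 : G) * y = (y * t.1 * y⁻¹) * y := by rw [h3]
        _ = y * t.1 := by group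
    · intro t; rfl
    · intro t; rfl
  rw [e]
  exact h1

/-- An element of `p`-power order normalizing a Sylow `p`-subgroup lies in it. -/
theorem mem_sylow_of_mem_normalizer_of_pow {p : ℕ} [Fact p.Prime] (P : Sylow p G) (y : G)
    (hy : y ∈ Subgroup.normalizer ((P : Subgroup G) : Set G)) {k : ℕ} (hyp : y ^ (p ^ k) = 1) :
    y ∈ (P : Subgroup G) := by
  have hz : IsPGroup p (Subgroup.zpowers y) := by
    rintro ⟨z, hz⟩
    obtain ⟨n, rfl⟩ := Subgroup.mem_zpowers_iff.mp hz
    refine ⟨k, Subtype.ext ?_⟩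
    simp only [Subgroup.coe_pow, Subgroup.coe_one]
    rw [← zpow_natCast, ← zpow_mul, mul_comm, zpow_mul, zpow_natCast, hyp, one_zpow]
  have hle : Subgroup.zpowers y ≤ Subgroup.normalizer ((P : Subgroup G) : Set G) :=
    (Subgroup.zpowers_le).mpr hy
  have hsup : IsPGroup p ((Subgroup.zpowers y ⊔ (P : Subgroup G) : Subgroup G)) :=
    hz.to_sup_of_normal_right' P.2 hle
  have := P.3 hsup le_sup_right
  have h2 : Subgroup.zpowers y ≤ (P : Subgroup G) := by
    rw [← this]; exact le_sup_left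
  exact h2 (Subgroup.mem_zpowers y)

/-- If a subgroup `C` contains all elements of prime power order of a subgroup `N`,
then `N ≤ C` (finite group). -/
theorem le_of_primePow_mem [Finite G] (N C : Subgroup G)
    (h : ∀ y ∈ N, ∀ r k : ℕ, r.Prime → y ^ (r ^ k) = 1 → y ∈ C) : N ≤ C := by
  intro g hg
  obtain ⟨m, hm⟩ : ∃ m, orderOf g = m := ⟨_, rfl⟩
  induction m using Nat.strong_induction_on generalizing g with
  | _ m ih =>
  by_cases h1 : m = 1
  · rw [h1, orderOf_eq_one_iff] at hm
    rw [hm]; exact C.one_mem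
  · have hm0 : m ≠ 0 := by rw [← hm]; exact (orderOf_pos g).ne'
    set r := m.minFac with hr
    have hrp : r.Prime := Nat.minFac_prime h1
    obtain ⟨e, m', hm', hme⟩ := Nat.exists_eq_pow_mul_and_not_dvd hm0 r hrp.ne_one
    have hcop : Nat.Coprime (r ^ e) m' :=
      Nat.Coprime.pow_left e ((Nat.Prime.coprime_iff_not_dvd hrp).mpr hm')
    -- g ^ m' has order r ^ e
    have ha : (g ^ m') ^ (r ^ e) = 1 := by
      rw [← pow_mul, mul_comm, ← hme, ← hm, pow_orderOf_eq_one]
    have hA : g ^ m' ∈ C := h _ (N.pow_mem hg _) r e hrp ha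
    -- g ^ (r ^ e) has order m' < m
    have hm'0 : m' ≠ 0 := by
      rintro rfl; rw [mul_zero] at hme; exact hm0 hme
    have he0 : e ≠ 0 := by
      rintro rfl
      rw [pow_zero, one_mul] at hme
      exact hm' (hme ▸ Nat.minFac_dvd m)
    have hlt : m' < m := by
      rw [hme]
      have : 1 < r ^ e := Nat.one_lt_pow he0 hrp.one_lt
      nlinarith [Nat.pos_of_ne_zero hm'0]
    have hord : orderOf (g ^ (r ^ e)) = m' := by
      rw [orderOf_pow' g (pow_ne_zero _ hrp.ne_zero), hm, hme]
      have hgcd : Nat.gcd (r ^ e * m') (r ^ e) = r ^ e := Nat.gcd_eq_right (dvd_mul_right _ _)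
      rw [hgcd, Nat.mul_div_cancel_left _ (Nat.pos_of_ne_zero (pow_ne_zero _ hrp.ne_zero))]
    have hB : g ^ (r ^ e) ∈ C := ih m' hlt (N.pow_mem hg _) hord
    -- Bezout
    have hbez := Nat.gcd_eq_gcd_ab (r ^ e) m'
    rw [hcop] at hbez
    have hg1 : g = (g ^ (r ^ e)) ^ (Nat.gcdA (r ^ e) m') * (g ^ m') ^ (Nat.gcdB (r ^ e) m') := by
      rw [← zpow_natCast g (r ^ e), ← zpow_natCast g m', ← zpow_mul, ← zpow_mul, ← zpow_add,
        ← hbez]
      simp
    rw [hg1]
    exact C.mul_mem (C.zpow_mem hB _) (C.zpow_mem hA _)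

end Cfsg.Agent.Lib.Helper2

namespace Cfsg.Agent.Lib.Helper2

variable {G : Type*} [Group G]

/-- A criterion for `N(P) ≤ C(P)` for an abelian Sylow subgroup, via fixed point counting. -/
theorem normalizer_le_centralizer_of_fixedPoints [Finite G] {p : ℕ} [Fact p.Prime] (P : Sylow p G)
    (hP : IsMulCommutative (P : Subgroup G))
    (h : ∀ r : ℕ, r.Prime → r ≠ p → r ∣ Nat.card G → ∀ d : ℕ, d ∣ Nat.card (P : Subgroup G) →
      Nat.card (P : Subgroup G) ≡ d [MOD r] → d = Nat.card (P : Subgroup G)) :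
    Subgroup.normalizer ((P : Subgroup G) : Set G) ≤ Subgroup.centralizer ((P : Subgroup G) : Set G) := by
  apply le_of_primePow_mem
  intro y hy r k hr hyr
  have hPC : (P : Subgroup G) ≤ Subgroup.centralizer ((P : Subgroup G) : Set G) :=
    Subgroup.le_centralizer _
  by_cases hrp : r = p
  · subst hrp
    exact hPC (mem_sylow_of_mem_normalizer_of_pow P y hy hyr)
  · by_cases hy1 : y = 1
    · rw [hy1]; exact Subgroup.one_mem _
    · haveI : Fact r.Prime := ⟨hr⟩
      have ho : orderOf y ∣ r ^ k := orderOf_dvd_of_pow_eq_one hyr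
      have ho1 : orderOf y ≠ 1 := fun h1 => hy1 (orderOf_eq_one_iff.mp h1)
      obtain ⟨j, hj, hoj⟩ := (Nat.dvd_prime_pow hr).mp ho
      have hj0 : j ≠ 0 := by
        rintro rfl; rw [pow_zero] at hoj; exact ho1 hoj
      have hrG : r ∣ Nat.card G := by
        have : r ∣ orderOf y := by rw [hoj]; exact dvd_pow_self r hj0
        exact this.trans (orderOf_dvd_natCard y)
      have hcong := card_modEq_card_inf_centralizer (P : Subgroup G) y hy hyr
      have hd : Nat.card ((P : Subgroup G) ⊓ Subgroup.centralizer {y} : Subgroup G) ∣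
          Nat.card (P : Subgroup G) := Subgroup.card_dvd_of_le inf_le_left
      have heq := h r hr hrp hrG _ hd hcong
      have hle : (P : Subgroup G) ≤ (P : Subgroup G) ⊓ Subgroup.centralizer {y} := by
        have := Subgroup.eq_of_le_of_card_ge (inf_le_left :
          (P : Subgroup G) ⊓ Subgroup.centralizer {y} ≤ (P : Subgroup G)) heq.ge
        rw [this]
      rw [Subgroup.mem_centralizer_iff]
      intro x hx
      have := Subgroup.mem_centralizer_singleton_iff.mp (Subgroup.mem_inf.mp (hle hx)).2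
      exact this

end Cfsg.Agent.Lib.Helper2
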