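import Cfsg.Agent.Lib.Helper2.BGLin

/-! # Polynomials over finite fields: factors of `X^r - c` (helper2, for S5949/S5951) -/

set_option autoImplicit false

namespace Cfsg.Agent.Lib.Helper2.BG

open Polynomial Module

section poly
variable {F : Type*} [Field F]

lemma allIrrDeg_of_irreducible {P : F[X]} (hP : Irreducible P) : AllIrrDeg P P.natDegree := by
  intro g hg hgP
  have h := hg.associated_of_dvd hP hgP
  exact Polynomial.natDegree_eq_of_degree_eq (Polynomial.degree_eq_degree_of_associated h)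

lemma allIrrDeg_X_sub_C (a : F) : AllIrrDeg (X - C a) 1 := by
  have := allIrrDeg_of_irreducible (Polynomial.irreducible_X_sub_C a)
  rwa [Polynomial.natDegree_X_sub_C] at this

lemma allIrrDeg_X_sub_one : AllIrrDeg (X - 1 : F[X]) 1 := by
  have := allIrrDeg_X_sub_C (1 : F)
  rwa [map_one] at this

lemma AllIrrDeg.mul {P Q : F[X]} {d : ℕ} (hP : AllIrrDeg P d) (hQ : AllIrrDeg Q d) :
    AllIrrDeg (P * Q) d := by
  intro g hg hgPQ
  rcases hg.prime.dvd_or_dvd hgPQ with h | h
  · exact hP g hg h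
  · exact hQ g hg h

lemma AllIrrDeg.of_dvd {P Q : F[X]} {d : ℕ} (hP : AllIrrDeg P d) (hQ : Q ∣ P) :
    AllIrrDeg Q d := fun g hg hgQ => hP g hg (hgQ.trans hQ)

lemma squarefree_X_pow_sub_C {r : ℕ} (hr : (r : F) ≠ 0) {c : F} (hc : c ≠ 0) :
    Squarefree (X ^ r - C c : F[X]) :=
  (Polynomial.separable_X_pow_sub_C c hr hc).squarefree

lemma squarefree_X_pow_sub_one {r : ℕ} (hr : (r : F) ≠ 0) : Squarefree (X ^ r - 1 : F[X]) := by
  have := squarefree_X_pow_sub_C (F := F) hr (one_ne_zero)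
  rwa [map_one] at this

lemma isCoprime_X_sub_one_cyclotomic {r : ℕ} [hr : Fact r.Prime] (hrF : (r : F) ≠ 0) :
    IsCoprime (X - 1 : F[X]) (cyclotomic r F) := by
  have hsep : (X ^ r - 1 : F[X]).Separable := by
    have := Polynomial.separable_X_pow_sub_C (1 : F) hrF one_ne_zero
    rwa [map_one] at this
  rw [← Polynomial.cyclotomic_prime_mul_X_sub_one F r] at hsep
  exact hsep.isCoprime.symm

end poly

section finite
variable {F : Type*} [Field F] [Fintype F]

lemma allIrrDeg_cyclotomic {p : ℕ} [hp : Fact p.Prime] [CharP F p] {r : ℕ} [hr : Fact r.Prime]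
    (hrp : r ≠ p) :
    AllIrrDeg (cyclotomic r F) (orderOf ((Fintype.card F : ℕ) : ZMod r)) := by
  obtain ⟨k, _, hk⟩ := FiniteField.card F p
  have hcop : p.Coprime r := (Nat.coprime_primes hp.out hr.out).mpr (Ne.symm hrp)
  intro g hg hgd
  rw [Polynomial.natDegree_of_dvd_cyclotomic_of_irreducible hk hcop hgd hg, ← orderOf_units,
    ZMod.coe_unitOfCoprime, hk]

/-- an element killed by an exponent with small `r`-part is an `r`-th power -/
theorem exists_pow_eq_of_pow_eq_one {r : ℕ} (hr : r.Prime) {c : F} (hc0 : c ≠ 0) {t : ℕ}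
    (ht : t ≠ 0) (hc : c ^ t = 1)
    (hv : padicValNat r t < padicValNat r (Fintype.card F - 1)) : ∃ b : F, b ^ r = c := by
  have := Fact.mk hr
  obtain ⟨g, hg⟩ := IsCyclic.exists_monoid_generator (α := Fˣ)
  have hord : orderOf g = Fintype.card F - 1 := by
    rw [orderOf_eq_card_of_forall_mem_zpowers, Nat.card_units, Nat.card_eq_fintype_card]
    intro x
    obtain ⟨n, hn⟩ := hg x
    exact ⟨n, by simpa using hn⟩
  obtain ⟨s, hs⟩ := hg (Units.mk0 c hc0)
  simp only at hs
  have hst : g ^ (s * t) = 1 := by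
    rw [pow_mul, hs]
    apply Units.ext
    simpa using hc
  have hdvd : Fintype.card F - 1 ∣ s * t := by
    rw [← hord]; exact orderOf_dvd_of_pow_eq_one hst
  have hrs : r ∣ s := by
    rcases Nat.eq_zero_or_pos s with h0 | hspos
    · rw [h0]; exact dvd_zero r
    have hq1 : Fintype.card F - 1 ≠ 0 := by
      have := Fintype.one_lt_card (α := F)
      omega
    have h1 : r ^ padicValNat r (Fintype.card F - 1) ∣ s * t :=
      (pow_padicValNat_dvd).trans hdvd
    have h2 := (padicValNat_dvd_iff_le (mul_ne_zero hspos.ne' ht)).mp h1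
    rw [padicValNat.mul hspos.ne' ht] at h2
    apply dvd_of_one_le_padicValNat
    omega
  obtain ⟨u, rfl⟩ := hrs
  refine ⟨((g ^ u : Fˣ) : F), ?_⟩
  rw [← Units.val_pow_eq_pow_val, ← pow_mul, mul_comm, hs]
  rfl

/-- a non-`r`-th power of `r`-power order -/
theorem exists_not_pow {r : ℕ} (hr : r.Prime) (hrq : r ∣ Fintype.card F - 1) :
    ∃ c : F, c ≠ 0 ∧ c ^ (r ^ padicValNat r (Fintype.card F - 1)) = 1 ∧ ∀ b : F, b ^ r ≠ c := by
  have := Fact.mk hr
  obtain ⟨g, hg⟩ := IsCyclic.exists_monoid_generator (α := Fˣ)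
  have hord : orderOf g = Fintype.card F - 1 := by
    rw [orderOf_eq_card_of_forall_mem_zpowers, Nat.card_units, Nat.card_eq_fintype_card]
    intro x
    obtain ⟨n, hn⟩ := hg x
    exact ⟨n, by simpa using hn⟩
  have hq1 : Fintype.card F - 1 ≠ 0 := by
    have := Fintype.one_lt_card (α := F)
    omega
  set e := padicValNat r (Fintype.card F - 1) with he
  have hdvd : r ^ e ∣ Fintype.card F - 1 := pow_padicValNat_dvd
  obtain ⟨w, hw⟩ := hdvd
  have hrw : ¬ r ∣ w := by
    intro h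
    have h1 : r ^ (e + 1) ∣ Fintype.card F - 1 := by
      rw [hw, pow_succ]; exact Nat.mul_dvd_mul_left _ h
    have := (padicValNat_dvd_iff_le hq1).mp h1
    omega
  refine ⟨((g ^ w : Fˣ) : F), Units.ne_zero _, ?_, ?_⟩
  · rw [← Units.val_pow_eq_pow_val, ← pow_mul, mul_comm, ← hw, ← hord, pow_orderOf_eq_one]
    rfl
  · intro b hb
    have hb0 : b ≠ 0 := by
      rintro rfl
      rw [zero_pow hr.ne_zero] at hb
      exact Units.ne_zero _ hb.symm
    obtain ⟨u, hu⟩ := hg (Units.mk0 b hb0)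
    simp only at hu
    have h1 : g ^ (u * r) = g ^ w := by
      rw [pow_mul, hu]
      apply Units.ext
      simpa using hb
    have h2 := pow_eq_pow_iff_modEq.mp h1
    rw [hord] at h2
    exact hrw ((h2.dvd_iff hrq).mp (Dvd.intro_left u rfl))

end finite

section norms
variable {F : Type*} [Field F]

theorem norm_root_X_pow_sub_C {r : ℕ} (hr : 0 < r) (c : F)
    [hg : Fact (Irreducible (X ^ r - C c : F[X]))] :
    Algebra.norm F (AdjoinRoot.root (X ^ r - C c : F[X])) = (-1) ^ (r + 1) * c := by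
  have hg0 : (X ^ r - C c : F[X]) ≠ 0 := hg.out.ne_zero
  have hmonic : (X ^ r - C c : F[X]).Monic := Polynomial.monic_X_pow_sub_C c hr.ne'
  have h1 := Algebra.PowerBasis.norm_gen_eq_coeff_zero_minpoly (AdjoinRoot.powerBasis hg0)
  rw [AdjoinRoot.minpoly_powerBasis_gen_of_monic hmonic hg0, AdjoinRoot.powerBasis_dim,
    AdjoinRoot.powerBasis_gen, Polynomial.natDegree_X_pow_sub_C] at h1
  rw [h1, Polynomial.coeff_sub, Polynomial.coeff_X_pow, Polynomial.coeff_C_zero,
    if_neg hr.ne, zero_sub, pow_succ]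
  ring

theorem norm_root_eq_one [Fintype F] {r : ℕ} (hrpos : 0 < r) (g : F[X]) [hg : Fact (Irreducible g)]
    (hgd : g ∣ X ^ r - 1) (hcop : Nat.Coprime r (Fintype.card F - 1)) :
    Algebra.norm F (AdjoinRoot.root g) = 1 := by
  have hroot : AdjoinRoot.root g ^ r = 1 := by
    have h1 : AdjoinRoot.mk g (X ^ r - 1) = 0 := AdjoinRoot.mk_eq_zero.mpr hgd
    rw [map_sub, map_pow, AdjoinRoot.mk_X, map_one] at h1
    exact sub_eq_zero.mp h1
  have h1 : (Algebra.norm F (AdjoinRoot.root g)) ^ r = 1 := by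
    rw [← map_pow, hroot, map_one]
  have h0 : Algebra.norm F (AdjoinRoot.root g) ≠ 0 := by
    intro h
    rw [h, zero_pow hrpos.ne'] at h1
    exact zero_ne_one h1
  have h2 := FiniteField.pow_card_sub_one_eq_one _ h0
  have h3 := pow_gcd_eq_one.mpr ⟨h1, h2⟩
  rw [Nat.Coprime] at hcop
  rwa [hcop, pow_one] at h3

end norms

end Cfsg.Agent.Lib.Helper2.BG
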