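import Cfsg.Agent.Lib.Helper80.Stn_BASIC

/-! # Sm hive (S2086, owner helper39): the Steinberg group `St_n(K)` is centrally closed (Milnor, Thm 5.10)

`LiftComm φ` : lifts of commuting root elements commute (the key lemma).
`cc_liftComm_of_extra` : the key lemma holds whenever a further index is available.
`cc_splits_of_liftComm` : for `4 ≤ n`, the key lemma gives a splitting of the central extension `φ`.
`cc_splits_five` : for `5 ≤ n` every central extension of `St_n(K)` splits. -/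

set_option autoImplicit false

namespace Cfsg.Agent.Lib.Helper39.Sm

open Cfsg.Agent.Lib.Helper41.Stn

/-! ### pure group theory -/

/-- conjugation by two lifts of the same element agrees -/
theorem cc_conj_eq {Y G : Type*} [Group Y] [Group G] (φ : Y →* G) (hk : φ.ker ≤ Subgroup.center Y)
    {y y' : Y} (h : φ y = φ y') (g : Y) : y' * g * y'⁻¹ = y * g * y⁻¹ := by
  have hc : y⁻¹ * y' ∈ Subgroup.center Y := by
    apply hk
    rw [MonoidHom.mem_ker, map_mul, map_inv, h, inv_mul_cancel]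
  have hcg : g * (y⁻¹ * y') = (y⁻¹ * y') * g := Subgroup.mem_center_iff.mp hc g
  calc y' * g * y'⁻¹ = y * ((y⁻¹ * y') * g) * (y⁻¹ * y')⁻¹ * y⁻¹ := by group
    _ = y * (g * (y⁻¹ * y')) * (y⁻¹ * y')⁻¹ * y⁻¹ := by rw [hcg]
    _ = y * g * y⁻¹ := by group

/-- the commutator of two lifts does not depend on the lifts -/
theorem cc_comm_lift {Y G : Type*} [Group Y] [Group G] (φ : Y →* G) (hk : φ.ker ≤ Subgroup.center Y)
    {y y' z z' : Y} (hy : φ y = φ y') (hz : φ z = φ z') :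
    y' * z' * y'⁻¹ * z'⁻¹ = y * z * y⁻¹ * z⁻¹ := by
  have h1 : y' * z' * y'⁻¹ = y * z' * y⁻¹ := cc_conj_eq φ hk hy z'
  have h2 : z' * y⁻¹ * z'⁻¹ = z * y⁻¹ * z⁻¹ := cc_conj_eq φ hk hz y⁻¹
  calc y' * z' * y'⁻¹ * z'⁻¹ = (y' * z' * y'⁻¹) * z'⁻¹ := by group
    _ = y * (z' * y⁻¹ * z'⁻¹) := by rw [h1]; group
    _ = y * z * y⁻¹ * z⁻¹ := by rw [h2]; group

/-- two lifts of commuting... : if `y` and `y'` are lifts of the same element and `y` commutes with `z`,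
then so does `y'` -/
theorem cc_commute_lift {Y G : Type*} [Group Y] [Group G] (φ : Y →* G) (hk : φ.ker ≤ Subgroup.center Y)
    {y y' z : Y} (hy : φ y = φ y') (h : y * z = z * y) : y' * z = z * y' := by
  have h1 : y' * z * y'⁻¹ = y * z * y⁻¹ := cc_conj_eq φ hk hy z
  have h2 : y * z * y⁻¹ = z := by rw [h]; group
  calc y' * z = (y' * z * y'⁻¹) * y' := by group
    _ = z * y' := by rw [h1, h2]

/-- if the images of `w` and `y`, and of `w` and `y'`, commute, then `w` commutes with `[y, y']` -/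
theorem cc_commute_comm {Y G : Type*} [Group Y] [Group G] (φ : Y →* G) (hk : φ.ker ≤ Subgroup.center Y)
    {w y y' : Y} (h1 : φ w * φ y = φ y * φ w) (h2 : φ w * φ y' = φ y' * φ w) :
    (y * y' * y⁻¹ * y'⁻¹) * w = w * (y * y' * y⁻¹ * y'⁻¹) := by
  have e1 : φ y = φ (w * y * w⁻¹) := by
    rw [map_mul, map_mul, map_inv, h1]; group
  have e2 : φ y' = φ (w * y' * w⁻¹) := by
    rw [map_mul, map_mul, map_inv, h2]; group
  have h := cc_comm_lift φ hk e1 e2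
  calc (y * y' * y⁻¹ * y'⁻¹) * w
      = ((w * y * w⁻¹) * (w * y' * w⁻¹) * (w * y * w⁻¹)⁻¹ * (w * y' * w⁻¹)⁻¹) * w := by rw [h]
    _ = w * (y * y' * y⁻¹ * y'⁻¹) := by group

/-- the three-element identity `[[u,v],w] = [u,[v,w]]` -/
theorem cc_three {G : Type*} [Group G] (u v w : G) (huw : u * w = w * u)
    (hab : (u * v * u⁻¹ * v⁻¹) * (v * w * v⁻¹ * w⁻¹) = (v * w * v⁻¹ * w⁻¹) * (u * v * u⁻¹ * v⁻¹))
    (hcb : (u * (v * w * v⁻¹ * w⁻¹) * u⁻¹ * (v * w * v⁻¹ * w⁻¹)⁻¹) * (v * w * v⁻¹ * w⁻¹) =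
      (v * w * v⁻¹ * w⁻¹) * (u * (v * w * v⁻¹ * w⁻¹) * u⁻¹ * (v * w * v⁻¹ * w⁻¹)⁻¹)) :
    (u * v * u⁻¹ * v⁻¹) * w * (u * v * u⁻¹ * v⁻¹)⁻¹ * w⁻¹ =
      u * (v * w * v⁻¹ * w⁻¹) * u⁻¹ * (v * w * v⁻¹ * w⁻¹)⁻¹ := by
  have e2 : w * u * w⁻¹ = u := by rw [← huw]; group
  have e3 : w * v * w⁻¹ = (v * w * v⁻¹ * w⁻¹)⁻¹ * v := by group
  generalize hb : v * w * v⁻¹ * w⁻¹ = b at *
  have e1 : w * (u * v * u⁻¹ * v⁻¹) * w⁻¹ = u * b⁻¹ * u⁻¹ * (u * v * u⁻¹ * v⁻¹) * b := by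
    calc w * (u * v * u⁻¹ * v⁻¹) * w⁻¹
        = (w * u * w⁻¹) * (w * v * w⁻¹) * (w * u * w⁻¹)⁻¹ * (w * v * w⁻¹)⁻¹ := by group
      _ = u * (b⁻¹ * v) * u⁻¹ * (b⁻¹ * v)⁻¹ := by rw [e2, e3]
      _ = u * b⁻¹ * u⁻¹ * (u * v * u⁻¹ * v⁻¹) * b := by group
  generalize ha : u * v * u⁻¹ * v⁻¹ = a at *
  have hab' : a * b⁻¹ = b⁻¹ * a := by
    calc a * b⁻¹ = b⁻¹ * (b * a) * b⁻¹ := by group
      _ = b⁻¹ * (a * b) * b⁻¹ := by rw [hab]
      _ = b⁻¹ * a := by group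
  calc a * w * a⁻¹ * w⁻¹ = a * (w * a * w⁻¹)⁻¹ := by group
    _ = a * (u * b⁻¹ * u⁻¹ * a * b)⁻¹ := by rw [e1]
    _ = (a * b⁻¹) * a⁻¹ * (u * b * u⁻¹) := by group
    _ = (b⁻¹ * a) * a⁻¹ * (u * b * u⁻¹) := by rw [hab']
    _ = b⁻¹ * ((u * b * u⁻¹ * b⁻¹) * b) := by group
    _ = b⁻¹ * (b * (u * b * u⁻¹ * b⁻¹)) := by rw [hcb]
    _ = u * b * u⁻¹ * b⁻¹ := by group

/-- `[u, v w] = [u,v] [u,w]` when `v` commutes with `[u,w]` -/
theorem cc_comm_mul {G : Type*} [Group G] (u v w : G)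
    (h : v * (u * w * u⁻¹ * w⁻¹) = (u * w * u⁻¹ * w⁻¹) * v) :
    u * (v * w) * u⁻¹ * (v * w)⁻¹ = (u * v * u⁻¹ * v⁻¹) * (u * w * u⁻¹ * w⁻¹) := by
  calc u * (v * w) * u⁻¹ * (v * w)⁻¹
      = (u * v * u⁻¹ * v⁻¹) * (v * (u * w * u⁻¹ * w⁻¹)) * v⁻¹ := by group
    _ = (u * v * u⁻¹ * v⁻¹) * ((u * w * u⁻¹ * w⁻¹) * v) * v⁻¹ := by rw [h]
    _ = (u * v * u⁻¹ * v⁻¹) * (u * w * u⁻¹ * w⁻¹) := by group

/-- a finite set of fewer than `n` indices misses an index -/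
theorem cc_exists_notMem {n : ℕ} (s : Finset (Fin n)) (h : s.card < n) : ∃ x : Fin n, x ∉ s := by
  by_contra hc
  push Not at hc
  have : s = Finset.univ := Finset.eq_univ_iff_forall.mpr hc
  rw [this, Finset.card_univ, Fintype.card_fin] at h
  exact lt_irrefl _ h

theorem cc_exists_ne2 {n : ℕ} (hn : 3 ≤ n) (i j : Fin n) : ∃ h : Fin n, h ≠ i ∧ h ≠ j := by
  obtain ⟨x, hx⟩ := cc_exists_notMem ({i, j} : Finset (Fin n))
    (lt_of_le_of_lt (Finset.card_le_two) (by omega))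
  simp only [Finset.mem_insert, Finset.mem_singleton, not_or] at hx
  exact ⟨x, hx.1, hx.2⟩

theorem cc_exists_ne3 {n : ℕ} (hn : 4 ≤ n) (i j l : Fin n) : ∃ h : Fin n, h ≠ i ∧ h ≠ j ∧ h ≠ l := by
  obtain ⟨x, hx⟩ := cc_exists_notMem ({i, j, l} : Finset (Fin n))
    (lt_of_le_of_lt (Finset.card_le_three) (by omega))
  simp only [Finset.mem_insert, Finset.mem_singleton, not_or] at hx
  exact ⟨x, hx.1, hx.2.1, hx.2.2⟩

theorem cc_exists_ne4 {n : ℕ} (hn : 5 ≤ n) (i j k l : Fin n) :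
    ∃ h : Fin n, h ≠ i ∧ h ≠ j ∧ h ≠ k ∧ h ≠ l := by
  obtain ⟨x, hx⟩ := cc_exists_notMem ({i, j, k, l} : Finset (Fin n))
    (lt_of_le_of_lt (Finset.card_le_four) (by omega))
  simp only [Finset.mem_insert, Finset.mem_singleton, not_or] at hx
  exact ⟨x, hx.1, hx.2.1, hx.2.2.1, hx.2.2.2⟩

/-! ### the Steinberg group -/

variable {K : Type*} [Field K] {n : ℕ} {Y : Type*} [Group Y]

/-- the key lemma: lifts of commuting root elements commute -/
def LiftComm (φ : Y →* St K n) : Prop :=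
  ∀ (i j k l : Fin n) (t u : K), i ≠ j → k ≠ l → j ≠ k → i ≠ l →
    ∀ y z : Y, φ y = xx i j t → φ z = xx k l u → y * z = z * y

theorem cc_xx_comm3' {i j l : Fin n} (hij : i ≠ j) (hjl : j ≠ l) (hil : i ≠ l) (t u : K) :
    (xx i j t : St K n) * xx j l u * (xx i j t)⁻¹ * (xx j l u)⁻¹ = xx i l (t * u) :=
  xx_comm3 hij hjl hil t u

/-- the commutator of lifts of `x_ih(t)` and `x_hj(u)` is a lift of `x_ij(tu)` -/
theorem cc_map_comm (φ : Y →* St K n) {i h j : Fin n} (hih : i ≠ h) (hhj : h ≠ j) (hij : i ≠ j)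
    {t u : K} {y z : Y} (hy : φ y = xx i h t) (hz : φ z = xx h j u) :
    φ (y * z * y⁻¹ * z⁻¹) = xx i j (t * u) := by
  rw [map_mul, map_mul, map_mul, map_inv, map_inv, hy, hz, xx_comm3 hih hhj hij]

/-- the key lemma when a further index `h` is available -/
theorem cc_liftComm_of_extra (φ : Y →* St K n) (hs : Function.Surjective φ)
    (hk : φ.ker ≤ Subgroup.center Y) {i j k l : Fin n} (t u : K) (hij : i ≠ j) (_hkl : k ≠ l)
    (hjk : j ≠ k) (hil : i ≠ l) (hex : ∃ h : Fin n, h ≠ i ∧ h ≠ j ∧ h ≠ k ∧ h ≠ l)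
    {y z : Y} (hy : φ y = xx i j t) (hz : φ z = xx k l u) : y * z = z * y := by
  obtain ⟨h, hhi, hhj, hhk, hhl⟩ := hex
  obtain ⟨a, ha⟩ := hs (xx i h 1)
  obtain ⟨b, hb⟩ := hs (xx h j t)
  have hab : φ (a * b * a⁻¹ * b⁻¹) = xx i j t := by
    rw [cc_map_comm φ hhi.symm hhj hij ha hb, one_mul]
  have h1 : φ z * φ a = φ a * φ z := by
    rw [hz, ha]; exact xx_comm (Ne.symm hhk) (Ne.symm hil) u 1
  have h2 : φ z * φ b = φ b * φ z := by
    rw [hz, hb]; exact xx_comm (Ne.symm hjk) (Ne.symm hhl) u t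
  have h3 := cc_commute_comm φ hk h1 h2
  exact cc_commute_lift φ hk (hab.trans hy.symm) h3

theorem cc_liftComm_five (hn : 5 ≤ n) (φ : Y →* St K n) (hs : Function.Surjective φ)
    (hk : φ.ker ≤ Subgroup.center Y) : LiftComm φ := by
  intro i j k l t u hij hkl hjk hil y z hy hz
  exact cc_liftComm_of_extra φ hs hk t u hij hkl hjk hil (cc_exists_ne4 hn i j k l) hy hz

/-- the three-lift identity in the Steinberg group -/
theorem cc_T (φ : Y →* St K n) (hk : φ.ker ≤ Subgroup.center Y) (hA : LiftComm φ)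
    {p q r s : Fin n} (hpq : p ≠ q) (hpr : p ≠ r) (hps : p ≠ s) (hqr : q ≠ r) (hqs : q ≠ s)
    (hrs : r ≠ s) (α β γ : K) {u v w a b : Y} (hu : φ u = xx p q α) (hv : φ v = xx q r β)
    (hw : φ w = xx r s γ) (ha : φ a = xx p r (α * β)) (hb : φ b = xx q s (β * γ)) :
    a * w * a⁻¹ * w⁻¹ = u * b * u⁻¹ * b⁻¹ := by
  have ha0 : φ (u * v * u⁻¹ * v⁻¹) = xx p r (α * β) := cc_map_comm φ hpq hqr hpr hu hv
  have hb0 : φ (v * w * v⁻¹ * w⁻¹) = xx q s (β * γ) := cc_map_comm φ hqr hrs hqs hv hw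
  have hc0 : φ (u * (v * w * v⁻¹ * w⁻¹) * u⁻¹ * (v * w * v⁻¹ * w⁻¹)⁻¹) = xx p s (α * (β * γ)) :=
    cc_map_comm φ hpq hqs hps hu hb0
  have huw : u * w = w * u := hA p q r s α γ hpq hrs hqr hps u w hu hw
  have hab := hA p r q s (α * β) (β * γ) hpr hqs (Ne.symm hqr) hps _ _ ha0 hb0
  have hcb := hA p s q s (α * (β * γ)) (β * γ) hps hqs (Ne.symm hqs) hps _ _ hc0 hb0
  have key := cc_three u v w huw hab hcb
  rw [cc_comm_lift φ hk (ha0.trans ha.symm) (rfl : φ w = φ w),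
    cc_comm_lift φ hk (rfl : φ u = φ u) (hb0.trans hb.symm)]
  exact key

/-! ### the section -/

/-- a set-theoretic lift -/
noncomputable def cc_lift (φ : Y →* St K n) (hs : Function.Surjective φ) (g : St K n) : Y :=
  Function.surjInv hs g

theorem cc_lift_spec (φ : Y →* St K n) (hs : Function.Surjective φ) (g : St K n) :
    φ (cc_lift φ hs g) = g := Function.surjInv_eq hs g

/-- `s_ij^h(t) = [lift x_ih(1), lift x_hj(t)]` -/
noncomputable def cc_sh (φ : Y →* St K n) (hs : Function.Surjective φ) (i j h : Fin n) (t : K) : Y :=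
  cc_lift φ hs (xx i h 1) * cc_lift φ hs (xx h j t) * (cc_lift φ hs (xx i h 1))⁻¹ *
    (cc_lift φ hs (xx h j t))⁻¹

theorem cc_sh_spec (φ : Y →* St K n) (hs : Function.Surjective φ) {i j h : Fin n} (hij : i ≠ j)
    (hhi : h ≠ i) (hhj : h ≠ j) (t : K) : φ (cc_sh φ hs i j h t) = xx i j t := by
  have := cc_map_comm φ hhi.symm hhj hij (cc_lift_spec φ hs (xx i h 1)) (cc_lift_spec φ hs (xx h j t))
  rw [one_mul] at this
  exact this

/-- `s_ij^h(t)` is the commutator of ANY lifts of `x_ih(1)` and `x_hj(t)` -/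
theorem cc_sh_eq (φ : Y →* St K n) (hs : Function.Surjective φ) (hk : φ.ker ≤ Subgroup.center Y)
    {i j h : Fin n} {t : K} {y z : Y} (hy : φ y = xx i h 1) (hz : φ z = xx h j t) :
    y * z * y⁻¹ * z⁻¹ = cc_sh φ hs i j h t :=
  cc_comm_lift φ hk ((cc_lift_spec φ hs _).trans hy.symm) ((cc_lift_spec φ hs _).trans hz.symm)

/-- independence of `h` -/
theorem cc_sh_indep (φ : Y →* St K n) (hs : Function.Surjective φ) (hk : φ.ker ≤ Subgroup.center Y)
    (hA : LiftComm φ) {i j h k : Fin n} (hij : i ≠ j) (hhi : h ≠ i) (hhj : h ≠ j) (hki : k ≠ i)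
    (hkj : k ≠ j) (t : K) : cc_sh φ hs i j h t = cc_sh φ hs i j k t := by
  by_cases hhk : h = k
  · rw [hhk]
  -- p = i, q = k, r = h, s = j
  have hu := cc_lift_spec φ hs (xx i k (1 : K))
  have hv := cc_lift_spec φ hs (xx k h (1 : K))
  have hw := cc_lift_spec φ hs (xx h j t)
  have ha : φ (cc_lift φ hs (xx i h (1 : K))) = xx i h ((1 : K) * 1) := by
    rw [cc_lift_spec, one_mul]
  have hb : φ (cc_lift φ hs (xx k j t)) = xx k j ((1 : K) * t) := by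
    rw [cc_lift_spec, one_mul]
  have key := cc_T φ hk hA (Ne.symm hki) (Ne.symm hhi) hij (Ne.symm hhk) hkj hhj (1 : K) 1 t
    hu hv hw ha hb
  exact key

/-- additivity of `s_ij^h` -/
theorem cc_sh_add (φ : Y →* St K n) (hs : Function.Surjective φ) (hk : φ.ker ≤ Subgroup.center Y)
    (hA : LiftComm φ) {i j h : Fin n} (hij : i ≠ j) (hhi : h ≠ i) (hhj : h ≠ j) (t u : K) :
    cc_sh φ hs i j h t * cc_sh φ hs i j h u = cc_sh φ hs i j h (t + u) := by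
  set U := cc_lift φ hs (xx i h (1 : K)) with hU
  set V := cc_lift φ hs (xx h j t) with hV
  set W := cc_lift φ hs (xx h j u) with hW
  have hUs : φ U = xx i h 1 := cc_lift_spec φ hs _
  have hVs : φ V = xx h j t := cc_lift_spec φ hs _
  have hWs : φ W = xx h j u := cc_lift_spec φ hs _
  have hVW : φ (V * W) = xx h j (t + u) := by rw [map_mul, hVs, hWs, xx_add]
  have hUW : φ (U * W * U⁻¹ * W⁻¹) = xx i j u := by
    have := cc_map_comm φ hhi.symm hhj hij hUs hWs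
    rw [one_mul] at this
    exact this
  have hcomm : V * (U * W * U⁻¹ * W⁻¹) = (U * W * U⁻¹ * W⁻¹) * V :=
    hA h j i j t u hhj hij (Ne.symm hij) hhj V _ hVs hUW
  have h1 := cc_comm_mul U V W hcomm
  have h2 : U * (V * W) * U⁻¹ * (V * W)⁻¹ = cc_sh φ hs i j h (t + u) := cc_sh_eq φ hs hk hUs hVW
  rw [← h2, h1]
  rfl

/-- the choice of a third index -/
noncomputable def cc_pick (hn : 3 ≤ n) (i j : Fin n) : Fin n := (cc_exists_ne2 hn i j).choose

theorem cc_pick_ne1 (hn : 3 ≤ n) (i j : Fin n) : cc_pick hn i j ≠ i :=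
  (cc_exists_ne2 hn i j).choose_spec.1

theorem cc_pick_ne2 (hn : 3 ≤ n) (i j : Fin n) : cc_pick hn i j ≠ j :=
  (cc_exists_ne2 hn i j).choose_spec.2

/-- `s_ij(t)` -/
noncomputable def cc_s (hn : 3 ≤ n) (φ : Y →* St K n) (hs : Function.Surjective φ) (i j : Fin n) (t : K) :
    Y := cc_sh φ hs i j (cc_pick hn i j) t

theorem cc_s_spec (hn : 3 ≤ n) (φ : Y →* St K n) (hs : Function.Surjective φ) {i j : Fin n}
    (hij : i ≠ j) (t : K) : φ (cc_s hn φ hs i j t) = xx i j t :=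
  cc_sh_spec φ hs hij (cc_pick_ne1 hn i j) (cc_pick_ne2 hn i j) t

theorem cc_s_eq_sh (hn : 3 ≤ n) (φ : Y →* St K n) (hs : Function.Surjective φ)
    (hk : φ.ker ≤ Subgroup.center Y) (hA : LiftComm φ) {i j h : Fin n} (hij : i ≠ j) (hhi : h ≠ i)
    (hhj : h ≠ j) (t : K) : cc_s hn φ hs i j t = cc_sh φ hs i j h t :=
  cc_sh_indep φ hs hk hA hij (cc_pick_ne1 hn i j) (cc_pick_ne2 hn i j) hhi hhj t

theorem cc_s_add (hn : 3 ≤ n) (φ : Y →* St K n) (hs : Function.Surjective φ)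
    (hk : φ.ker ≤ Subgroup.center Y) (hA : LiftComm φ) {i j : Fin n} (hij : i ≠ j) (t u : K) :
    cc_s hn φ hs i j t * cc_s hn φ hs i j u = cc_s hn φ hs i j (t + u) :=
  cc_sh_add φ hs hk hA hij (cc_pick_ne1 hn i j) (cc_pick_ne2 hn i j) t u

theorem cc_s_comm (hn : 3 ≤ n) (φ : Y →* St K n) (hs : Function.Surjective φ) (hA : LiftComm φ)
    {i j k l : Fin n} (hij : i ≠ j) (hkl : k ≠ l) (hjk : j ≠ k) (hil : i ≠ l) (t u : K) :
    cc_s hn φ hs i j t * cc_s hn φ hs k l u = cc_s hn φ hs k l u * cc_s hn φ hs i j t :=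
  hA i j k l t u hij hkl hjk hil _ _ (cc_s_spec hn φ hs hij t) (cc_s_spec hn φ hs hkl u)

theorem cc_s_comm3 (hn : 4 ≤ n) (φ : Y →* St K n) (hs : Function.Surjective φ)
    (hk : φ.ker ≤ Subgroup.center Y) (hA : LiftComm φ) {i j l : Fin n} (hij : i ≠ j) (hjl : j ≠ l)
    (hil : i ≠ l) (t u : K) :
    cc_s (by omega) φ hs i j t * cc_s (by omega) φ hs j l u * (cc_s (by omega) φ hs i j t)⁻¹ *
      (cc_s (by omega) φ hs j l u)⁻¹ = cc_s (by omega) φ hs i l (t * u) := by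
  obtain ⟨h, hhi, hhj, hhl⟩ := cc_exists_ne3 hn i j l
  -- p = i, q = h, r = j, s = l
  have hu := cc_lift_spec φ hs (xx i h (1 : K))
  have hv := cc_lift_spec φ hs (xx h j t)
  have hw := cc_s_spec (by omega : 3 ≤ n) φ hs hjl u
  have ha : φ (cc_s (by omega : 3 ≤ n) φ hs i j t) = xx i j ((1 : K) * t) := by
    rw [cc_s_spec _ φ hs hij, one_mul]
  have hb := cc_lift_spec φ hs (xx h l (t * u))
  have key := cc_T φ hk hA (Ne.symm hhi) hij hil hhj hhl hjl (1 : K) t u hu hv hw ha hb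
  rw [key, cc_s_eq_sh (by omega) φ hs hk hA hil hhi hhl (t * u)]
  rfl

/-- the map on generators -/
noncomputable def cc_gen (hn : 3 ≤ n) (φ : Y →* St K n) (hs : Function.Surjective φ) :
    Idx n × K → Y := fun a => cc_s hn φ hs a.1.1.1 a.1.1.2 a.2

theorem cc_gen_rels (hn : 4 ≤ n) (φ : Y →* St K n) (hs : Function.Surjective φ)
    (hk : φ.ker ≤ Subgroup.center Y) (hA : LiftComm φ) :
    ∀ r ∈ rels K n, FreeGroup.lift (cc_gen (by omega) φ hs) r = 1 := by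
  intro r hr
  rcases hr with (⟨a, t, u, rfl⟩ | ⟨a, b, t, u, h1, h2, rfl⟩) | ⟨a, b, h, t, u, h1, rfl⟩
  · simp only [map_mul, map_inv, FreeGroup.lift_apply_of, cc_gen]
    rw [cc_s_add (by omega) φ hs hk hA a.2, mul_inv_cancel]
  · simp only [map_mul, map_inv, FreeGroup.lift_apply_of, cc_gen]
    rw [cc_s_comm (by omega) φ hs hA a.2 b.2 h2 h1 t u]
    group
  · simp only [map_mul, map_inv, FreeGroup.lift_apply_of, cc_gen]
    obtain ⟨⟨i, j⟩, hij⟩ := a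
    obtain ⟨⟨j', l⟩, hjl⟩ := b
    simp only at h1 hij hjl h
    subst h1
    rw [cc_s_comm3 hn φ hs hk hA hij hjl h t u, mul_inv_cancel]

/-- for `4 ≤ n`, the key lemma gives a splitting of the central extension `φ` -/
theorem cc_splits_of_liftComm (hn : 4 ≤ n) (φ : Y →* St K n) (hs : Function.Surjective φ)
    (hk : φ.ker ≤ Subgroup.center Y) (hA : LiftComm φ) :
    ∃ s : St K n →* Y, φ.comp s = MonoidHom.id (St K n) := by
  refine ⟨PresentedGroup.toGroup (cc_gen_rels hn φ hs hk hA), ?_⟩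
  apply PresentedGroup.ext
  intro x
  rw [MonoidHom.comp_apply, PresentedGroup.toGroup.of, MonoidHom.id_apply]
  obtain ⟨⟨⟨i, j⟩, hij⟩, t⟩ := x
  show φ (cc_s _ φ hs i j t) = _
  rw [cc_s_spec _ φ hs hij, basic_xx_of hij]

/-- Milnor, Theorem 5.10: for `5 ≤ n` every central extension of `St_n(K)` splits -/
theorem cc_splits_five (hn : 5 ≤ n) (φ : Y →* St K n) (hs : Function.Surjective φ)
    (hk : φ.ker ≤ Subgroup.center Y) :
    ∃ s : St K n →* Y, φ.comp s = MonoidHom.id (St K n) :=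
  cc_splits_of_liftComm (by omega) φ hs hk (cc_liftComm_five hn φ hs hk)

end Cfsg.Agent.Lib.Helper39.Sm
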