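import Mathlib

/-! # Counting subspaces of a finite vector space (helper2, for S5949/S5951) -/

set_option autoImplicit false

namespace Cfsg.Agent.Lib.Helper2.BG

open Module

section count
variable {F V : Type*} [Field F] [Fintype F] [AddCommGroup V] [Module F V] [Finite V]

/-- the fibre of the span map over a subspace -/
noncomputable def fibreEquiv (m : ℕ) (W : Submodule F V) (hW : finrank F W = m) :
    {s : {s : Fin m → V // LinearIndependent F s} // Submodule.span F (Set.range s.1) = W} ≃
      {s' : Fin m → ↥W // LinearIndependent F s'} where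
  toFun s := ⟨fun j => ⟨s.1.1 j, by
      have : s.1.1 j ∈ Submodule.span F (Set.range s.1.1) := Submodule.subset_span ⟨j, rfl⟩
      rwa [s.2] at this⟩, by
      apply LinearIndependent.of_comp W.subtype
      exact s.1.2⟩
  invFun s' := ⟨⟨fun j => (s'.1 j : V), s'.2.map' W.subtype (Submodule.ker_subtype W)⟩, by
      have htop : Submodule.span F (Set.range s'.1) = ⊤ := by
        apply LinearIndependent.span_eq_top_of_card_eq_finrank' s'.2
        rw [Fintype.card_fin, hW]
      have : Set.range (fun j => (s'.1 j : V)) = W.subtype '' Set.range s'.1 := by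
        rw [← Set.range_comp]; rfl
      show Submodule.span F (Set.range fun j => (s'.1 j : V)) = W
      rw [this, ← Submodule.map_span, htop, Submodule.map_subtype_top]⟩
  left_inv s := by
    apply Subtype.ext
    apply Subtype.ext
    rfl
  right_inv s' := by
    apply Subtype.ext
    rfl

theorem card_subspaces_mul (m : ℕ) (hm : m ≤ finrank F V) :
    Nat.card {W : Submodule F V // finrank F W = m} *
        ∏ i : Fin m, (Fintype.card F ^ m - Fintype.card F ^ i.val) =
      ∏ i : Fin m, (Fintype.card F ^ finrank F V - Fintype.card F ^ i.val) := by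
  classical
  have : Fintype V := Fintype.ofFinite V
  rw [← card_linearIndependent (K := F) (V := V) hm]
  let g : {s : Fin m → V // LinearIndependent F s} → {W : Submodule F V // finrank F W = m} :=
    fun s => ⟨Submodule.span F (Set.range s.1), by
      rw [finrank_span_eq_card s.2, Fintype.card_fin]⟩
  have e := Equiv.sigmaFiberEquiv g
  rw [← Nat.card_congr e]
  have : Finite {W : Submodule F V // finrank F W = m} := inferInstance
  have : Fintype {W : Submodule F V // finrank F W = m} := Fintype.ofFinite _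
  rw [Nat.card_sigma]
  have hfib : ∀ W : {W : Submodule F V // finrank F W = m},
      Nat.card {s // g s = W} = ∏ i : Fin m, (Fintype.card F ^ m - Fintype.card F ^ i.val) := by
    intro W
    have e2 : {s // g s = W} ≃
        {s : {s : Fin m → V // LinearIndependent F s} // Submodule.span F (Set.range s.1) = W.1} :=
      Equiv.subtypeEquivRight (fun s => by
        constructor
        · intro h; exact congrArg Subtype.val h
        · intro h; exact Subtype.ext h)
    rw [Nat.card_congr e2, Nat.card_congr (fibreEquiv m W.1 W.2)]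
    have := card_linearIndependent (K := F) (V := ↥W.1) (k := m) (le_of_eq W.2.symm)
    rw [this, W.2]
  simp_rw [hfib]
  rw [Finset.sum_const, Finset.card_univ, Nat.card_eq_fintype_card, smul_eq_mul]

/-- reduced form of the count -/
theorem card_subspaces_mul_red (m : ℕ) (hm : m ≤ finrank F V) :
    Nat.card {W : Submodule F V // finrank F W = m} *
        ∏ i ∈ Finset.range m, (Fintype.card F ^ (m - i) - 1) =
      ∏ i ∈ Finset.range m, (Fintype.card F ^ (finrank F V - i) - 1) := by
  have h := card_subspaces_mul (F := F) (V := V) m hm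
  rw [Fin.prod_univ_eq_prod_range (fun i => Fintype.card F ^ m - Fintype.card F ^ i) m,
    Fin.prod_univ_eq_prod_range (fun i => Fintype.card F ^ finrank F V - Fintype.card F ^ i) m] at h
  set q := Fintype.card F with hq
  set n := finrank F V with hn
  have hqpos : 0 < q := Fintype.card_pos
  have key : ∀ k : ℕ, m ≤ k → ∏ i ∈ Finset.range m, (q ^ k - q ^ i) =
      (∏ i ∈ Finset.range m, q ^ i) * ∏ i ∈ Finset.range m, (q ^ (k - i) - 1) := by
    intro k hk
    rw [← Finset.prod_mul_distrib]
    apply Finset.prod_congr rfl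
    intro i hi
    have hi' : i < m := Finset.mem_range.mp hi
    have : q ^ k = q ^ i * q ^ (k - i) := by rw [← pow_add]; congr 1; omega
    rw [this, Nat.mul_sub, mul_one]
  rw [key m le_rfl, key n hm] at h
  have hpos : 0 < ∏ i ∈ Finset.range m, q ^ i := Finset.prod_pos (fun i _ => pow_pos hqpos i)
  apply Nat.eq_of_mul_eq_mul_left hpos
  rw [← h]; ring

theorem exists_dvd_of_dvd_card_subspaces {r : ℕ} (hr : r.Prime) (m : ℕ) (hm : m ≤ finrank F V)
    (h : r ∣ Nat.card {W : Submodule F V // finrank F W = m}) :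
    ∃ j < m, r ∣ Fintype.card F ^ (finrank F V - j) - 1 := by
  have h1 := card_subspaces_mul_red (F := F) (V := V) m hm
  have h2 : r ∣ ∏ i ∈ Finset.range m, (Fintype.card F ^ (finrank F V - i) - 1) := by
    rw [← h1]; exact Dvd.dvd.mul_right h _
  obtain ⟨j, hj, hdvd⟩ := (hr.prime.dvd_finsetProd_iff _).mp h2
  exact ⟨j, Finset.mem_range.mp hj, hdvd⟩

theorem not_dvd_card_subspaces {p : ℕ} [hp : Fact p.Prime] [CharP F p] (m : ℕ)
    (hm : m ≤ finrank F V) :
    ¬ p ∣ Nat.card {W : Submodule F V // finrank F W = m} := by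
  intro hdvd
  have h1 := card_subspaces_mul_red (F := F) (V := V) m hm
  have hq0 : ((Fintype.card F : ℕ) : ZMod p) = 0 := by
    obtain ⟨k, _, hk⟩ := FiniteField.card F p
    rw [hk, Nat.cast_pow, ZMod.natCast_self, zero_pow k.ne_zero]
  have hfac : ∀ s : ℕ, 0 < s → (((Fintype.card F) ^ s - 1 : ℕ) : ZMod p) = -1 := by
    intro s hs
    rw [Nat.cast_sub (Nat.one_le_pow _ _ Fintype.card_pos), Nat.cast_pow, hq0,
      zero_pow hs.ne', Nat.cast_one, zero_sub]
  have h2 := congrArg (fun x : ℕ => (x : ZMod p)) h1
  simp only [Nat.cast_mul, Nat.cast_prod] at h2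
  rw [Finset.prod_congr rfl (fun i hi => hfac (m - i) (by have := Finset.mem_range.mp hi; omega)),
    Finset.prod_congr rfl (fun i hi => hfac (finrank F V - i)
      (by have := Finset.mem_range.mp hi; omega))] at h2
  have h3 : ((Nat.card {W : Submodule F V // finrank F W = m} : ℕ) : ZMod p) = 0 :=
    (ZMod.natCast_eq_zero_iff _ _).mpr hdvd
  rw [h3, zero_mul] at h2
  have h4 : ((-1 : ZMod p)) ^ m = 0 := by
    rw [Finset.prod_const, Finset.card_range] at h2
    exact h2.symm
  have : (-1 : ZMod p) ≠ 0 := neg_ne_zero.mpr one_ne_zero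
  exact this (pow_eq_zero_iff (M₀ := ZMod p) (by
    rintro rfl
    simp at h4) |>.mp h4)

/-- the number of `m`-subspaces is `1` modulo the characteristic -/
theorem card_subspaces_cast_eq_one {p : ℕ} [hp : Fact p.Prime] [CharP F p] (m : ℕ)
    (hm : m ≤ finrank F V) :
    ((Nat.card {W : Submodule F V // finrank F W = m} : ℕ) : ZMod p) = 1 := by
  have h1 := card_subspaces_mul_red (F := F) (V := V) m hm
  have hq0 : ((Fintype.card F : ℕ) : ZMod p) = 0 := by
    obtain ⟨k, _, hk⟩ := FiniteField.card F p
    rw [hk, Nat.cast_pow, ZMod.natCast_self, zero_pow k.ne_zero]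
  have hfac : ∀ s : ℕ, 0 < s → (((Fintype.card F) ^ s - 1 : ℕ) : ZMod p) = -1 := by
    intro s hs
    rw [Nat.cast_sub (Nat.one_le_pow _ _ Fintype.card_pos), Nat.cast_pow, hq0,
      zero_pow hs.ne', Nat.cast_one, zero_sub]
  have h2 := congrArg (fun x : ℕ => (x : ZMod p)) h1
  simp only [Nat.cast_mul, Nat.cast_prod] at h2
  rw [Finset.prod_congr rfl (fun i hi => hfac (m - i) (by have := Finset.mem_range.mp hi; omega)),
    Finset.prod_congr rfl (fun i hi => hfac (finrank F V - i)
      (by have := Finset.mem_range.mp hi; omega))] at h2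
  rw [Finset.prod_const, Finset.card_range] at h2
  have hu : IsUnit ((-1 : ZMod p) ^ m) := (isUnit_one.neg).pow m
  exact hu.mul_left_injective (by simp only [h2, one_mul])

/-- `[k]! = ∏_{s=1}^{k} (q^s - 1)` -/
def qfac (q k : ℕ) : ℕ := ∏ s ∈ Finset.range k, (q ^ (s + 1) - 1)

lemma qfac_pos {q : ℕ} (hq : 2 ≤ q) (k : ℕ) : 0 < qfac q k := by
  apply Finset.prod_pos
  intro s _
  have : 2 ^ (s + 1) ≤ q ^ (s + 1) := Nat.pow_le_pow_left hq _
  have : 2 ≤ 2 ^ (s + 1) := by
    calc 2 = 2 ^ 1 := by norm_num
      _ ≤ 2 ^ (s + 1) := Nat.pow_le_pow_right (by norm_num) (by omega)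
  omega

lemma prod_range_sub_eq_qfac (q m : ℕ) :
    ∏ i ∈ Finset.range m, (q ^ (m - i) - 1) = qfac q m := by
  rw [qfac, ← Finset.prod_range_reflect]
  apply Finset.prod_congr rfl
  intro i hi
  have := Finset.mem_range.mp hi
  congr 2
  omega

lemma qfac_split (q : ℕ) {m n : ℕ} (hm : m ≤ n) :
    qfac q n = qfac q (n - m) * ∏ i ∈ Finset.range m, (q ^ (n - i) - 1) := by
  have hn : n = (n - m) + m := by omega
  conv_lhs => rw [qfac, hn, Finset.prod_range_add]
  congr 1
  rw [← Finset.prod_range_reflect]
  apply Finset.prod_congr rfl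
  intro i hi
  have := Finset.mem_range.mp hi
  congr 2
  omega

theorem card_subspaces_mul_qfac (m : ℕ) (hm : m ≤ finrank F V) :
    Nat.card {W : Submodule F V // finrank F W = m} * (qfac (Fintype.card F) m *
      qfac (Fintype.card F) (finrank F V - m)) = qfac (Fintype.card F) (finrank F V) := by
  have h1 := card_subspaces_mul_red (F := F) (V := V) m hm
  rw [prod_range_sub_eq_qfac] at h1
  rw [qfac_split (Fintype.card F) hm, ← h1]
  ring

theorem card_subspaces_symm (m : ℕ) (hm : m ≤ finrank F V) :
    Nat.card {W : Submodule F V // finrank F W = m} =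
      Nat.card {W : Submodule F V // finrank F W = finrank F V - m} := by
  have h1 := card_subspaces_mul_qfac (F := F) (V := V) m hm
  have h2 := card_subspaces_mul_qfac (F := F) (V := V) (finrank F V - m) (Nat.sub_le _ _)
  rw [Nat.sub_sub_self hm] at h2
  have hq : 2 ≤ Fintype.card F := Fintype.one_lt_card
  have hpos : 0 < qfac (Fintype.card F) m * qfac (Fintype.card F) (finrank F V - m) :=
    Nat.mul_pos (qfac_pos hq _) (qfac_pos hq _)
  apply Nat.eq_of_mul_eq_mul_right hpos
  rw [h1, ← h2]
  ring

/-- flags `U ≤ W` fibred over `W` -/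
noncomputable def flagEquiv (m l : ℕ) :
    {P : Submodule F V × Submodule F V // P.1 ≤ P.2 ∧ finrank F P.1 = m ∧ finrank F P.2 = l} ≃
      Σ W : {W : Submodule F V // finrank F W = l}, {U : Submodule F W.1 // finrank F U = m} where
  toFun P := ⟨⟨P.1.2, P.2.2.2⟩, ⟨Submodule.comap P.1.2.subtype P.1.1, by
    rw [(Submodule.comapSubtypeEquivOfLe P.2.1).finrank_eq]; exact P.2.2.1⟩⟩
  invFun Q := ⟨(Submodule.map Q.1.1.subtype Q.2.1, Q.1.1), Submodule.map_subtype_le _ _, by
    rw [← (Submodule.equivSubtypeMap Q.1.1 Q.2.1).finrank_eq]; exact Q.2.2, Q.1.2⟩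
  left_inv P := by
    obtain ⟨⟨U, W⟩, hle, hU, hW⟩ := P
    apply Subtype.ext
    simp only
    rw [Submodule.map_comap_subtype, inf_of_le_right hle]
  right_inv Q := by
    obtain ⟨⟨W, hW⟩, ⟨U, hU⟩⟩ := Q
    simp only
    congr 1
    apply Subtype.ext
    simp only
    exact Submodule.comap_map_eq_of_injective (Submodule.injective_subtype W) U

omit [Fintype F] in
theorem card_flags (m l : ℕ) :
    Nat.card {P : Submodule F V × Submodule F V //
        P.1 ≤ P.2 ∧ finrank F P.1 = m ∧ finrank F P.2 = l} =
      ∑ᶠ W : {W : Submodule F V // finrank F W = l},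
        Nat.card {U : Submodule F W.1 // finrank F U = m} := by
  classical
  have : Fintype {W : Submodule F V // finrank F W = l} := Fintype.ofFinite _
  rw [Nat.card_congr (flagEquiv (F := F) (V := V) m l), Nat.card_sigma, finsum_eq_sum_of_fintype]

theorem not_dvd_card_flags {p : ℕ} [hp : Fact p.Prime] [CharP F p] (m l : ℕ) (hml : m ≤ l)
    (hl : l ≤ finrank F V) :
    ¬ p ∣ Nat.card {P : Submodule F V × Submodule F V //
        P.1 ≤ P.2 ∧ finrank F P.1 = m ∧ finrank F P.2 = l} := by
  classical
  have : Fintype {W : Submodule F V // finrank F W = l} := Fintype.ofFinite _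
  intro hdvd
  have h0 := (ZMod.natCast_eq_zero_iff _ _).mpr hdvd
  rw [card_flags, finsum_eq_sum_of_fintype, Nat.cast_sum] at h0
  have h1 : ∀ W : {W : Submodule F V // finrank F W = l},
      ((Nat.card {U : Submodule F W.1 // finrank F U = m} : ℕ) : ZMod p) = 1 := by
    intro W
    exact card_subspaces_cast_eq_one (F := F) (V := W.1) (p := p) m (by rw [W.2]; exact hml)
  rw [Finset.sum_congr rfl (fun W _ => h1 W), Finset.sum_const, Finset.card_univ,
    ← Nat.card_eq_fintype_card, nsmul_eq_mul, mul_one,
    card_subspaces_cast_eq_one (F := F) (V := V) (p := p) l hl] at h0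
  exact one_ne_zero h0

theorem exists_dvd_of_dvd_card_flags {r : ℕ} (hr : r.Prime) (m : ℕ)
    (h2m : 2 * m ≤ finrank F V)
    (h : r ∣ Nat.card {P : Submodule F V × Submodule F V //
        P.1 ≤ P.2 ∧ finrank F P.1 = m ∧ finrank F P.2 = finrank F V - m}) :
    ∃ j < 2 * m, r ∣ Fintype.card F ^ (finrank F V - j) - 1 := by
  classical
  have : Fintype {W : Submodule F V // finrank F W = finrank F V - m} := Fintype.ofFinite _
  have hmn : m ≤ finrank F V := by omega
  rw [card_flags, finsum_eq_sum_of_fintype] at h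
  have hq : 2 ≤ Fintype.card F := Fintype.one_lt_card
  have hApos : 0 < ∏ i ∈ Finset.range m, (Fintype.card F ^ (m - i) - 1) := by
    rw [prod_range_sub_eq_qfac]; exact qfac_pos hq m
  have hconst : ∀ W W' : {W : Submodule F V // finrank F W = finrank F V - m},
      Nat.card {U : Submodule F W.1 // finrank F U = m} =
        Nat.card {U : Submodule F W'.1 // finrank F U = m} := by
    intro W W'
    have h1 := card_subspaces_mul_red (F := F) (V := W.1) m (by rw [W.2]; omega)
    have h2 := card_subspaces_mul_red (F := F) (V := W'.1) m (by rw [W'.2]; omega)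
    rw [W.2] at h1
    rw [W'.2, ← h1] at h2
    exact (Nat.eq_of_mul_eq_mul_right hApos h2).symm
  rcases isEmpty_or_nonempty {W : Submodule F V // finrank F W = finrank F V - m} with he | ⟨⟨W₀⟩⟩
  · have h0 : Nat.card {W : Submodule F V // finrank F W = finrank F V - m} = 0 := by
      rw [Nat.card_eq_zero]; exact Or.inl he
    rw [← card_subspaces_symm m hmn] at h0
    obtain ⟨j, hj, hdvd⟩ := exists_dvd_of_dvd_card_subspaces (F := F) (V := V) hr m hmn
      (by rw [h0]; exact dvd_zero r)
    exact ⟨j, by omega, hdvd⟩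
  · rw [Finset.sum_congr rfl (fun W _ => hconst W W₀), Finset.sum_const, Finset.card_univ,
      ← Nat.card_eq_fintype_card, smul_eq_mul] at h
    rcases (Nat.Prime.dvd_mul hr).mp h with h1 | h1
    · rw [← card_subspaces_symm m hmn] at h1
      obtain ⟨j, hj, hdvd⟩ := exists_dvd_of_dvd_card_subspaces (F := F) (V := V) hr m hmn h1
      exact ⟨j, by omega, hdvd⟩
    · obtain ⟨j, hj, hdvd⟩ := exists_dvd_of_dvd_card_subspaces (F := F) (V := W₀.1) hr m
        (by rw [W₀.2]; omega) h1
      rw [W₀.2] at hdvd
      refine ⟨m + j, by omega, ?_⟩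
      have : finrank F V - (m + j) = finrank F V - m - j := by omega
      rw [this]
      exact hdvd

end count

end Cfsg.Agent.Lib.Helper2.BG
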