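import Cfsg.Agent.Lib.Helper2.BGFix
import Cfsg.Agent.Lib.Helper2.BGCount

/-! # Elements of `SL_n(q)` with `x^r` scalar: invariant subspaces (helper2, S5949/S5951) -/

set_option autoImplicit false

namespace Cfsg.Agent.Lib.Helper2.BG

open Polynomial Module

section main
variable {F : Type*} [Field F]

lemma orderOf_pos_of_ne [Fintype F] {p : ℕ} [hp : Fact p.Prime] [CharP F p] {r : ℕ}
    [hr : Fact r.Prime] (hrp : r ≠ p) : 0 < orderOf ((Fintype.card F : ℕ) : ZMod r) := by
  apply orderOf_pos_iff.mpr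
  rw [isOfFinOrder_iff_pow_eq_one]
  refine ⟨r - 1, by have := hr.out.two_le; omega, ?_⟩
  apply ZMod.pow_card_sub_one_eq_one
  intro h0
  rw [ZMod.natCast_eq_zero_iff] at h0
  obtain ⟨k, _, hk⟩ := FiniteField.card F p
  rw [hk] at h0
  have := hr.out.dvd_of_dvd_pow h0
  exact hrp ((Nat.prime_dvd_prime_iff_eq hr.out hp.out).mp this)

variable {V : Type*} [AddCommGroup V] [Module F V] [FiniteDimensional F V]

/-- subspaces of every dimension -/
lemma exists_finrank_eq' (m : ℕ) (hm : m ≤ Module.finrank F V) :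
    ∃ W : Submodule F V, Module.finrank F W = m := by
  let b := Module.finBasis F V
  let v : Fin m → V := fun i => b (Fin.castLE hm i)
  have hli : LinearIndependent F v := b.linearIndependent.comp _ (Fin.castLE_injective hm)
  refine ⟨Submodule.span F (Set.range v), ?_⟩
  rw [finrank_span_eq_card hli]
  simp

/-- Case A: `f^r = μ^r`. -/
theorem exists_inv_of_pow_eq_pow [Fintype F] {p : ℕ} [hp : Fact p.Prime] [CharP F p] {r : ℕ}
    [hr : Fact r.Prime] (hrp : r ≠ p) (f : Module.End F V) (μ : F) (hμ : μ ≠ 0)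
    (hf : f ^ r = algebraMap F _ (μ ^ r)) (m : ℕ) (hm : m ≤ Module.finrank F V)
    (hmod : m % orderOf ((Fintype.card F : ℕ) : ZMod r) ≤
      Module.finrank F V % orderOf ((Fintype.card F : ℕ) : ZMod r)) :
    ∃ W : Submodule F V, Module.finrank F W = m ∧ Inv f W := by
  have hy : (μ⁻¹ • f) ^ r = 1 := by
    rw [_root_.smul_pow, hf, Algebra.algebraMap_eq_smul_one, smul_smul, inv_pow,
      inv_mul_cancel₀ (pow_ne_zero r hμ), one_smul]
  obtain ⟨W, hWm, hW⟩ := exists_inv_of_pow_eq_one (p := p) hrp (μ⁻¹ • f) hy m hm hmod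
  refine ⟨W, hWm, ?_⟩
  intro v hv
  have h1 := hW v hv
  rw [LinearMap.smul_apply] at h1
  have h2 := W.smul_mem μ h1
  rwa [smul_smul, mul_inv_cancel₀ hμ, one_smul] at h2

/-- Case B: `f^r = c` not an `r`-th power. -/
theorem exists_inv_of_pow_eq_not_pow {r : ℕ} [hr : Fact r.Prime] (hrF : (r : F) ≠ 0) (c : F)
    (hc : ∀ b : F, b ^ r ≠ c) (f : Module.End F V) (hf : f ^ r = algebraMap F _ c) (m : ℕ)
    (hm : m ≤ Module.finrank F V) (hrm : r ∣ m) :
    ∃ W : Submodule F V, Module.finrank F W = m ∧ Inv f W := by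
  have hc0 : c ≠ 0 := by
    rintro rfl
    exact hc 0 (zero_pow hr.out.ne_zero)
  have hgirr : Irreducible (X ^ r - C c : F[X]) := X_pow_sub_C_irreducible_of_prime hr.out hc
  have hpoly : aeval f (X ^ r - C c : F[X]) = 0 := by
    rw [map_sub, map_pow, aeval_X, aeval_C, hf, sub_self]
  have hss : f.IsSemisimple :=
    Module.End.isSemisimple_of_squarefree_aeval_eq_zero (squarefree_X_pow_sub_C hrF hc0) hpoly
  obtain ⟨s, rfl⟩ := hrm
  have hd := allIrrDeg_of_irreducible hgirr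
  rw [Polynomial.natDegree_X_pow_sub_C] at hd
  obtain ⟨W, hW, _, _, hWd⟩ := exists_inv_extension hss hgirr.ne_zero hd (inv_top f)
    (fun v _ => by rw [hpoly]; rfl) (inv_bot f) bot_le s
    (by rw [finrank_bot, finrank_top, zero_add, mul_comm]; exact hm)
  exact ⟨W, by rw [hWd, finrank_bot, zero_add, mul_comm], hW⟩

/-- Case A for flags: `f^r = μ^r`. -/
theorem exists_flag_of_pow_eq_pow [Fintype F] {p : ℕ} [hp : Fact p.Prime] [CharP F p] {r : ℕ}
    [hr : Fact r.Prime] (hrp : r ≠ p) (f : Module.End F V) (μ : F) (hμ : μ ≠ 0)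
    (hf : f ^ r = algebraMap F _ (μ ^ r)) (m : ℕ) (h2m : 2 * m ≤ Module.finrank F V)
    (hmod : 2 * (m % orderOf ((Fintype.card F : ℕ) : ZMod r)) ≤
      Module.finrank F V % orderOf ((Fintype.card F : ℕ) : ZMod r)) :
    ∃ U W : Submodule F V, U ≤ W ∧ Module.finrank F U = m ∧
      Module.finrank F W = Module.finrank F V - m ∧ Inv f U ∧ Inv f W := by
  have hy : (μ⁻¹ • f) ^ r = 1 := by
    rw [_root_.smul_pow, hf, Algebra.algebraMap_eq_smul_one, smul_smul, inv_pow,
      inv_mul_cancel₀ (pow_ne_zero r hμ), one_smul]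
  obtain ⟨U, W, hUW, hUm, hWm, hU, hW⟩ :=
    exists_flag_of_pow_eq_one (p := p) hrp (μ⁻¹ • f) hy m h2m hmod
  have key : ∀ Y : Submodule F V, Inv (μ⁻¹ • f) Y → Inv f Y := by
    intro Y hY v hv
    have h1 := hY v hv
    rw [LinearMap.smul_apply] at h1
    have h2 := Y.smul_mem μ h1
    rwa [smul_smul, mul_inv_cancel₀ hμ, one_smul] at h2
  exact ⟨U, W, hUW, hUm, hWm, key U hU, key W hW⟩

/-- Case B for flags: `f^r = c` not an `r`-th power. -/
theorem exists_flag_of_pow_eq_not_pow {r : ℕ} [hr : Fact r.Prime] (hrF : (r : F) ≠ 0) (c : F)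
    (hc : ∀ b : F, b ^ r ≠ c) (f : Module.End F V) (hf : f ^ r = algebraMap F _ c) (m : ℕ)
    (h2m : 2 * m ≤ Module.finrank F V) (hrm : r ∣ m) :
    ∃ U W : Submodule F V, U ≤ W ∧ Module.finrank F U = m ∧
      Module.finrank F W = Module.finrank F V - m ∧ Inv f U ∧ Inv f W := by
  have hc0 : c ≠ 0 := by
    rintro rfl
    exact hc 0 (zero_pow hr.out.ne_zero)
  have hgirr : Irreducible (X ^ r - C c : F[X]) := X_pow_sub_C_irreducible_of_prime hr.out hc
  have hpoly : aeval f (X ^ r - C c : F[X]) = 0 := by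
    rw [map_sub, map_pow, aeval_X, aeval_C, hf, sub_self]
  have hss : f.IsSemisimple :=
    Module.End.isSemisimple_of_squarefree_aeval_eq_zero (squarefree_X_pow_sub_C hrF hc0) hpoly
  obtain ⟨s, rfl⟩ := hrm
  have hd := allIrrDeg_of_irreducible hgirr
  rw [Polynomial.natDegree_X_pow_sub_C] at hd
  obtain ⟨d, hd1, _⟩ := det_of_pow_eq c hc f hf
  have hkill : ∀ v ∈ (⊤ : Submodule F V), aeval f (X ^ r - C c : F[X]) v = 0 :=
    fun v _ => by rw [hpoly]; rfl
  obtain ⟨U, hU, _, _, hUd⟩ := exists_inv_extension hss hgirr.ne_zero hd (inv_top f)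
    hkill (inv_bot f) bot_le s
    (by rw [finrank_bot, finrank_top, zero_add, mul_comm]; omega)
  rw [finrank_bot, zero_add] at hUd
  have hsd : 2 * s ≤ d := by
    rw [hd1] at h2m
    have : r * (2 * s) ≤ r * d := by
      calc r * (2 * s) = 2 * (r * s) := by ring
        _ ≤ r * d := h2m
    exact Nat.le_of_mul_le_mul_left this hr.out.pos
  obtain ⟨W, hW, hUW, _, hWd⟩ := exists_inv_extension hss hgirr.ne_zero hd (inv_top f)
    hkill hU le_top (d - 2 * s) (by
      rw [hUd, finrank_top, hd1, Nat.sub_mul]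
      have h1 : 2 * s * r ≤ d * r := Nat.mul_le_mul_right _ hsd
      have h2 : r * d = d * r := mul_comm _ _
      have h3 : 2 * s * r = 2 * (s * r) := by ring
      omega)
  refine ⟨U, W, hUW, by rw [hUd, mul_comm], ?_, hU, hW⟩
  rw [hWd, hUd, hd1, Nat.sub_mul]
  have h1 : 2 * s * r ≤ d * r := Nat.mul_le_mul_right _ hsd
  have h2 : r * d = d * r := mul_comm _ _
  have h3 : 2 * s * r = 2 * (s * r) := by ring
  have h4 : r * s = s * r := mul_comm _ _
  omega

end main

section SL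
variable {F : Type*} [Field F] {n : ℕ}

lemma toLin'_pow_eq {r : ℕ} (x : Matrix.SpecialLinearGroup (Fin n) F) (c : F)
    (hx : ((x ^ r : Matrix.SpecialLinearGroup (Fin n) F) : Matrix (Fin n) (Fin n) F) =
      c • (1 : Matrix (Fin n) (Fin n) F)) :
    (Matrix.toLin' (x : Matrix (Fin n) (Fin n) F)) ^ r = algebraMap F _ c := by
  rw [Matrix.SpecialLinearGroup.coe_pow] at hx
  have h1 : Matrix.toLinAlgEquiv' ((x : Matrix (Fin n) (Fin n) F) ^ r) =
      Matrix.toLinAlgEquiv' (c • (1 : Matrix (Fin n) (Fin n) F)) := by rw [hx]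
  rw [map_pow, map_smul, map_one] at h1
  rw [Algebra.algebraMap_eq_smul_one]
  exact h1

lemma scalar_ne_zero {r : ℕ} (hn : 0 < n) (x : Matrix.SpecialLinearGroup (Fin n) F) (c : F)
    (hx : ((x ^ r : Matrix.SpecialLinearGroup (Fin n) F) : Matrix (Fin n) (Fin n) F) =
      c • (1 : Matrix (Fin n) (Fin n) F)) : c ≠ 0 := by
  rintro rfl
  have h1 := (x ^ r).2
  have : Nonempty (Fin n) := ⟨⟨0, hn⟩⟩
  rw [hx, zero_smul, Matrix.det_zero] at h1
  exact zero_ne_one h1

variable [Fintype F]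

/-- Case B is impossible when the `r`-part of `n` is small. -/
theorem caseB_false {r : ℕ} [hr : Fact r.Prime] (hn : 0 < n)
    (x : Matrix.SpecialLinearGroup (Fin n) F) (c : F)
    (hx : ((x ^ r : Matrix.SpecialLinearGroup (Fin n) F) : Matrix (Fin n) (Fin n) F) =
      c • (1 : Matrix (Fin n) (Fin n) F))
    (hc : ∀ b : F, b ^ r ≠ c)
    (hv : padicValNat r n ≤ padicValNat r (Fintype.card F - 1))
    (h2 : r = 2 → Even n → Fintype.card F % 4 = 1) : False := by
  have hc0 := scalar_ne_zero hn x c hx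
  obtain ⟨d, hd1, hd2⟩ := det_of_pow_eq c hc _ (toLin'_pow_eq x c hx)
  rw [Module.finrank_fin_fun] at hd1
  rw [LinearMap.det_toLin', x.2] at hd2
  have hd0 : d ≠ 0 := by
    rintro rfl
    omega
  have hvd : padicValNat r d < padicValNat r (Fintype.card F - 1) := by
    have : padicValNat r n = padicValNat r d + 1 := by
      rw [hd1, padicValNat.mul hr.out.ne_zero hd0, padicValNat_self, add_comm]
    omega
  rcases hr.out.eq_two_or_odd' with h2' | hodd
  · -- r = 2
    have hq4 := h2 h2' ⟨d, by rw [hd1, h2']; ring⟩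
    have hsq : IsSquare (-1 : F) := by
      rw [FiniteField.isSquare_neg_one_iff]
      omega
    obtain ⟨b, hb⟩ := hsq
    have h3 : (-c) ^ d = 1 := by
      have : ((-1 : F) ^ (r + 1) * c) = -c := by
        rw [h2']; ring
      rw [← this]
      exact hd2.symm
    obtain ⟨e, he⟩ := exists_pow_eq_of_pow_eq_one hr.out (neg_ne_zero.mpr hc0) hd0 h3 hvd
    apply hc (b * e)
    rw [mul_pow, he, h2', pow_two, ← hb]
    ring
  · have h3 : c ^ d = 1 := by
      have : ((-1 : F) ^ (r + 1) * c) = c := by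
        rw [Even.neg_one_pow (Odd.add_one hodd), one_mul]
      rw [this] at hd2
      exact hd2.symm
    obtain ⟨e, he⟩ := exists_pow_eq_of_pow_eq_one hr.out hc0 hd0 h3 hvd
    exact hc e he

/-- the scalar for the Case B derangement -/
theorem exists_caseB_scalar {r : ℕ} [hr : Fact r.Prime] (hrq : r ∣ Fintype.card F - 1)
    (hn : 0 < n)
    (h : ¬ (padicValNat r n ≤ padicValNat r (Fintype.card F - 1) ∧
      (r = 2 → Even n → Fintype.card F % 4 = 1))) :
    ∃ (c : F) (k : ℕ), n = k * r ∧ (∀ b : F, b ^ r ≠ c) ∧ ((-1) ^ (r + 1) * c) ^ k = 1 := by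
  have hq1 := Fintype.one_lt_card (α := F)
  -- the case `c = -1`
  have hneg : r = 2 → Even n → Fintype.card F % 4 = 3 →
      ∃ (c : F) (k : ℕ), n = k * r ∧ (∀ b : F, b ^ r ≠ c) ∧ ((-1) ^ (r + 1) * c) ^ k = 1 := by
    intro h2 hev hq3
    obtain ⟨k, hk⟩ := hev
    refine ⟨-1, k, by rw [hk, h2]; ring, ?_, ?_⟩
    · intro b hb
      have hns : ¬ IsSquare (-1 : F) := by
        rw [FiniteField.isSquare_neg_one_iff]
        omega
      apply hns
      exact ⟨b, by rw [← hb, h2, pow_two]⟩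
    · rw [h2]
      have : ((-1 : F) ^ (2 + 1) * -1) = 1 := by ring
      rw [this, one_pow]
  by_cases hv : padicValNat r n ≤ padicValNat r (Fintype.card F - 1)
  · -- then r = 2, n even, q % 4 ≠ 1
    have h' : ¬ (r = 2 → Even n → Fintype.card F % 4 = 1) := fun hh => h ⟨hv, hh⟩
    push Not at h'
    obtain ⟨h2, hev, hq4⟩ := h'
    have hodd : (Fintype.card F - 1) % 2 = 0 := by
      rw [h2] at hrq
      exact Nat.mod_eq_zero_of_dvd hrq
    exact hneg h2 hev (by omega)
  · push Not at hv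
    set e := padicValNat r (Fintype.card F - 1) with he
    have hrn : r ∣ n := dvd_of_one_le_padicValNat (by omega)
    obtain ⟨k, hk⟩ := hrn
    have hk0 : k ≠ 0 := by
      rintro rfl
      omega
    have hvk : e ≤ padicValNat r k := by
      have : padicValNat r n = padicValNat r k + 1 := by
        rw [hk, padicValNat.mul hr.out.ne_zero hk0, padicValNat_self, add_comm]
      omega
    obtain ⟨w, hw⟩ := (padicValNat_dvd_iff_le hk0).mpr hvk
    obtain ⟨c', hc'0, hc'1, hc'2⟩ := exists_not_pow (F := F) hr.out hrq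
    have hc'k : c' ^ k = 1 := by
      rw [hw, pow_mul, he, hc'1, one_pow]
    rcases hr.out.eq_two_or_odd' with h2 | hodd
    · have hqodd : (Fintype.card F - 1) % 2 = 0 := by
        rw [h2] at hrq
        exact Nat.mod_eq_zero_of_dvd hrq
      by_cases hq3 : Fintype.card F % 4 = 3
      · exact hneg h2 ⟨k, by rw [hk, h2]; ring⟩ hq3
      · have hsq : IsSquare (-1 : F) := by
          rw [FiniteField.isSquare_neg_one_iff]
          exact hq3
        obtain ⟨b, hb⟩ := hsq
        refine ⟨-c', k, by rw [hk, mul_comm], ?_, ?_⟩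
        · intro d hd
          apply hc'2 (b * d)
          rw [mul_pow, hd, h2, pow_two, ← hb]
          ring
        · have : ((-1 : F) ^ (r + 1) * -c') = c' := by
            rw [h2]; ring
          rw [this, hc'k]
    · refine ⟨c', k, by rw [hk, mul_comm], hc'2, ?_⟩
      rw [Even.neg_one_pow (Odd.add_one hodd), one_mul, hc'k]

/-- Case B derangement in `SL_n`. -/
theorem exists_derangement_B' {p : ℕ} [hp : Fact p.Prime] [CharP F p] {r : ℕ}
    [hr : Fact r.Prime] (hrp : r ≠ p) (hrq : r ∣ Fintype.card F - 1) (hn : 0 < n)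
    (h : ¬ (padicValNat r n ≤ padicValNat r (Fintype.card F - 1) ∧
      (r = 2 → Even n → Fintype.card F % 4 = 1))) :
    ∃ x : Matrix.SpecialLinearGroup (Fin n) F,
      (∃ c : F, ((x ^ r : Matrix.SpecialLinearGroup (Fin n) F) : Matrix (Fin n) (Fin n) F) =
        c • (1 : Matrix (Fin n) (Fin n) F)) ∧
      ∀ W : Submodule F (Fin n → F),
        W.map (Matrix.toLin' (x : Matrix (Fin n) (Fin n) F)) ≤ W → r ∣ Module.finrank F W := by
  obtain ⟨c, k, hk, hc, hdet⟩ := exists_caseB_scalar hrq hn h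
  obtain ⟨x, hx1, hx2⟩ := exists_derangement_B (natCast_ne_zero_of_ne (p := p) hrp) c hc k n hk hdet
  exact ⟨x, ⟨c, hx1⟩, hx2⟩

/-- a non-`r`-th power forces `r ∣ q - 1` -/
theorem dvd_card_sub_one_of_not_pow {r : ℕ} [hr : Fact r.Prime] (c : F) (hc0 : c ≠ 0)
    (hc : ∀ b : F, b ^ r ≠ c) : r ∣ Fintype.card F - 1 := by
  by_contra hnd
  have hcop : Nat.Coprime r (Fintype.card F - 1) := (Nat.Prime.coprime_iff_not_dvd hr.out).mpr hnd
  obtain ⟨b, hb⟩ := exists_pow_eq_of_coprime hcop c hc0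
  exact hc b hb

/-- the (⇐) direction for `m`-spaces -/
theorem exists_inv_SL {p : ℕ} [hp : Fact p.Prime] [CharP F p] {r : ℕ} [hr : Fact r.Prime]
    (hrp : r ≠ p) (hn : 0 < n) (x : Matrix.SpecialLinearGroup (Fin n) F) (c : F)
    (hx : ((x ^ r : Matrix.SpecialLinearGroup (Fin n) F) : Matrix (Fin n) (Fin n) F) =
      c • (1 : Matrix (Fin n) (Fin n) F)) (m : ℕ) (hm : m ≤ n)
    (hcond : (orderOf ((Fintype.card F : ℕ) : ZMod r) = 1 ∧
        (r ∣ m ∨ (padicValNat r n ≤ padicValNat r (Fintype.card F - 1) ∧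
          (r = 2 → Even n → Fintype.card F % 4 = 1)))) ∨
      (2 ≤ orderOf ((Fintype.card F : ℕ) : ZMod r) ∧
        m % orderOf ((Fintype.card F : ℕ) : ZMod r) ≤ n % orderOf ((Fintype.card F : ℕ) : ZMod r))) :
    ∃ W : Submodule F (Fin n → F), Module.finrank F W = m ∧
      W.map (Matrix.toLin' (x : Matrix (Fin n) (Fin n) F)) ≤ W := by
  have hc0 := scalar_ne_zero hn x c hx
  have hf := toLin'_pow_eq x c hx
  have hfr : Module.finrank F (Fin n → F) = n := Module.finrank_fin_fun F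
  by_cases hpow : ∃ μ : F, μ ^ r = c
  · obtain ⟨μ, rfl⟩ := hpow
    have hμ : μ ≠ 0 := by
      rintro rfl
      exact hc0 (zero_pow hr.out.ne_zero)
    have hmod : m % orderOf ((Fintype.card F : ℕ) : ZMod r) ≤
        Module.finrank F (Fin n → F) % orderOf ((Fintype.card F : ℕ) : ZMod r) := by
      rw [hfr]
      rcases hcond with ⟨h1, _⟩ | ⟨_, h2⟩
      · rw [h1, Nat.mod_one]; exact Nat.zero_le _
      · exact h2
    obtain ⟨W, hWm, hW⟩ := exists_inv_of_pow_eq_pow (p := p) hrp _ μ hμ hf m (by rw [hfr]; exact hm)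
      hmod
    exact ⟨W, hWm, (inv_iff_map_le _ W).mp hW⟩
  · push Not at hpow
    have hrq := dvd_card_sub_one_of_not_pow c hc0 hpow
    have hi1 := (orderOf_eq_one_iff_dvd (r := r) (Fintype.card F) Fintype.card_pos).mpr hrq
    rcases hcond with ⟨_, h1⟩ | ⟨h2, _⟩
    · rcases h1 with hrm | ⟨hv, h2⟩
      · obtain ⟨W, hWm, hW⟩ := exists_inv_of_pow_eq_not_pow (natCast_ne_zero_of_ne (p := p) hrp) c
          hpow _ hf m (by rw [hfr]; exact hm) hrm
        exact ⟨W, hWm, (inv_iff_map_le _ W).mp hW⟩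
      · exact (caseB_false hn x c hx hpow hv h2).elim
    · omega

/-- the (⇐) direction for flags -/
theorem exists_flag_SL {p : ℕ} [hp : Fact p.Prime] [CharP F p] {r : ℕ} [hr : Fact r.Prime]
    (hrp : r ≠ p) (hn : 0 < n) (x : Matrix.SpecialLinearGroup (Fin n) F) (c : F)
    (hx : ((x ^ r : Matrix.SpecialLinearGroup (Fin n) F) : Matrix (Fin n) (Fin n) F) =
      c • (1 : Matrix (Fin n) (Fin n) F)) (m : ℕ) (h2m : 2 * m ≤ n)
    (hcond : (orderOf ((Fintype.card F : ℕ) : ZMod r) = 1 ∧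
        (r ∣ m ∨ (padicValNat r n ≤ padicValNat r (Fintype.card F - 1) ∧
          (r = 2 → Even n → Fintype.card F % 4 = 1)))) ∨
      (2 ≤ orderOf ((Fintype.card F : ℕ) : ZMod r) ∧
        2 * (m % orderOf ((Fintype.card F : ℕ) : ZMod r)) ≤
          n % orderOf ((Fintype.card F : ℕ) : ZMod r))) :
    ∃ U W : Submodule F (Fin n → F), U ≤ W ∧ Module.finrank F U = m ∧
      Module.finrank F W = n - m ∧
      U.map (Matrix.toLin' (x : Matrix (Fin n) (Fin n) F)) ≤ U ∧
      W.map (Matrix.toLin' (x : Matrix (Fin n) (Fin n) F)) ≤ W := by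
  have hc0 := scalar_ne_zero hn x c hx
  have hf := toLin'_pow_eq x c hx
  have hfr : Module.finrank F (Fin n → F) = n := Module.finrank_fin_fun F
  by_cases hpow : ∃ μ : F, μ ^ r = c
  · obtain ⟨μ, rfl⟩ := hpow
    have hμ : μ ≠ 0 := by
      rintro rfl
      exact hc0 (zero_pow hr.out.ne_zero)
    have hmod : 2 * (m % orderOf ((Fintype.card F : ℕ) : ZMod r)) ≤
        Module.finrank F (Fin n → F) % orderOf ((Fintype.card F : ℕ) : ZMod r) := by
      rw [hfr]
      rcases hcond with ⟨h1, _⟩ | ⟨_, h2⟩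
      · rw [h1, Nat.mod_one]; exact Nat.zero_le _
      · exact h2
    obtain ⟨U, W, hUW, hUm, hWm, hU, hW⟩ := exists_flag_of_pow_eq_pow (p := p) hrp _ μ hμ hf m
      (by rw [hfr]; exact h2m) hmod
    rw [hfr] at hWm
    exact ⟨U, W, hUW, hUm, hWm, (inv_iff_map_le _ U).mp hU, (inv_iff_map_le _ W).mp hW⟩
  · push Not at hpow
    have hrq := dvd_card_sub_one_of_not_pow c hc0 hpow
    have hi1 := (orderOf_eq_one_iff_dvd (r := r) (Fintype.card F) Fintype.card_pos).mpr hrq
    rcases hcond with ⟨_, h1⟩ | ⟨h2, _⟩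
    · rcases h1 with hrm | ⟨hv, h2⟩
      · obtain ⟨U, W, hUW, hUm, hWm, hU, hW⟩ := exists_flag_of_pow_eq_not_pow
          (natCast_ne_zero_of_ne (p := p) hrp) c hpow _ hf m (by rw [hfr]; exact h2m) hrm
        rw [hfr] at hWm
        exact ⟨U, W, hUW, hUm, hWm, (inv_iff_map_le _ U).mp hU, (inv_iff_map_le _ W).mp hW⟩
      · exact (caseB_false hn x c hx hpow hv h2).elim
    · omega

end SL

end Cfsg.Agent.Lib.Helper2.BG
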