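import Mathlib
import Cfsg.Prelude.Def_ClassicalGeometry
import Cfsg.Agent.Lib.Helper2.BGLin
import Cfsg.Agent.Lib.Helper2.BGPoly
import Cfsg.Agent.Lib.Helper99.SympForm
import Cfsg.Agent.Lib.Helper48.TiDefs

/-! # S5955 hive (helper48): leaf TI-FIX (`fix_split`) and the core of TI-NOFIX (`nofix_dims`,
with `ti_bound` as a hypothesis). -/

set_option autoImplicit false

namespace Cfsg.Agent.Lib.Helper48.Ti

open Polynomial Module
open Cfsg.Agent.Lib.Helper2.BG Cfsg.Agent.Lib.Helper99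

variable {F V : Type*} [Field F] [AddCommGroup V] [Module F V] [FiniteDimensional F V]
variable {B : V →ₗ[F] V →ₗ[F] F}

omit [FiniteDimensional F V] in
theorem fix_aeval_X_sub_one (f : Module.End F V) : aeval f (X - 1 : F[X]) = f - 1 := by
  simp

omit [FiniteDimensional F V] in
/-- an alternating form is skew-symmetric -/
theorem fix_skew (hB : ∀ v, B v v = 0) (u v : V) : B u v = - B v u := by
  have h := hB (u + v)
  simp only [map_add, LinearMap.add_apply, hB u, hB v, zero_add, add_zero] at h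
  exact eq_neg_of_add_eq_zero_left (by rw [add_comm]; exact h)

omit [FiniteDimensional F V] in
/-- the fixed space of an isometry is orthogonal to `ker P(f)` when `X - 1` and `P` are coprime -/
theorem fix_orth {f : Module.End F V} (hf : Isom B f) {P : F[X]}
    (hcop : IsCoprime (X - 1 : F[X]) P) {u v : V} (hu : u ∈ LinearMap.ker (f - 1))
    (hv : v ∈ LinearMap.ker (aeval f P)) : B u v = 0 := by
  obtain ⟨a, b, hab⟩ := hcop
  have hfu : f u = u := by
    have := LinearMap.mem_ker.mp hu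
    rw [LinearMap.sub_apply, Module.End.one_apply, sub_eq_zero] at this
    exact this
  have hPv : aeval f P v = 0 := LinearMap.mem_ker.mp hv
  -- `v = (f - 1) w` with `w = a(f) v`
  have hv1 : v = f (aeval f a v) - aeval f a v := by
    have h1 : aeval f (a * (X - 1) + b * P) v = v := by rw [hab]; simp
    have h2 : aeval f (a * (X - 1) + b * P) v = f (aeval f a v) - aeval f a v := by
      have hcomm : a * (X - 1) = (X - 1) * a := mul_comm _ _
      rw [map_add, LinearMap.add_apply, map_mul (aeval f) b P, Module.End.mul_apply, hPv, map_zero,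
        add_zero, hcomm, map_mul, Module.End.mul_apply, fix_aeval_X_sub_one, LinearMap.sub_apply,
        Module.End.one_apply]
    exact h1.symm.trans h2
  rw [hv1, map_sub]
  have h3 : B u (f (aeval f a v)) = B u (aeval f a v) := by
    conv_lhs => rw [← hfu]
    exact hf u _
  rw [h3, sub_self]

/-- TI-FIX -/
theorem fix_split (hB : ∀ v, B v v = 0) {f : Module.End F V} (hf : Isom B f) {P : F[X]}
    (hcop : IsCoprime (X - 1 : F[X]) P) (hkill : aeval f ((X - 1) * P) = 0)
    {Z : Submodule F V} (hZ : Nd B Z) (hZf : Inv f Z) :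
    Nd B (Z ⊓ LinearMap.ker (f - 1)) ∧ Nd B (Z ⊓ LinearMap.ker (aeval f P)) ∧
      finrank F ↥(Z ⊓ LinearMap.ker (f - 1)) + finrank F ↥(Z ⊓ LinearMap.ker (aeval f P))
        = finrank F Z := by
  have hWP : ∀ v ∈ Z, aeval f ((X - 1) * P) v = 0 := by
    intro v _; rw [hkill, LinearMap.zero_apply]
  obtain ⟨hsplit, _, hfr⟩ := finrank_inv_split hcop hZf hWP
  rw [fix_aeval_X_sub_one] at hsplit hfr
  refine ⟨?_, ?_, hfr.symm⟩
  · intro u hu hu0
    apply hZ u hu.1
    intro z hz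
    rw [hsplit] at hz
    obtain ⟨z₁, hz₁, z₂, hz₂, rfl⟩ := Submodule.mem_sup.mp hz
    rw [map_add, hu0 z₁ hz₁, fix_orth hf hcop hu.2 hz₂.2, add_zero]
  · intro u hu hu0
    apply hZ u hu.1
    intro z hz
    rw [hsplit] at hz
    obtain ⟨z₁, hz₁, z₂, hz₂, rfl⟩ := Submodule.mem_sup.mp hz
    rw [map_add, hu0 z₂ hz₂, fix_skew hB u z₁, fix_orth hf hcop hz₁.2 hu.2, neg_zero, add_zero]

/-- core of TI-NOFIX, with `ti_bound` (TI-BASE (3)) as a hypothesis -/
theorem fix_nofix_core
    (hTB : ∀ {Z U : Submodule F V}, Nd B Z → U ≤ Z → TI B U → 2 * finrank F U ≤ finrank F Z)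
    (hB : ∀ v, B v v = 0) {f : Module.End F V} (hf : Isom B f)
    (hss : f.IsSemisimple) {P : F[X]} (hP0 : P ≠ 0) {i : ℕ} (hdeg : AllIrrDeg P i)
    (hcop : IsCoprime (X - 1 : F[X]) P) (hkill : aeval f ((X - 1) * P) = 0)
    (hV : Nd B ⊤) {U : Submodule F V} (hUf : Inv f U) (hU : TI B U) :
    ∃ a j : ℕ, finrank F U = a + j * i ∧ 2 * a ≤ finrank F (LinearMap.ker (f - 1)) := by
  have hWP : ∀ v ∈ U, aeval f ((X - 1) * P) v = 0 := by
    intro v _; rw [hkill, LinearMap.zero_apply]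
  obtain ⟨_, _, hfr⟩ := finrank_inv_split hcop hUf hWP
  rw [fix_aeval_X_sub_one] at hfr
  have hk2 : ∀ v ∈ U ⊓ LinearMap.ker (aeval f P), aeval f P v = 0 := fun v hv =>
    LinearMap.mem_ker.mp hv.2
  obtain ⟨j, hj⟩ := dvd_finrank_of_inv hss hP0 hdeg _ _ rfl (hUf.inf (inv_ker_aeval f P)) hk2
  obtain ⟨hNdC, _, _⟩ := fix_split hB hf hcop hkill hV (inv_top f)
  rw [top_inf_eq] at hNdC
  refine ⟨finrank F ↥(U ⊓ LinearMap.ker (f - 1)), j, ?_, ?_⟩
  · rw [hfr, hj, mul_comm]
  · apply hTB hNdC inf_le_right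
    intro u hu v hv
    exact hU u hu.1 v hv.1

end Cfsg.Agent.Lib.Helper48.Ti
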