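import Mathlib
import Cfsg.Prelude.Def_ClassicalGeometry
import Cfsg.Prelude.Def_GeometricClasses
import Cfsg.Agent.Lib.Helper81.OnDefs
import Cfsg.Agent.Lib.Helper8.SpBlkDec
import Cfsg.Agent.Lib.Helper37.SpinorNorm
import Cfsg.Agent.Lib.Helper79.TsTransfer

/-! # S5989 hive "On" (helper81): leaf ON-SPLIT (`fix_split`), by helper2.

Splitting off the fixed space of a semisimple isometry of prime order `r ≠ p` of a symmetric
space. -/

set_option autoImplicit false

namespace Cfsg.Agent.Lib.Helper81.On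

open Polynomial Module
open Cfsg.Agent.Lib.Helper2.BG Cfsg.Agent.Lib.Helper99 Cfsg.Agent.Lib.Helper48.Ti
open Cfsg.Agent.Lib.Helper8.SpBlk (blk)

section abstract

variable {F V : Type*} [Field F] [AddCommGroup V] [Module F V] [FiniteDimensional F V]
variable {B : V →ₗ[F] V →ₗ[F] F}

section semisimple

variable [Fintype F] {p : ℕ} [Fact p.Prime] [CharP F p] {r : ℕ} [Fact r.Prime]

omit [FiniteDimensional F V] [Fintype F] in
/-- `r` is invertible in `F` -/
theorem split_natCast_ne_zero (hrp : r ≠ p) : (r : F) ≠ 0 := by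
  intro h
  rw [CharP.cast_eq_zero_iff F p r] at h
  exact hrp ((Nat.prime_dvd_prime_iff_eq (Fact.out : p.Prime) (Fact.out : r.Prime)).mp h).symm

/-- ON-SPLIT: splitting off the fixed space of a semisimple isometry of prime order `r ≠ p` -/
theorem fix_split (hB : ∀ u v, B u v = B v u) (hrp : r ≠ p) {f : Module.End F V} (hf : Isom B f)
    (hfr : f ^ r = 1) {Z : Submodule F V} (hZ : Nd B Z) (hZf : Inv f Z) :
    ∃ M : Submodule F V, M ≤ Z ∧ Inv f M ∧ Nd B M ∧ M ⊓ LinearMap.ker (f - 1) = ⊥ ∧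
      Nd B (Z ⊓ LinearMap.ker (f - 1)) ∧
      (∀ u ∈ Z ⊓ LinearMap.ker (f - 1), ∀ v ∈ M, B u v = 0) ∧
      Disjoint (Z ⊓ LinearMap.ker (f - 1)) M ∧ (Z ⊓ LinearMap.ker (f - 1)) ⊔ M = Z := by
  have hrF : (r : F) ≠ 0 := split_natCast_ne_zero (p := p) hrp
  have hcop : IsCoprime (X - 1 : F[X]) (cyclotomic r F) :=
    isCoprime_X_sub_one_cyclotomic (F := F) (r := r) hrF
  have hkill : aeval f ((X - 1 : F[X]) * cyclotomic r F) = 0 :=
    Cfsg.Agent.Lib.Helper79.TsSwap.aeval_kill_of_pow hfr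
  obtain ⟨h1, h2, _⟩ := Cfsg.Agent.Lib.Helper79.TsSwap.fix_split_symm hB hf hcop hkill hZ hZf
  have hWP : ∀ v ∈ Z, aeval f ((X - 1 : F[X]) * cyclotomic r F) v = 0 := by
    intro v _; rw [hkill, LinearMap.zero_apply]
  obtain ⟨hsplit, hdisj, _⟩ := finrank_inv_split hcop hZf hWP
  rw [fix_aeval_X_sub_one] at hsplit hdisj
  refine ⟨Z ⊓ LinearMap.ker (aeval f (cyclotomic r F)), inf_le_left,
    hZf.inf (inv_ker_aeval f _), h2, ?_, h1, ?_, ?_, hsplit.symm⟩
  · rw [eq_bot_iff]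
    intro v hv
    have := (Submodule.disjoint_def.1 hdisj) v hv.2 hv.1.2
    rw [this]
    exact Submodule.zero_mem _
  · intro u hu v hv
    exact fix_orth hf hcop hu.2 hv.2
  · exact hdisj.mono inf_le_right inf_le_right

end semisimple

end abstract

end Cfsg.Agent.Lib.Helper81.On
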