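import Mathlib
import Cfsg.Prelude.Def_ClassicalGeometry
import Cfsg.Prelude.Def_GeometricClasses
import Cfsg.Agent.Lib.Helper81.OnDefs
import Cfsg.Agent.Lib.Helper8.SpBlkDec
import Cfsg.Agent.Lib.Helper37.SpinorNorm
import Cfsg.Agent.Lib.Helper79.TsTransfer
import Cfsg.Agent.Lib.Helper2.OnSPLIT

/-! # S5989 hive "On" (helper81): leaf ON-BLOCKS (`exists_blocks_sym`), by helper2.

A nondegenerate invariant subspace without fixed vectors of an isometry of odd prime order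
`r ≠ p` of a symmetric space is a sum of blocks of dimension `blk F r`; symmetric clone of
`Cfsg.Agent.Lib.Helper8.SpBlk.exists_blocks` through helper79's swapped form. -/

set_option autoImplicit false

namespace Cfsg.Agent.Lib.Helper81.On

open Polynomial Module
open Cfsg.Agent.Lib.Helper2.BG Cfsg.Agent.Lib.Helper99 Cfsg.Agent.Lib.Helper48.Ti
open Cfsg.Agent.Lib.Helper8.SpBlk (blk)

section abstract

variable {F V : Type*} [Field F] [AddCommGroup V] [Module F V] [FiniteDimensional F V]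
variable {B : V →ₗ[F] V →ₗ[F] F}

section semisimple

variable [Fintype F] {p : ℕ} [Fact p.Prime] [CharP F p] {r : ℕ} [Fact r.Prime]

omit [FiniteDimensional F V] [Fintype F] in
/-- an invariant subspace which is nondegenerate for the swapped form is nondegenerate for `B` -/
theorem blocks_nd_of_swap {f : Module.End F V} (hf : Isom B f) (hr : 1 ≤ r) (hfr : f ^ r = 1)
    {W : Submodule F V} (hWf : Inv f W)
    (hW : Cfsg.Agent.Lib.Helper8.SpBlk.NonDeg (Cfsg.Agent.Lib.Helper79.TsSwap.swap B f) W) :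
    Nd B W := by
  intro u hu h
  apply hW u hu
  intro w hw
  rw [Cfsg.Agent.Lib.Helper79.TsSwap.swap_eq hf hr hfr]
  apply h
  rw [LinearMap.sub_apply]
  exact W.sub_mem (hWf w hw) (hWf.pow (r - 1) w hw)

/-- ON-BLOCKS -/
theorem exists_blocks_sym (h2 : (2 : F) ≠ 0) (hB : ∀ u v, B u v = B v u) (hr2 : r ≠ 2)
    (hrp : r ≠ p) {f : Module.End F V} (hf : Isom B f) (hfr : f ^ r = 1) {N : Submodule F V}
    (hNf : Inv f N) (hN : Nd B N) (hfpf : N ⊓ LinearMap.ker (f - 1) = ⊥) :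
    ∃ s : ℕ, finrank F N = s * blk F r ∧ ∀ j ≤ s, ∃ W : Submodule F V, W ≤ N ∧ Inv f W ∧
      Nd B W ∧ finrank F W = j * blk F r := by
  have hr : r.Prime := Fact.out
  have hrF : (r : F) ≠ 0 := split_natCast_ne_zero (p := p) hrp
  have hcop : IsCoprime (X - 1 : F[X]) (cyclotomic r F) :=
    isCoprime_X_sub_one_cyclotomic (F := F) (r := r) hrF
  have hcop2 : IsCoprime (X ^ 2 - 1 : F[X]) (cyclotomic r F) :=
    Cfsg.Agent.Lib.Helper79.TsSwap.isCoprime_X_sq_sub_one_cyclotomic hr2 hrF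
  have hkill : aeval f ((X - 1 : F[X]) * cyclotomic r F) = 0 :=
    Cfsg.Agent.Lib.Helper79.TsSwap.aeval_kill_of_pow hfr
  have hWP : ∀ v ∈ N, aeval f ((X - 1 : F[X]) * cyclotomic r F) v = 0 := by
    intro v _; rw [hkill, LinearMap.zero_apply]
  obtain ⟨hsplit, _, _⟩ := finrank_inv_split hcop hNf hWP
  rw [fix_aeval_X_sub_one, hfpf, bot_sup_eq] at hsplit
  have hNP : ∀ v ∈ N, aeval f (cyclotomic r F) v = 0 := by
    intro v hv
    rw [hsplit] at hv
    exact LinearMap.mem_ker.mp hv.2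
  have hNω : Cfsg.Agent.Lib.Helper8.SpBlk.NonDeg (Cfsg.Agent.Lib.Helper79.TsSwap.swap B f) N :=
    Cfsg.Agent.Lib.Helper79.TsSwap.nd_swap hf hr.one_le hfr hcop2 hNf hNP hN
  have halt : (Cfsg.Agent.Lib.Helper79.TsSwap.swap B f).IsAlt :=
    fun v => Cfsg.Agent.Lib.Helper79.TsSwap.swap_self_of_symm hB f v
  have hiso : ∀ a b, Cfsg.Agent.Lib.Helper79.TsSwap.swap B f (f a) (f b) =
      Cfsg.Agent.Lib.Helper79.TsSwap.swap B f a b :=
    Cfsg.Agent.Lib.Helper79.TsSwap.isom_swap hf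
  obtain ⟨s, hs, hW⟩ := Cfsg.Agent.Lib.Helper8.SpBlk.exists_blocks (p := p) halt hiso hr2 hrp hfr
    (finrank F N) N rfl hNf hNω hfpf
  refine ⟨s, hs, ?_⟩
  intro j hj
  obtain ⟨W, hWN, hWf, hWnd, hWd⟩ := hW j hj
  exact ⟨W, hWN, hWf, blocks_nd_of_swap hf hr.one_le hfr hWf hWnd, hWd⟩

end semisimple

end abstract

end Cfsg.Agent.Lib.Helper81.On
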