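import Cfsg.Agent.Lib.Helper2.Dk2

set_option autoImplicit false

/-! Dickson project, part 4: `p`-elements of subgroups of `SL(2,F)`, `F` finite of odd
characteristic `p`. -/

namespace Cfsg.Agent.Lib.Helper2.Dk

open Matrix Cfsg.Agent.Lib.Helper2.SL2

section general

theorem isPGroup_zpowers_of_pow {G : Type*} [Group G] (p : ℕ) (u : G) (k : ℕ)
    (huk : u ^ (p ^ k) = 1) : IsPGroup p (Subgroup.zpowers u) := by
  rintro ⟨g, hg⟩
  obtain ⟨n, rfl⟩ := Subgroup.mem_zpowers_iff.mp hg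
  refine ⟨k, ?_⟩
  apply Subtype.ext
  show (u ^ n) ^ (p ^ k) = 1
  rw [← zpow_natCast, ← _root_.zpow_mul, mul_comm, _root_.zpow_mul, zpow_natCast, huk, _root_.one_zpow]

theorem conj_mem_smul_sylow {G : Type*} [Group G] [Finite G] (p : ℕ) [Fact p.Prime]
    (S₂ : Sylow p G) (x u : G) (hu : u ∈ S₂) :
    x * u * x⁻¹ ∈ ((x • S₂ : Sylow p G) : Subgroup G) := by
  rw [Sylow.smul_def, Sylow.pointwise_smul_def]
  rw [Subgroup.mem_pointwise_smul_iff_inv_smul_mem]
  simp only [MulAut.smul_def, MulAut.conj_inv_apply]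
  have : x⁻¹ * (x * u * x⁻¹) * x = u := by group
  rw [this]; exact hu

/-- a `p`-element of `L` is `L`-conjugate into a maximal `p`-subgroup of `L` -/
theorem exists_conj_mem_of_pow {G : Type*} [Group G] [Finite G] (p : ℕ) [Fact p.Prime]
    (L P : Subgroup G) (hPL : P ≤ L) (hP : IsPGroup p P)
    (hmax : ∀ Q : Subgroup G, Q ≤ L → IsPGroup p Q → P ≤ Q → Q ≤ P) (u : G) (hu : u ∈ L) (k : ℕ)
    (huk : u ^ (p ^ k) = 1) : ∃ x ∈ L, x * u * x⁻¹ ∈ P := by
  have hP' : IsPGroup p (P.subgroupOf L) := hP.comap_subtype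
  obtain ⟨S, hS⟩ := hP'.exists_le_sylow
  have hSP : (S : Subgroup L) ≤ P.subgroupOf L := by
    have h1 : ((S : Subgroup L).map L.subtype) ≤ P := by
      apply hmax
      · intro g hg
        obtain ⟨y, _, rfl⟩ := hg
        exact y.2
      · exact S.isPGroup'.map _
      · intro g hg
        refine ⟨⟨g, hPL hg⟩, ?_, rfl⟩
        apply hS
        rw [Subgroup.mem_subgroupOf]; exact hg
    intro y hy
    rw [Subgroup.mem_subgroupOf]
    exact h1 ⟨y, hy, rfl⟩
  have hu' : IsPGroup p (Subgroup.zpowers (⟨u, hu⟩ : L)) := by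
    apply isPGroup_zpowers_of_pow p _ k
    apply Subtype.ext
    simpa using huk
  obtain ⟨S₂, hS₂⟩ := hu'.exists_le_sylow
  obtain ⟨x, hx⟩ := MulAction.exists_smul_eq L S₂ S
  refine ⟨x.1, x.2, ?_⟩
  have h3 : x * ⟨u, hu⟩ * x⁻¹ ∈ (S : Subgroup L) := by
    rw [← hx]
    exact conj_mem_smul_sylow p S₂ x _ (hS₂ (Subgroup.mem_zpowers _))
  have := hSP h3
  rw [Subgroup.mem_subgroupOf] at this
  simpa using this

end general

variable {F : Type*} [Field F] (p : ℕ) [Fact p.Prime] [CharP F p]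

theorem tt_pow_char (μ : F) : tt μ ^ p = 1 := by
  rw [tt_pow, CharP.cast_eq_zero, zero_mul, tt_zero]

theorem ss_pow_char (μ : F) : ss μ ^ p = 1 := by
  rw [ss_pow, CharP.cast_eq_zero, zero_mul, ss_zero]

theorem isPGroup_Uni : IsPGroup p (Uni F) := by
  rintro ⟨g, hg⟩
  refine ⟨1, ?_⟩
  apply Subtype.ext
  show g ^ (p ^ 1) = 1
  rw [eq_tt_of_mem_Uni hg, pow_one, tt_pow_char]

/-- a `p`-element lying in `PU` lies in `Uni` (odd `p`) -/
theorem mem_Uni_of_pow (hp : p ≠ 2) {g : Matrix.SpecialLinearGroup (Fin 2) F} (hg : g ∈ PU F)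
    (k : ℕ) (hk : g ^ (p ^ k) = 1) : g ∈ Uni F := by
  have h2 := two_ne_zero_of_char (F := F) p hp
  have htr := trace_eq_two_of_pow p g k hk
  rw [mem_PU] at hg
  rw [mem_Uni]
  have h00 : g 0 0 = 1 := by
    have : (2 : F) * (g 0 0 - 1) = 0 := by rw [← hg.2] at htr; linear_combination htr
    rcases mul_eq_zero.mp this with h | h
    · exact absurd h h2
    · linear_combination h
  exact ⟨hg.1, h00, by rw [← hg.2, h00]⟩

/-- a `p`-subgroup containing a nontrivial upper unitriangular element is upper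
unitriangular -/
theorem le_Uni_of_isPGroup [Finite F] (hp : p ≠ 2)
    (Q : Subgroup (Matrix.SpecialLinearGroup (Fin 2) F)) (hQ : IsPGroup p Q) {μ : F} (hμ : μ ≠ 0)
    (hμQ : tt μ ∈ Q) : Q ≤ Uni F := by
  haveI : Nontrivial Q := by
    refine ⟨⟨⟨tt μ, hμQ⟩, 1, ?_⟩⟩
    intro h
    have := congrArg Subtype.val h
    simp only [Subgroup.coe_one] at this
    exact hμ ((tt_eq_one_iff μ).mp this)
  haveI := IsPGroup.center_nontrivial hQ
  obtain ⟨c, hc⟩ := exists_ne (1 : Subgroup.center Q)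
  have hc1 : (c : Q) ≠ 1 := fun h => hc (Subtype.ext h)
  have hcc : ∀ y : Q, y * (c : Q) = (c : Q) * y := fun y => (Subgroup.mem_center_iff.mp c.2 y)
  -- c commutes with tt μ
  have h1 : ((c : Q) : Matrix.SpecialLinearGroup (Fin 2) F) ∈ PU F := by
    apply mem_PU_of_commute hμ
    have := hcc ⟨tt μ, hμQ⟩
    have := congrArg Subtype.val this
    simpa using this.symm
  obtain ⟨k, hk⟩ := hQ (c : Q)
  have hk' : ((c : Q) : Matrix.SpecialLinearGroup (Fin 2) F) ^ (p ^ k) = 1 := by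
    have := congrArg Subtype.val hk
    simpa using this
  have h2 := mem_Uni_of_pow p hp h1 k hk'
  have h3 := eq_tt_of_mem_Uni h2
  have hν : ((c : Q) : Matrix.SpecialLinearGroup (Fin 2) F) 0 1 ≠ 0 := by
    intro h0
    rw [h0, tt_zero] at h3
    apply hc1
    exact Subtype.ext h3
  intro y hy
  have h4 : y ∈ PU F := by
    apply mem_PU_of_commute hν
    rw [← h3]
    have := hcc ⟨y, hy⟩
    have := congrArg Subtype.val this
    simpa using this
  obtain ⟨k', hk'⟩ := hQ ⟨y, hy⟩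
  have hk'' : y ^ (p ^ k') = 1 := by
    have := congrArg Subtype.val hk'
    simpa using this
  exact mem_Uni_of_pow p hp h4 k' hk''

variable {p}

/-- a `p`-element of `L` is `L`-conjugate into `L ⊓ Uni` provided `L` contains a nontrivial
upper unitriangular element -/
theorem exists_conj_mem_Uni [Finite F] (hp : p ≠ 2)
    (L : Subgroup (Matrix.SpecialLinearGroup (Fin 2) F)) {μ : F} (hμ : μ ≠ 0) (hμL : tt μ ∈ L)
    (u : Matrix.SpecialLinearGroup (Fin 2) F) (hu : u ∈ L) (k : ℕ) (huk : u ^ (p ^ k) = 1) :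
    ∃ x ∈ L, x * u * x⁻¹ ∈ L ⊓ Uni F := by
  apply exists_conj_mem_of_pow p L (L ⊓ Uni F) inf_le_left
    ((isPGroup_Uni p).to_le inf_le_right) _ u hu k huk
  intro Q hQL hQ hle
  apply le_inf hQL
  exact le_Uni_of_isPGroup p hp Q hQ hμ (hle ⟨hμL, tt_mem_Uni μ⟩)

theorem neg_eq_neg_one_mul (g : Matrix.SpecialLinearGroup (Fin 2) F) : -g = (-1) * g := by
  apply ext2 <;> simp [mul00, mul01, mul10, mul11]

theorem neg_mul' (g h : Matrix.SpecialLinearGroup (Fin 2) F) : (-g) * h = -(g * h) := by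
  apply ext2 <;> simp [mul00, mul01, mul10, mul11] <;> ring

theorem mul_neg' (g h : Matrix.SpecialLinearGroup (Fin 2) F) : g * (-h) = -(g * h) := by
  apply ext2 <;> simp [mul00, mul01, mul10, mul11] <;> ring

theorem neg_inv' (g : Matrix.SpecialLinearGroup (Fin 2) F) : (-g)⁻¹ = -(g⁻¹) := by
  apply ext2 <;> simp [inv00, inv01, inv10, inv11]

theorem neg_mem_PU {g : Matrix.SpecialLinearGroup (Fin 2) F} (hg : g ∈ PU F) : -g ∈ PU F := by
  rw [mem_PU] at *
  simp only [neg00, neg10, neg11]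
  exact ⟨by rw [hg.1]; ring, by rw [hg.2]⟩

/-- an element of `L` with trace `±2` is `L`-conjugate into `L ⊓ PU` -/
theorem exists_conj_mem_PU [Finite F] (hp : p ≠ 2)
    (L : Subgroup (Matrix.SpecialLinearGroup (Fin 2) F)) {μ : F} (hμ : μ ≠ 0) (hμL : tt μ ∈ L)
    (g : Matrix.SpecialLinearGroup (Fin 2) F) (hg : g ∈ L) (htr : (g 0 0 + g 1 1) ^ 2 = 4) :
    ∃ x ∈ L, x * g * x⁻¹ ∈ L ⊓ PU F := by
  have h2 := two_ne_zero_of_char (F := F) p hp
  have hcases : g 0 0 + g 1 1 = 2 ∨ g 0 0 + g 1 1 = -2 := by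
    have : (g 0 0 + g 1 1 - 2) * (g 0 0 + g 1 1 + 2) = 0 := by linear_combination htr
    rcases mul_eq_zero.mp this with h | h
    · left; linear_combination h
    · right; linear_combination h
  rcases hcases with h | h
  · have hgp : g ^ (p ^ 1) = 1 := by rw [pow_one]; exact pow_char_eq_one p g h
    obtain ⟨x, hx, hxg⟩ := exists_conj_mem_Uni hp L hμ hμL g hg 1 hgp
    exact ⟨x, hx, hxg.1, Uni_le_PU hxg.2⟩
  · -- `-g` is a `p`-element of `L`
    have hng : (-g) 0 0 + (-g) 1 1 = 2 := by rw [neg00, neg11]; linear_combination -h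
    have hngp : (-g) ^ p = 1 := pow_char_eq_one p (-g) hng
    have hodd : Odd p := (Fact.out : p.Prime).odd_of_ne_two hp
    have hm1 : (-1 : Matrix.SpecialLinearGroup (Fin 2) F) ∈ L := by
      have e : (-g) ^ p = (-1) * g ^ p := by
        have hcm : Commute (-1 : Matrix.SpecialLinearGroup (Fin 2) F) g := (neg_one_mul_comm g).symm
        rw [neg_eq_neg_one_mul, hcm.mul_pow]
        congr 1
        obtain ⟨m, hm⟩ := hodd
        rw [hm, pow_succ, pow_mul]
        have : (-1 : Matrix.SpecialLinearGroup (Fin 2) F) ^ 2 = 1 := by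
          rw [pow_two]; apply ext2 <;> simp [mul00, mul01, mul10, mul11]
        rw [this, one_pow, one_mul]
      rw [e] at hngp
      have : (-1 : Matrix.SpecialLinearGroup (Fin 2) F) = (g ^ p)⁻¹ := eq_inv_of_mul_eq_one_left hngp
      rw [this]
      exact L.inv_mem (L.pow_mem hg p)
    have hngL : -g ∈ L := by rw [neg_eq_neg_one_mul]; exact L.mul_mem hm1 hg
    have hgp : (-g) ^ (p ^ 1) = 1 := by rw [pow_one]; exact hngp
    obtain ⟨x, hx, hxg⟩ := exists_conj_mem_Uni hp L hμ hμL (-g) hngL 1 hgp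
    refine ⟨x, hx, L.mul_mem (L.mul_mem hx hg) (L.inv_mem hx), ?_⟩
    have e : x * g * x⁻¹ = -(x * (-g) * x⁻¹) := by
      rw [mul_neg', neg_mul', neg_neg]
    rw [e]
    exact neg_mem_PU (Uni_le_PU hxg.2)

end Cfsg.Agent.Lib.Helper2.Dk
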