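import Cfsg.Agent.Lib.Helper2.Dk7e

set_option autoImplicit false

/-! Dickson project, part 8: from double transitivity to a subfield (Hua's identity). -/

namespace Cfsg.Agent.Lib.Helper2.Dk

open Matrix Cfsg.Agent.Lib.Helper2.SL2


theorem hua_aux1 {F : Type*} [Field F] {a b n : F} (ha : a ≠ 0) (hb : b ≠ 0) (hn : n ≠ 0)
    (hw : 1 - a * b * n ≠ 0) :
    1 / (n * a) + 1 / (n * (1 / (n * b) - a)) = 1 / (n * a * (1 - a * b * n)) := by
  have e1 : n * (1 / (n * b) - a) = (1 - a * b * n) / b := by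
    field_simp
  rw [e1, one_div_div, div_add_div _ _ (mul_ne_zero hn ha) hw,
    div_eq_div_iff (mul_ne_zero (mul_ne_zero hn ha) hw) (mul_ne_zero (mul_ne_zero hn ha) hw)]
  ring

theorem hua_aux2 {F : Type*} [Field F] {a b n : F} (ha : a ≠ 0) (hn : n ≠ 0)
    (hw : 1 - a * b * n ≠ 0) :
    1 / (n * (1 / (n * a * (1 - a * b * n)))) = a - a ^ 2 * b * n := by
  have h3 : n * a * (1 - a * b * n) ≠ 0 := mul_ne_zero (mul_ne_zero hn ha) hw
  rw [div_eq_iff (mul_ne_zero hn (one_div_ne_zero h3))]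
  rw [mul_one_div, ← mul_div_assoc, eq_div_iff h3]
  ring

variable {F : Type*} [Field F]

/-- the monomial element `[[0, -1/c], [c, 0]]` -/
def ww (c : F) (hc : c ≠ 0) : Matrix.SpecialLinearGroup (Fin 2) F :=
  ⟨!![0, -c⁻¹; c, 0], by simp [Matrix.det_fin_two, hc]⟩

@[simp] theorem ww00 (c : F) (hc : c ≠ 0) : ww c hc 0 0 = 0 := rfl
@[simp] theorem ww01 (c : F) (hc : c ≠ 0) : ww c hc 0 1 = -c⁻¹ := rfl
@[simp] theorem ww10 (c : F) (hc : c ≠ 0) : ww c hc 1 0 = c := rfl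
@[simp] theorem ww11 (c : F) (hc : c ≠ 0) : ww c hc 1 1 = 0 := rfl

theorem ww_conj_tt (c : F) (hc : c ≠ 0) (μ : F) :
    ww c hc * tt μ * (ww c hc)⁻¹ = ss (-(c ^ 2 * μ)) := by
  apply ext2 <;>
    simp only [mul00, mul01, mul10, mul11, inv00, inv01, inv10, inv11, tt00, tt01, tt10, tt11,
      ss00, ss01, ss10, ss11, ww00, ww01, ww10, ww11] <;> field_simp <;> ring

theorem ww_conj_ss (c : F) (hc : c ≠ 0) (ν : F) :
    ww c hc * ss ν * (ww c hc)⁻¹ = tt (-(ν / c ^ 2)) := by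
  apply ext2 <;>
    simp only [mul00, mul01, mul10, mul11, inv00, inv01, inv10, inv11, tt00, tt01, tt10, tt11,
      ss00, ss01, ss10, ss11, ww00, ww01, ww10, ww11] <;> field_simp <;> ring

theorem bruhat (g : Matrix.SpecialLinearGroup (Fin 2) F) (hc : g 1 0 ≠ 0) :
    tt (-(g 0 0 / g 1 0)) * g * tt (-(g 1 1 / g 1 0)) = ww (g 1 0) hc := by
  have hd := det2 g
  apply ext2 <;>
    simp only [mul00, mul01, mul10, mul11, tt00, tt01, tt10, tt11, ww00, ww01, ww10, ww11]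
  · field_simp; ring
  · field_simp; linear_combination -hd
  · ring
  · field_simp; ring

variable {L : Subgroup (Matrix.SpecialLinearGroup (Fin 2) F)}

theorem tt_neg_mem {μ : F} (h : tt μ ∈ L) : tt (-μ) ∈ L := by
  rw [← tt_inv]; exact L.inv_mem h

theorem ss_neg_mem {μ : F} (h : ss μ ∈ L) : ss (-μ) ∈ L := by
  rw [← ss_inv]; exact L.inv_mem h

section hua

variable (hA : ∀ g ∈ L, g 1 0 ≠ 0 → tt (g 0 0 / g 1 0) ∈ L)
include hA

theorem tt_div_mem' {g : Matrix.SpecialLinearGroup (Fin 2) F} (hg : g ∈ L) (hc : g 1 0 ≠ 0) :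
    tt (g 1 1 / g 1 0) ∈ L := by
  have h1 := hA g⁻¹ (L.inv_mem hg) (by rw [inv10]; exact neg_ne_zero.mpr hc)
  rw [inv00, inv10, div_neg] at h1
  have := tt_neg_mem h1
  rwa [neg_neg] at this

theorem ww_mem {g : Matrix.SpecialLinearGroup (Fin 2) F} (hg : g ∈ L) (hc : g 1 0 ≠ 0) :
    ww (g 1 0) hc ∈ L := by
  rw [← bruhat g hc]
  exact L.mul_mem (L.mul_mem (tt_neg_mem (hA g hg hc)) hg) (tt_neg_mem (tt_div_mem' hA hg hc))

theorem tt_inv_of_ss {ν : F} (hν : ν ≠ 0) (h : ss ν ∈ L) : tt (1 / ν) ∈ L := by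
  have := hA (ss ν) h (by simpa using hν)
  simpa using this

theorem ww_of_ss {ν : F} (hν : ν ≠ 0) (h : ss ν ∈ L) : ww ν hν ∈ L := by
  have := ww_mem hA h (by simpa using hν)
  simpa using this

variable {ν₀ : F} (hν₀ : ν₀ ≠ 0) (hs : ss ν₀ ∈ L)
include hν₀ hs

theorem ss_of_tt {μ : F} (h : tt μ ∈ L) : ss (ν₀ ^ 2 * μ) ∈ L := by
  have hw := ww_of_ss hA hν₀ hs
  have := L.mul_mem (L.mul_mem hw h) (L.inv_mem hw)
  rw [ww_conj_tt] at this
  have := ss_neg_mem this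
  rwa [neg_neg] at this

theorem tt_of_ss {ν : F} (h : ss ν ∈ L) : tt (ν / ν₀ ^ 2) ∈ L := by
  have hw := ww_of_ss hA hν₀ hs
  have := L.mul_mem (L.mul_mem hw h) (L.inv_mem hw)
  rw [ww_conj_ss] at this
  have := tt_neg_mem this
  rwa [neg_neg] at this

/-- the twisted inversion `μ ↦ 1 / (ν₀² μ)` preserves `T` -/
theorem iota_mem {μ : F} (hμ : μ ≠ 0) (h : tt μ ∈ L) : tt (1 / (ν₀ ^ 2 * μ)) ∈ L :=
  tt_inv_of_ss hA (mul_ne_zero (pow_ne_zero 2 hν₀) hμ) (ss_of_tt hA hν₀ hs h)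

omit hA hν₀ hs in
theorem tt_add_mem {a b : F} (ha : tt a ∈ L) (hb : tt b ∈ L) : tt (a + b) ∈ L := by
  rw [tt_add]; exact L.mul_mem ha hb

omit hA hν₀ hs in
theorem tt_sub_mem {a b : F} (ha : tt a ∈ L) (hb : tt b ∈ L) : tt (a - b) ∈ L := by
  rw [sub_eq_add_neg, tt_add]; exact L.mul_mem ha (tt_neg_mem hb)

/-- Hua's identity: `T` is closed under `(a, b) ↦ a² b ν₀²` -/
theorem hua_mem {a b : F} (ha : tt a ∈ L) (hb : tt b ∈ L) : tt (a ^ 2 * b * ν₀ ^ 2) ∈ L := by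
  by_cases ha0 : a = 0
  · rw [ha0]; simp only [ne_eq, OfNat.ofNat_ne_zero, not_false_eq_true, zero_pow, zero_mul]
    rw [tt_zero]; exact L.one_mem
  by_cases hb0 : b = 0
  · rw [hb0]; simp only [mul_zero, zero_mul]
    rw [tt_zero]; exact L.one_mem
  have hn2 : ν₀ ^ 2 ≠ 0 := pow_ne_zero 2 hν₀
  by_cases hab : a * b * ν₀ ^ 2 = 1
  · have : a ^ 2 * b * ν₀ ^ 2 = a := by
      calc a ^ 2 * b * ν₀ ^ 2 = a * (a * b * ν₀ ^ 2) := by ring
        _ = a := by rw [hab, mul_one]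
    rw [this]; exact ha
  -- x₁ = ι b - a
  have h1 : tt (1 / (ν₀ ^ 2 * b) - a) ∈ L := tt_sub_mem (iota_mem hA hν₀ hs hb0 hb) ha
  have hx1 : 1 / (ν₀ ^ 2 * b) - a ≠ 0 := by
    intro h
    apply hab
    field_simp at h
    linear_combination -h
  have h2 := iota_mem hA hν₀ hs hx1 h1
  have h3 := tt_add_mem (iota_mem hA hν₀ hs ha0 ha) h2
  have hx1' : 1 - a * b * ν₀ ^ 2 ≠ 0 := fun h => hab (by linear_combination -h)
  have e3 := hua_aux1 ha0 hb0 hn2 hx1'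
  have hx3 : 1 / (ν₀ ^ 2 * a) + 1 / (ν₀ ^ 2 * (1 / (ν₀ ^ 2 * b) - a)) ≠ 0 := by
    rw [e3]
    exact one_div_ne_zero (mul_ne_zero (mul_ne_zero hn2 ha0) hx1')
  have h4 := iota_mem hA hν₀ hs hx3 h3
  have e4 : 1 / (ν₀ ^ 2 * (1 / (ν₀ ^ 2 * a) + 1 / (ν₀ ^ 2 * (1 / (ν₀ ^ 2 * b) - a)))) =
      a - a ^ 2 * b * ν₀ ^ 2 := by
    rw [e3]; exact hua_aux2 ha0 hn2 hx1'
  rw [e4] at h4
  have := tt_sub_mem ha h4
  rwa [sub_sub_cancel] at this

variable (hL1 : tt 1 ∈ L)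
include hL1

theorem beta_mem : tt (1 / ν₀ ^ 2) ∈ L := by
  have := iota_mem hA hν₀ hs one_ne_zero hL1
  rwa [mul_one] at this

theorem sq_mem {a : F} (ha : tt a ∈ L) : tt (a ^ 2) ∈ L := by
  have := hua_mem hA hν₀ hs ha (beta_mem hA hν₀ hs hL1)
  have e : a ^ 2 * (1 / ν₀ ^ 2) * ν₀ ^ 2 = a ^ 2 := by
    field_simp
  rwa [e] at this

omit hA hν₀ hs hL1 in
theorem nsmul_mem {a : F} (ha : tt a ∈ L) (m : ℕ) : tt (m * a) ∈ L := by
  rw [← tt_pow]; exact L.pow_mem ha m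

theorem mul_mem_T {p : ℕ} [Fact p.Prime] [CharP F p] (hp : p ≠ 2) {a b : F} (ha : tt a ∈ L)
    (hb : tt b ∈ L) : tt (a * b) ∈ L := by
  have h1 := sq_mem hA hν₀ hs hL1 (tt_add_mem ha hb)
  have h2 := sq_mem hA hν₀ hs hL1 ha
  have h3 := sq_mem hA hν₀ hs hL1 hb
  have h4 := tt_sub_mem (tt_sub_mem h1 h2) h3
  have e : (a + b) ^ 2 - a ^ 2 - b ^ 2 = 2 * (a * b) := by ring
  rw [e] at h4
  have hodd : Odd p := (Fact.out : p.Prime).odd_of_ne_two hp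
  obtain ⟨m, hm⟩ := hodd
  have h5 := nsmul_mem h4 (m + 1)
  have e2 : ((m + 1 : ℕ) : F) * (2 * (a * b)) = a * b := by
    have hp0 : ((2 * m + 1 : ℕ) : F) = 0 := by rw [← hm]; exact CharP.cast_eq_zero F p
    push_cast at hp0 ⊢
    linear_combination (a * b) * hp0
  rwa [e2] at h5

theorem pow_mem_T {p : ℕ} [Fact p.Prime] [CharP F p] (hp : p ≠ 2) {a : F} (ha : tt a ∈ L)
    (n : ℕ) : tt (a ^ n) ∈ L := by
  induction n with
  | zero => simpa using hL1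
  | succ n ih => rw [pow_succ]; exact mul_mem_T hA hν₀ hs hL1 hp ih ha

theorem inv_mem_T [Finite F] {p : ℕ} [Fact p.Prime] [CharP F p] (hp : p ≠ 2) {a : F}
    (ha : tt a ∈ L) : tt a⁻¹ ∈ L := by
  by_cases ha0 : a = 0
  · rw [ha0, _root_.inv_zero, tt_zero]; exact L.one_mem
  set u : Fˣ := Units.mk0 a ha0 with hu
  have hn := orderOf_pos u
  have h1 : u ^ orderOf u = 1 := pow_orderOf_eq_one u
  have h2 : a ^ orderOf u = 1 := by
    have h1' := congrArg Units.val h1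
    rw [Units.val_pow_eq_pow_val, Units.val_one] at h1'
    exact h1'
  have h3 : a⁻¹ = a ^ (orderOf u - 1) := by
    apply inv_eq_of_mul_eq_one_right
    rw [← pow_succ', Nat.sub_add_cancel hn, h2]
  rw [h3]
  exact pow_mem_T hA hν₀ hs hL1 hp ha _

/-- **Hua**: the parameters of the root elements of `L` form a subfield containing `ν₀` -/
theorem hua_field [Finite F] {p : ℕ} [Fact p.Prime] [CharP F p] (hp : p ≠ 2) :
    ∃ E : Subfield F, ν₀ ∈ E ∧ ∀ μ ∈ E, tt μ ∈ L ∧ ss μ ∈ L := by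
  let E : Subfield F :=
    { carrier := {μ | tt μ ∈ L}
      mul_mem' := fun ha hb => mul_mem_T hA hν₀ hs hL1 hp ha hb
      one_mem' := hL1
      add_mem' := fun ha hb => tt_add_mem ha hb
      zero_mem' := by
        show tt 0 ∈ L
        rw [tt_zero]; exact L.one_mem
      neg_mem' := fun ha => tt_neg_mem ha
      inv_mem' := fun a ha => inv_mem_T hA hν₀ hs hL1 hp ha }
  have hE : ∀ μ, μ ∈ E ↔ tt μ ∈ L := fun μ => Iff.rfl
  have hν₀E : ν₀ ∈ E := by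
    have h1 : ν₀⁻¹ ∈ E := by
      rw [hE]
      have := tt_inv_of_ss hA hν₀ hs
      rwa [one_div] at this
    have := E.inv_mem h1
    rwa [inv_inv] at this
  refine ⟨E, hν₀E, fun μ hμ => ⟨(hE μ).mp hμ, ?_⟩⟩
  have h1 : μ / ν₀ ^ 2 ∈ E := E.div_mem hμ (E.pow_mem hν₀E 2)
  have := ss_of_tt hA hν₀ hs ((hE _).mp h1)
  have e : ν₀ ^ 2 * (μ / ν₀ ^ 2) = μ := by field_simp
  rwa [e] at this

end hua

end Cfsg.Agent.Lib.Helper2.Dk
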