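import Cfsg.Agent.Lib.Helper2.Dk9

set_option autoImplicit false

/-! Dickson project, part 10: `SL(2,F)` is generated by its root elements; the copy of
`SL(2,p)` over the prime field. -/

namespace Cfsg.Agent.Lib.Helper2.Dk

open Matrix Cfsg.Agent.Lib.Helper2.SL2

variable {F : Type*} [Field F]

/-- Bruhat-type factorisation of an element with nonzero lower left entry. -/
theorem eq_tt_ss_tt (g : Matrix.SpecialLinearGroup (Fin 2) F) (hc : g 1 0 ≠ 0) :
    g = tt ((g 0 0 - 1) / g 1 0) * ss (g 1 0) * tt ((g 1 1 - 1) / g 1 0) := by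
  have hd := det2 g
  apply ext2 <;>
    simp only [mul00, mul01, mul10, mul11, tt00, tt01, tt10, tt11, ss00, ss01, ss10, ss11]
  · field_simp; ring
  · field_simp; linear_combination -hd
  · ring
  · field_simp; ring

/-- a subgroup containing all root elements is everything -/
theorem eq_top_of_forall_tt_ss (L : Subgroup (Matrix.SpecialLinearGroup (Fin 2) F))
    (h : ∀ μ : F, tt μ ∈ L ∧ ss μ ∈ L) : L = ⊤ := by
  have key : ∀ g : Matrix.SpecialLinearGroup (Fin 2) F, g 1 0 ≠ 0 → g ∈ L := by
    intro g hc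
    rw [eq_tt_ss_tt g hc]
    exact L.mul_mem (L.mul_mem (h _).1 (h _).2) (h _).1
  rw [eq_top_iff]
  intro g _
  by_cases hc : g 1 0 = 0
  · have hd := det2 g
    have h11 : g 1 1 ≠ 0 := by
      intro h0
      rw [hc, h0] at hd
      simp at hd
    have h1 : g * ss 1 ∈ L := by
      apply key
      rw [mul10, ss00, ss10, hc]
      simpa using h11
    have : g = g * ss 1 * (ss 1)⁻¹ := by group
    rw [this]
    exact L.mul_mem h1 (L.inv_mem (h 1).2)
  · exact key g hc

end Cfsg.Agent.Lib.Helper2.Dk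

namespace Cfsg.Agent.Lib.Helper2.Dk

open Matrix Cfsg.Agent.Lib.Helper2.SL2

section mapSL

variable {R S : Type*} [Field R] [Field S] (f : R →+* S)

theorem mapSL_apply (g : Matrix.SpecialLinearGroup (Fin 2) R) (i j : Fin 2) :
    (Matrix.SpecialLinearGroup.map f g) i j = f (g i j) := rfl

theorem mapSL_tt (μ : R) : Matrix.SpecialLinearGroup.map f (tt μ) = tt (f μ) := by
  apply ext2 <;> simp only [mapSL_apply, tt00, tt01, tt10, tt11, map_one, map_zero]

theorem mapSL_ss (μ : R) : Matrix.SpecialLinearGroup.map f (ss μ) = ss (f μ) := by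
  apply ext2 <;> simp only [mapSL_apply, ss00, ss01, ss10, ss11, map_one, map_zero]

theorem mapSL_injective : Function.Injective (Matrix.SpecialLinearGroup.map (n := Fin 2) f) := by
  intro g h hgh
  have e : ∀ i j, f (g i j) = f (h i j) := fun i j => by
    rw [← mapSL_apply, ← mapSL_apply, hgh]
  apply ext2 <;> exact f.injective (e _ _)

end mapSL

section prime

variable {F : Type*} [Field F] (p : ℕ) [Fact p.Prime]

/-- `SL(2,p)` is generated by the two standard root elements -/
theorem closure_tt_ss_zmod :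
    Subgroup.closure {tt (1 : ZMod p), ss (1 : ZMod p)} = ⊤ := by
  apply eq_top_of_forall_tt_ss
  intro μ
  have hμ : ((μ.val : ℕ) : ZMod p) * 1 = μ := by rw [mul_one, ZMod.natCast_zmod_val]
  constructor
  · rw [← hμ, ← tt_pow]
    exact Subgroup.pow_mem _ (Subgroup.subset_closure (by simp)) _
  · rw [← hμ, ← ss_pow]
    exact Subgroup.pow_mem _ (Subgroup.subset_closure (by simp)) _

variable [CharP F p]

/-- a subgroup of `SL(2,F)` containing, up to an automorphism, the two standard root elements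
contains a copy of `SL(2,p)` -/
theorem exists_copy_of_aut (H : Subgroup (Matrix.SpecialLinearGroup (Fin 2) F))
    (θ : Matrix.SpecialLinearGroup (Fin 2) F ≃* Matrix.SpecialLinearGroup (Fin 2) F)
    (h1 : θ (tt 1) ∈ H) (h2 : θ (ss 1) ∈ H) :
    ∃ K : Subgroup (Matrix.SpecialLinearGroup (Fin 2) F), K ≤ H ∧
      Nonempty (K ≃* Matrix.SpecialLinearGroup (Fin 2) (ZMod p)) := by
  let φ : ZMod p →+* F := ZMod.castHom (dvd_refl p) F
  let f : Matrix.SpecialLinearGroup (Fin 2) (ZMod p) →* Matrix.SpecialLinearGroup (Fin 2) F :=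
    θ.toMonoidHom.comp (Matrix.SpecialLinearGroup.map φ)
  have hf : Function.Injective f := θ.injective.comp (mapSL_injective φ)
  refine ⟨f.range, ?_, ⟨(MonoidHom.ofInjective hf).symm⟩⟩
  rw [MonoidHom.range_eq_map, ← closure_tt_ss_zmod p, MonoidHom.map_closure, Subgroup.closure_le]
  rintro _ ⟨x, hx, rfl⟩
  rcases hx with rfl | rfl
  · show θ (Matrix.SpecialLinearGroup.map φ (tt 1)) ∈ H
    rw [mapSL_tt, map_one]; exact h1
  · show θ (Matrix.SpecialLinearGroup.map φ (ss 1)) ∈ H
    rw [mapSL_ss, map_one]; exact h2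

end prime

end Cfsg.Agent.Lib.Helper2.Dk
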