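import Cfsg.Agent.Lib.Helper2.Dk12

set_option autoImplicit false

/-! Dickson project, part 13: a subgroup of `SL(2,q)` with more than one Sylow `p`-subgroup
contains a copy of `SL(2,p)`. -/

namespace Cfsg.Agent.Lib.Helper2.Dk

open Matrix Cfsg.Agent.Lib.Helper2.SL2

section general

variable {G : Type*} [Group G]

/-- if a subgroup has more than one Sylow `p`-subgroup, then no `p`-subgroup of the ambient
group contains all its `p`-elements -/
theorem exists_pelt_not_mem (p : ℕ) [Fact p.Prime] (H : Subgroup G)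
    (hH : 1 < Nat.card (Sylow p H)) (V : Subgroup G) (hV : IsPGroup p V) :
    ∃ u ∈ H, ∃ k : ℕ, u ^ (p ^ k) = 1 ∧ u ∉ V := by
  by_contra hne
  push Not at hne
  have key : ∀ P : Sylow p H, (P : Subgroup H) = V.subgroupOf H := by
    intro P
    symm
    apply P.is_maximal' hV.comap_subtype
    intro g hg
    show (g : G) ∈ V
    obtain ⟨k, hk⟩ := P.isPGroup' ⟨g, hg⟩
    apply hne g.1 g.2 k
    have := congrArg (fun z : P => ((z : H) : G)) hk
    simpa using this
  haveI : Subsingleton (Sylow p H) := ⟨fun P Q => Sylow.ext ((key P).trans (key Q).symm)⟩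
  have := Nat.card_of_subsingleton (default : Sylow p H)
  omega

end general

variable {F : Type*} [Field F]

/-- conjugation by `diag(1, d)` -/
def twistFun (d : F) (hd : d ≠ 0) (g : Matrix.SpecialLinearGroup (Fin 2) F) :
    Matrix.SpecialLinearGroup (Fin 2) F :=
  ⟨!![g 0 0, g 0 1 * d⁻¹; g 1 0 * d, g 1 1], by
    have := det2 g
    rw [Matrix.det_fin_two_of]
    field_simp
    linear_combination this⟩

@[simp] theorem twistFun00 (d : F) (hd : d ≠ 0) (g : Matrix.SpecialLinearGroup (Fin 2) F) :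
    twistFun d hd g 0 0 = g 0 0 := rfl
@[simp] theorem twistFun01 (d : F) (hd : d ≠ 0) (g : Matrix.SpecialLinearGroup (Fin 2) F) :
    twistFun d hd g 0 1 = g 0 1 * d⁻¹ := rfl
@[simp] theorem twistFun10 (d : F) (hd : d ≠ 0) (g : Matrix.SpecialLinearGroup (Fin 2) F) :
    twistFun d hd g 1 0 = g 1 0 * d := rfl
@[simp] theorem twistFun11 (d : F) (hd : d ≠ 0) (g : Matrix.SpecialLinearGroup (Fin 2) F) :
    twistFun d hd g 1 1 = g 1 1 := rfl

/-- conjugation by `diag(1, d)` as an automorphism -/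
def twist (d : F) (hd : d ≠ 0) :
    Matrix.SpecialLinearGroup (Fin 2) F ≃* Matrix.SpecialLinearGroup (Fin 2) F where
  toFun := twistFun d hd
  invFun := twistFun d⁻¹ (inv_ne_zero hd)
  left_inv g := by
    apply ext2 <;> simp only [twistFun00, twistFun01, twistFun10, twistFun11] <;> field_simp
  right_inv g := by
    apply ext2 <;> simp only [twistFun00, twistFun01, twistFun10, twistFun11] <;> field_simp
  map_mul' g h := by
    apply ext2 <;>
      simp only [twistFun00, twistFun01, twistFun10, twistFun11, mul00, mul01, mul10, mul11] <;>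
      field_simp

theorem twist_tt (d : F) (hd : d ≠ 0) (μ : F) : twist d hd (tt μ) = tt (μ * d⁻¹) := by
  apply ext2 <;> simp [twist]

theorem twist_ss (d : F) (hd : d ≠ 0) (μ : F) : twist d hd (ss μ) = ss (μ * d) := by
  apply ext2 <;> simp [twist]

/-- trace analysis in characteristic `3` -/
theorem nu_cases (h3F : (3 : F) = 0) {ν : F} (hν : ν ≠ 0) (hg1 : TrProp (tt 1 * ss ν))
    (hg2 : TrProp (tt (-1) * ss ν)) : ν = 1 ∨ ν = -1 ∨ ν ^ 2 = -1 := by
  unfold TrProp at hg1 hg2
  simp only [mul00, mul11, tt00, tt01, tt10, tt11, ss00, ss01, ss10, ss11] at hg1 hg2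
  rcases hg1 with h | h | hq1
  · right; left
    have : ν * (ν + 1) = 0 := by linear_combination h - ν * h3F
    rcases mul_eq_zero.mp this with h0 | h0
    · exact absurd h0 hν
    · linear_combination h0
  · left
    linear_combination h - h3F
  · rcases hg2 with h | h | hq2
    · left
      have : ν * (ν - 1) = 0 := by linear_combination h + ν * h3F
      rcases mul_eq_zero.mp this with h0 | h0
      · exact absurd h0 hν
      · linear_combination h0
    · right; left
      linear_combination -h + h3F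
    · right; right
      have : ν * (ν ^ 2 + 1) = 0 := by
        linear_combination hq1 - hq2 - (5 * ν ^ 3 + 13 * ν) * h3F
      rcases mul_eq_zero.mp this with h0 | h0
      · exact absurd h0 hν
      · linear_combination h0

/-- a subgroup containing `tt 1` and some nontrivial `ss ν` contains a conjugate of the pair
`tt 1`, `ss 1` -/
theorem exists_conj_std [Finite F] {p : ℕ} [Fact p.Prime] [CharP F p] (hp : p ≠ 2)
    {L : Subgroup (Matrix.SpecialLinearGroup (Fin 2) F)} (hL1 : tt 1 ∈ L) {ν : F} (hν : ν ≠ 0)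
    (hs : ss ν ∈ L) :
    ∃ y : Matrix.SpecialLinearGroup (Fin 2) F, y⁻¹ * tt 1 * y ∈ L ∧ y⁻¹ * ss 1 * y ∈ L := by
  have hpp : p.Prime := Fact.out
  have triv : ss (1 : F) ∈ L → ∃ y : Matrix.SpecialLinearGroup (Fin 2) F,
      y⁻¹ * tt 1 * y ∈ L ∧ y⁻¹ * ss 1 * y ∈ L := fun h => ⟨1, by simpa using hL1, by simpa using h⟩
  rcases dickson_struct hp hL1 hν hs with ⟨E, _, hall⟩ | ⟨h3, _, htr⟩
  · exact triv (hall 1 E.one_mem).2
  · have hp3 : p = 3 := by
      have hpg : IsPGroup p ↥(L ⊓ Uni F) := (isPGroup_Uni p).to_le inf_le_right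
      rcases hpg.card_eq_or_dvd with h | h
      · rw [h3] at h; omega
      · rw [h3] at h
        exact (Nat.prime_dvd_prime_iff_eq hpp Nat.prime_three).mp h
    subst hp3
    have h3F : (3 : F) = 0 := by exact_mod_cast CharP.cast_eq_zero F 3
    rcases nu_cases h3F hν (htr _ (L.mul_mem hL1 hs)) (htr _ (L.mul_mem (tt_neg_mem hL1) hs))
      with h | h | h
    · rw [h] at hs; exact triv hs
    · rw [h] at hs
      have := ss_neg_mem hs
      rw [neg_neg] at this
      exact triv this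
    · refine ⟨tt ν, ?_, ?_⟩
      · have : (tt ν)⁻¹ * tt 1 * tt ν = tt 1 := by
          rw [tt_inv, ← tt_add, ← tt_add]; congr 1; ring
        rw [this]; exact hL1
      · have : (tt ν)⁻¹ * ss 1 * tt ν = ss ν * tt 1 * (ss ν)⁻¹ := by
          rw [tt_inv, ss_inv]
          apply ext2 <;>
            simp only [mul00, mul01, mul10, mul11, tt00, tt01, tt10, tt11, ss00, ss01, ss10, ss11]
          · ring
          · linear_combination -h
          · linear_combination h
          · ring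
        rw [this]
        exact L.mul_mem (L.mul_mem hs hL1) (L.inv_mem hs)

/-- a `p`-element of trace `2` with nonzero lower left entry is conjugate under `Uni` to a lower
unitriangular element -/
theorem conj_eq_ss {v : Matrix.SpecialLinearGroup (Fin 2) F} (htr : v 0 0 + v 1 1 = 2)
    (hc : v 1 0 ≠ 0) :
    tt ((1 - v 0 0) / v 1 0) * v * (tt ((1 - v 0 0) / v 1 0))⁻¹ = ss (v 1 0) := by
  have hd := det2 v
  rw [tt_inv]
  apply ext2 <;>
    simp only [mul00, mul01, mul10, mul11, tt00, tt01, tt10, tt11, ss00, ss01, ss10, ss11]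
  · field_simp; ring
  · field_simp
    linear_combination htr - hd
  · ring
  · field_simp; linear_combination v 1 0 * htr

/-- **Dickson**: in odd characteristic `p`, a subgroup of `SL(2,F)` (`F` finite) with more than
one Sylow `p`-subgroup contains a copy of `SL(2,p)` -/
theorem dickson_copy [Finite F] (p : ℕ) [Fact p.Prime] [CharP F p] (hp : p ≠ 2)
    (H : Subgroup (Matrix.SpecialLinearGroup (Fin 2) F)) (hH : 1 < Nat.card (Sylow p H)) :
    ∃ K : Subgroup (Matrix.SpecialLinearGroup (Fin 2) F), K ≤ H ∧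
      Nonempty (K ≃* Matrix.SpecialLinearGroup (Fin 2) (ZMod p)) := by
  -- a nontrivial `p`-element
  obtain ⟨u₁, hu₁H, k₁, hu₁k, hu₁⟩ := exists_pelt_not_mem p H hH ⊥ IsPGroup.of_bot
  rw [Subgroup.mem_bot] at hu₁
  obtain ⟨x, -, hx⟩ := exists_conj_mem_Uni hp (⊤ : Subgroup (Matrix.SpecialLinearGroup (Fin 2) F))
    one_ne_zero (Subgroup.mem_top (tt (1 : F))) u₁ (Subgroup.mem_top _) k₁ hu₁k
  have hxU := eq_tt_of_mem_Uni hx.2
  obtain ⟨μ₁, hμ₁⟩ : ∃ μ₁, μ₁ = (x * u₁ * x⁻¹) 0 1 := ⟨_, rfl⟩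
  rw [← hμ₁] at hxU
  have hμ₁0 : μ₁ ≠ 0 := by
    intro h0
    rw [h0, tt_zero] at hxU
    apply hu₁
    have : u₁ = x⁻¹ * (x * u₁ * x⁻¹) * x := by group
    rw [this, hxU]; group
  -- a `p`-element outside the corresponding unipotent group
  have hV : IsPGroup p ↥((Uni F).comap (MulAut.conj x).toMonoidHom) :=
    (isPGroup_Uni p).comap_of_injective _ (MulAut.conj x).injective
  obtain ⟨u₂, hu₂H, k₂, hu₂k, hu₂⟩ := exists_pelt_not_mem p H hH _ hV
  obtain ⟨v, hv⟩ : ∃ v, v = x * u₂ * x⁻¹ := ⟨_, rfl⟩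
  have hvU : v ∉ Uni F := by rw [hv]; exact hu₂
  have hvk : v ^ (p ^ k₂) = 1 := by rw [hv, conj_pow, hu₂k]; group
  have hvtr : v 0 0 + v 1 1 = 2 := trace_eq_two_of_pow p v k₂ hvk
  have hvc : v 1 0 ≠ 0 := by
    intro h0
    apply hvU
    have hB : v ∈ Bor F := h0
    have hdm := diag_mul_of_mem_Bor hB
    have h00 : v 0 0 = 1 := by
      have : (v 0 0 - 1) ^ 2 = 0 := by linear_combination v 0 0 * hvtr - hdm
      have := pow_eq_zero_iff (two_ne_zero) |>.mp this
      linear_combination this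
    rw [mem_Uni]
    exact ⟨h0, h00, by linear_combination hvtr - h00⟩
  obtain ⟨y, hy⟩ : ∃ y, y = (1 - v 0 0) / v 1 0 := ⟨_, rfl⟩
  have hvss : tt y * v * (tt y)⁻¹ = ss (v 1 0) := by rw [hy]; exact conj_eq_ss hvtr hvc
  -- the normalising automorphism
  obtain ⟨θ, hθ⟩ : ∃ θ : Matrix.SpecialLinearGroup (Fin 2) F ≃* Matrix.SpecialLinearGroup (Fin 2) F,
      θ = ((MulAut.conj x).trans (MulAut.conj (tt y))).trans (twist μ₁ hμ₁0) := ⟨_, rfl⟩
  have hθ1 : θ u₁ = tt 1 := by
    rw [hθ]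
    show twist μ₁ hμ₁0 (tt y * (x * u₁ * x⁻¹) * (tt y)⁻¹) = tt 1
    rw [hxU, tt_inv, ← tt_add, ← tt_add, twist_tt]
    congr 1
    field_simp
    ring
  have hθ2 : θ u₂ = ss (v 1 0 * μ₁) := by
    rw [hθ]
    show twist μ₁ hμ₁0 (tt y * (x * u₂ * x⁻¹) * (tt y)⁻¹) = _
    rw [← hv, hvss, twist_ss]
  obtain ⟨L, hL⟩ : ∃ L, L = H.map θ.toMonoidHom := ⟨_, rfl⟩
  have hL1 : tt 1 ∈ L := by rw [hL, ← hθ1]; exact ⟨u₁, hu₁H, rfl⟩
  have hL2 : ss (v 1 0 * μ₁) ∈ L := by rw [hL, ← hθ2]; exact ⟨u₂, hu₂H, rfl⟩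
  obtain ⟨z, hz1, hz2⟩ := exists_conj_std hp hL1 (mul_ne_zero hvc hμ₁0) hL2
  have hback : ∀ g ∈ L, θ.symm g ∈ H := by
    intro g hg
    rw [hL] at hg
    obtain ⟨h, hh, rfl⟩ := hg
    show θ.symm (θ h) ∈ H
    rw [MulEquiv.symm_apply_apply]; exact hh
  apply exists_copy_of_aut p H ((MulAut.conj z).symm.trans θ.symm)
  · show θ.symm ((MulAut.conj z).symm (tt 1)) ∈ H
    rw [MulAut.conj_symm_apply]
    exact hback _ hz1
  · show θ.symm ((MulAut.conj z).symm (ss 1)) ∈ H
    rw [MulAut.conj_symm_apply]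
    exact hback _ hz2

end Cfsg.Agent.Lib.Helper2.Dk
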