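import Cfsg.Agent.Lib.Helper2.BGLin

/-! # Block operators built from `AdjoinRoot g` (helper2, for S5949/S5951) -/

set_option autoImplicit false

namespace Cfsg.Agent.Lib.Helper2.BG

open Polynomial Module

section constr
variable {F : Type*} [Field F]

/-- the model space `K^k × F^a`, `K = F[X]/(g)` -/
abbrev BlockSpace (g : F[X]) (k a : ℕ) : Type _ := (Fin k → AdjoinRoot g) × (Fin a → F)

/-- multiplication by the root on each `K`-coordinate, identity on `F^a` -/
noncomputable def blockOp (g : F[X]) (k a : ℕ) : Module.End F (BlockSpace g k a) :=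
  LinearMap.prodMap
    (LinearMap.pi fun i => (LinearMap.mulLeft F (AdjoinRoot.root g)).comp (LinearMap.proj i))
    LinearMap.id

lemma blockOp_apply (g : F[X]) (k a : ℕ) (u : Fin k → AdjoinRoot g) (w : Fin a → F) :
    blockOp g k a (u, w) = (fun i => AdjoinRoot.root g * u i, w) := rfl

lemma blockOp_pow_apply (g : F[X]) (k a : ℕ) (n : ℕ) (u : Fin k → AdjoinRoot g) (w : Fin a → F) :
    (blockOp g k a ^ n) (u, w) = (fun i => AdjoinRoot.root g ^ n * u i, w) := by
  induction n generalizing u with
  | zero => simp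
  | succ n ih =>
    rw [pow_succ, Module.End.mul_apply, blockOp_apply, ih]
    congr 1
    funext i
    rw [pow_succ, mul_assoc]

lemma aeval_blockOp_apply (g : F[X]) (k a : ℕ) (Q : F[X]) (u : Fin k → AdjoinRoot g)
    (w : Fin a → F) :
    aeval (blockOp g k a) Q (u, w) = (fun i => aeval (AdjoinRoot.root g) Q * u i, Q.eval 1 • w) := by
  induction Q using Polynomial.induction_on' with
  | add p q hp hq =>
    simp only [map_add, LinearMap.add_apply, hp, hq, eval_add, add_smul, Prod.mk_add_mk]
    congr 1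
    funext i
    simp [add_mul]
  | monomial n c =>
    rw [aeval_monomial, Module.End.mul_apply, Module.algebraMap_end_apply, blockOp_pow_apply,
      aeval_monomial, eval_monomial, one_pow, mul_one, Prod.smul_mk]
    congr 1
    funext i
    rw [Pi.smul_apply, Algebra.smul_def, mul_assoc]

lemma aeval_blockOp_eq_zero (g : F[X]) (k a : ℕ) (Q : F[X]) (h1 : g ∣ Q) (h2 : Q.eval 1 = 0) :
    aeval (blockOp g k a) Q = 0 := by
  apply LinearMap.ext
  rintro ⟨u, w⟩
  rw [aeval_blockOp_apply, h2, zero_smul, AdjoinRoot.aeval_eq, AdjoinRoot.mk_eq_zero.mpr h1]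
  simp
  rfl

lemma aeval_blockOp_eq_zero' (g : F[X]) (k : ℕ) (Q : F[X]) (h1 : g ∣ Q) :
    aeval (blockOp g k 0) Q = 0 := by
  apply LinearMap.ext
  rintro ⟨u, w⟩
  rw [aeval_blockOp_apply, AdjoinRoot.aeval_eq, AdjoinRoot.mk_eq_zero.mpr h1]
  have : w = 0 := Subsingleton.elim _ _
  subst this
  simp
  rfl

section irr
variable (g : F[X]) [hg : Fact (Irreducible g)]

lemma finite_adjoinRoot : Module.Finite F (AdjoinRoot g) :=
  (AdjoinRoot.powerBasis hg.out.ne_zero).finite

lemma finrank_adjoinRoot : Module.finrank F (AdjoinRoot g) = g.natDegree := by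
  rw [(AdjoinRoot.powerBasis hg.out.ne_zero).finrank, AdjoinRoot.powerBasis_dim]

lemma finrank_blockSpace (k a : ℕ) :
    Module.finrank F (BlockSpace g k a) = k * g.natDegree + a := by
  have := finite_adjoinRoot g
  rw [Module.finrank_prod, Module.finrank_pi_fintype, Module.finrank_fin_fun]
  simp [finrank_adjoinRoot]

lemma det_blockOp (k a : ℕ) :
    LinearMap.det (blockOp g k a) = (Algebra.norm F (AdjoinRoot.root g)) ^ k := by
  have := finite_adjoinRoot g
  rw [blockOp, LinearMap.det_prodMap, LinearMap.det_pi, LinearMap.det_id, mul_one,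
    Finset.prod_const, Finset.card_univ, Fintype.card_fin, Algebra.norm_apply]
  rfl

lemma root_ne_one (h2 : 2 ≤ g.natDegree) : AdjoinRoot.root g ≠ 1 := by
  intro h
  have h1 : AdjoinRoot.mk g (X - 1) = 0 := by
    rw [map_sub, AdjoinRoot.mk_X, map_one, h, sub_self]
  have h3 := AdjoinRoot.mk_eq_zero.mp h1
  have h4 := Polynomial.natDegree_le_of_dvd h3 (Polynomial.X_sub_C_ne_zero (1 : F))
  rw [show (X - 1 : F[X]) = X - C 1 by simp, Polynomial.natDegree_X_sub_C] at h4
  omega

lemma finrank_ker_blockOp_le (k a : ℕ) (h2 : 2 ≤ g.natDegree) :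
    Module.finrank F (LinearMap.ker (aeval (blockOp g k a) (X - 1 : F[X]))) ≤ a := by
  have := finite_adjoinRoot g
  have hle : LinearMap.ker (aeval (blockOp g k a) (X - 1 : F[X])) ≤
      LinearMap.range (LinearMap.inr F (Fin k → AdjoinRoot g) (Fin a → F)) := by
    rintro ⟨u, w⟩ huw
    rw [LinearMap.mem_ker, aeval_blockOp_apply] at huw
    have hu : u = 0 := by
      funext i
      have := congrFun (congrArg Prod.fst huw) i
      simp only [map_sub, aeval_X, map_one, Prod.fst_zero, Pi.zero_apply] at this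
      rcases mul_eq_zero.mp this with h | h
      · exact absurd (sub_eq_zero.mp h) (root_ne_one g h2)
      · exact h
    subst hu
    exact ⟨w, rfl⟩
  calc _ ≤ Module.finrank F (LinearMap.range (LinearMap.inr F (Fin k → AdjoinRoot g) (Fin a → F))) :=
        Submodule.finrank_mono hle
    _ = a := by
        rw [LinearMap.finrank_range_of_inj LinearMap.inr_injective, Module.finrank_fin_fun]

end irr

section transport
variable {V : Type*} [AddCommGroup V] [Module F V]

/-- the algebra isomorphism `End V ≃ M_n(F)` attached to a coordinate system -/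
noncomputable def endMatEquiv {n : ℕ} (e : V ≃ₗ[F] (Fin n → F)) :
    Module.End F V ≃ₐ[F] Matrix (Fin n) (Fin n) F :=
  (e.conjAlgEquiv F).trans LinearMap.toMatrixAlgEquiv'

lemma toLin'_endMatEquiv {n : ℕ} (e : V ≃ₗ[F] (Fin n → F)) (f : Module.End F V) :
    Matrix.toLin' (endMatEquiv e f) = e.conj f := by
  have h1 : endMatEquiv e f = LinearMap.toMatrixAlgEquiv' (e.conj f) := rfl
  rw [h1]
  exact Matrix.toLinAlgEquiv'_toMatrixAlgEquiv' (e.conj f)

lemma det_endMatEquiv {n : ℕ} (e : V ≃ₗ[F] (Fin n → F)) (f : Module.End F V) :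
    (endMatEquiv e f).det = LinearMap.det f := by
  rw [← LinearMap.det_toLin', toLin'_endMatEquiv, LinearEquiv.conj_apply, LinearMap.comp_assoc,
    LinearMap.det_conj]

lemma inv_comap_of_map_le {n : ℕ} (e : V ≃ₗ[F] (Fin n → F)) (f : Module.End F V)
    (W : Submodule F (Fin n → F)) (h : W.map (Matrix.toLin' (endMatEquiv e f)) ≤ W) :
    Inv f (W.comap e.toLinearMap) ∧
      Module.finrank F ↥(W.comap e.toLinearMap) = Module.finrank F W := by
  constructor
  · intro v hv
    rw [Submodule.mem_comap] at hv ⊢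
    have h1 : Matrix.toLin' (endMatEquiv e f) (e v) ∈ W := h (Submodule.mem_map_of_mem hv)
    rw [toLin'_endMatEquiv, LinearEquiv.conj_apply_apply, LinearEquiv.symm_apply_apply] at h1
    exact h1
  · have : W.comap e.toLinearMap = W.map e.symm.toLinearMap :=
      (Submodule.map_equiv_eq_comap_symm e.symm W).symm
    rw [this]
    exact LinearEquiv.finrank_map_eq e.symm W

lemma map_le_of_inv {n : ℕ} (e : V ≃ₗ[F] (Fin n → F)) (f : Module.End F V)
    (Y : Submodule F V) (h : Inv f Y) :
    (Y.map e.toLinearMap).map (Matrix.toLin' (endMatEquiv e f)) ≤ Y.map e.toLinearMap ∧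
      Module.finrank F ↥(Y.map e.toLinearMap) = Module.finrank F Y := by
  constructor
  · rintro _ ⟨_, ⟨v, hv, rfl⟩, rfl⟩
    rw [toLin'_endMatEquiv, LinearEquiv.conj_apply_apply]
    simp only [LinearEquiv.coe_coe, LinearEquiv.symm_apply_apply]
    exact Submodule.mem_map_of_mem (h v hv)
  · exact LinearEquiv.finrank_map_eq e Y

end transport

end constr

end Cfsg.Agent.Lib.Helper2.BG
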