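import Cfsg.Agent.Lib.Helper2.BGConstr
import Cfsg.Agent.Lib.Helper2.BGPoly

/-! # Semisimple elements of `SL_n(q)` with prescribed invariant subspaces (helper2) -/

set_option autoImplicit false

namespace Cfsg.Agent.Lib.Helper2.BG

open Polynomial Module

lemma natCast_ne_zero_of_ne {F : Type*} [Field F] {p : ℕ} [hp : Fact p.Prime] [CharP F p] {r : ℕ} [hr : Fact r.Prime]
    (hrp : r ≠ p) : (r : F) ≠ 0 := by
  intro h
  have := (CharP.cast_eq_zero_iff F p r).mp h
  exact hrp ((Nat.prime_dvd_prime_iff_eq hp.out hr.out).mp this).symm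

section der
variable {F : Type*} [Field F] [Fintype F]

/-- `q ≡ 1 mod r` iff the order of `q` is one -/
lemma orderOf_eq_one_iff_dvd {r : ℕ} [hr : Fact r.Prime] (q : ℕ) (hq : 0 < q) :
    orderOf ((q : ℕ) : ZMod r) = 1 ↔ r ∣ q - 1 := by
  rw [orderOf_eq_one_iff]
  have : ((q : ℕ) : ZMod r) = 1 ↔ ((q : ℕ) : ZMod r) = ((1 : ℕ) : ZMod r) := by simp
  rw [this, ZMod.natCast_eq_natCast_iff, Nat.ModEq.comm, Nat.modEq_iff_dvd' hq]

/-- `r ∣ q^s - 1` iff the order of `q` divides `s` -/
lemma orderOf_dvd_iff_dvd_pow_sub_one {r : ℕ} [hr : Fact r.Prime] (q : ℕ) (hq : 0 < q) (s : ℕ) :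
    orderOf ((q : ℕ) : ZMod r) ∣ s ↔ r ∣ q ^ s - 1 := by
  rw [orderOf_dvd_iff_pow_eq_one]
  have : ((q : ℕ) : ZMod r) ^ s = 1 ↔ ((q ^ s : ℕ) : ZMod r) = ((1 : ℕ) : ZMod r) := by simp
  rw [this, ZMod.natCast_eq_natCast_iff, Nat.ModEq.comm, Nat.modEq_iff_dvd' (Nat.pow_pos hq)]

omit [Fintype F] in
/-- Case B derangement: `x^r = c` a non-`r`-th power, all invariant dimensions divisible by `r`. -/
theorem exists_derangement_B {r : ℕ} [hr : Fact r.Prime] (hrF : (r : F) ≠ 0) (c : F)
    (hc : ∀ b : F, b ^ r ≠ c) (k n : ℕ) (hn : n = k * r)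
    (hdet : ((-1) ^ (r + 1) * c) ^ k = 1) :
    ∃ x : Matrix.SpecialLinearGroup (Fin n) F,
      ((x ^ r : Matrix.SpecialLinearGroup (Fin n) F) : Matrix (Fin n) (Fin n) F) =
        c • (1 : Matrix (Fin n) (Fin n) F) ∧
      ∀ W : Submodule F (Fin n → F),
        W.map (Matrix.toLin' (x : Matrix (Fin n) (Fin n) F)) ≤ W → r ∣ Module.finrank F W := by
  have hc0 : c ≠ 0 := by
    rintro rfl
    exact hc 0 (zero_pow hr.out.ne_zero)
  set g : F[X] := X ^ r - C c with hg
  have hgirr : Irreducible g := X_pow_sub_C_irreducible_of_prime hr.out hc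
  have : Fact (Irreducible g) := ⟨hgirr⟩
  have hgdeg : g.natDegree = r := Polynomial.natDegree_X_pow_sub_C
  have := finite_adjoinRoot g
  have hfr : Module.finrank F (BlockSpace g k 0) = Module.finrank F (Fin n → F) := by
    rw [finrank_blockSpace, Module.finrank_fin_fun, hgdeg, hn, add_zero]
  let e : BlockSpace g k 0 ≃ₗ[F] (Fin n → F) := LinearEquiv.ofFinrankEq _ _ hfr
  set f' := blockOp g k 0 with hf'
  have hpoly : aeval f' g = 0 := aeval_blockOp_eq_zero' g k g dvd_rfl
  have hpow : f' ^ r = algebraMap F _ c := by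
    have h1 : aeval f' (X ^ r - C c : F[X]) = 0 :=
      aeval_blockOp_eq_zero' g k (X ^ r - C c) (dvd_of_eq hg)
    rw [map_sub, map_pow, aeval_X, aeval_C] at h1
    exact sub_eq_zero.mp h1
  have hdet' : (endMatEquiv e f').det = 1 := by
    rw [det_endMatEquiv, det_blockOp, norm_root_X_pow_sub_C hr.out.pos c, hdet]
  let x : Matrix.SpecialLinearGroup (Fin n) F := ⟨endMatEquiv e f', hdet'⟩
  refine ⟨x, ?_, ?_⟩
  · rw [Matrix.SpecialLinearGroup.coe_pow]
    show (endMatEquiv e f') ^ r = _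
    rw [← map_pow, hpow, AlgEquiv.commutes, Algebra.algebraMap_eq_smul_one]
  · intro W hW
    have hW' := inv_comap_of_map_le e f' W hW
    have hss : f'.IsSemisimple :=
      Module.End.isSemisimple_of_squarefree_aeval_eq_zero (squarefree_X_pow_sub_C hrF hc0) hpoly
    have := dvd_finrank_of_inv hss hgirr.ne_zero (allIrrDeg_of_irreducible hgirr) _
      (W.comap e.toLinearMap) rfl hW'.1 (fun v _ => by rw [hpoly]; rfl)
    rwa [hgdeg, hW'.2] at this

/-- Case A derangement: `x^r = 1`, `k` irreducible blocks of dimension `i` and a fixed space of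
dimension `a`. -/
theorem exists_derangement_A {p : ℕ} [hp : Fact p.Prime] [CharP F p] {r : ℕ} [hr : Fact r.Prime]
    (hrp : r ≠ p) (hi : 2 ≤ orderOf ((Fintype.card F : ℕ) : ZMod r)) (n k a : ℕ)
    (hn : n = k * orderOf ((Fintype.card F : ℕ) : ZMod r) + a) :
    ∃ x : Matrix.SpecialLinearGroup (Fin n) F,
      ((x ^ r : Matrix.SpecialLinearGroup (Fin n) F) : Matrix (Fin n) (Fin n) F) = 1 ∧
      ∃ τ : Submodule F (Fin n → F) → ℕ, (∀ W W', W ≤ W' → τ W ≤ τ W') ∧
      ∀ W : Submodule F (Fin n → F),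
        W.map (Matrix.toLin' (x : Matrix (Fin n) (Fin n) F)) ≤ W →
        τ W ≤ a ∧
        ∃ j : ℕ, Module.finrank F W = τ W + j * orderOf ((Fintype.card F : ℕ) : ZMod r) := by
  set i := orderOf ((Fintype.card F : ℕ) : ZMod r) with hidef
  have hrF : (r : F) ≠ 0 := natCast_ne_zero_of_ne (p := p) hrp
  -- an irreducible factor of the cyclotomic polynomial
  have hcyc0 : cyclotomic r F ≠ 0 := cyclotomic_ne_zero r F
  have hcycnu : ¬ IsUnit (cyclotomic r F) := by
    intro hu
    have h1 := Polynomial.natDegree_eq_zero_of_isUnit hu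
    rw [Polynomial.natDegree_cyclotomic, Nat.totient_prime hr.out] at h1
    have := hr.out.two_le
    omega
  obtain ⟨g, hgirr, hgd⟩ := WfDvdMonoid.exists_irreducible_factor hcycnu hcyc0
  have hgdeg : g.natDegree = i := allIrrDeg_cyclotomic (p := p) hrp g hgirr hgd
  have : Fact (Irreducible g) := ⟨hgirr⟩
  have hcycd : cyclotomic r F ∣ X ^ r - 1 := by
    rw [← Polynomial.cyclotomic_prime_mul_X_sub_one F r]
    exact dvd_mul_right _ _
  have hgX : g ∣ X ^ r - 1 := hgd.trans hcycd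
  have := finite_adjoinRoot g
  have hfr : Module.finrank F (BlockSpace g k a) = Module.finrank F (Fin n → F) := by
    rw [finrank_blockSpace, Module.finrank_fin_fun, hgdeg, hn]
  let e : BlockSpace g k a ≃ₗ[F] (Fin n → F) := LinearEquiv.ofFinrankEq _ _ hfr
  set f' := blockOp g k a with hf'
  have hpolyX : aeval f' (X ^ r - 1 : F[X]) = 0 :=
    aeval_blockOp_eq_zero g k a _ hgX (by simp)
  have hpow : f' ^ r = 1 := by
    have h1 := hpolyX
    rw [map_sub, map_pow, aeval_X, map_one] at h1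
    exact sub_eq_zero.mp h1
  have hcop : Nat.Coprime r (Fintype.card F - 1) := by
    rw [Nat.Prime.coprime_iff_not_dvd hr.out]
    intro hdvd
    have := (orderOf_eq_one_iff_dvd (r := r) (Fintype.card F) Fintype.card_pos).mpr hdvd
    omega
  have hdet' : (endMatEquiv e f').det = 1 := by
    rw [det_endMatEquiv, det_blockOp, norm_root_eq_one hr.out.pos g hgX hcop, one_pow]
  let x : Matrix.SpecialLinearGroup (Fin n) F := ⟨endMatEquiv e f', hdet'⟩
  refine ⟨x, ?_, fun W => Module.finrank F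
    ↥(W.comap e.toLinearMap ⊓ LinearMap.ker (aeval f' (X - 1 : F[X]))), ?_, ?_⟩
  · rw [Matrix.SpecialLinearGroup.coe_pow]
    show (endMatEquiv e f') ^ r = _
    rw [← map_pow, hpow, map_one]
  · intro W W' hWW'
    exact Submodule.finrank_mono (inf_le_inf_right _ (Submodule.comap_mono hWW'))
  · intro W hW
    have hW' := inv_comap_of_map_le e f' W hW
    have hss : f'.IsSemisimple :=
      Module.End.isSemisimple_of_squarefree_aeval_eq_zero (squarefree_X_pow_sub_one hrF) hpolyX
    have hcop' : IsCoprime (X - 1 : F[X]) g :=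
      (isCoprime_X_sub_one_cyclotomic hrF).of_isCoprime_of_dvd_right hgd
    have hkill : aeval f' ((X - 1) * g : F[X]) = 0 :=
      aeval_blockOp_eq_zero g k a _ (dvd_mul_left _ _) (by simp)
    obtain ⟨t, j, h1, h2, _, h4, _⟩ := finrank_inv_form hss hcop'
      (Polynomial.X_sub_C_ne_zero (1 : F) |> fun h => by simpa using h) hgirr.ne_zero
      allIrrDeg_X_sub_one (allIrrDeg_of_irreducible hgirr) hW'.1
      (fun v _ => by rw [hkill]; rfl)
    rw [mul_one] at h2 h4 h1
    refine ⟨?_, j, ?_⟩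
    · have h5 := finrank_ker_blockOp_le g k a (by omega)
      show Module.finrank F
        ↥(W.comap e.toLinearMap ⊓ LinearMap.ker (aeval f' (X - 1 : F[X]))) ≤ a
      rw [← h2]
      exact h4.trans h5
    · show Module.finrank F W = Module.finrank F
        ↥(W.comap e.toLinearMap ⊓ LinearMap.ker (aeval f' (X - 1 : F[X]))) + _
      rw [← h2, ← hW'.2, h1, hgdeg]

end der

end Cfsg.Agent.Lib.Helper2.BG
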