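import Mathlib
import Cfsg.Agent.Lib.Helper8.SpBlkBasic
import Cfsg.Agent.Lib.Helper79.TsSplit

/-! # Core of the "bad involution" leaf of the Hq/Qe hives (S5974, S5988, S5990), by helper2.

Let `B` be a reflexive bilinear form and `N` a self-adjoint endomorphism with `N * N = 0`,
`B v (N v) = 0` for all `v` and totally isotropic kernel (in characteristic two: `x = 1 + N` is an
involutive isometry of type `a`).  Then every `N`-invariant subspace on which `B` is nondegenerate
has dimension divisible by four. -/

set_option autoImplicit false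

namespace Cfsg.Agent.Lib.Helper2.HqBad

open Module
open Cfsg.Agent.Lib.Helper99 Cfsg.Agent.Lib.Helper48.Ti

variable {F V : Type*} [Field F] [AddCommGroup V] [Module F V] [FiniteDimensional F V]
variable {B : V →ₗ[F] V →ₗ[F] F}

/-- the dimension of an invariant nondegenerate subspace is divisible by four -/
theorem four_dvd_finrank (hrefl : ∀ u v, B u v = 0 → B v u = 0) {N : Module.End F V}
    (hNN : N * N = 0) (hBN : ∀ v, B v (N v) = 0) (hadj : ∀ u v, B u (N v) = B (N u) v)
    (hker : ∀ u v, N u = 0 → N v = 0 → B u v = 0) {W : Submodule F V}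
    (hWN : ∀ w ∈ W, N w ∈ W) (hW : Nd B W) : 4 ∣ finrank F W := by
  set g : W →ₗ[F] W := N.restrict hWN with hg
  have hg_apply : ∀ w : W, ((g w : W) : V) = N (w : V) := fun w => rfl
  -- the kernel of `N` on `W`
  set K : Submodule F V := (LinearMap.ker g).map W.subtype with hK
  have hKW : K ≤ W := by
    rintro _ ⟨k, _, rfl⟩
    exact k.2
  have hKN : ∀ k ∈ K, N k = 0 := by
    rintro _ ⟨k, hk, rfl⟩
    have := congrArg (fun z : W => (z : V)) (LinearMap.mem_ker.mp hk)
    simpa [hg_apply] using this
  have hKTI : TI B K := fun u hu v hv => hker u v (hKN u hu) (hKN v hv)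
  have hKfr : finrank F K = finrank F (LinearMap.ker g) := by
    rw [hK]
    exact Submodule.finrank_map_subtype_eq W (LinearMap.ker g)
  have hbound : 2 * finrank F K ≤ finrank F W :=
    Cfsg.Agent.Lib.Helper79.TsSwap.ti_bound_refl hrefl hW hKW hKTI
  -- rank-nullity
  have hrn := LinearMap.finrank_range_add_finrank_ker g
  have hrange : LinearMap.range g ≤ LinearMap.ker g := by
    rintro _ ⟨w, rfl⟩
    rw [LinearMap.mem_ker]
    apply Subtype.ext
    rw [hg_apply, hg_apply]
    have := congrArg (fun h : Module.End F V => h (w : V)) hNN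
    simpa using this
  have hle : finrank F (LinearMap.range g) ≤ finrank F (LinearMap.ker g) :=
    Submodule.finrank_mono hrange
  -- a complement of the kernel
  obtain ⟨C', hC'⟩ := Submodule.exists_isCompl (LinearMap.ker g)
  have hfrC := Submodule.finrank_add_eq_of_isCompl hC'
  set C : Submodule F V := C'.map W.subtype with hC
  have hCfr : finrank F C = finrank F C' := by
    rw [hC]
    exact Submodule.finrank_map_subtype_eq W C'
  have halt : (B.compl₂ N).IsAlt := by
    intro v
    rw [LinearMap.compl₂_apply]
    exact hBN v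
  have hCnd : Cfsg.Agent.Lib.Helper8.SpBlk.NonDeg (B.compl₂ N) C := by
    rintro _ ⟨u, hu, rfl⟩ h
    have hNu : N (u : V) = 0 := by
      apply hW _ (hWN _ u.2)
      intro w hw
      have hw' : (⟨w, hw⟩ : W) ∈ LinearMap.ker g ⊔ C' := by
        rw [hC'.sup_eq_top]; exact Submodule.mem_top
      obtain ⟨k, hk, c, hc, hkc⟩ := Submodule.mem_sup.mp hw'
      have hwkc : w = (k : V) + (c : V) := by
        have := congrArg (fun z : W => (z : V)) hkc
        simpa using this.symm
      have h1 : B (u : V) (N (k : V)) = 0 := by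
        rw [hKN (k : V) ⟨k, hk, rfl⟩, map_zero]
      have h2 : B (u : V) (N (c : V)) = 0 := by
        have := h (c : V) ⟨c, hc, rfl⟩
        rwa [LinearMap.compl₂_apply] at this
      rw [← hadj, hwkc, map_add, map_add, h1, h2, add_zero]
    have hu0 : u = 0 := by
      have hmem : u ∈ LinearMap.ker g ⊓ C' := by
        refine ⟨?_, hu⟩
        show u ∈ LinearMap.ker g
        rw [LinearMap.mem_ker]
        apply Subtype.ext
        rw [hg_apply, hNu]
        rfl
      rw [hC'.inf_eq_bot] at hmem
      exact (Submodule.mem_bot F).mp hmem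
    rw [hu0]
    rfl
  have heven : Even (finrank F C) := Cfsg.Agent.Lib.Helper8.SpBlk.nonDeg_even halt hCnd
  obtain ⟨t, ht⟩ := heven
  exact ⟨t, by omega⟩

end Cfsg.Agent.Lib.Helper2.HqBad
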