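import Mathlib
import Cfsg.Prelude.Def_Classical
import Cfsg.Prelude.Def_GeometricClasses
import Cfsg.Agent.Lib.Helper2.HqBADcore
import Cfsg.Agent.Lib.Helper40.OpBN_CHAR2core

/-! # The "bad involution" of `Ω⁺_{2d}(q)`, `q` even, `d` even (S5974 / S5988 hives), by helper2.

For a fixed point free involution `σ` of `Fin d`, the matrix `1 + N`, `N f_i = e_{σ i}`,
`N e_i = 0`, is an involution of type `a_d` of `Ω⁺_{2d}(q)`: every invariant subspace on which the
polar form is nondegenerate has dimension divisible by four. -/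

set_option autoImplicit false

namespace Cfsg.Agent.Lib.Helper2.HqBad

open Module Matrix
open Cfsg.Agent.Lib.Helper99 Cfsg.Agent.Lib.Helper48.Ti Cfsg.Agent.Lib.Helper8
open Cfsg.Agent.Lib.Helper40.OpBN

variable {F : Type*} [Field F] {d : ℕ}

/-- the matrix of `w ↦ w ∘ σ` -/
def badJ (F : Type*) [Field F] {d : ℕ} (σ : Equiv.Perm (Fin d)) : Matrix (Fin d) (Fin d) F :=
  Matrix.of fun i j => if j = σ i then 1 else 0

theorem badJ_mulVec (σ : Equiv.Perm (Fin d)) (w : Fin d → F) (i : Fin d) :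
    (badJ F σ *ᵥ w) i = w (σ i) := by
  simp [badJ, Matrix.mulVec, dotProduct]

/-- the matrix `1 + N` -/
def badM (F : Type*) [Field F] {d : ℕ} (σ : Equiv.Perm (Fin d)) :
    Matrix (Fin d ⊕ Fin d) (Fin d ⊕ Fin d) F :=
  Matrix.fromBlocks 1 (badJ F σ) 0 1

theorem badM_mulVec_inl (σ : Equiv.Perm (Fin d)) (v : Fin d ⊕ Fin d → F) (i : Fin d) :
    (badM F σ *ᵥ v) (Sum.inl i) = v (Sum.inl i) + v (Sum.inr (σ i)) := by
  rw [badM, Matrix.fromBlocks_mulVec, Sum.elim_inl, Pi.add_apply, Matrix.one_mulVec, badJ_mulVec]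
  rfl

theorem badM_mulVec_inr (σ : Equiv.Perm (Fin d)) (v : Fin d ⊕ Fin d → F) (i : Fin d) :
    (badM F σ *ᵥ v) (Sum.inr i) = v (Sum.inr i) := by
  rw [badM, Matrix.fromBlocks_mulVec, Sum.elim_inr, Pi.add_apply, Matrix.one_mulVec,
    Matrix.zero_mulVec]
  simp

theorem badM_mul_self (h2 : (2 : F) = 0) (σ : Equiv.Perm (Fin d)) :
    badM F σ * badM F σ = 1 := by
  rw [badM, Matrix.fromBlocks_multiply]
  have h : (1 : Matrix (Fin d) (Fin d) F) * badJ F σ + badJ F σ * 1 = 0 := by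
    rw [Matrix.one_mul, Matrix.mul_one, ← two_smul F (badJ F σ), h2, zero_smul]
  rw [h]
  simp [Matrix.fromBlocks_one]

/-- the bad involution as an element of the general linear group -/
def badX (h2 : (2 : F) = 0) (σ : Equiv.Perm (Fin d)) : GL (Fin d ⊕ Fin d) F :=
  ⟨badM F σ, badM F σ, badM_mul_self h2 σ, badM_mul_self h2 σ⟩

theorem badX_coe (h2 : (2 : F) = 0) (σ : Equiv.Perm (Fin d)) :
    ((badX h2 σ : GL (Fin d ⊕ Fin d) F) : Matrix (Fin d ⊕ Fin d) (Fin d ⊕ Fin d) F) = badM F σ :=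
  rfl

/-- in characteristic two, `∑ w (σ i) * w i = 0` for a fixed point free involution `σ` -/
theorem bad_sum_eq_zero (h2 : (2 : F) = 0) {σ : Equiv.Perm (Fin d)} (hσσ : ∀ i, σ (σ i) = i)
    (hσ : ∀ i, σ i ≠ i) (w : Fin d → F) : ∑ i, w (σ i) * w i = 0 := by
  apply Finset.sum_involution (fun i _ => σ i)
  · intro i _
    rw [hσσ i, mul_comm (w i), ← two_mul, h2, zero_mul]
  · intro i _ _
    exact hσ i
  · intro i _
    exact Finset.mem_univ _
  · intro i _
    exact hσσ i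

theorem badX_mem_isometryGroup (h2 : (2 : F) = 0) {σ : Equiv.Perm (Fin d)}
    (hσσ : ∀ i, σ (σ i) = i) (hσ : ∀ i, σ i ≠ i) :
    badX h2 σ ∈ Cfsg.isometryGroup F (Cfsg.quadFormPlus d F) := by
  intro u _
  show Cfsg.quadFormPlus d F (badM F σ *ᵥ u) = Cfsg.quadFormPlus d F u
  unfold Cfsg.quadFormPlus
  simp only [badM_mulVec_inl, badM_mulVec_inr, add_mul, Finset.sum_add_distrib]
  rw [bad_sum_eq_zero h2 hσσ hσ (fun i => u (Sum.inr i)), add_zero]

/-- the bad involution lies in `Ω⁺_{2d}(q)` -/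
theorem badX_mem_omegaGL [Fintype F] (h2 : (2 : F) = 0) (hd : 1 ≤ d)
    (hgood : ¬ (d = 2 ∧ Fintype.card F = 2)) {σ : Equiv.Perm (Fin d)}
    (hσσ : ∀ i, σ (σ i) = i) (hσ : ∀ i, σ i ≠ i) :
    badX h2 σ ∈ Cfsg.Geo.omegaGL (Cfsg.quadFormPlus d F) := by
  set g : OG F d := ⟨badX h2 σ, badX_mem_isometryGroup h2 hσσ hσ⟩ with hg
  have hmt : mt g = badM F σ := rfl
  have hpar : dicksonPar (plusForm d F) (char2E F d g) = 0 := by
    apply char2_par_of_stab h2 hgood g
    intro v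
    rw [char2_mem_W, char2_mem_W, hmt]
    simp only [badM_mulVec_inr]
  have hker : g ∈ (char2D hgood).ker := by
    rw [MonoidHom.mem_ker, char2D_eq_one_iff]
    exact hpar
  have hcomm : g ∈ commutator (OG F d) := char2_ker_le hd h2 hgood hker
  exact ⟨g, hcomm, rfl⟩

/-- the nilpotent part `N = x - 1` -/
noncomputable def badN (F : Type*) [Field F] {d : ℕ} (σ : Equiv.Perm (Fin d)) :
    Module.End F (Fin d ⊕ Fin d → F) :=
  Matrix.toLin' (badM F σ) - 1

theorem badN_inl (σ : Equiv.Perm (Fin d)) (v : Fin d ⊕ Fin d → F) (i : Fin d) :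
    badN F σ v (Sum.inl i) = v (Sum.inr (σ i)) := by
  rw [badN, LinearMap.sub_apply, Matrix.toLin'_apply, Module.End.one_apply, Pi.sub_apply,
    badM_mulVec_inl, add_sub_cancel_left]

theorem badN_inr (σ : Equiv.Perm (Fin d)) (v : Fin d ⊕ Fin d → F) (i : Fin d) :
    badN F σ v (Sum.inr i) = 0 := by
  rw [badN, LinearMap.sub_apply, Matrix.toLin'_apply, Module.End.one_apply, Pi.sub_apply,
    badM_mulVec_inr, sub_self]

/-- every invariant subspace on which the polar form is nondegenerate has dimension divisible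
by four -/
theorem bad_four_dvd (h2 : (2 : F) = 0) {σ : Equiv.Perm (Fin d)} (hσσ : ∀ i, σ (σ i) = i)
    (hσ : ∀ i, σ i ≠ i) (W : Submodule F (Fin d ⊕ Fin d → F))
    (hnd : ∀ u ∈ W, u ≠ 0 → ∃ v ∈ W, QuadraticMap.polar (Cfsg.quadFormPlus d F) u v ≠ 0)
    (hinv : W.map (Matrix.toLin' (badM F σ)) ≤ W) : 4 ∣ finrank F W := by
  set B : (Fin d ⊕ Fin d → F) →ₗ[F] (Fin d ⊕ Fin d → F) →ₗ[F] F :=
    QuadraticMap.polarBilin (plusForm d F) with hB
  have hBapp : ∀ u v, B u v = ∑ i : Fin d,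
      (u (Sum.inl i) * v (Sum.inr i) + v (Sum.inl i) * u (Sum.inr i)) := by
    intro u v
    rw [hB, QuadraticMap.polarBilin_apply_apply, polar_plusForm]
  have hBsymm : ∀ u v, B u v = B v u := by
    intro u v
    rw [hBapp, hBapp]
    apply Finset.sum_congr rfl
    intro i _
    ring
  apply four_dvd_finrank (B := B) (N := badN F σ) (fun u v h => by rw [hBsymm v u]; exact h)
  · -- `N * N = 0`
    apply LinearMap.ext
    intro v
    rw [Module.End.mul_apply, LinearMap.zero_apply]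
    funext a
    rcases a with i | i
    · rw [badN_inl, badN_inr]; rfl
    · rw [badN_inr]; rfl
  · -- `B v (N v) = 0`
    intro v
    rw [hBapp]
    simp only [badN_inl, badN_inr, mul_zero, zero_add]
    exact bad_sum_eq_zero h2 hσσ hσ (fun i => v (Sum.inr i))
  · -- self-adjoint
    intro u v
    rw [hBapp, hBapp]
    simp only [badN_inl, badN_inr, mul_zero, zero_add, add_zero]
    rw [← Equiv.sum_comp σ (fun i => u (Sum.inr (σ i)) * v (Sum.inr i))]
    apply Finset.sum_congr rfl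
    intro i _
    rw [hσσ i, mul_comm]
  · -- the kernel is totally isotropic
    intro u v hu hv
    have hu0 : ∀ i, u (Sum.inr i) = 0 := by
      intro i
      have := congrFun hu (Sum.inl (σ i))
      rwa [badN_inl, hσσ i] at this
    have hv0 : ∀ i, v (Sum.inr i) = 0 := by
      intro i
      have := congrFun hv (Sum.inl (σ i))
      rwa [badN_inl, hσσ i] at this
    rw [hBapp]
    simp only [hu0, hv0, mul_zero, add_zero, Finset.sum_const_zero]
  · -- invariance
    intro w hw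
    rw [badN, LinearMap.sub_apply, Module.End.one_apply]
    exact W.sub_mem (hinv ⟨w, hw, rfl⟩) hw
  · -- nondegeneracy
    intro u hu h
    by_contra hu0
    obtain ⟨v, hv, hne⟩ := hnd u hu hu0
    apply hne
    have := h v hv
    rw [hB, QuadraticMap.polarBilin_apply_apply, ← plusForm_coe] at this
    exact this

/-- a fixed point free involution of `Fin d`, `d` even -/
theorem exists_fpf_involution (hd : Even d) :
    ∃ σ : Equiv.Perm (Fin d), (∀ i, σ (σ i) = i) ∧ ∀ i, σ i ≠ i := by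
  obtain ⟨k, rfl⟩ := hd
  refine ⟨finSumFinEquiv.symm.trans ((Equiv.sumComm (Fin k) (Fin k)).trans finSumFinEquiv),
    ?_, ?_⟩
  · intro i
    simp
  · intro i h
    have h1 : (Equiv.sumComm (Fin k) (Fin k)) (finSumFinEquiv.symm i) = finSumFinEquiv.symm i := by
      apply finSumFinEquiv.injective
      simpa using h
    generalize finSumFinEquiv.symm i = s at h1
    rcases s with a | a <;> simp at h1

theorem badX_nonscalar (h2 : (2 : F) = 0) (hd : 1 ≤ d) (σ : Equiv.Perm (Fin d)) (z : F) :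
    ((badX h2 σ : GL (Fin d ⊕ Fin d) F) : Matrix (Fin d ⊕ Fin d) (Fin d ⊕ Fin d) F) ≠
      z • (1 : Matrix (Fin d ⊕ Fin d) (Fin d ⊕ Fin d) F) := by
  intro h
  have := congrFun (congrFun h (Sum.inl (⟨0, hd⟩ : Fin d))) (Sum.inr (σ ⟨0, hd⟩))
  rw [badX_coe, badM] at this
  simp [badJ] at this

/-- **The bad involution.**  For `q` and `d` even, `Ω⁺_{2d}(q)` contains a non-scalar involution
all of whose invariant subspaces with nondegenerate polar form have dimension divisible by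
four. -/
theorem exists_bad_involution [Fintype F] (h2 : (2 : F) = 0) (hd : Even d) (hd1 : 1 ≤ d)
    (hgood : ¬ (d = 2 ∧ Fintype.card F = 2)) :
    ∃ x : GL (Fin d ⊕ Fin d) F, x ∈ Cfsg.Geo.omegaGL (Cfsg.quadFormPlus d F) ∧ x ^ 2 = 1 ∧
      (∀ z : F, (x : Matrix (Fin d ⊕ Fin d) (Fin d ⊕ Fin d) F) ≠
        z • (1 : Matrix (Fin d ⊕ Fin d) (Fin d ⊕ Fin d) F)) ∧
      ∀ W : Submodule F (Fin d ⊕ Fin d → F),
        (∀ u ∈ W, u ≠ 0 → ∃ v ∈ W, QuadraticMap.polar (Cfsg.quadFormPlus d F) u v ≠ 0) →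
        W.map (Matrix.toLin' (x : Matrix (Fin d ⊕ Fin d) (Fin d ⊕ Fin d) F)) ≤ W →
        4 ∣ finrank F W := by
  obtain ⟨σ, hσσ, hσ⟩ := exists_fpf_involution hd
  refine ⟨badX h2 σ, badX_mem_omegaGL h2 hd1 hgood hσσ hσ, ?_, badX_nonscalar h2 hd1 σ, ?_⟩
  · apply Units.ext
    rw [pow_two, Units.val_mul, Units.val_one]
    exact badM_mul_self h2 σ
  · intro W hnd hinv
    exact bad_four_dvd h2 hσσ hσ W hnd hinv

end Cfsg.Agent.Lib.Helper2.HqBad
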