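import Mathlib
import Cfsg.Agent.Lib.Helper8.SpBlkBasic
import Cfsg.Agent.Lib.Helper79.TsSplit

/-! # Core of the "bad involution" leaf of the Qm hive (S5990), by helper2.

Let `B` be a reflexive bilinear form, `Q : V → F` a function and `N` a self-adjoint endomorphism
with `N * N = 0`, `B v (N v) = 0`, `Q (N v) = 0`, totally isotropic image, such that `ker N / im N`
has dimension at most two (given by a linear map `φ` to `F²` with `ker N ∩ ker φ ≤ im N`).  Then
every `N`-invariant subspace `W` on which `B` is nondegenerate and whose dimension is divisible by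
four contains a subspace of half its dimension on which `Q` vanishes (`W ⊓ range N`). -/

set_option autoImplicit false

namespace Cfsg.Agent.Lib.Helper2.HqBad

open Module
open Cfsg.Agent.Lib.Helper99 Cfsg.Agent.Lib.Helper48.Ti

variable {F V : Type*} [Field F] [AddCommGroup V] [Module F V] [FiniteDimensional F V]
variable {B : V →ₗ[F] V →ₗ[F] F}

/-- an invariant nondegenerate subspace of dimension divisible by four is of plus type -/
theorem plus_of_four_dvd (hrefl : ∀ u v, B u v = 0 → B v u = 0) {Q : V → F}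
    {N : Module.End F V}
    (hNN : N * N = 0) (hBN : ∀ v, B v (N v) = 0) (hadj : ∀ u v, B u (N v) = B (N u) v)
    (hQN : ∀ v, Q (N v) = 0) (hTI : ∀ u v, B (N u) (N v) = 0)
    (φ : V →ₗ[F] (Fin 2 → F)) (hφ : ∀ v, N v = 0 → φ v = 0 → v ∈ LinearMap.range N)
    {W : Submodule F V} (hWN : ∀ w ∈ W, N w ∈ W) (hW : Nd B W) (h4 : 4 ∣ finrank F W) :
    ∃ U : Submodule F V, U ≤ W ∧ (∀ u ∈ U, Q u = 0) ∧ 2 * finrank F U = finrank F W := by
  have hNNv : ∀ v, N (N v) = 0 := by
    intro v
    have := congrArg (fun h : Module.End F V => h v) hNN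
    simpa using this
  set g : W →ₗ[F] W := N.restrict hWN with hg
  have hg_apply : ∀ w : W, ((g w : W) : V) = N (w : V) := fun w => rfl
  -- kernel, image and the totally singular part
  set K : Submodule F V := (LinearMap.ker g).map W.subtype with hK
  set I : Submodule F V := (LinearMap.range g).map W.subtype with hI
  set U : Submodule F V := W ⊓ LinearMap.range N with hU
  have hKN : ∀ k ∈ K, N k = 0 := by
    rintro _ ⟨k, hk, rfl⟩
    have := congrArg (fun z : W => (z : V)) (LinearMap.mem_ker.mp hk)
    simpa [hg_apply] using this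
  have hKW : K ≤ W := by
    rintro _ ⟨k, _, rfl⟩
    exact k.2
  have hIU : I ≤ U := by
    rintro _ ⟨_, ⟨w, rfl⟩, rfl⟩
    exact ⟨(g w).2, ⟨(w : V), rfl⟩⟩
  have hUK : U ≤ K := by
    rintro u ⟨huW, ⟨y, rfl⟩⟩
    refine ⟨⟨N y, huW⟩, ?_, rfl⟩
    show (⟨N y, huW⟩ : W) ∈ LinearMap.ker g
    rw [LinearMap.mem_ker]
    apply Subtype.ext
    rw [hg_apply]
    exact hNNv y
  have hUTI : TI B U := by
    rintro _ ⟨_, ⟨y, rfl⟩⟩ _ ⟨_, ⟨y', rfl⟩⟩
    exact hTI y y'
  have hUQ : ∀ u ∈ U, Q u = 0 := by
    rintro _ ⟨_, ⟨y, rfl⟩⟩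
    exact hQN y
  have hKfr : finrank F K = finrank F (LinearMap.ker g) := by
    rw [hK]
    exact Submodule.finrank_map_subtype_eq W (LinearMap.ker g)
  have hIfr : finrank F I = finrank F (LinearMap.range g) := by
    rw [hI]
    exact Submodule.finrank_map_subtype_eq W (LinearMap.range g)
  have hbound : 2 * finrank F U ≤ finrank F W :=
    Cfsg.Agent.Lib.Helper79.TsSwap.ti_bound_refl hrefl hW inf_le_left hUTI
  have hrn := LinearMap.finrank_range_add_finrank_ker g
  have hIUfr : finrank F I ≤ finrank F U := Submodule.finrank_mono hIU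
  have hUKfr : finrank F U ≤ finrank F K := Submodule.finrank_mono hUK
  -- `K / U` embeds into `F²`
  have hKU2 : finrank F K ≤ finrank F U + 2 := by
    set ψ : K →ₗ[F] (Fin 2 → F) := φ.domRestrict K with hψ
    have h1 := LinearMap.finrank_range_add_finrank_ker ψ
    have h2 : finrank F (LinearMap.range ψ) ≤ 2 := by
      have := Submodule.finrank_le (LinearMap.range ψ)
      rw [Module.finrank_fintype_fun_eq_card, Fintype.card_fin] at this
      exact this
    have h3 : finrank F (LinearMap.ker ψ) ≤ finrank F U := by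
      have h4 : (LinearMap.ker ψ).map K.subtype ≤ U := by
        rintro _ ⟨k, hk, rfl⟩
        have hφk : φ (k : V) = 0 := LinearMap.mem_ker.mp hk
        exact ⟨hKW k.2, hφ _ (hKN _ k.2) hφk⟩
      have h5 := Submodule.finrank_mono h4
      rwa [Submodule.finrank_map_subtype_eq] at h5
    omega
  -- a complement of the kernel carries a nondegenerate alternating form
  obtain ⟨C', hC'⟩ := Submodule.exists_isCompl (LinearMap.ker g)
  have hfrC := Submodule.finrank_add_eq_of_isCompl hC'
  set C : Submodule F V := C'.map W.subtype with hC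
  have hCfr : finrank F C = finrank F C' := by
    rw [hC]
    exact Submodule.finrank_map_subtype_eq W C'
  have halt : (B.compl₂ N).IsAlt := by
    intro v
    rw [LinearMap.compl₂_apply]
    exact hBN v
  have hCnd : Cfsg.Agent.Lib.Helper8.SpBlk.NonDeg (B.compl₂ N) C := by
    rintro _ ⟨u, hu, rfl⟩ h
    have hNu : N (u : V) = 0 := by
      apply hW _ (hWN _ u.2)
      intro w hw
      have hw' : (⟨w, hw⟩ : W) ∈ LinearMap.ker g ⊔ C' := by
        rw [hC'.sup_eq_top]; exact Submodule.mem_top
      obtain ⟨k, hk, c, hc, hkc⟩ := Submodule.mem_sup.mp hw'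
      have hwkc : w = (k : V) + (c : V) := by
        have := congrArg (fun z : W => (z : V)) hkc
        simpa using this.symm
      have h1 : B (u : V) (N (k : V)) = 0 := by
        rw [hKN (k : V) ⟨k, hk, rfl⟩, map_zero]
      have h2 : B (u : V) (N (c : V)) = 0 := by
        have := h (c : V) ⟨c, hc, rfl⟩
        rwa [LinearMap.compl₂_apply] at this
      rw [← hadj, hwkc, map_add, map_add, h1, h2, add_zero]
    have hu0 : u = 0 := by
      have hmem : u ∈ LinearMap.ker g ⊓ C' := by
        refine ⟨?_, hu⟩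
        show u ∈ LinearMap.ker g
        rw [LinearMap.mem_ker]
        apply Subtype.ext
        rw [hg_apply, hNu]
        rfl
      rw [hC'.inf_eq_bot] at hmem
      exact (Submodule.mem_bot F).mp hmem
    rw [hu0]
    rfl
  have heven : Even (finrank F C) := Cfsg.Agent.Lib.Helper8.SpBlk.nonDeg_even halt hCnd
  obtain ⟨t, ht⟩ := heven
  obtain ⟨w, hw⟩ := h4
  refine ⟨U, inf_le_left, hUQ, ?_⟩
  omega

end Cfsg.Agent.Lib.Helper2.HqBad
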