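import Mathlib
import Cfsg.Prelude.Def_ClassicalGeometry
import Cfsg.Prelude.Def_GeometricClasses
import Cfsg.Prelude.Def_Classical
import Cfsg.Agent.Lib.Helper14.QmDefs
import Cfsg.Agent.Lib.Helper2.HqBADelt
import Cfsg.Agent.Lib.Helper2.QmBADcore
import Cfsg.Agent.Lib.Helper45.OmBN_HINV
import Cfsg.Agent.Lib.Helper8.DicksonGen
import Cfsg.Agent.Lib.Helper8.DicksonOmega

/-! # Qm hive (helper14, S5990): leaf QM-BAD (`char2_bad_minus`), by helper2.

`d` odd, characteristic two: the alternating involution of full rank `d - 1` of `Ω⁻_{2d}(q)`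
(the bad involution of `Ω⁺_{2(d-1)}` on the hyperbolic part, the identity on the anisotropic
plane) lies in `Ω⁻`, and every invariant nondegenerate subspace of dimension divisible by four is
of plus type. -/

set_option autoImplicit false

namespace Cfsg.Agent.Lib.Helper14.Qm

open Module Matrix
open Cfsg.Agent.Lib.Helper2.BG Cfsg.Agent.Lib.Helper99 Cfsg.Agent.Lib.Helper48.Ti
open Cfsg.Agent.Lib.Helper5.Hy (Plus Fixes Fix Orth)
open Cfsg.Agent.Lib.Helper65.Qe (pol PlusQ IsomQ FixesQ tp)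
open Cfsg.Agent.Lib.Helper8 (minusForm IsInvIso nilPart)
open Cfsg.Agent.Lib.Helper2.HqBad

section char2

variable {F : Type*} [Field F]

/-- the index type `(Fin m ⊕ Fin m) ⊕ Fin 2` -/
local notation "II" m => ((Fin m ⊕ Fin m) ⊕ Fin 2)

/-- the bad involution: `badM` on the hyperbolic part, `1` on the anisotropic plane -/
def badMm (F : Type*) [Field F] {m : ℕ} (σ : Equiv.Perm (Fin m)) : Matrix (II m) (II m) F :=
  Matrix.fromBlocks (badM F σ) 0 0 1

theorem bad_mm_inl {m : ℕ} (σ : Equiv.Perm (Fin m)) (v : (II m) → F) (c : Fin m ⊕ Fin m) :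
    (badMm F σ *ᵥ v) (Sum.inl c) = (badM F σ *ᵥ (v ∘ Sum.inl)) c := by
  rw [badMm, Matrix.fromBlocks_mulVec, Sum.elim_inl, Pi.add_apply, Matrix.zero_mulVec]
  simp

theorem bad_mm_inl_inl {m : ℕ} (σ : Equiv.Perm (Fin m)) (v : (II m) → F) (i : Fin m) :
    (badMm F σ *ᵥ v) (Sum.inl (Sum.inl i)) =
      v (Sum.inl (Sum.inl i)) + v (Sum.inl (Sum.inr (σ i))) := by
  rw [bad_mm_inl, badM_mulVec_inl]
  rfl

theorem bad_mm_inl_inr {m : ℕ} (σ : Equiv.Perm (Fin m)) (v : (II m) → F) (i : Fin m) :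
    (badMm F σ *ᵥ v) (Sum.inl (Sum.inr i)) = v (Sum.inl (Sum.inr i)) := by
  rw [bad_mm_inl, badM_mulVec_inr]
  rfl

theorem bad_mm_inr {m : ℕ} (σ : Equiv.Perm (Fin m)) (v : (II m) → F) (j : Fin 2) :
    (badMm F σ *ᵥ v) (Sum.inr j) = v (Sum.inr j) := by
  rw [badMm, Matrix.fromBlocks_mulVec, Sum.elim_inr, Pi.add_apply, Matrix.zero_mulVec,
    Matrix.one_mulVec]
  simp

theorem bad_mm_mul_self (h2 : (2 : F) = 0) {m : ℕ} (σ : Equiv.Perm (Fin m)) :
    badMm F σ * badMm F σ = 1 := by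
  rw [badMm, Matrix.fromBlocks_multiply, badM_mul_self h2]
  simp [Matrix.fromBlocks_one]

/-- the bad involution as an element of the general linear group -/
def badXm (h2 : (2 : F) = 0) {m : ℕ} (σ : Equiv.Perm (Fin m)) : GL (II m) F :=
  ⟨badMm F σ, badMm F σ, bad_mm_mul_self h2 σ, bad_mm_mul_self h2 σ⟩

theorem bad_xm_mem_isometryGroup (h2 : (2 : F) = 0) {m : ℕ} {σ : Equiv.Perm (Fin m)}
    (hσσ : ∀ i, σ (σ i) = i) (hσ : ∀ i, σ i ≠ i) (a b : F) :
    badXm h2 σ ∈ Cfsg.isometryGroup F (Cfsg.quadFormMinus m F a b) := by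
  intro u _
  show Cfsg.quadFormMinus m F a b (badMm F σ *ᵥ u) = Cfsg.quadFormMinus m F a b u
  unfold Cfsg.quadFormMinus
  simp only [bad_mm_inl_inl, bad_mm_inl_inr, bad_mm_inr, add_mul, Finset.sum_add_distrib]
  rw [bad_sum_eq_zero h2 hσσ hσ (fun i => u (Sum.inl (Sum.inr i))), add_zero]

/-- the fixed space of the bad involution -/
theorem bad_mem_fixSub {m : ℕ} {σ : Equiv.Perm (Fin m)} (hσσ : ∀ i, σ (σ i) = i)
    (v : (II m) → F) :
    v ∈ Cfsg.Agent.Lib.Helper8.fixSub (badMm F σ) ↔ ∀ i, v (Sum.inl (Sum.inr i)) = 0 := by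
  rw [Cfsg.Agent.Lib.Helper8.mem_fixSub]
  constructor
  · intro h i
    have := congrFun h (Sum.inl (Sum.inl (σ i)))
    rw [bad_mm_inl_inl, hσσ i] at this
    exact left_eq_add.mp this.symm
  · intro h
    funext c
    rcases c with (i | i) | j
    · rw [bad_mm_inl_inl, h (σ i), add_zero]
    · rw [bad_mm_inl_inr]
    · rw [bad_mm_inr]

theorem bad_finrank_fixSub {m : ℕ} {σ : Equiv.Perm (Fin m)} (hσσ : ∀ i, σ (σ i) = i) :
    finrank F ↥(Cfsg.Agent.Lib.Helper8.fixSub (badMm F σ)) = m + 2 := by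
  have e : ↥(Cfsg.Agent.Lib.Helper8.fixSub (badMm F σ)) ≃ₗ[F] (Fin m ⊕ Fin 2 → F) :=
    { toFun := fun w => Sum.elim (fun i => (w : (II m) → F) (Sum.inl (Sum.inl i)))
        (fun j => (w : (II m) → F) (Sum.inr j))
      map_add' := by
        intro x y
        funext c
        rcases c with i | j <;> rfl
      map_smul' := by
        intro c x
        funext k
        rcases k with i | j <;> rfl
      invFun := fun u => ⟨Sum.elim (Sum.elim (fun i => u (Sum.inl i)) (fun _ => 0))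
        (fun j => u (Sum.inr j)), (bad_mem_fixSub hσσ _).2 (fun i => rfl)⟩
      left_inv := by
        intro w
        apply Subtype.ext
        funext c
        rcases c with (i | i) | j
        · rfl
        · exact ((bad_mem_fixSub hσσ _).1 w.2 i).symm
        · rfl
      right_inv := by
        intro u
        funext c
        rcases c with i | j <;> rfl }
  rw [e.finrank_eq, Module.finrank_fintype_fun_eq_card, Fintype.card_sum, Fintype.card_fin,
    Fintype.card_fin]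

/-- the bad involution lies in `Ω⁻` (`m` even) -/
theorem bad_xm_mem_omegaGL [Fintype F] (h2 : (2 : F) = 0) {m : ℕ} (hm : Even m)
    {σ : Equiv.Perm (Fin m)} (hσσ : ∀ i, σ (σ i) = i) (hσ : ∀ i, σ i ≠ i) (a b : F)
    (hab : ∀ x y : F, x ^ 2 + a * x * y + b * y ^ 2 = 0 → x = 0 ∧ y = 0) :
    badXm h2 σ ∈ Cfsg.Geo.omegaGL (Cfsg.quadFormMinus m F a b) := by
  have hmem := bad_xm_mem_isometryGroup h2 hσσ hσ a b
  have key : ∀ (Q : ((II m) → F) → F), Q = ⇑(minusForm m F a b) →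
      badXm h2 σ ∈ Cfsg.isometryGroup F Q → badXm h2 σ ∈ Cfsg.Geo.omegaGL Q := by
    intro Q hQ hx
    subst hQ
    set g : ↥(Cfsg.isometryGroup F ⇑(minusForm m F a b)) := ⟨badXm h2 σ, hx⟩ with hg
    have hrk : Even (((g : Matrix.GeneralLinearGroup (II m) F) : Matrix (II m) (II m) F) - 1).rank := by
      have h1 := Cfsg.Agent.Lib.Helper8.rank_sub_one_add_finrank_fixSub (badMm F σ)
      rw [bad_finrank_fixSub hσσ, Cfsg.Agent.Lib.Helper41.OmBN.hinv_finrank] at h1
      have h3 : (badMm F σ - 1).rank = m := by omega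
      show Even (badMm F σ - 1).rank
      rw [h3]
      exact hm
    have hcomm := (Cfsg.Agent.Lib.Helper8.mem_commutator_iff_even_rank_char2_gen h2
      (minusForm m F a b) (Cfsg.Agent.Lib.Helper41.OmBN.nondeg hab)
      (Cfsg.Agent.Lib.Helper41.OmBN.hinv_goodOrth hab)
      (Cfsg.Agent.Lib.Helper8.minusForm_exists_ne_zero m F a b) g).2 hrk
    exact ⟨g, hcomm, rfl⟩
  exact key _ (Cfsg.Agent.Lib.Helper8.minusForm_coe m F a b) hmem

/-- the nilpotent part `N = x - 1` -/
noncomputable def badNm (F : Type*) [Field F] {m : ℕ} (σ : Equiv.Perm (Fin m)) :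
    Module.End F ((II m) → F) :=
  Matrix.toLin' (badMm F σ) - 1

theorem bad_nm_inl_inl {m : ℕ} (σ : Equiv.Perm (Fin m)) (v : (II m) → F) (i : Fin m) :
    badNm F σ v (Sum.inl (Sum.inl i)) = v (Sum.inl (Sum.inr (σ i))) := by
  rw [badNm, LinearMap.sub_apply, Matrix.toLin'_apply, Module.End.one_apply, Pi.sub_apply,
    bad_mm_inl_inl, add_sub_cancel_left]

theorem bad_nm_inl_inr {m : ℕ} (σ : Equiv.Perm (Fin m)) (v : (II m) → F) (i : Fin m) :
    badNm F σ v (Sum.inl (Sum.inr i)) = 0 := by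
  rw [badNm, LinearMap.sub_apply, Matrix.toLin'_apply, Module.End.one_apply, Pi.sub_apply,
    bad_mm_inl_inr, sub_self]

theorem bad_nm_inr {m : ℕ} (σ : Equiv.Perm (Fin m)) (v : (II m) → F) (j : Fin 2) :
    badNm F σ v (Sum.inr j) = 0 := by
  rw [badNm, LinearMap.sub_apply, Matrix.toLin'_apply, Module.End.one_apply, Pi.sub_apply,
    bad_mm_inr, sub_self]

/-- every invariant nondegenerate subspace of dimension divisible by four is of plus type -/
theorem bad_plus_of_four_dvd (h2 : (2 : F) = 0) {m : ℕ} {σ : Equiv.Perm (Fin m)}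
    (hσσ : ∀ i, σ (σ i) = i) (hσ : ∀ i, σ i ≠ i) (a b : F) (W : Submodule F ((II m) → F))
    (hW : Nd (pol (minusForm m F a b)) W)
    (hinv : W.map (Matrix.toLin' (badMm F σ)) ≤ W) (h4 : 4 ∣ finrank F W) :
    PlusQ (minusForm m F a b) W := by
  set B : ((II m) → F) →ₗ[F] ((II m) → F) →ₗ[F] F := pol (minusForm m F a b) with hB
  have hBapp : ∀ u v, B u v = (∑ i : Fin m, (u (Sum.inl (Sum.inl i)) * v (Sum.inl (Sum.inr i))
          + v (Sum.inl (Sum.inl i)) * u (Sum.inl (Sum.inr i))))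
        + (2 * u (Sum.inr 0) * v (Sum.inr 0)
          + a * (u (Sum.inr 0) * v (Sum.inr 1) + v (Sum.inr 0) * u (Sum.inr 1))
          + 2 * b * u (Sum.inr 1) * v (Sum.inr 1)) := by
    intro u v
    rw [hB, QuadraticMap.polarBilin_apply_apply, Cfsg.Agent.Lib.Helper8.polar_minusForm]
  have hBsymm : ∀ u v, B u v = B v u := by
    intro u v
    rw [hB, QuadraticMap.polarBilin_apply_apply, QuadraticMap.polarBilin_apply_apply,
      QuadraticMap.polar_comm]
  have hQapp : ∀ v, minusForm m F a b v = Cfsg.quadFormMinus m F a b v := by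
    intro v
    rw [Cfsg.Agent.Lib.Helper8.minusForm_coe]
  refine plus_of_four_dvd (B := B) (Q := ⇑(minusForm m F a b)) (N := badNm F σ)
    (fun u v h => by rw [hBsymm v u]; exact h) ?_ ?_ ?_ ?_ ?_
    (LinearMap.funLeft F F (Sum.inr : Fin 2 → (II m))) ?_ ?_ hW h4
  · -- `N * N = 0`
    apply LinearMap.ext
    intro v
    rw [Module.End.mul_apply, LinearMap.zero_apply]
    funext c
    rcases c with (i | i) | j
    · rw [bad_nm_inl_inl, bad_nm_inl_inr]; rfl
    · rw [bad_nm_inl_inr]; rfl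
    · rw [bad_nm_inr]; rfl
  · -- `B v (N v) = 0`
    intro v
    rw [hBapp]
    simp only [bad_nm_inl_inl, bad_nm_inl_inr, bad_nm_inr, mul_zero, zero_mul, zero_add, add_zero]
    exact bad_sum_eq_zero h2 hσσ hσ (fun i => v (Sum.inl (Sum.inr i)))
  · -- self-adjoint
    intro u v
    rw [hBapp, hBapp]
    simp only [bad_nm_inl_inl, bad_nm_inl_inr, bad_nm_inr, mul_zero, zero_mul, zero_add,
      add_zero]
    rw [← Equiv.sum_comp σ (fun i => u (Sum.inl (Sum.inr (σ i))) * v (Sum.inl (Sum.inr i)))]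
    apply Finset.sum_congr rfl
    intro i _
    rw [hσσ i, mul_comm]
  · -- `Q (N v) = 0`
    intro v
    rw [hQapp]
    unfold Cfsg.quadFormMinus
    simp only [bad_nm_inl_inr, bad_nm_inr, mul_zero, Finset.sum_const_zero]
    ring
  · -- the image is totally isotropic
    intro u v
    rw [hBapp]
    simp only [bad_nm_inl_inr, bad_nm_inr, mul_zero, add_zero, Finset.sum_const_zero]
  · -- `ker N ∩ ker φ ≤ im N`
    intro v hNv hφv
    have hv1 : ∀ i, v (Sum.inl (Sum.inr i)) = 0 := by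
      intro i
      have := congrFun hNv (Sum.inl (Sum.inl (σ i)))
      rwa [bad_nm_inl_inl, hσσ i] at this
    have hv2 : ∀ j, v (Sum.inr j) = 0 := by
      intro j
      exact congrFun hφv j
    refine ⟨Sum.elim (Sum.elim 0 (fun i => v (Sum.inl (Sum.inl (σ i))))) 0, ?_⟩
    funext c
    rcases c with (i | i) | j
    · rw [bad_nm_inl_inl]
      simp [hσσ i]
    · rw [bad_nm_inl_inr, hv1 i]
    · rw [bad_nm_inr, hv2 j]
  · -- invariance
    intro w hw
    rw [badNm, LinearMap.sub_apply, Module.End.one_apply]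
    exact W.sub_mem (hinv ⟨w, hw, rfl⟩) hw

/-- QM-BAD (`d` odd): the alternating involution of FULL rank `d - 1` lies in `Ω⁻` and every
invariant nondegenerate `W` with `4 ∣ dim W` is of PLUS type. -/
theorem char2_bad_minus [Fintype F] (h2 : (2 : F) = 0) (d : ℕ) (hd : 4 ≤ d) (hdo : Odd d)
    (a b : F) (hab : ∀ x y : F, x ^ 2 + a * x * y + b * y ^ 2 = 0 → x = 0 ∧ y = 0) :
    ∃ x : GL (IM d) F, x ∈ Cfsg.Geo.omegaGL (Cfsg.quadFormMinus (d - 1) F a b) ∧ x * x = 1 ∧
      x ≠ 1 ∧ ∀ W : Submodule F (VM d F), Nd (pol (QM d F a b)) W →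
        W.map (Matrix.toLin' (x : MM d F)) ≤ W → 4 ∣ finrank F W → PlusQ (QM d F a b) W := by
  have hme : Even (d - 1) := by
    obtain ⟨k, hk⟩ := hdo
    exact ⟨k, by omega⟩
  obtain ⟨σ, hσσ, hσ⟩ := exists_fpf_involution hme
  refine ⟨badXm h2 σ, bad_xm_mem_omegaGL h2 hme hσσ hσ a b hab, ?_, ?_, ?_⟩
  · apply Units.ext
    rw [Units.val_mul, Units.val_one]
    exact bad_mm_mul_self h2 σ
  · intro h
    have h1 := congrArg (fun y : GL (IM d) F => (y : MM d F)) h
    have h0 : 0 < d - 1 := by omega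
    have := congrFun (congrFun h1 (Sum.inl (Sum.inl (⟨0, h0⟩ : Fin (d - 1)))))
      (Sum.inl (Sum.inr (σ ⟨0, h0⟩)))
    simp [badXm, badMm, badM, badJ] at this
  · intro W hW hinv h4
    exact bad_plus_of_four_dvd h2 hσσ hσ a b W hW hinv h4

end char2

end Cfsg.Agent.Lib.Helper14.Qm
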