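import Mathlib
import Cfsg.Prelude.Def_Classical
import Cfsg.Agent.Lib.Helper14.TuDefs

/-! # Tu hive (S5953, helper14): leaves TU-Q (`q_eq_pow`) and TU-ARC (`dvd_pow_sub_iff`). -/

set_option autoImplicit false

namespace Cfsg.Agent.Lib.Helper14.Tu

section q
variable {F : Type*} [Field F] [Fintype F] {p : ℕ} [Fact p.Prime] [CharP F p] {q : ℕ}

/-- TU-Q.  `q` is a power of `p`. -/
theorem q_eq_pow (hq : Fintype.card F = q ^ 2) : ∃ f : ℕ, 0 < f ∧ q = p ^ f := by
  have hp : p.Prime := Fact.out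
  obtain ⟨e, _, he⟩ := FiniteField.card F p
  have h1 : q ∣ p ^ (e : ℕ) := by
    rw [← he, hq]; exact dvd_pow_self q two_ne_zero
  obtain ⟨f, _, hf⟩ := (Nat.dvd_prime_pow hp).mp h1
  refine ⟨f, ?_, hf⟩
  rcases Nat.eq_zero_or_pos f with h0 | h0
  · exfalso
    subst h0
    rw [pow_zero] at hf
    subst hf
    rw [one_pow] at hq
    have : 1 < Fintype.card F := Fintype.one_lt_card
    omega
  · exact h0

end q

section arc

/-- the order of `-u` from the order of `u`, in `ZMod r`, `r` an odd prime -/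
theorem arc_orderOf_neg (r : ℕ) (hr : r.Prime) (hr2 : r ≠ 2) (u : ZMod r) (hu : u ≠ 0) :
    orderOf (-u) = cOf (orderOf u) := by
  haveI : Fact r.Prime := ⟨hr⟩
  have hi0 : 0 < orderOf u := by
    apply orderOf_pos_iff.mpr
    exact isOfFinOrder_iff_pow_eq_one.mpr ⟨r - 1, by have := hr.two_le; omega, ZMod.pow_card_sub_one_eq_one hu⟩
  have hneg1 : orderOf (-1 : ZMod r) = 2 := by
    rw [orderOf_neg_one, ZMod.ringChar_zmod_n, if_neg hr2]
  obtain ⟨i, hi⟩ : ∃ i, i = orderOf u := ⟨_, rfl⟩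
  rw [← hi] at hi0 ⊢
  unfold cOf
  rcases Nat.even_or_odd i with hev | hodd
  · -- `i` even: `u ^ (i/2) = -1`
    obtain ⟨t, ht⟩ := hev
    have ht0 : 0 < t := by omega
    have hsq : u ^ t * u ^ t = 1 := by
      rw [← pow_add, ← ht, hi, pow_orderOf_eq_one]
    have hne : u ^ t ≠ 1 := pow_ne_one_of_lt_orderOf (by omega) (by omega)
    have hut : u ^ t = -1 := (mul_self_eq_one_iff.mp hsq).resolve_left hne
    have hnu : -u = u ^ (t + 1) := by rw [pow_succ, hut]; ring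
    rw [hnu, orderOf_pow' u (by omega), ← hi]
    rcases Nat.even_or_odd t with ⟨s, hs⟩ | ⟨s, hs⟩
    · -- `i = 4 s`
      have hi4 : i % 4 = 0 := by omega
      rw [if_pos hi4]
      have hg : Nat.gcd i (t + 1) = 1 := by
        have hd : Nat.gcd i (t + 1) ∣ 2 := by
          have h1 : Nat.gcd i (t + 1) ∣ 2 * (t + 1) := Dvd.dvd.mul_left (Nat.gcd_dvd_right _ _) 2
          have h2 : Nat.gcd i (t + 1) ∣ i := Nat.gcd_dvd_left _ _
          have h3 : 2 * (t + 1) - i = 2 := by omega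
          rw [← h3]
          exact Nat.dvd_sub h1 h2
        rcases (Nat.dvd_prime Nat.prime_two).mp hd with h | h
        · exact h
        · exfalso
          have h4 : 2 ∣ t + 1 := h ▸ Nat.gcd_dvd_right i (t + 1)
          omega
      rw [hg, Nat.div_one]
    · -- `i = 4 s + 2`
      have hi4 : i % 4 = 2 := by omega
      rw [if_neg (by omega), if_pos hi4]
      have hg : Nat.gcd i (t + 1) = 2 := by
        have hd : Nat.gcd i (t + 1) ∣ 2 := by
          have h1 : Nat.gcd i (t + 1) ∣ 2 * (t + 1) := Dvd.dvd.mul_left (Nat.gcd_dvd_right _ _) 2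
          have h2 : Nat.gcd i (t + 1) ∣ i := Nat.gcd_dvd_left _ _
          have h3 : 2 * (t + 1) - i = 2 := by omega
          rw [← h3]
          exact Nat.dvd_sub h1 h2
        have h2d : 2 ∣ Nat.gcd i (t + 1) := Nat.dvd_gcd (by omega) (by omega)
        exact Nat.dvd_antisymm hd h2d
      rw [hg]
  · -- `i` odd
    have h40 : ¬ i % 4 = 0 := by
      obtain ⟨s, hs⟩ := hodd; omega
    have h42 : ¬ i % 4 = 2 := by
      obtain ⟨s, hs⟩ := hodd; omega
    rw [if_neg h40, if_neg h42]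
    have hnu : -u = (-1) * u := by ring
    rw [hnu, (Commute.all (-1 : ZMod r) u).orderOf_mul_eq_mul_orderOf_of_coprime, hneg1, ← hi]
    rw [hneg1, ← hi]
    exact Nat.coprime_two_left.mpr hodd

/-- TU-ARC.  `c = cOf (ord_r q)` is the order of `-q` modulo `r`. -/
theorem dvd_pow_sub_iff (r : ℕ) (hr : r.Prime) (hr2 : r ≠ 2) (q : ℕ) (hrq : ¬ r ∣ q) (j : ℕ) :
    ((r : ℤ) ∣ (q : ℤ) ^ j - (-1) ^ j) ↔ cOf (orderOf (q : ZMod r)) ∣ j := by
  have hu : (q : ZMod r) ≠ 0 := by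
    rw [Ne, ZMod.natCast_eq_zero_iff]; exact hrq
  rw [← arc_orderOf_neg r hr hr2 _ hu, orderOf_dvd_iff_pow_eq_one,
    ← ZMod.intCast_zmod_eq_zero_iff_dvd]
  push_cast
  rw [sub_eq_zero, neg_pow (q : ZMod r) j]
  constructor
  · intro h
    rw [h, ← mul_pow]
    simp
  · intro h
    have h2 : ((-1 : ZMod r) ^ j) * ((-1) ^ j * (q : ZMod r) ^ j) = (-1) ^ j * 1 := by rw [h]
    rw [← mul_assoc, ← mul_pow, mul_one] at h2
    simpa using h2

end arc

end Cfsg.Agent.Lib.Helper14.Tu
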