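import Mathlib

/-! # We hive (S2347, owner helper14): leaf WE-CHARSQ `trace_mul_trace_inv` (helper2)

Self-contained (Mathlib only): includes its own copy `charsq_trace_mulLeft_mulRight` of the WE-TRCONJ statement. -/

set_option autoImplicit false

namespace Cfsg.Agent.Lib.Helper14.We

open Matrix Cfsg
open scoped ComplexConjugate

theorem charsq_aux {ι : Type*} [Fintype ι] [DecidableEq ι] (A' B' : Matrix ι ι ℂ) (i j : ι) :
    (A' * (Matrix.single i j (1 : ℂ) * B')) i j = A' i i * B' j j := by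
  rw [Matrix.mul_apply, Finset.sum_eq_single i]
  · rw [Matrix.mul_apply, Finset.sum_eq_single j]
    · simp
    · intro b _ hb
      simp [Ne.symm hb]
    · simp
  · intro b _ hb
    rw [Matrix.mul_apply]
    simp [Ne.symm hb]
  · simp

section Abstract

variable {W : Type*} [AddCommGroup W] [Module ℂ W] [FiniteDimensional ℂ W]

/-- the trace of `S ↦ A S B` on `End(W)` is `tr A * tr B` (own copy of WE-TRCONJ) -/
theorem charsq_trace_mulLeft_mulRight (A B : Module.End ℂ W) :
    LinearMap.trace ℂ (Module.End ℂ W) (LinearMap.mulLeft ℂ A ∘ₗ LinearMap.mulRight ℂ B) =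
      LinearMap.trace ℂ W A * LinearMap.trace ℂ W B := by
  classical
  let ι := Fin (Module.finrank ℂ W)
  let bW : Module.Basis ι ℂ W := Module.finBasis ℂ W
  let e : Module.End ℂ W ≃ₗ[ℂ] Matrix ι ι ℂ := LinearMap.toMatrix bW bW
  let bE : Module.Basis (ι × ι) ℂ (Module.End ℂ W) := (Matrix.stdBasis ℂ ι ι).map e.symm
  have hrepr : ∀ (S : Module.End ℂ W) (p : ι × ι), bE.repr S p = e S p.1 p.2 := by
    intro S p
    simp [bE, Matrix.stdBasis]
  have hbE : ∀ p : ι × ι, e (bE p) = Matrix.single p.1 p.2 (1 : ℂ) := by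
    rintro ⟨i, j⟩
    simp only [bE, Module.Basis.map_apply, LinearEquiv.apply_symm_apply]
    exact Matrix.stdBasis_eq_single (R := ℂ) i j
  have hmul : ∀ X Y : Module.End ℂ W, e (X * Y) = e X * e Y := fun X Y => LinearMap.toMatrix_mul bW X Y
  have hkey : ∀ p : ι × ι,
      e ((LinearMap.mulLeft ℂ A ∘ₗ LinearMap.mulRight ℂ B) (bE p)) p.1 p.2 = e A p.1 p.1 * e B p.2 p.2 := by
    intro p
    rw [LinearMap.comp_apply, LinearMap.mulRight_apply, LinearMap.mulLeft_apply, hmul, hmul, hbE]
    exact charsq_aux (e A) (e B) p.1 p.2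
  rw [LinearMap.trace_eq_matrix_trace ℂ bE, Matrix.trace]
  simp only [Matrix.diag_apply, LinearMap.toMatrix_apply, hrepr, hkey]
  rw [LinearMap.trace_eq_matrix_trace ℂ bW A, LinearMap.trace_eq_matrix_trace ℂ bW B, Matrix.trace,
    Matrix.trace, Fintype.sum_prod_type, Finset.sum_mul_sum]
  rfl

omit [FiniteDimensional ℂ W] in
theorem charsq_core {G V : Type*} [Group G] [Fintype V] [DecidableEq V] [MulAction G V]
    (R : V → Module.End ℂ W) (hLI : LinearIndependent ℂ R)
    (hspan : Submodule.span ℂ (Set.range R) = ⊤)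
    (M : Representation ℂ G W) (hM : ∀ g v, M g * R v = R (g • v) * M g) (g : G) :
    LinearMap.trace ℂ (Module.End ℂ W) (LinearMap.mulLeft ℂ (M g) ∘ₗ LinearMap.mulRight ℂ (M g⁻¹)) =
      (Fintype.card {v : V // g • v = v} : ℂ) := by
  classical
  let b : Module.Basis V ℂ (Module.End ℂ W) := Module.Basis.mk hLI hspan.ge
  have hb : ∀ v, b v = R v := fun v => by simp [b]
  have hΦ : ∀ v, (LinearMap.mulLeft ℂ (M g) ∘ₗ LinearMap.mulRight ℂ (M g⁻¹)) (b v) = b (g • v) := by
    intro v
    rw [LinearMap.comp_apply, LinearMap.mulRight_apply, LinearMap.mulLeft_apply, hb, hb, ← mul_assoc, hM,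
      mul_assoc, ← map_mul, mul_inv_cancel, map_one, mul_one]
  rw [LinearMap.trace_eq_matrix_trace ℂ b, Matrix.trace]
  simp only [Matrix.diag_apply, LinearMap.toMatrix_apply, hΦ, Module.Basis.repr_self, Finsupp.single_apply]
  rw [Finset.sum_ite, Finset.sum_const_zero, add_zero, Finset.sum_const, nsmul_eq_mul, mul_one,
    Fintype.card_subtype]

/-- WE-CHARSQ -/
theorem trace_mul_trace_inv {G V : Type*} [Group G] [Fintype V] [DecidableEq V] [MulAction G V]
    (R : V → Module.End ℂ W) (hLI : LinearIndependent ℂ R)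
    (hspan : Submodule.span ℂ (Set.range R) = ⊤)
    (M : Representation ℂ G W) (hM : ∀ g v, M g * R v = R (g • v) * M g) (g : G) :
    LinearMap.trace ℂ W (M g) * LinearMap.trace ℂ W (M g⁻¹) =
      (Fintype.card {v : V // g • v = v} : ℂ) := by
  rw [← charsq_trace_mulLeft_mulRight, charsq_core R hLI hspan M hM g]

end Abstract

end Cfsg.Agent.Lib.Helper14.We
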