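import Mathlib
import Cfsg.Prelude.Def_ClassicalGeometry
import Cfsg.Prelude.Def_GeometricClasses
import Cfsg.Prelude.Def_Classical
import Cfsg.Agent.Lib.Helper15.HqDefs
import Cfsg.Agent.Lib.Helper2.HqBADelt

/-! # Hq hive (helper15, S5974): leaf HQ-BAD2 (`char2_bad`), by helper2. -/

set_option autoImplicit false

namespace Cfsg.Agent.Lib.Helper15.Hq

open Module
open Cfsg.Agent.Lib.Helper2.BG Cfsg.Agent.Lib.Helper99 Cfsg.Agent.Lib.Helper48.Ti
open Cfsg.Agent.Lib.Helper5.Hy (Plus Fixes)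
open Cfsg.Agent.Lib.Helper81.On (plusB VP)
open Cfsg.Agent.Lib.Helper8 (plusForm IsInvIso nilPart)

section char2

variable {F : Type*} [Field F]

local notation "VV" d => (Fin d ⊕ Fin d → F)

/-- HQ-BAD2: `d` even, `m ≡ 2 (mod 4)`: the alternating involution of full rank `d` lies
in `Ω` and fixes NO nondegenerate subspace of dimension `m`. -/
theorem char2_bad [Fintype F] (h2 : (2 : F) = 0) (d m : ℕ) (hd : 4 ≤ d) (hde : Even d)
    (hm4 : m % 4 = 2) :
    ∃ x : GL (Fin d ⊕ Fin d) F, x ∈ Cfsg.Geo.omegaGL (Cfsg.quadFormPlus d F) ∧ x * x = 1 ∧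
      NonScal d x ∧ ¬ FixH d m x := by
  obtain ⟨x, hxΩ, hx2, hxns, hx4⟩ :=
    Cfsg.Agent.Lib.Helper2.HqBad.exists_bad_involution (F := F) (d := d) h2 hde (by omega)
      (by omega)
  refine ⟨x, hxΩ, ?_, hxns, ?_⟩
  · rw [← pow_two]; exact hx2
  · rintro ⟨W, ⟨hWm, hWnd, _⟩, hWinv⟩
    have := hx4 W hWnd hWinv
    rw [hWm] at this
    omega

end char2

end Cfsg.Agent.Lib.Helper15.Hq
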