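import Cfsg.Agent.Lib.Helper16.GagDefs

set_option autoImplicit false
universe u v

/-! # Gag hive (S4561), leaf GAG-Q3 -/

namespace Cfsg.Agent.Lib.Helper16.Gag
open scoped IsMulCommutative

/-- Q3 -/
theorem quot_mod_center_equiv {T : Type u} [Group T] (M Zh : Subgroup T) [M.Normal]
    (hle : M ≤ Zh) (hc : Subgroup.center (T ⧸ M) = Zh.map (QuotientGroup.mk' M))
    {R : Type v} [Group R] (ψ : T →* R) (hψ : Function.Surjective ψ) (hker : ψ.ker = Zh) :
    Nonempty (R ≃* (T ⧸ M) ⧸ Subgroup.center (T ⧸ M)) := by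
  set χ : T →* (T ⧸ M) ⧸ Subgroup.center (T ⧸ M) :=
    (QuotientGroup.mk' (Subgroup.center (T ⧸ M))).comp (QuotientGroup.mk' M) with hχ
  have hχs : Function.Surjective χ :=
    (QuotientGroup.mk'_surjective _).comp (QuotientGroup.mk'_surjective _)
  have hχk : χ.ker = Zh := by
    ext t
    rw [MonoidHom.mem_ker, hχ, MonoidHom.comp_apply, QuotientGroup.mk'_apply,
      QuotientGroup.eq_one_iff, hc, Subgroup.mem_map]
    constructor
    · rintro ⟨z, hz, hzt⟩
      rw [QuotientGroup.mk'_apply, QuotientGroup.mk'_apply, QuotientGroup.eq] at hzt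
      have h1 : z⁻¹ * t ∈ Zh := hle hzt
      have h2 : z * (z⁻¹ * t) ∈ Zh := Zh.mul_mem hz h1
      rwa [mul_inv_cancel_left] at h2
    · intro ht
      exact ⟨t, ht, rfl⟩
  have e1 : R ≃* T ⧸ ψ.ker := (QuotientGroup.quotientKerEquivOfSurjective ψ hψ).symm
  have e2 : T ⧸ χ.ker ≃* (T ⧸ M) ⧸ Subgroup.center (T ⧸ M) :=
    QuotientGroup.quotientKerEquivOfSurjective χ hχs
  have e3 : T ⧸ ψ.ker ≃* T ⧸ χ.ker :=
    QuotientGroup.quotientMulEquivOfEq (by rw [hker, hχk])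
  exact ⟨(e1.trans e3).trans e2⟩

end Cfsg.Agent.Lib.Helper16.Gag
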