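import Cfsg.Agent.Lib.Helper33.Alperin

set_option autoImplicit false

namespace Cfsg.Agent.Lib.Helper2

open Cfsg.Agent.Lib.Helper33

variable {G : Type*} [Group G]

/-- `P ∩ Q` is a tame intersection. -/
def IsTame {p : ℕ} (P Q : Sylow p G) : Prop :=
  ¬ p ∣ ((P : Subgroup G) ⊓ Subgroup.normalizer ((((P : Subgroup G) ⊓ (Q : Subgroup G)) : Subgroup G) : Set G)).relIndex (Subgroup.normalizer ((((P : Subgroup G) ⊓ (Q : Subgroup G)) : Subgroup G) : Set G)) ∧
  ¬ p ∣ ((Q : Subgroup G) ⊓ Subgroup.normalizer ((((P : Subgroup G) ⊓ (Q : Subgroup G)) : Subgroup G) : Set G)).relIndex (Subgroup.normalizer ((((P : Subgroup G) ⊓ (Q : Subgroup G)) : Subgroup G) : Set G))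

/-- The family of tame intersections with `P`. -/
def tameFamily {p : ℕ} (P : Sylow p G) : Set (Subgroup G) :=
  {T | ∃ Q : Sylow p G, T = (P : Subgroup G) ⊓ (Q : Subgroup G) ∧ IsTame P Q}

theorem tameFamily_le {p : ℕ} (P : Sylow p G) : ∀ T ∈ tameFamily P, T ≤ (P : Subgroup G) := by
  rintro T ⟨Q, rfl, -⟩
  exact inf_le_left

theorem reach_rc_subset {𝓕 : Set (Subgroup G)} {S : Subgroup G} (h𝓕 : ∀ T ∈ 𝓕, T ≤ S)
    {A : Set G} {g : G} (h : Reach 𝓕 A g) (hA : A ⊆ S) : rc g A ⊆ S := by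
  induction h with
  | nil A => simpa using hA
  | cons A T x g hT hx hAT _ ih =>
    rw [rc_mul]
    apply ih
    exact (rc_subset_of_mem_normalizer hx hAT).trans (h𝓕 T hT)

/-- `Q → P` via `x` in Alperin's sense. -/
def Arrow {p : ℕ} (P Q : Sylow p G) (x : G) : Prop :=
  Reach (tameFamily P) ((((P : Subgroup G) ⊓ (Q : Subgroup G)) : Subgroup G) : Set G) x ∧ x⁻¹ • Q = P

theorem arrow_trans {p : ℕ} (P Q R : Sylow p G) (x y : G)
    (hQR : (P : Subgroup G) ⊓ (Q : Subgroup G) ≤ (R : Subgroup G))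
    (h1 : Arrow P R x) (h2 : Arrow P (x⁻¹ • Q) y) : Arrow P Q (x * y) := by
  have r1 : Reach (tameFamily P) ((((P : Subgroup G) ⊓ (Q : Subgroup G)) : Subgroup G) : Set G) x :=
    h1.1.mono (fun a ha => ⟨ha.1, hQR ha⟩)
  have hsub : rc x ((((P : Subgroup G) ⊓ (Q : Subgroup G)) : Subgroup G) : Set G) ⊆
      ((((P : Subgroup G) ⊓ ((x⁻¹ • Q : Sylow p G) : Subgroup G)) : Subgroup G) : Set G) := by
    intro a ha
    refine Subgroup.mem_inf.mpr ⟨reach_rc_subset (tameFamily_le P) r1 (fun b hb => hb.1) ha, ?_⟩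
    rw [sylow_coe_smul, mem_cj, inv_inv]
    exact (mem_rc.mp ha).2
  have r2 := h2.1.mono hsub
  refine ⟨r1.trans r2, ?_⟩
  rw [mul_inv_rev, mul_smul]
  exact h2.2

theorem exists_sylow_ge_fullyNormalizing [Finite G] {p : ℕ} [Fact p.Prime] (K V : Subgroup G)
    (hVK : V ≤ K) (hV : IsPGroup p V) :
    ∃ S : Sylow p G, V ≤ (S : Subgroup G) ∧ ¬ p ∣ ((S : Subgroup G) ⊓ K).relIndex K := by
  have hV' : IsPGroup p (V.subgroupOf K) := hV.comap_subtype
  obtain ⟨R, hR⟩ := hV'.exists_le_sylow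
  obtain ⟨S, hS⟩ := R.exists_comap_subtype_eq
  refine ⟨S, ?_, ?_⟩
  · intro v hv
    have h1 : (⟨v, hVK hv⟩ : K) ∈ V.subgroupOf K := Subgroup.mem_subgroupOf.mpr hv
    have h2 : (⟨v, hVK hv⟩ : K) ∈ (R : Subgroup K) := hR h1
    rw [← hS] at h2
    exact h2
  · have e : ((S : Subgroup G) ⊓ K).relIndex K = (R : Subgroup K).index := by
      rw [Subgroup.relIndex, Subgroup.inf_subgroupOf_right, ← hS]
      rfl
    rw [e]
    exact R.not_dvd_index

theorem not_dvd_relIndex_normalizer [Finite G] {p : ℕ} [Fact p.Prime] (P : Sylow p G) :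
    ¬ p ∣ (P : Subgroup G).relIndex (Subgroup.normalizer ((P : Subgroup G) : Set G)) := by
  intro h
  exact P.not_dvd_index (h.trans (Subgroup.relIndex_dvd_index_of_le Subgroup.le_normalizer))

theorem isTame_self [Finite G] {p : ℕ} [Fact p.Prime] (P : Sylow p G) : IsTame P P := by
  have e : (P : Subgroup G) ⊓ (P : Subgroup G) = (P : Subgroup G) := inf_idem _
  have e2 : (P : Subgroup G) ⊓ Subgroup.normalizer ((P : Subgroup G) : Set G) = (P : Subgroup G) :=
    inf_eq_left.mpr Subgroup.le_normalizer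
  unfold IsTame
  rw [e, e2]
  exact ⟨not_dvd_relIndex_normalizer P, not_dvd_relIndex_normalizer P⟩

theorem self_mem_tameFamily [Finite G] {p : ℕ} [Fact p.Prime] (P : Sylow p G) :
    (P : Subgroup G) ∈ tameFamily P :=
  ⟨P, (inf_idem _).symm, isTame_self P⟩

end Cfsg.Agent.Lib.Helper2

namespace Cfsg.Agent.Lib.Helper2

open Cfsg.Agent.Lib.Helper33

variable {G : Type*} [Group G]

theorem card_lt_of_lt' [Finite G] {H K : Subgroup G} (h : H < K) : Nat.card H < Nat.card K :=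
  Set.Finite.card_lt_card (Set.toFinite _) h

theorem arrow_of_fullyNormalized [Finite G] {p : ℕ} [Fact p.Prime] (P Q : Sylow p G)
    (hlt : (P : Subgroup G) ⊓ (Q : Subgroup G) < (P : Subgroup G))
    (hfull : ¬ p ∣ ((P : Subgroup G) ⊓ Subgroup.normalizer ((((P : Subgroup G) ⊓ (Q : Subgroup G)) : Subgroup G) : Set G)).relIndex (Subgroup.normalizer ((((P : Subgroup G) ⊓ (Q : Subgroup G)) : Subgroup G) : Set G)))
    (IH : ∀ Q' : Sylow p G, Nat.card ((P : Subgroup G) ⊓ (Q : Subgroup G) : Subgroup G) <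
      Nat.card ((P : Subgroup G) ⊓ (Q' : Subgroup G) : Subgroup G) → ∃ x, Arrow P Q' x) :
    ∃ y, Arrow P Q y := by
  set D : Subgroup G := (P : Subgroup G) ⊓ (Q : Subgroup G) with hD
  set K : Subgroup G := Subgroup.normalizer (D : Set G) with hK
  have hDQ : D < (Q : Subgroup G) := by
    refine lt_of_le_of_ne inf_le_right ?_
    intro heq
    have hQP : (Q : Subgroup G) ≤ (P : Subgroup G) := by rw [← heq]; exact inf_le_left
    have : (P : Subgroup G) = (Q : Subgroup G) := Q.3 P.2 hQP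
    have : D = (P : Subgroup G) := by rw [hD, ← this, inf_idem]
    exact hlt.ne this
  have hgrowQ : D < (Q : Subgroup G) ⊓ K := normalizer_growth Q.2 hDQ
  obtain ⟨c, hcK, hcV⟩ := sylow_sub (K := K) (P := (P : Subgroup G) ⊓ K) (H := (Q : Subgroup G) ⊓ K)
    inf_le_right (P.2.to_le inf_le_left) hfull inf_le_right (Q.2.to_le inf_le_left)
  have hcD : cj c D = D := cj_eq_self_iff.mpr hcK
  have hcD' : cj c⁻¹ D = D := (cj_eq_iff.mp hcD).symm
  have hcK' : cj c⁻¹ K = K := by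
    rw [hK, ← normalizer_cj, hcD']
  have hT : ((c⁻¹ • P : Sylow p G) : Subgroup G) = cj c⁻¹ (P : Subgroup G) := sylow_coe_smul _ _
  have hVT : (Q : Subgroup G) ⊓ K ≤ ((c⁻¹ • P : Sylow p G) : Subgroup G) := by
    rw [hT, ← cj_le_iff]
    exact hcV.trans inf_le_left
  have hDT : D ≤ ((c⁻¹ • P : Sylow p G) : Subgroup G) := hgrowQ.le.trans hVT
  have hDPT : D ≤ (P : Subgroup G) ⊓ ((c⁻¹ • P : Sylow p G) : Subgroup G) := le_inf inf_le_left hDT
  have hTfull : ¬ p ∣ (((c⁻¹ • P : Sylow p G) : Subgroup G) ⊓ K).relIndex K := by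
    have e : ((c⁻¹ • P : Sylow p G) : Subgroup G) ⊓ K = cj c⁻¹ ((P : Subgroup G) ⊓ K) := by
      rw [cj_inf, hcK', hT]
    rw [e]
    have := relIndex_cj c⁻¹ ((P : Subgroup G) ⊓ K) K
    rw [hcK'] at this
    rw [this]
    exact hfull
  -- an arrow from T to P
  have hw : ∃ w, Arrow P (c⁻¹ • P) w := by
    by_cases hc : Nat.card D < Nat.card ((P : Subgroup G) ⊓ ((c⁻¹ • P : Sylow p G) : Subgroup G) : Subgroup G)
    · exact IH _ hc
    · have heq : (P : Subgroup G) ⊓ ((c⁻¹ • P : Sylow p G) : Subgroup G) = D :=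
        (Subgroup.eq_of_le_of_card_ge hDPT (by omega)).symm
      have htame : IsTame P (c⁻¹ • P) := by
        unfold IsTame
        rw [heq]
        exact ⟨hfull, hTfull⟩
      refine ⟨c⁻¹, Reach.single (T := (P : Subgroup G) ⊓ ((c⁻¹ • P : Sylow p G) : Subgroup G))
        ⟨c⁻¹ • P, rfl, htame⟩ ?_ (fun a ha => ha), ?_⟩
      · rw [heq]; exact inv_mem hcK
      · rw [inv_inv, smul_smul, mul_inv_cancel, one_smul]
  obtain ⟨w, hw⟩ := hw
  have hwT : cj w⁻¹ ((c⁻¹ • P : Sylow p G) : Subgroup G) = (P : Subgroup G) := by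
    rw [← sylow_coe_smul, hw.2]
  have hsub : cj w⁻¹ (((c⁻¹ • P : Sylow p G) : Subgroup G) ⊓ (Q : Subgroup G)) ≤
      (P : Subgroup G) ⊓ ((w⁻¹ • Q : Sylow p G) : Subgroup G) := by
    rw [cj_inf, hwT, sylow_coe_smul]
  have hcard : Nat.card D < Nat.card ((P : Subgroup G) ⊓ ((w⁻¹ • Q : Sylow p G) : Subgroup G) : Subgroup G) := by
    have h1 : Nat.card D < Nat.card ((Q : Subgroup G) ⊓ K : Subgroup G) := card_lt_of_lt' hgrowQ
    have h2 : Nat.card ((Q : Subgroup G) ⊓ K : Subgroup G) ≤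
        Nat.card (((c⁻¹ • P : Sylow p G) : Subgroup G) ⊓ (Q : Subgroup G) : Subgroup G) :=
      Subgroup.card_le_of_le (le_inf hVT inf_le_left)
    have h3 := Subgroup.card_le_of_le hsub
    rw [card_cj] at h3
    omega
  obtain ⟨y, hy⟩ := IH _ hcard
  exact ⟨w * y, arrow_trans P Q (c⁻¹ • P) w y hDT hw hy⟩

end Cfsg.Agent.Lib.Helper2

namespace Cfsg.Agent.Lib.Helper2

open Cfsg.Agent.Lib.Helper33

variable {G : Type*} [Group G]

theorem exists_arrow [Finite G] {p : ℕ} [Fact p.Prime] (P : Sylow p G) :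
    ∀ Q : Sylow p G, ∃ x, Arrow P Q x := by
  intro Q
  obtain ⟨n, hn⟩ : ∃ n, Nat.card (P : Subgroup G) -
      Nat.card ((P : Subgroup G) ⊓ (Q : Subgroup G) : Subgroup G) = n := ⟨_, rfl⟩
  induction n using Nat.strong_induction_on generalizing Q with
  | _ n ih =>
  have IH : ∀ Q' : Sylow p G, Nat.card ((P : Subgroup G) ⊓ (Q : Subgroup G) : Subgroup G) <
      Nat.card ((P : Subgroup G) ⊓ (Q' : Subgroup G) : Subgroup G) → ∃ x, Arrow P Q' x := by
    intro Q' hlt
    have hle : Nat.card ((P : Subgroup G) ⊓ (Q' : Subgroup G) : Subgroup G) ≤ Nat.card (P : Subgroup G) :=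
      Subgroup.card_le_of_le inf_le_left
    exact ih _ (by omega) Q' rfl
  by_cases hDP : (P : Subgroup G) ⊓ (Q : Subgroup G) = (P : Subgroup G)
  · have hPQ : (P : Subgroup G) ≤ (Q : Subgroup G) := inf_eq_left.mp hDP
    have hQP : (Q : Subgroup G) = (P : Subgroup G) := P.3 Q.2 hPQ
    have hQP' : Q = P := Sylow.ext hQP
    refine ⟨1, Reach.nil _, ?_⟩
    rw [inv_one, one_smul, hQP']
  · have hlt : (P : Subgroup G) ⊓ (Q : Subgroup G) < (P : Subgroup G) := lt_of_le_of_ne inf_le_left hDP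
    set D : Subgroup G := (P : Subgroup G) ⊓ (Q : Subgroup G) with hD
    set K : Subgroup G := Subgroup.normalizer (D : Set G) with hK
    obtain ⟨S, hVS, hSfull⟩ := exists_sylow_ge_fullyNormalizing K ((P : Subgroup G) ⊓ K) inf_le_right
      (P.2.to_le inf_le_left)
    have hgrow : D < (P : Subgroup G) ⊓ K := normalizer_growth P.2 hlt
    have hDS : D ≤ (S : Subgroup G) := hgrow.le.trans hVS
    have hcard1 : Nat.card D < Nat.card ((P : Subgroup G) ⊓ (S : Subgroup G) : Subgroup G) := by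
      have h1 := card_lt_of_lt' hgrow
      have h2 : Nat.card ((P : Subgroup G) ⊓ K : Subgroup G) ≤
          Nat.card ((P : Subgroup G) ⊓ (S : Subgroup G) : Subgroup G) :=
        Subgroup.card_le_of_le (le_inf inf_le_left hVS)
      omega
    obtain ⟨x, hx⟩ := IH S hcard1
    suffices hsuff : ∃ y, Arrow P (x⁻¹ • Q) y by
      obtain ⟨y, hy⟩ := hsuff
      exact ⟨x * y, arrow_trans P Q S x y hDS hx hy⟩
    have hxS : cj x⁻¹ (S : Subgroup G) = (P : Subgroup G) := by
      rw [← sylow_coe_smul, hx.2]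
    have hD1 : cj x⁻¹ D ≤ (P : Subgroup G) ⊓ ((x⁻¹ • Q : Sylow p G) : Subgroup G) := by
      refine le_inf ?_ ?_
      · have r := hx.1.mono (show (D : Set G) ⊆ _ from fun a ha => ⟨ha.1, hDS ha⟩)
        have := reach_rc_subset (tameFamily_le P) r (fun a ha => ha.1)
        rw [rc_coe] at this
        exact this
      · rw [sylow_coe_smul]
        exact cj_mono inf_le_right
    by_cases hc : Nat.card D < Nat.card ((P : Subgroup G) ⊓ ((x⁻¹ • Q : Sylow p G) : Subgroup G) : Subgroup G)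
    · exact IH _ hc
    · have heq : (P : Subgroup G) ⊓ ((x⁻¹ • Q : Sylow p G) : Subgroup G) = cj x⁻¹ D :=
        (Subgroup.eq_of_le_of_card_ge hD1 (by rw [card_cj]; omega)).symm
      apply arrow_of_fullyNormalized P (x⁻¹ • Q)
      · rw [heq]
        rw [← hxS, cj_lt_cj_iff]
        exact lt_of_le_of_ne hDS (fun h => by
          have : D = (P : Subgroup G) ⊓ (S : Subgroup G) := by
            rw [← h]
            exact (inf_eq_right.mpr (inf_le_left : D ≤ (P : Subgroup G))).symm ▸ rfl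
          rw [← this] at hcard1
          exact lt_irrefl _ hcard1)
      · rw [heq, normalizer_cj, ← hxS, ← cj_inf, relIndex_cj]
        exact hSfull
      · intro Q' hQ'
        apply IH
        rw [heq, card_cj] at hQ'
        exact hQ'

/-- **Alperin's fusion theorem** with tame Sylow intersections. -/
theorem reach_tame [Finite G] {p : ℕ} [Fact p.Prime] (P : Sylow p G) (A : Set G) (g : G)
    (hA : A ⊆ (P : Subgroup G)) (hAg : rc g A ⊆ (P : Subgroup G)) :
    Reach (tameFamily P) A g := by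
  obtain ⟨x, hx1, hx2⟩ := exists_arrow P (g • P)
  have hAQ : A ⊆ ((((P : Subgroup G) ⊓ ((g • P : Sylow p G) : Subgroup G)) : Subgroup G) : Set G) := by
    intro a ha
    refine Subgroup.mem_inf.mpr ⟨hA ha, ?_⟩
    rw [sylow_coe_smul, mem_cj]
    exact hAg ⟨a, ha, rfl⟩
  have r1 := hx1.mono hAQ
  have hn : x⁻¹ * g ∈ Subgroup.normalizer ((P : Subgroup G) : Set G) := by
    rw [smul_smul] at hx2
    exact Sylow.smul_eq_iff_mem_normalizer.mp hx2
  have hsub : rc x A ⊆ (P : Subgroup G) := reach_rc_subset (tameFamily_le P) r1 hA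
  have r2 : Reach (tameFamily P) (rc x A) (x⁻¹ * g) :=
    Reach.single (self_mem_tameFamily P) hn hsub
  exact (r1.trans r2).cast rfl (by group)

end Cfsg.Agent.Lib.Helper2
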