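import Mathlib
import Cfsg.Prelude.Def_OddOrder
import Cfsg.Prelude.Def_OddOrderLocal
import Cfsg.Prelude.Def_Solvable
import Cfsg.Agent.Lib.Helper22.Fitting

/-!
# BG157-NIL (leaf of helper91's S1383 hive): structure facts on a finite nilpotent group.
-/

set_option autoImplicit false

namespace Cfsg.Agent.Lib.Helper91.BG157

open Subgroup Cfsg

universe u

variable {G : Type u} [Group G] [Finite G]

/-- In a finite nilpotent group every Sylow subgroup is normal. -/
theorem nil_sylow_normal (hnil : Group.IsNilpotent G) (q : ℕ) [hq : Fact q.Prime] (Q : Sylow q G) :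
    (Q : Subgroup G).Normal := by
  have h := ((Group.isNilpotent_of_finite_tfae (G := G)).out 0 3).mp hnil
  exact h q hq Q

/-- A Sylow `p`-subgroup of a nilpotent group lies in `O_p`. -/
theorem nil_sylow_le_pCore (hnil : Group.IsNilpotent G) (p : ℕ) [Fact p.Prime] (P : Sylow p G) :
    (P : Subgroup G) ≤ pCore p G :=
  Cfsg.Agent.Lib.Helper22.le_pCore' (nil_sylow_normal hnil p P) P.isPGroup'

/-- A Sylow `q`-subgroup (`q ≠ p`) of a nilpotent group lies in `O_{p'}`. -/
theorem nil_sylow_le_pPrimeCore (hnil : Group.IsNilpotent G) (p q : ℕ) [hp : Fact p.Prime]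
    [hq : Fact q.Prime] (hne : q ≠ p) (Q : Sylow q G) :
    (Q : Subgroup G) ≤ pPrimeCore p G := by
  apply Cfsg.Agent.Lib.Helper22.le_pPrimeCore' (nil_sylow_normal hnil q Q)
  obtain ⟨n, hn⟩ := Q.isPGroup'.exists_card_eq
  rw [hn]
  exact Nat.Coprime.pow_left n ((Nat.coprime_primes hq.out hp.out).mpr hne)

/-- `O_p(G) O_{p'}(G) = G` for finite nilpotent `G`. -/
theorem nil_sup_eq_top (p : ℕ) [hp : Fact p.Prime] (hnil : Group.IsNilpotent G) :
    pCore p G ⊔ pPrimeCore p G = ⊤ := by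
  rw [← Subgroup.index_eq_one]
  by_contra hne
  obtain ⟨q, hq, hqd⟩ := Nat.exists_prime_and_dvd hne
  have : Fact q.Prime := ⟨hq⟩
  by_cases hqp : q = p
  · subst hqp
    obtain ⟨P⟩ : Nonempty (Sylow q G) := inferInstance
    have h1 : (P : Subgroup G) ≤ pCore q G ⊔ pPrimeCore q G :=
      le_trans (nil_sylow_le_pCore hnil q P) le_sup_left
    exact P.not_dvd_index (dvd_trans hqd (Subgroup.index_dvd_of_le h1))
  · obtain ⟨Q⟩ : Nonempty (Sylow q G) := inferInstance
    have h1 : (Q : Subgroup G) ≤ pCore p G ⊔ pPrimeCore p G :=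
      le_trans (nil_sylow_le_pPrimeCore hnil p q hqp Q) le_sup_right
    exact Q.not_dvd_index (dvd_trans hqd (Subgroup.index_dvd_of_le h1))

/-- NIL. Finite nilpotent `H`: `O_p(H)` is the Sylow `p`-subgroup, `O_{p'}(H)` the Hall `p'`-subgroup, they
commute and generate `H`. -/
theorem nil_facts (p : ℕ) [Fact p.Prime] (hnil : Group.IsNilpotent G) :
    IsPGroup p ↥(pCore p G) ∧ ¬ p ∣ (pCore p G).index ∧ (Nat.card ↥(pPrimeCore p G)).Coprime p ∧
      pCore p G ⊔ pPrimeCore p G = ⊤ ∧ pCore p G ⊓ pPrimeCore p G = ⊥ ∧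
      (∀ a ∈ pCore p G, ∀ b ∈ pPrimeCore p G, a * b = b * a) ∧
      (∀ x : G, (∃ n : ℕ, x ^ p ^ n = 1) → x ∈ pCore p G) := by
  have hPG : IsPGroup p ↥(pCore p G) := Cfsg.Agent.Lib.Helper22.pCore_isPGroup' p G
  have hcop : (Nat.card ↥(pPrimeCore p G)).Coprime p :=
    Cfsg.Agent.Lib.Helper55.pPrimeCore_card_coprime p
  have htop := nil_sup_eq_top p hnil
  have hbot : pCore p G ⊓ pPrimeCore p G = ⊥ := by
    apply disjoint_iff.mp
    apply Subgroup.disjoint_of_coprime_natCard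
    obtain ⟨n, hn⟩ := hPG.exists_card_eq
    rw [hn]
    exact Nat.Coprime.pow_left n hcop.symm
  refine ⟨hPG, ?_, hcop, htop, hbot, ?_, ?_⟩
  · obtain ⟨P⟩ : Nonempty (Sylow p G) := inferInstance
    intro hd
    exact P.not_dvd_index (dvd_trans hd (Subgroup.index_dvd_of_le (nil_sylow_le_pCore hnil p P)))
  · intro a ha b hb
    have := Cfsg.Agent.Lib.Helper22.pCore_normal' p G
    have := Cfsg.Agent.Lib.Helper22.pPrimeCore_normal' p G
    exact Subgroup.commute_of_normal_of_disjoint _ _ inferInstance inferInstance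
      (disjoint_iff.mpr hbot) a b ha hb
  · rintro x ⟨n, hn⟩
    have hx : x ∈ pCore p G ⊔ pPrimeCore p G := by rw [htop]; trivial
    exact Cfsg.Agent.Lib.Helper22.mem_pCore_of_mem_sup hx hn

end Cfsg.Agent.Lib.Helper91.BG157
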