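import Cfsg.Agent.Lib.Helper2.BGCount

/-! # Counting complementary pairs of subspaces (helper2, for S5950) -/

set_option autoImplicit false

namespace Cfsg.Agent.Lib.Helper2.BG

open Module

section compl
variable {F V : Type*} [Field F] [AddCommGroup V] [Module F V]

/-- projections onto `U` correspond to maps from a fixed complement into `U` -/
noncomputable def complProjEquiv (U W₀ : Submodule F V) (h : IsCompl U W₀) :
    {f : V →ₗ[F] U // ∀ x : U, f x = x} ≃ (W₀ →ₗ[F] U) where
  toFun f := f.1 ∘ₗ W₀.subtype
  invFun g := ⟨U.projectionOnto W₀ h + g ∘ₗ (W₀.projectionOnto U h.symm), fun x => by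
    rw [LinearMap.add_apply, LinearMap.comp_apply, Submodule.projectionOnto_apply_left,
      Submodule.projectionOnto_apply_right, map_zero, add_zero]⟩
  left_inv f := by
    apply Subtype.ext
    apply LinearMap.ext
    intro v
    have h1 := Submodule.projection_add_projection_eq_self h v
    simp only [LinearMap.add_apply, LinearMap.comp_apply, Submodule.subtype_apply]
    conv_rhs => rw [← h1, map_add]
    rw [Submodule.projection_apply, Submodule.projection_apply, f.2]
  right_inv g := by
    apply LinearMap.ext
    intro w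
    simp only [LinearMap.comp_apply, LinearMap.add_apply, Submodule.subtype_apply,
      Submodule.projectionOnto_apply_right, Submodule.projectionOnto_apply_left, zero_add]

variable [Fintype F] [Finite V]

theorem card_compl (U : Submodule F V) :
    Nat.card {W : Submodule F V // IsCompl U W} =
      Fintype.card F ^ ((finrank F V - finrank F U) * finrank F U) := by
  obtain ⟨W₀, h⟩ := Submodule.exists_isCompl U
  rw [Nat.card_congr (Submodule.isComplEquivProj U), Nat.card_congr (complProjEquiv U W₀ h),
    Module.natCard_eq_pow_finrank (K := F), Module.finrank_linearMap, Nat.card_eq_fintype_card]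
  have h1 := Submodule.finrank_add_eq_of_isCompl h
  congr 2
  omega

/-- complementary pairs fibred over the first member -/
def complPairEquiv (m : ℕ) :
    {P : Submodule F V × Submodule F V // IsCompl P.1 P.2 ∧ finrank F P.1 = m} ≃
      Σ U : {U : Submodule F V // finrank F U = m}, {W : Submodule F V // IsCompl U.1 W} where
  toFun P := ⟨⟨P.1.1, P.2.2⟩, ⟨P.1.2, P.2.1⟩⟩
  invFun Q := ⟨(Q.1.1, Q.2.1), Q.2.2, Q.1.2⟩
  left_inv _ := rfl
  right_inv _ := rfl

theorem card_complPairs (m : ℕ) :
    Nat.card {P : Submodule F V × Submodule F V // IsCompl P.1 P.2 ∧ finrank F P.1 = m} =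
      Nat.card {U : Submodule F V // finrank F U = m} *
        Fintype.card F ^ ((finrank F V - m) * m) := by
  classical
  have : Fintype {U : Submodule F V // finrank F U = m} := Fintype.ofFinite _
  rw [Nat.card_congr (complPairEquiv (F := F) (V := V) m), Nat.card_sigma]
  rw [Finset.sum_congr rfl (fun U _ => by rw [card_compl U.1, U.2]), Finset.sum_const,
    Finset.card_univ, ← Nat.card_eq_fintype_card, smul_eq_mul]

theorem dvd_card_subspaces_of_dvd_card_complPairs {p : ℕ} [hp : Fact p.Prime] [CharP F p] {r : ℕ}
    (hr : r.Prime) (hrp : r ≠ p) (m : ℕ)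
    (h : r ∣ Nat.card {P : Submodule F V × Submodule F V //
      IsCompl P.1 P.2 ∧ finrank F P.1 = m}) :
    r ∣ Nat.card {U : Submodule F V // finrank F U = m} := by
  rw [card_complPairs] at h
  rcases (Nat.Prime.dvd_mul hr).mp h with h1 | h1
  · exact h1
  · exfalso
    have h2 := hr.dvd_of_dvd_pow h1
    obtain ⟨k, _, hk⟩ := FiniteField.card F p
    rw [hk] at h2
    have h3 := hr.dvd_of_dvd_pow h2
    exact hrp ((Nat.prime_dvd_prime_iff_eq hr hp.out).mp h3)

end compl

/-- partitions into parts `1` and `2` -/
lemma exists_sub_of_parts_le_two (n m : ℕ) (hmn : m ≤ n) (h : Odd n ∨ Even m) (μ : Multiset ℕ)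
    (hμ : ∀ a ∈ μ, 0 < a ∧ a ≤ 2) (hs : μ.sum = n) : ∃ ν : Multiset ℕ, ν ≤ μ ∧ ν.sum = m := by
  classical
  set a := μ.count 2 with ha
  set b := μ.count 1 with hb
  have hdec : μ = Multiset.replicate a 2 + Multiset.replicate b 1 := by
    ext x
    rw [Multiset.count_add, Multiset.count_replicate, Multiset.count_replicate]
    by_cases h2 : x = 2
    · subst h2; simp [ha]
    · by_cases h1 : x = 1
      · subst h1; simp [hb]
      · have hx : x ∉ μ := by
          intro hx
          have := hμ x hx
          omega
        rw [Multiset.count_eq_zero_of_notMem hx, if_neg (Ne.symm h2), if_neg (Ne.symm h1)]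
  have hn : n = 2 * a + b := by
    rw [← hs, hdec, Multiset.sum_add, Multiset.sum_replicate, Multiset.sum_replicate]
    simp [mul_comm]
  have key : ∀ a' b' : ℕ, a' ≤ a → b' ≤ b → 2 * a' + b' = m →
      ∃ ν : Multiset ℕ, ν ≤ μ ∧ ν.sum = m := by
    intro a' b' ha' hb' hsum
    refine ⟨Multiset.replicate a' 2 + Multiset.replicate b' 1, ?_, ?_⟩
    · rw [hdec]
      exact add_le_add ((Multiset.replicate_le_replicate 2).mpr ha')
        ((Multiset.replicate_le_replicate 1).mpr hb')
    · rw [Multiset.sum_add, Multiset.sum_replicate, Multiset.sum_replicate, ← hsum]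
      simp [mul_comm]
  rcases Nat.eq_zero_or_pos b with hb0 | hbpos
  · have hme : Even m := by
      rcases h with h | h
      · exfalso
        rw [hn, hb0] at h
        rcases h with ⟨k, hk⟩
        omega
      · exact h
    obtain ⟨k, hk⟩ := hme
    exact key k 0 (by omega) (by omega) (by omega)
  · rcases Nat.lt_or_ge a (m / 2) with hlt | hge
    · exact key a (m - 2 * a) le_rfl (by omega) (by omega)
    · exact key (m / 2) (m % 2) hge (by omega) (by omega)

end Cfsg.Agent.Lib.Helper2.BG
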