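import Cfsg.Agent.Lib.Helper2.BGDer

/-! # Existence of invariant subspaces for elements with `x^r` scalar (helper2) -/

set_option autoImplicit false

namespace Cfsg.Agent.Lib.Helper2.BG

open Polynomial Module

lemma arith_tj (i a m n k : ℕ) (hi : 0 < i) (hna : n = a + k * i) (hm : m ≤ n)
    (hmod : m % i ≤ n % i) : ∃ t j : ℕ, t ≤ a ∧ j ≤ k ∧ t + j * i = m := by
  have hmodn : n % i = a % i := by rw [hna, Nat.add_mul_mod_self_right]
  rw [hmodn] at hmod
  have ha := Nat.div_add_mod a i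
  have hm' := Nat.div_add_mod m i
  have hai := Nat.mod_lt a hi
  have hmi := Nat.mod_lt m hi
  rcases le_or_gt (a / i) (m / i) with hAM | hAM
  · refine ⟨m % i + i * (a / i), m / i - a / i, by omega, ?_, ?_⟩
    · have h1 : (m / i - a / i) * i < (k + 1) * i := by
        have h2 : i * (a / i) ≤ i * (m / i) := Nat.mul_le_mul_left _ hAM
        rw [Nat.sub_mul, Nat.add_mul, mul_comm (m / i) i, mul_comm (a / i) i]
        omega
      have := Nat.lt_of_mul_lt_mul_right h1
      omega
    · have h2 : i * (a / i) ≤ i * (m / i) := Nat.mul_le_mul_left _ hAM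
      rw [Nat.sub_mul, mul_comm (m / i) i, mul_comm (a / i) i]
      omega
  · refine ⟨m, 0, ?_, by omega, by simp⟩
    have h2 : i * (m / i + 1) ≤ i * (a / i) := Nat.mul_le_mul_left _ hAM
    rw [Nat.mul_add, mul_one] at h2
    omega

lemma sub_mod_of_mod_le (i m n : ℕ) (hi : 0 < i) (hmn : m ≤ n) (h : m % i ≤ n % i) :
    (n - m) % i = n % i - m % i := by
  have hn := Nat.div_add_mod n i
  have hm := Nat.div_add_mod m i
  have hdiv : m / i ≤ n / i := Nat.div_le_div_right hmn
  have h1 : i * (m / i) ≤ i * (n / i) := Nat.mul_le_mul_left _ hdiv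
  have h2 : n - m = i * (n / i - m / i) + (n % i - m % i) := by
    rw [Nat.mul_sub]; omega
  rw [h2, Nat.mul_add_mod]
  exact Nat.mod_eq_of_lt (by have := Nat.mod_lt n hi; omega)

lemma arith_flag (i a m n k : ℕ) (hi : 0 < i) (hna : n = a + k * i) (h2m : 2 * m ≤ n)
    (hmod : 2 * (m % i) ≤ n % i) :
    ∃ t j t' j' : ℕ, t ≤ t' ∧ j ≤ j' ∧ t' ≤ a ∧ j' ≤ k ∧ t + j * i = m ∧ t' + j' * i = n - m := by
  have hsub := sub_mod_of_mod_le i m n hi (by omega) (by omega)
  obtain ⟨t', j', ht', hj', h1⟩ := arith_tj i a (n - m) n k hi hna (Nat.sub_le _ _) (by omega)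
  obtain ⟨t, j, ht, hj, h2⟩ := arith_tj i t' m (n - m) j' hi h1.symm (by omega) (by omega)
  exact ⟨t, j, t', j', ht, hj, ht', hj', h2, h1⟩

section fix
variable {F : Type*} [Field F] [Fintype F]

/-- when `r` is prime to `q - 1` every nonzero element is an `r`-th power -/
theorem exists_pow_eq_of_coprime {r : ℕ} (hcop : Nat.Coprime r (Fintype.card F - 1)) (c : F)
    (hc : c ≠ 0) : ∃ b : F, b ^ r = c := by
  have hq := Fintype.one_lt_card (α := F)
  rcases Nat.lt_or_ge 1 (Fintype.card F - 1) with h1 | h1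
  · obtain ⟨u, -, hu⟩ := Nat.exists_mul_mod_eq_one_of_coprime hcop h1
    refine ⟨c ^ u, ?_⟩
    have h2 := Nat.div_add_mod (r * u) (Fintype.card F - 1)
    rw [← pow_mul, mul_comm u r, ← h2, hu, pow_add, pow_mul,
      FiniteField.pow_card_sub_one_eq_one c hc, one_pow, one_mul, pow_one]
  · have h2 : Fintype.card F - 1 = 1 := by omega
    have h3 := FiniteField.pow_card_sub_one_eq_one c hc
    rw [h2, pow_one] at h3
    exact ⟨1, by rw [one_pow, h3]⟩

variable {V : Type*} [AddCommGroup V] [Module F V] [FiniteDimensional F V]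

/-- invariant subspaces for an operator of order dividing `r` -/
theorem exists_inv_of_pow_eq_one {p : ℕ} [hp : Fact p.Prime] [CharP F p] {r : ℕ}
    [hr : Fact r.Prime] (hrp : r ≠ p) (f : Module.End F V) (hf : f ^ r = 1) (m : ℕ)
    (hm : m ≤ Module.finrank F V)
    (hmod : m % orderOf ((Fintype.card F : ℕ) : ZMod r) ≤
      Module.finrank F V % orderOf ((Fintype.card F : ℕ) : ZMod r)) :
    ∃ W : Submodule F V, Module.finrank F W = m ∧ Inv f W := by
  set i := orderOf ((Fintype.card F : ℕ) : ZMod r) with hidef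
  have hrF : (r : F) ≠ 0 := natCast_ne_zero_of_ne (p := p) hrp
  have hipos : 0 < i := by
    rw [hidef]
    apply orderOf_pos_iff.mpr
    rw [isOfFinOrder_iff_pow_eq_one]
    refine ⟨r - 1, by have := hr.out.two_le; omega, ?_⟩
    apply ZMod.pow_card_sub_one_eq_one
    intro h0
    rw [ZMod.natCast_eq_zero_iff] at h0
    obtain ⟨k, _, hk⟩ := FiniteField.card F p
    rw [hk] at h0
    have := hr.out.dvd_of_dvd_pow h0
    exact hrp ((Nat.prime_dvd_prime_iff_eq hr.out hp.out).mp this)
  have hX : (X - 1 : F[X]) * cyclotomic r F = X ^ r - 1 := by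
    rw [mul_comm, Polynomial.cyclotomic_prime_mul_X_sub_one]
  have hpoly : aeval f (X ^ r - 1 : F[X]) = 0 := by
    rw [map_sub, map_pow, aeval_X, map_one, hf, sub_self]
  have hss : f.IsSemisimple :=
    Module.End.isSemisimple_of_squarefree_aeval_eq_zero (squarefree_X_pow_sub_one hrF) hpoly
  have hcop := isCoprime_X_sub_one_cyclotomic (F := F) (r := r) hrF
  have hcyc := allIrrDeg_cyclotomic (F := F) (p := p) (r := r) hrp
  have h10 : (X - 1 : F[X]) ≠ 0 := by
    have := Polynomial.X_sub_C_ne_zero (1 : F)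
    simpa using this
  have hkill : ∀ v ∈ (⊤ : Submodule F V), aeval f ((X - 1) * cyclotomic r F : F[X]) v = 0 := by
    intro v _
    rw [hX, hpoly]; rfl
  obtain ⟨_, _, hsplit⟩ := finrank_inv_split hcop (inv_top f) hkill
  rw [top_inf_eq, top_inf_eq, finrank_top] at hsplit
  obtain ⟨k, hk⟩ := dvd_finrank_of_inv hss (cyclotomic_ne_zero r F) hcyc _
    (LinearMap.ker (aeval f (cyclotomic r F))) rfl (inv_ker_aeval f _)
    (fun v hv => LinearMap.mem_ker.mp hv)
  obtain ⟨t, j, ht, hj, htj⟩ := arith_tj i _ m _ k hipos (by rw [hsplit, hk, mul_comm]) hm hmod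
  obtain ⟨U, _, _, hU, _, hUd, _⟩ := exists_inv_flag hss hcop h10 (cyclotomic_ne_zero r F)
    allIrrDeg_X_sub_one hcyc (le_refl t) (le_refl j) (by rw [mul_one]; exact ht)
    (by rw [hk, mul_comm]; exact Nat.mul_le_mul_left _ hj)
  exact ⟨U, by rw [hUd, mul_one, htj], hU⟩

/-- invariant flags for an operator of order dividing `r` -/
theorem exists_flag_of_pow_eq_one {p : ℕ} [hp : Fact p.Prime] [CharP F p] {r : ℕ}
    [hr : Fact r.Prime] (hrp : r ≠ p) (f : Module.End F V) (hf : f ^ r = 1) (m : ℕ)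
    (h2m : 2 * m ≤ Module.finrank F V)
    (hmod : 2 * (m % orderOf ((Fintype.card F : ℕ) : ZMod r)) ≤
      Module.finrank F V % orderOf ((Fintype.card F : ℕ) : ZMod r)) :
    ∃ U W : Submodule F V, U ≤ W ∧ Module.finrank F U = m ∧
      Module.finrank F W = Module.finrank F V - m ∧ Inv f U ∧ Inv f W := by
  set i := orderOf ((Fintype.card F : ℕ) : ZMod r) with hidef
  have hrF : (r : F) ≠ 0 := natCast_ne_zero_of_ne (p := p) hrp
  have hipos : 0 < i := by
    rw [hidef]
    apply orderOf_pos_iff.mpr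
    rw [isOfFinOrder_iff_pow_eq_one]
    refine ⟨r - 1, by have := hr.out.two_le; omega, ?_⟩
    apply ZMod.pow_card_sub_one_eq_one
    intro h0
    rw [ZMod.natCast_eq_zero_iff] at h0
    obtain ⟨k, _, hk⟩ := FiniteField.card F p
    rw [hk] at h0
    have := hr.out.dvd_of_dvd_pow h0
    exact hrp ((Nat.prime_dvd_prime_iff_eq hr.out hp.out).mp this)
  have hX : (X - 1 : F[X]) * cyclotomic r F = X ^ r - 1 := by
    rw [mul_comm, Polynomial.cyclotomic_prime_mul_X_sub_one]
  have hpoly : aeval f (X ^ r - 1 : F[X]) = 0 := by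
    rw [map_sub, map_pow, aeval_X, map_one, hf, sub_self]
  have hss : f.IsSemisimple :=
    Module.End.isSemisimple_of_squarefree_aeval_eq_zero (squarefree_X_pow_sub_one hrF) hpoly
  have hcop := isCoprime_X_sub_one_cyclotomic (F := F) (r := r) hrF
  have hcyc := allIrrDeg_cyclotomic (F := F) (p := p) (r := r) hrp
  have h10 : (X - 1 : F[X]) ≠ 0 := by
    have := Polynomial.X_sub_C_ne_zero (1 : F)
    simpa using this
  have hkill : ∀ v ∈ (⊤ : Submodule F V), aeval f ((X - 1) * cyclotomic r F : F[X]) v = 0 := by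
    intro v _
    rw [hX, hpoly]; rfl
  obtain ⟨_, _, hsplit⟩ := finrank_inv_split hcop (inv_top f) hkill
  rw [top_inf_eq, top_inf_eq, finrank_top] at hsplit
  obtain ⟨k, hk⟩ := dvd_finrank_of_inv hss (cyclotomic_ne_zero r F) hcyc _
    (LinearMap.ker (aeval f (cyclotomic r F))) rfl (inv_ker_aeval f _)
    (fun v hv => LinearMap.mem_ker.mp hv)
  obtain ⟨t, j, t', j', htt, hjj, ht', hj', htj, htj'⟩ :=
    arith_flag i _ m _ k hipos (by rw [hsplit, hk, mul_comm]) h2m hmod
  obtain ⟨U, W, hUW, hU, hW, hUd, hWd⟩ := exists_inv_flag hss hcop h10 (cyclotomic_ne_zero r F)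
    allIrrDeg_X_sub_one hcyc htt hjj (by rw [mul_one]; exact ht')
    (by rw [hk, mul_comm]; exact Nat.mul_le_mul_left _ hj')
  exact ⟨U, W, hUW, by rw [hUd, mul_one, htj], by rw [hWd, mul_one, htj'], hU, hW⟩

omit [Fintype F] in
/-- determinant of an operator killed by an irreducible polynomial -/
theorem det_of_aeval_irreducible (g : F[X]) [hg : Fact (Irreducible g)] (f : Module.End F V)
    (hfg : aeval f g = 0) :
    ∃ d : ℕ, Module.finrank F V = g.natDegree * d ∧
      LinearMap.det f = (Algebra.norm F (AdjoinRoot.root g)) ^ d := by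
  let φ : AdjoinRoot g →+* Module.End F V :=
    Ideal.Quotient.lift (Ideal.span {g}) (aeval f : F[X] →ₐ[F] Module.End F V).toRingHom (by
      intro a ha
      obtain ⟨b, rfl⟩ := Ideal.mem_span_singleton.mp ha
      show aeval f (g * b) = 0
      rw [map_mul, hfg, zero_mul])
  have hφmk : ∀ P : F[X], φ (AdjoinRoot.mk g P) = aeval f P := fun P => rfl
  let _ : Module (AdjoinRoot g) V := Module.compHom V φ
  have hsmul : ∀ (k : AdjoinRoot g) (v : V), k • v = φ k v := fun _ _ => rfl
  have htower : IsScalarTower F (AdjoinRoot g) V := ⟨fun a k v => by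
    rw [hsmul, hsmul, Algebra.smul_def, map_mul, AdjoinRoot.algebraMap_eq,
      ← AdjoinRoot.mk_C, hφmk, aeval_C, Module.End.mul_apply, Module.algebraMap_end_apply]⟩
  have := finite_adjoinRoot g
  have hfin : Module.Finite (AdjoinRoot g) V := Module.Finite.of_restrictScalars_finite F _ _
  let L : V →ₗ[AdjoinRoot g] V := (AdjoinRoot.root g) • LinearMap.id
  have hL : L.restrictScalars F = f := by
    apply LinearMap.ext
    intro v
    show (AdjoinRoot.root g) • v = f v
    rw [hsmul, ← AdjoinRoot.mk_X, hφmk, aeval_X]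
  refine ⟨Module.finrank (AdjoinRoot g) V, ?_, ?_⟩
  · rw [← Module.finrank_mul_finrank F (AdjoinRoot g) V, finrank_adjoinRoot]
  · rw [← hL, LinearMap.det_restrictScalars, LinearMap.det_smul, LinearMap.det_id, mul_one,
      map_pow]

omit [Fintype F] in
theorem det_of_pow_eq {r : ℕ} [hr : Fact r.Prime] (c : F) (hc : ∀ b : F, b ^ r ≠ c)
    (f : Module.End F V) (hf : f ^ r = algebraMap F _ c) :
    ∃ d : ℕ, Module.finrank F V = r * d ∧ LinearMap.det f = ((-1) ^ (r + 1) * c) ^ d := by
  have hgirr : Irreducible (X ^ r - C c : F[X]) := X_pow_sub_C_irreducible_of_prime hr.out hc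
  have : Fact (Irreducible (X ^ r - C c : F[X])) := ⟨hgirr⟩
  have hfg : aeval f (X ^ r - C c : F[X]) = 0 := by
    rw [map_sub, map_pow, aeval_X, aeval_C, hf, sub_self]
  obtain ⟨d, hd1, hd2⟩ := det_of_aeval_irreducible (X ^ r - C c : F[X]) f hfg
  refine ⟨d, ?_, ?_⟩
  · rw [hd1, Polynomial.natDegree_X_pow_sub_C]
  · rw [hd2, norm_root_X_pow_sub_C hr.out.pos c]

end fix

end Cfsg.Agent.Lib.Helper2.BG
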