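import Cfsg.Agent.Lib.Helper2.BGLin

/-! # Jordan decomposition of nilpotent operators into cyclic subspaces (helper2, for S5950) -/

set_option autoImplicit false

namespace Cfsg.Agent.Lib.Helper2.BG

open Polynomial Module

section jordan
variable {F V : Type*} [Field F] [AddCommGroup V] [Module F V]

lemma aeval_mul_apply (T : Module.End F V) (A B : F[X]) (v : V) :
    aeval T (A * B) v = aeval T A (aeval T B v) := by
  rw [map_mul, Module.End.mul_apply]

lemma aeval_X_pow_apply (T : Module.End F V) (k : ℕ) (v : V) :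
    aeval T (X ^ k : F[X]) v = (T ^ k) v := by
  rw [map_pow, aeval_X]

/-- the annihilator of a vector of exact nilpotency index `e` -/
lemma aeval_apply_eq_zero_iff (T : Module.End F V) (v : V) (e : ℕ) (he : 0 < e)
    (h0 : (T ^ e) v = 0) (h1 : (T ^ (e - 1)) v ≠ 0) (A : F[X]) :
    aeval T A v = 0 ↔ X ^ e ∣ A := by
  constructor
  · intro hA
    by_contra hnd
    have hA0 : A ≠ 0 := by
      rintro rfl
      exact hnd (dvd_zero _)
    obtain ⟨B, hB, hXB⟩ := Polynomial.exists_eq_pow_rootMultiplicity_mul_and_not_dvd A hA0 0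
    rw [map_zero, sub_zero] at hB hXB
    set j := A.rootMultiplicity 0 with hj
    have hje : j < e := by
      by_contra hge
      push Not at hge
      apply hnd
      rw [hB]
      exact Dvd.dvd.mul_right (pow_dvd_pow X hge) B
    have hcop : IsCoprime (X ^ (e - j) : F[X]) B :=
      ((Polynomial.irreducible_X.coprime_iff_not_dvd).mpr hXB).pow_left
    obtain ⟨a, b, hab⟩ := hcop
    have hTj : (T ^ j) v = 0 := by
      have h2 : aeval T (a * X ^ (e - j) + b * B) ((T ^ j) v) = (T ^ j) v := by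
        rw [hab]; simp
      rw [← h2, map_add, LinearMap.add_apply, ← aeval_X_pow_apply T j v, ← aeval_mul_apply,
        ← aeval_mul_apply]
      have e1 : a * X ^ (e - j) * X ^ j = a * X ^ e := by
        rw [mul_assoc, ← pow_add]; congr 2; omega
      have e2 : b * B * X ^ j = b * A := by
        rw [hB]; ring
      rw [e1, e2, aeval_mul_apply, aeval_mul_apply, aeval_X_pow_apply, h0, hA, map_zero, map_zero,
        add_zero]
    apply h1
    have : e - 1 = (e - 1 - j) + j := by omega
    rw [this, pow_add, Module.End.mul_apply, hTj, map_zero]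
  · rintro ⟨B, rfl⟩
    rw [mul_comm, aeval_mul_apply, aeval_X_pow_apply, h0, map_zero]

/-- the cyclic subspace generated by `v` -/
lemma finrank_range_orbitMap (T : Module.End F V) (v : V) (e : ℕ) (he : 0 < e)
    (h0 : (T ^ e) v = 0) (h1 : (T ^ (e - 1)) v ≠ 0) :
    Module.finrank F (LinearMap.range (orbitMap T v)) = e := by
  let ψ := orbitMap T v
  let ψd : ↥(degreeLT F e) →ₗ[F] V := ψ.comp (degreeLT F e).subtype
  have hXe0 : (X ^ e : F[X]) ≠ 0 := pow_ne_zero _ X_ne_zero
  have hinj : Function.Injective ψd := by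
    rw [← LinearMap.ker_eq_bot, LinearMap.ker_eq_bot']
    rintro ⟨A, hA⟩ hA0
    have hAv : aeval T A v = 0 := hA0
    have hdvd := (aeval_apply_eq_zero_iff T v e he h0 h1 A).mp hAv
    apply Subtype.ext
    show A = 0
    by_contra hne
    have h2 := Polynomial.degree_le_of_dvd hdvd hne
    have h3 : A.degree < e := Polynomial.mem_degreeLT.mp hA
    rw [Polynomial.degree_X_pow] at h2
    exact absurd (lt_of_le_of_lt h2 h3) (lt_irrefl _)
  have hrange : LinearMap.range ψd = LinearMap.range ψ := by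
    apply le_antisymm
    · rintro _ ⟨A, rfl⟩
      exact ⟨A.1, rfl⟩
    · rintro _ ⟨A, rfl⟩
      have hmod : (A % X ^ e) ∈ degreeLT F e := by
        rw [Polynomial.mem_degreeLT]
        have := Polynomial.degree_mod_lt A hXe0
        rwa [Polynomial.degree_X_pow] at this
      refine ⟨⟨A % X ^ e, hmod⟩, ?_⟩
      show aeval T (A % X ^ e) v = aeval T A v
      conv_rhs => rw [← EuclideanDomain.div_add_mod A (X ^ e)]
      rw [map_add, LinearMap.add_apply, mul_comm, aeval_mul_apply, aeval_X_pow_apply, h0, map_zero,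
        zero_add]
  rw [← hrange, LinearMap.finrank_range_of_inj hinj,
    LinearEquiv.finrank_eq (Polynomial.degreeLTEquiv F e)]
  simp

lemma inv_range_orbitMap (T : Module.End F V) (v : V) : Inv T (LinearMap.range (orbitMap T v)) := by
  rintro _ ⟨A, rfl⟩
  refine ⟨X * A, ?_⟩
  show aeval T (X * A) v = T (aeval T A v)
  rw [map_mul, aeval_X, Module.End.mul_apply]

lemma range_orbitMap_le (T : Module.End F V) {Y : Submodule F V} (hY : Inv T Y) {v : V}
    (hv : v ∈ Y) : LinearMap.range (orbitMap T v) ≤ Y := by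
  rintro _ ⟨A, rfl⟩
  exact hY.aeval A v hv

section compl
variable [FiniteDimensional F V]

lemma finrank_inf_ker_dual (A : Submodule F V) (ψ : Module.Dual F V) :
    Module.finrank F A ≤ Module.finrank F ↥(A ⊓ LinearMap.ker ψ) + 1 := by
  have h1 := Submodule.finrank_sup_add_finrank_inf_eq A (LinearMap.ker ψ)
  have h2 := LinearMap.finrank_range_add_finrank_ker ψ
  have h3 : Module.finrank F (LinearMap.range ψ) ≤ 1 := by
    have := Submodule.finrank_le (LinearMap.range ψ)
    rwa [Module.finrank_self] at this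
  have h4 := Submodule.finrank_le (A ⊔ LinearMap.ker ψ)
  omega

/-- the chain `Y ⊓ ⋂_{k<j} ker(φ ∘ T^k)` -/
noncomputable def dualChain (T : Module.End F V) (φ : Module.Dual F V) (Y : Submodule F V) :
    ℕ → Submodule F V
  | 0 => Y
  | j + 1 => dualChain T φ Y j ⊓ LinearMap.ker (φ ∘ₗ (T ^ j))

omit [FiniteDimensional F V] in
lemma mem_dualChain (T : Module.End F V) (φ : Module.Dual F V) (Y : Submodule F V) (j : ℕ)
    (w : V) : w ∈ dualChain T φ Y j ↔ w ∈ Y ∧ ∀ k < j, φ ((T ^ k) w) = 0 := by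
  induction j with
  | zero => simp [dualChain]
  | succ j ih =>
    rw [dualChain, Submodule.mem_inf, ih, LinearMap.mem_ker]
    constructor
    · rintro ⟨⟨h1, h2⟩, h3⟩
      refine ⟨h1, fun k hk => ?_⟩
      rcases Nat.lt_succ_iff_lt_or_eq.mp hk with h | h
      · exact h2 k h
      · subst h; exact h3
    · rintro ⟨h1, h2⟩
      exact ⟨⟨h1, fun k hk => h2 k (Nat.lt_succ_of_lt hk)⟩, h2 j (Nat.lt_succ_self j)⟩

lemma finrank_dualChain (T : Module.End F V) (φ : Module.Dual F V) (Y : Submodule F V) (j : ℕ) :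
    Module.finrank F Y ≤ Module.finrank F ↥(dualChain T φ Y j) + j := by
  induction j with
  | zero => exact le_of_eq rfl
  | succ j ih =>
    have := finrank_inf_ker_dual (dualChain T φ Y j) (φ ∘ₗ (T ^ j))
    rw [dualChain]
    omega

/-- a cyclic subspace of maximal length inside an invariant subspace and an invariant
complement -/
theorem exists_cyclic_compl (T : Module.End F V) {Y : Submodule F V} (hY : Inv T Y) (hne : Y ≠ ⊥)
    (p : ℕ) (hTp : ∀ y ∈ Y, (T ^ p) y = 0) :
    ∃ (e : ℕ) (Z W₀ : Submodule F V), 0 < e ∧ e ≤ p ∧ Inv T Z ∧ Inv T W₀ ∧ Disjoint Z W₀ ∧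
      Z ⊔ W₀ = Y ∧ Module.finrank F Z = e := by
  classical
  have hex : ∃ e, ∀ y ∈ Y, (T ^ e) y = 0 := ⟨p, hTp⟩
  set e := Nat.find hex with hedef
  have he0 : ∀ y ∈ Y, (T ^ e) y = 0 := Nat.find_spec hex
  have hep : e ≤ p := Nat.find_min' hex hTp
  have hepos : 0 < e := by
    rw [Nat.pos_iff_ne_zero]
    intro h0
    obtain ⟨y, hyY, hy⟩ := (Submodule.ne_bot_iff Y).mp hne
    have := he0 y hyY
    rw [h0, pow_zero] at this
    exact hy this
  have hmin : ¬ ∀ y ∈ Y, (T ^ (e - 1)) y = 0 := Nat.find_min hex (by omega)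
  push Not at hmin
  obtain ⟨v, hvY, hv1⟩ := hmin
  have hv0 := he0 v hvY
  obtain ⟨φ, hφ⟩ := Module.Projective.exists_dual_ne_zero F hv1
  set Z := LinearMap.range (orbitMap T v) with hZ
  set W₀ := dualChain T φ Y e with hW₀
  have hZinv : Inv T Z := inv_range_orbitMap T v
  have hZY : Z ≤ Y := range_orbitMap_le T hY hvY
  have hW₀Y : W₀ ≤ Y := fun w hw => ((mem_dualChain T φ Y e w).mp hw).1
  have hW₀inv : Inv T W₀ := by
    intro w hw
    rw [hW₀, mem_dualChain] at hw ⊢
    refine ⟨hY w hw.1, fun k hk => ?_⟩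
    rw [← Module.End.mul_apply, ← pow_succ]
    rcases Nat.lt_or_ge (k + 1) e with h | h
    · exact hw.2 (k + 1) h
    · have : k + 1 = e := by omega
      rw [this, he0 w hw.1, map_zero]
  have hdisj : Disjoint Z W₀ := by
    rw [Submodule.disjoint_def]
    rintro u ⟨A, rfl⟩ huW
    by_contra hune
    have hnd : ¬ X ^ e ∣ A := fun h =>
      hune ((aeval_apply_eq_zero_iff T v e hepos hv0 hv1 A).mpr h)
    have hA0 : A ≠ 0 := by
      rintro rfl
      exact hnd (dvd_zero _)
    obtain ⟨B, hB, hXB⟩ := Polynomial.exists_eq_pow_rootMultiplicity_mul_and_not_dvd A hA0 0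
    rw [map_zero, sub_zero] at hB hXB
    set j := A.rootMultiplicity 0 with hj
    have hje : j < e := by
      by_contra hge
      push Not at hge
      apply hnd
      rw [hB]
      exact Dvd.dvd.mul_right (pow_dvd_pow X hge) B
    have hcop : IsCoprime (X ^ (e - j) : F[X]) B :=
      ((Polynomial.irreducible_X.coprime_iff_not_dvd).mpr hXB).pow_left
    obtain ⟨a, b, hab⟩ := hcop
    -- `T^(e-1) v ∈ W₀`
    have hkey : (T ^ (e - 1)) v = aeval T (b * X ^ (e - 1 - j)) (orbitMap T v A) := by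
      have h2 : aeval T ((a * X ^ (e - j) + b * B) * X ^ (e - 1)) v = (T ^ (e - 1)) v := by
        rw [hab, one_mul, aeval_X_pow_apply]
      rw [← h2, orbitMap_apply, ← aeval_mul_apply]
      have e1 : (a * X ^ (e - j) + b * B) * X ^ (e - 1) =
          a * X ^ (e - 1 - j) * X ^ e + b * X ^ (e - 1 - j) * A := by
        rw [hB]
        have e3 : (X : F[X]) ^ (e - j) * X ^ (e - 1) = X ^ (e - 1 - j) * X ^ e := by
          rw [← pow_add, ← pow_add]; congr 1; omega
        have e4 : (X : F[X]) ^ (e - 1) = X ^ (e - 1 - j) * X ^ j := by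
          rw [← pow_add]; congr 1; omega
        calc (a * X ^ (e - j) + b * B) * X ^ (e - 1)
            = a * (X ^ (e - j) * X ^ (e - 1)) + b * B * X ^ (e - 1) := by ring
          _ = a * (X ^ (e - 1 - j) * X ^ e) + b * B * (X ^ (e - 1 - j) * X ^ j) := by
              rw [e3, ← e4]
          _ = _ := by ring
      rw [e1, map_add, LinearMap.add_apply, aeval_mul_apply, aeval_X_pow_apply, hv0, map_zero,
        zero_add]
    have hmem : (T ^ (e - 1)) v ∈ W₀ := by
      rw [hkey]
      exact hW₀inv.aeval _ _ huW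
    have := ((mem_dualChain T φ Y e _).mp hmem).2 0 hepos
    rw [pow_zero, Module.End.one_apply] at this
    exact hφ this
  have hZe : Module.finrank F Z = e := finrank_range_orbitMap T v e hepos hv0 hv1
  have hsup : Z ⊔ W₀ = Y := by
    apply Submodule.eq_of_le_of_finrank_le (sup_le hZY hW₀Y)
    rw [finrank_sup_of_disjoint' Z W₀ hdisj, hZe]
    have := finrank_dualChain T φ Y e
    rw [← hW₀] at this
    omega
  exact ⟨e, Z, W₀, hepos, hep, hZinv, hW₀inv, hdisj, hsup, hZe⟩

omit [FiniteDimensional F V] in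
lemma disjoint_sup_of {Z W₀ A B : Submodule F V} (h : Disjoint Z W₀) (hA : A ≤ W₀) (hB : B ≤ W₀)
    (hAB : Disjoint A B) : Disjoint (Z ⊔ A) B := by
  rw [Submodule.disjoint_def]
  intro x hx hxB
  obtain ⟨z, hz, a, ha, rfl⟩ := Submodule.mem_sup.mp hx
  have hzW : z ∈ W₀ := by
    have : z = (z + a) - a := by abel
    rw [this]
    exact W₀.sub_mem (hB hxB) (hA ha)
  have hz0 : z = 0 := (Submodule.disjoint_def.mp h) z hz hzW
  subst hz0
  rw [zero_add] at hxB ⊢
  exact (Submodule.disjoint_def.mp hAB) a ha hxB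

/-- Jordan type: a multiset of block sizes all of whose sub-multisets are realised by invariant
direct summands. -/
theorem exists_jordan_type (T : Module.End F V) (p : ℕ) :
    ∀ (k : ℕ) (Y : Submodule F V), Module.finrank F Y = k → Inv T Y →
      (∀ y ∈ Y, (T ^ p) y = 0) →
      ∃ μ : Multiset ℕ, (∀ b ∈ μ, 0 < b ∧ b ≤ p) ∧ μ.sum = k ∧
        ∀ ν ≤ μ, ∃ U W : Submodule F V, Inv T U ∧ Inv T W ∧ Disjoint U W ∧ U ⊔ W = Y ∧
          Module.finrank F U = ν.sum := by
  classical
  intro k
  induction k using Nat.strong_induction_on with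
  | _ k ih =>
    intro Y hk hY hTp
    by_cases hne : Y = ⊥
    · subst hne
      rw [finrank_bot] at hk
      refine ⟨0, by simp, by simpa using hk, ?_⟩
      intro ν hν
      have : ν = 0 := by simpa using hν
      subst this
      exact ⟨⊥, ⊥, inv_bot T, inv_bot T, disjoint_bot_left, by simp, by simp⟩
    · obtain ⟨e, Z, W₀, hepos, hep, hZ, hW₀, hdisj, hsup, hZe⟩ :=
        exists_cyclic_compl T hY hne p hTp
      have hW₀Y : W₀ ≤ Y := hsup ▸ le_sup_right
      have hfr : Module.finrank F Y = e + Module.finrank F W₀ := by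
        rw [← hsup, finrank_sup_of_disjoint' Z W₀ hdisj, hZe]
      obtain ⟨μ₀, hμ₀, hμ₀s, hμ₀r⟩ := ih (Module.finrank F W₀) (by omega) W₀ rfl hW₀
        (fun y hy => hTp y (hW₀Y hy))
      refine ⟨e ::ₘ μ₀, ?_, ?_, ?_⟩
      · intro b hb
        rcases Multiset.mem_cons.mp hb with rfl | hb
        · exact ⟨hepos, hep⟩
        · exact hμ₀ b hb
      · rw [Multiset.sum_cons, hμ₀s]; omega
      · intro ν hν
        by_cases heν : e ∈ ν
        · have hν' : ν.erase e ≤ μ₀ := Multiset.erase_le_iff_le_cons.mpr hν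
          obtain ⟨U₀, W₁, hU₀, hW₁, hd, hs, hf⟩ := hμ₀r _ hν'
          have hU₀W : U₀ ≤ W₀ := hs ▸ le_sup_left
          have hW₁W : W₁ ≤ W₀ := hs ▸ le_sup_right
          refine ⟨Z ⊔ U₀, W₁, hZ.sup hU₀, hW₁, disjoint_sup_of hdisj hU₀W hW₁W hd, ?_, ?_⟩
          · rw [sup_assoc, hs, hsup]
          · rw [finrank_sup_of_disjoint' Z U₀ (hdisj.mono_right hU₀W), hZe, hf]
            conv_rhs => rw [← Multiset.cons_erase heν, Multiset.sum_cons]
        · have hν' : ν ≤ μ₀ := (Multiset.le_cons_of_notMem heν).mp hν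
          obtain ⟨U₀, W₁, hU₀, hW₁, hd, hs, hf⟩ := hμ₀r _ hν'
          have hU₀W : U₀ ≤ W₀ := hs ▸ le_sup_left
          have hW₁W : W₁ ≤ W₀ := hs ▸ le_sup_right
          refine ⟨U₀, Z ⊔ W₁, hU₀, hZ.sup hW₁,
            (disjoint_sup_of hdisj hW₁W hU₀W hd.symm).symm, ?_, hf⟩
          rw [sup_left_comm, hs, hsup]

end compl

end jordan

end Cfsg.Agent.Lib.Helper2.BG
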