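import Cfsg.Agent.Lib.Helper2.BGFix
import Cfsg.Agent.Lib.Helper2.BGJordan

/-! # Conjugacy of cyclic operators of prime order (helper2, for S5970) -/

set_option autoImplicit false

namespace Cfsg.Agent.Lib.Helper2.BG

open Polynomial Module

section nk1
variable {F V : Type*} [Field F] [AddCommGroup V] [Module F V]

/-- if the annihilator of `w` is generated by a polynomial of degree `dim V`, then `w` is cyclic -/
lemma orbitMap_surjective [FiniteDimensional F V] (T : Module.End F V) (w : V) (M : F[X])
    (hM : M.natDegree = Module.finrank F V) (h : ∀ f : F[X], aeval T f w = 0 → M ∣ f) :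
    Function.Surjective (orbitMap T w) := by
  set n := Module.finrank F V with hn
  let ψ := orbitMap T w
  let ψd : ↥(degreeLT F n) →ₗ[F] V := ψ.comp (degreeLT F n).subtype
  have hinj : Function.Injective ψd := by
    rw [← LinearMap.ker_eq_bot, LinearMap.ker_eq_bot']
    rintro ⟨A, hA⟩ hA0
    have hAv : aeval T A w = 0 := hA0
    have hdvd := h A hAv
    apply Subtype.ext
    show A = 0
    by_contra hne
    have h2 := Polynomial.natDegree_le_of_dvd hdvd hne
    have h3 : A.degree < n := Polynomial.mem_degreeLT.mp hA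
    have h4 : A.natDegree < n := (Polynomial.natDegree_lt_iff_degree_lt hne).mpr h3
    omega
  have hfr : Module.finrank F ↥(degreeLT F n) = Module.finrank F V := by
    rw [LinearEquiv.finrank_eq (Polynomial.degreeLTEquiv F n)]
    simp [hn]
  have hsurj : Function.Surjective ψd :=
    (LinearMap.injective_iff_surjective_of_finrank_eq_finrank hfr).mp hinj
  intro v
  obtain ⟨A, hA⟩ := hsurj v
  exact ⟨A.1, hA⟩

/-- two cyclic operators with the same annihilator are conjugate -/
lemma exists_equiv_of_ker_eq (T T' : Module.End F V) (w w' : V)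
    (hs : Function.Surjective (orbitMap T w)) (hs' : Function.Surjective (orbitMap T' w'))
    (hker : LinearMap.ker (orbitMap T w) = LinearMap.ker (orbitMap T' w')) :
    ∃ P : V ≃ₗ[F] V, ∀ v, P (T v) = T' (P v) := by
  let P : V ≃ₗ[F] V :=
    ((orbitMap T w).quotKerEquivOfSurjective hs).symm ≪≫ₗ
      (Submodule.quotEquivOfEq _ _ hker ≪≫ₗ (orbitMap T' w').quotKerEquivOfSurjective hs')
  have hP : ∀ A : F[X], P (orbitMap T w A) = orbitMap T' w' A := by
    intro A
    have h1 : ((orbitMap T w).quotKerEquivOfSurjective hs).symm (orbitMap T w A) =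
        Submodule.Quotient.mk A := by
      rw [LinearEquiv.symm_apply_eq, LinearMap.quotKerEquivOfSurjective_apply_mk]
    show (orbitMap T' w').quotKerEquivOfSurjective hs' (Submodule.quotEquivOfEq _ _ hker
      (((orbitMap T w).quotKerEquivOfSurjective hs).symm (orbitMap T w A))) = _
    rw [h1, Submodule.quotEquivOfEq_mk, LinearMap.quotKerEquivOfSurjective_apply_mk]
  refine ⟨P, fun v => ?_⟩
  obtain ⟨A, rfl⟩ := hs v
  have h1 : T (orbitMap T w A) = orbitMap T w (X * A) := by
    rw [orbitMap_apply, orbitMap_apply, aeval_mul_apply, aeval_X]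
  have h2 : T' (orbitMap T' w' A) = orbitMap T' w' (X * A) := by
    rw [orbitMap_apply, orbitMap_apply, aeval_mul_apply, aeval_X]
  rw [h1, hP, hP, h2]

/-- an operator of prime order `n` on an `n`-dimensional space, with irreducible cyclotomic
polynomial, has a cyclic vector with annihilator `X^n - 1` -/
lemma exists_cyclic_of_pow_eq_one [FiniteDimensional F V] {n : ℕ} [hn : Fact n.Prime]
    (hn3 : 3 ≤ n) (hV : Module.finrank F V = n) (hnF : (n : F) ≠ 0)
    (hirr : Irreducible (cyclotomic n F)) (T : Module.End F V) (hT : T ^ n = 1) (hT1 : T ≠ 1) :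
    ∃ w : V, ∀ f : F[X], aeval T f w = 0 ↔ (X ^ n - 1 : F[X]) ∣ f := by
  have hfac : cyclotomic n F * (X - 1) = X ^ n - 1 := cyclotomic_prime_mul_X_sub_one F n
  have hkill : aeval T (X ^ n - 1 : F[X]) = 0 := by
    rw [map_sub, map_pow, aeval_X, map_one, hT, sub_self]
  have hcop : IsCoprime (X - 1 : F[X]) (cyclotomic n F) := isCoprime_X_sub_one_cyclotomic hnF
  have hA : aeval T (X - 1 : F[X]) = T - 1 := by
    rw [map_sub, aeval_X, map_one]
  -- a nonzero vector killed by the cyclotomic polynomial
  have hW : ∃ w₂ : V, w₂ ≠ 0 ∧ aeval T (cyclotomic n F) w₂ = 0 := by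
    by_contra hcon
    push Not at hcon
    apply hT1
    apply LinearMap.ext
    intro v
    have h1 : aeval T (cyclotomic n F) ((T - 1) v) = 0 := by
      rw [← hA, ← aeval_mul_apply, hfac, hkill]; rfl
    have h2 : (T - 1) v = 0 := by
      by_contra h3
      exact hcon _ h3 h1
    rw [LinearMap.sub_apply, sub_eq_zero] at h2
    rw [h2]
  -- a nonzero fixed vector
  have hL : ∃ w₁ : V, w₁ ≠ 0 ∧ T w₁ = w₁ := by
    by_contra hcon
    push Not at hcon
    have hcyc : aeval T (cyclotomic n F) = 0 := by
      apply LinearMap.ext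
      intro v
      have h1 : (T - 1) (aeval T (cyclotomic n F) v) = 0 := by
        rw [← hA, ← aeval_mul_apply, mul_comm, hfac, hkill]; rfl
      by_contra h3
      apply hcon _ h3
      rw [LinearMap.sub_apply, sub_eq_zero] at h1
      exact h1
    have : Fact (Irreducible (cyclotomic n F)) := ⟨hirr⟩
    obtain ⟨d, hd, _⟩ := det_of_aeval_irreducible (cyclotomic n F) T hcyc
    rw [hV, Polynomial.natDegree_cyclotomic, Nat.totient_prime hn.out] at hd
    have h5 : n - 1 ∣ n := ⟨d, hd⟩
    have h6 : n - 1 ∣ 1 := by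
      have h7 : n - 1 ∣ (n - 1) + 1 := by
        have : n - 1 + 1 = n := by omega
        rwa [this]
      exact (Nat.dvd_add_right (dvd_refl _)).mp h7
    have := Nat.le_of_dvd one_pos h6
    omega
  obtain ⟨w₁, hw₁, hTw₁⟩ := hL
  obtain ⟨w₂, hw₂, hTw₂⟩ := hW
  have hev : ∀ f : F[X], aeval T f w₁ = f.eval 1 • w₁ := by
    intro f
    induction f using Polynomial.induction_on' with
    | add p q hp hq => rw [map_add, LinearMap.add_apply, hp, hq, eval_add, add_smul]
    | monomial m c =>
      rw [aeval_monomial, Module.End.mul_apply, Module.algebraMap_end_apply, eval_monomial,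
        one_pow, mul_one]
      congr 1
      clear hw₁
      induction m with
      | zero => simp
      | succ m ih => rw [pow_succ, Module.End.mul_apply, hTw₁, ih]
  refine ⟨w₁ + w₂, fun f => ⟨fun hf => ?_, ?_⟩⟩
  · rw [map_add, hev] at hf
    -- separate the two components
    have h1 : aeval T (cyclotomic n F) (f.eval 1 • w₁ + aeval T f w₂) = 0 := by rw [hf, map_zero]
    rw [map_add, ← aeval_mul_apply, mul_comm, aeval_mul_apply, hTw₂, map_zero, add_zero, map_smul,
      hev, eval_one_cyclotomic_prime, smul_smul] at h1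
    have h2 : f.eval 1 * (n : F) = 0 := by
      rcases smul_eq_zero.mp h1 with h | h
      · exact h
      · exact absurd h hw₁
    have h3 : f.eval 1 = 0 := by
      rcases mul_eq_zero.mp h2 with h | h
      · exact h
      · exact absurd h hnF
    rw [h3, zero_smul, zero_add] at hf
    have hd1 : (X - 1 : F[X]) ∣ f := by
      have : (X - C 1 : F[X]) ∣ f := Polynomial.dvd_iff_isRoot.mpr h3
      simpa using this
    have hd2 : cyclotomic n F ∣ f := by
      by_contra hnd
      obtain ⟨a, b, hab⟩ := (hirr.coprime_iff_not_dvd).mpr hnd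
      apply hw₂
      have : aeval T (a * cyclotomic n F + b * f) w₂ = w₂ := by rw [hab]; simp
      rw [← this, map_add, LinearMap.add_apply, aeval_mul_apply, aeval_mul_apply, hTw₂, hf,
        map_zero, map_zero, add_zero]
    rw [← hfac, mul_comm]
    exact hcop.mul_dvd hd1 hd2
  · rintro ⟨B, rfl⟩
    rw [mul_comm, aeval_mul_apply, hkill]
    simp

/-- two operators of prime order `n` on an `n`-dimensional space are conjugate when the cyclotomic
polynomial is irreducible -/
theorem exists_conj_of_pow_eq_one [FiniteDimensional F V] {n : ℕ} [hn : Fact n.Prime]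
    (hn3 : 3 ≤ n) (hV : Module.finrank F V = n) (hnF : (n : F) ≠ 0)
    (hirr : Irreducible (cyclotomic n F)) (T T' : Module.End F V) (hT : T ^ n = 1) (hT1 : T ≠ 1)
    (hT' : T' ^ n = 1) (hT1' : T' ≠ 1) :
    ∃ P : V ≃ₗ[F] V, ∀ v, P (T v) = T' (P v) := by
  obtain ⟨w, hw⟩ := exists_cyclic_of_pow_eq_one hn3 hV hnF hirr T hT hT1
  obtain ⟨w', hw'⟩ := exists_cyclic_of_pow_eq_one hn3 hV hnF hirr T' hT' hT1'
  have hdeg : (X ^ n - 1 : F[X]).natDegree = Module.finrank F V := by
    rw [hV, show (X ^ n - 1 : F[X]) = X ^ n - C 1 by simp, Polynomial.natDegree_X_pow_sub_C]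
  apply exists_equiv_of_ker_eq T T' w w'
    (orbitMap_surjective T w _ hdeg (fun f hf => (hw f).mp hf))
    (orbitMap_surjective T' w' _ hdeg (fun f hf => (hw' f).mp hf))
  ext f
  rw [LinearMap.mem_ker, LinearMap.mem_ker, orbitMap_apply, orbitMap_apply, hw, hw']

end nk1

end Cfsg.Agent.Lib.Helper2.BG
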