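import Mathlib
import Cfsg.Prelude.Def_GeometricClasses

/-! # Field subalgebras of matrix algebras: evaluation map, centralizer, Frobenius (helper2, S5970) -/

set_option autoImplicit false

namespace Cfsg.Agent.Lib.Helper2.BG

open Polynomial Module Matrix

section nk2
variable {F : Type*} [Field F] {n : ℕ} {K : Subalgebra F (Matrix (Fin n) (Fin n) F)}

lemma fieldSub_mulVec_eq_zero (hK : Cfsg.Geo.IsFieldSubalgebra n K) {a : Matrix (Fin n) (Fin n) F}
    (ha : a ∈ K) (ha0 : a ≠ 0) {v : Fin n → F} (hv : a *ᵥ v = 0) : v = 0 := by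
  obtain ⟨y, _, hy⟩ := hK.inv a ha ha0
  have hy' : y * a = 1 := mul_eq_one_comm.mp hy
  have : (y * a) *ᵥ v = 0 := by rw [← Matrix.mulVec_mulVec, hv, Matrix.mulVec_zero]
  rwa [hy', Matrix.one_mulVec] at this

lemma fieldSub_mul_eq_zero (hK : Cfsg.Geo.IsFieldSubalgebra n K) {a b : Matrix (Fin n) (Fin n) F}
    (ha : a ∈ K) (hab : a * b = 0) : a = 0 ∨ b = 0 := by
  by_cases ha0 : a = 0
  · exact Or.inl ha0
  · right
    obtain ⟨y, _, hy⟩ := hK.inv a ha ha0
    have hy' : y * a = 1 := mul_eq_one_comm.mp hy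
    calc b = (y * a) * b := by rw [hy', one_mul]
      _ = 0 := by rw [mul_assoc, hab, mul_zero]

/-- evaluation at a vector -/
noncomputable def evK (K : Subalgebra F (Matrix (Fin n) (Fin n) F)) (v₀ : Fin n → F) :
    ↥K →ₗ[F] (Fin n → F) where
  toFun k := (k : Matrix (Fin n) (Fin n) F) *ᵥ v₀
  map_add' a b := by simp [Matrix.add_mulVec]
  map_smul' c a := by simp [Matrix.smul_mulVec]

@[simp] lemma evK_apply (v₀ : Fin n → F) (k : ↥K) :
    evK K v₀ k = (k : Matrix (Fin n) (Fin n) F) *ᵥ v₀ := rfl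

lemma evK_injective (hK : Cfsg.Geo.IsFieldSubalgebra n K) {v₀ : Fin n → F} (hv₀ : v₀ ≠ 0) :
    Function.Injective (evK K v₀) := by
  rw [← LinearMap.ker_eq_bot, LinearMap.ker_eq_bot']
  intro k hk
  by_contra hne
  apply hv₀
  exact fieldSub_mulVec_eq_zero hK k.2 (fun h => hne (Subtype.ext h)) hk

lemma evK_bijective (hK : Cfsg.Geo.IsFieldSubalgebra n K) {v₀ : Fin n → F} (hv₀ : v₀ ≠ 0) :
    Function.Bijective (evK K v₀) := by
  have hinj := evK_injective hK hv₀
  have hfr : Module.finrank F ↥K = Module.finrank F (Fin n → F) := by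
    rw [hK.finrank_eq, Module.finrank_fin_fun]
  exact ⟨hinj, (LinearMap.injective_iff_surjective_of_finrank_eq_finrank hfr).mp hinj⟩

/-- a matrix commuting with a field subalgebra of full degree belongs to it -/
theorem mem_of_forall_commute [NeZero n] (hK : Cfsg.Geo.IsFieldSubalgebra n K)
    (G : Matrix (Fin n) (Fin n) F) (hG : ∀ k ∈ K, G * k = k * G) : G ∈ K := by
  have hv₀ : (Pi.single (0 : Fin n) (1 : F) : Fin n → F) ≠ 0 := by
    intro h
    have := congrFun h 0
    simp at this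
  set v₀ : Fin n → F := Pi.single (0 : Fin n) (1 : F) with hv₀def
  obtain ⟨k₀, hk₀⟩ := (evK_bijective hK hv₀).2 (G *ᵥ v₀)
  rw [evK_apply] at hk₀
  have : G = (k₀ : Matrix (Fin n) (Fin n) F) := by
    apply Matrix.mulVec_injective
    funext v
    obtain ⟨k, rfl⟩ := (evK_bijective hK hv₀).2 v
    rw [evK_apply, Matrix.mulVec_mulVec, Matrix.mulVec_mulVec, hG k k.2, ← Matrix.mulVec_mulVec,
      ← hk₀, Matrix.mulVec_mulVec, hK.comm k k.2 k₀ k₀.2]
  rw [this]
  exact k₀.2

/-- a one-sided normalizing condition suffices -/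
theorem mem_normalizer_of_forall (y : GL (Fin n) F)
    (h : ∀ k ∈ K, (y : Matrix (Fin n) (Fin n) F) * k * ((y⁻¹ : GL (Fin n) F) : Matrix (Fin n) (Fin n) F) ∈ K) :
    y ∈ Cfsg.Geo.subalgebraNormalizer K := by
  have hyy : ((y⁻¹ : GL (Fin n) F) : Matrix (Fin n) (Fin n) F) * (y : Matrix (Fin n) (Fin n) F) = 1 := by
    rw [← Units.val_mul, inv_mul_cancel, Units.val_one]
  have hyy' : (y : Matrix (Fin n) (Fin n) F) * ((y⁻¹ : GL (Fin n) F) : Matrix (Fin n) (Fin n) F) = 1 := by
    rw [← Units.val_mul, mul_inv_cancel, Units.val_one]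
  let c : ↥K →ₗ[F] ↥K :=
    { toFun := fun k => ⟨(y : Matrix (Fin n) (Fin n) F) * k *
        ((y⁻¹ : GL (Fin n) F) : Matrix (Fin n) (Fin n) F), h k k.2⟩
      map_add' := fun a b => by
        apply Subtype.ext
        simp [mul_add, add_mul]
      map_smul' := fun a b => by
        apply Subtype.ext
        simp }
  have hcancel : ∀ a b : Matrix (Fin n) (Fin n) F,
      (y : Matrix (Fin n) (Fin n) F) * a * ((y⁻¹ : GL (Fin n) F) : Matrix (Fin n) (Fin n) F) =
      (y : Matrix (Fin n) (Fin n) F) * b * ((y⁻¹ : GL (Fin n) F) : Matrix (Fin n) (Fin n) F) → a = b := by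
    intro a b hab
    have h1 : ((y⁻¹ : GL (Fin n) F) : Matrix (Fin n) (Fin n) F) * ((y : Matrix (Fin n) (Fin n) F) * a *
      ((y⁻¹ : GL (Fin n) F) : Matrix (Fin n) (Fin n) F)) * (y : Matrix (Fin n) (Fin n) F) =
      ((y⁻¹ : GL (Fin n) F) : Matrix (Fin n) (Fin n) F) * ((y : Matrix (Fin n) (Fin n) F) * b *
      ((y⁻¹ : GL (Fin n) F) : Matrix (Fin n) (Fin n) F)) * (y : Matrix (Fin n) (Fin n) F) := by
      rw [hab]
    have e : ∀ m : Matrix (Fin n) (Fin n) F,
        ((y⁻¹ : GL (Fin n) F) : Matrix (Fin n) (Fin n) F) * ((y : Matrix (Fin n) (Fin n) F) * m *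
      ((y⁻¹ : GL (Fin n) F) : Matrix (Fin n) (Fin n) F)) * (y : Matrix (Fin n) (Fin n) F) = m := by
      intro m
      calc _ = (((y⁻¹ : GL (Fin n) F) : Matrix (Fin n) (Fin n) F) * (y : Matrix (Fin n) (Fin n) F)) * m *
          (((y⁻¹ : GL (Fin n) F) : Matrix (Fin n) (Fin n) F) * (y : Matrix (Fin n) (Fin n) F)) := by
            simp only [mul_assoc]
        _ = m := by rw [hyy, one_mul, mul_one]
    rwa [e, e] at h1
  have hinj : Function.Injective c := by
    intro a b hab
    apply Subtype.ext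
    exact hcancel _ _ (congrArg Subtype.val hab)
  have hsurj : Function.Surjective c := LinearMap.injective_iff_surjective.mp hinj
  intro k
  constructor
  · exact h k
  · intro hk
    obtain ⟨k', hk'⟩ := hsurj ⟨_, hk⟩
    have := hcancel _ _ (congrArg Subtype.val hk')
    rw [← this]
    exact k'.2

end nk2

section frob
variable {F : Type*} [Field F] [Fintype F] {n : ℕ} {K : Subalgebra F (Matrix (Fin n) (Fin n) F)}

/-- the Frobenius semilinear map: a matrix `S` of order `n` with `S k = k^q S` for `k ∈ K` -/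
theorem exists_frobenius_matrix [NeZero n] {p : ℕ} [hp : Fact p.Prime] [CharP F p] (hn2 : 2 ≤ n)
    (hK : Cfsg.Geo.IsFieldSubalgebra n K) :
    ∃ S : Matrix (Fin n) (Fin n) F, S ^ n = 1 ∧ S ≠ 1 ∧
      ∀ k ∈ K, S * k = k ^ (Fintype.card F) * S := by
  classical
  set q := Fintype.card F with hq
  obtain ⟨f, hf⟩ := FiniteField.card F p
  have hqpf : q = p ^ (f : ℕ) := hf.2
  have hq1 : 1 < q := Fintype.one_lt_card
  have hv₀ : (Pi.single (0 : Fin n) (1 : F) : Fin n → F) ≠ 0 := by
    intro h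
    have := congrFun h 0
    simp at this
  set v₀ : Fin n → F := Pi.single (0 : Fin n) (1 : F) with hv₀def
  let e : ↥K ≃ₗ[F] (Fin n → F) := LinearEquiv.ofBijective (evK K v₀) (evK_bijective hK hv₀)
  have he : ∀ k : ↥K, e k = (k : Matrix (Fin n) (Fin n) F) *ᵥ v₀ := fun k => rfl
  -- the Frobenius on `K`
  let φ : ↥K →ₗ[F] ↥K :=
    { toFun := fun k => k ^ q
      map_add' := fun a b => by
        apply Subtype.ext
        have hc : Commute (a : Matrix (Fin n) (Fin n) F) (b : Matrix (Fin n) (Fin n) F) :=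
          hK.comm a a.2 b b.2
        have := add_pow_char_pow_of_commute p (f : ℕ) hc
        rw [← hqpf] at this
        simpa using this
      map_smul' := fun c a => by
        simp only [RingHom.id_apply]
        rw [_root_.smul_pow, FiniteField.pow_card] }
  have hφ : ∀ k : ↥K, φ k = k ^ q := fun k => rfl
  let σ : (Fin n → F) →ₗ[F] (Fin n → F) := e.toLinearMap ∘ₗ φ ∘ₗ e.symm.toLinearMap
  have hσe : ∀ k : ↥K, σ (e k) = e (k ^ q) := by
    intro k
    show e (φ (e.symm (e k))) = _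
    rw [LinearEquiv.symm_apply_apply, hφ]
  have hσpow : ∀ (m : ℕ) (k : ↥K), (σ ^ m) (e k) = e (k ^ (q ^ m)) := by
    intro m
    induction m with
    | zero => intro k; simp
    | succ m ih =>
      intro k
      rw [pow_succ', Module.End.mul_apply, ih, hσe, ← pow_mul, ← pow_succ]
  have hσk : ∀ (k : ↥K) (v : Fin n → F),
      σ ((k : Matrix (Fin n) (Fin n) F) *ᵥ v) = ((k : Matrix (Fin n) (Fin n) F) ^ q) *ᵥ σ v := by
    intro k v
    obtain ⟨k', rfl⟩ := e.surjective v
    have h1 : (k : Matrix (Fin n) (Fin n) F) *ᵥ e k' = e (k * k') := by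
      rw [he, he, Matrix.mulVec_mulVec]; rfl
    have hc : Commute k k' := Subtype.ext (hK.comm k k.2 k' k'.2)
    rw [h1, hσe, hσe, hc.mul_pow, he, he, Matrix.mulVec_mulVec]
    rfl
  -- the field structure on `K`
  have hF : IsField ↥K :=
    { exists_pair_ne := ⟨0, 1, zero_ne_one⟩
      mul_comm := fun a b => Subtype.ext (hK.comm a a.2 b b.2)
      mul_inv_cancel := fun {a} ha => by
        obtain ⟨y, hy, h⟩ := hK.inv a a.2 (fun h0 => ha (Subtype.ext h0))
        exact ⟨⟨y, hy⟩, Subtype.ext h⟩ }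
  let _ : Field ↥K := hF.toField
  have : Fintype ↥K := Fintype.ofFinite _
  have hcard : Fintype.card ↥K = q ^ n := by
    rw [Fintype.card_congr e.toEquiv, Fintype.card_fun, Fintype.card_fin]
  have hpowcard : ∀ k : ↥K, k ^ (q ^ n) = k := by
    intro k
    have := FiniteField.pow_card k
    rw [hcard] at this
    exact this
  have hσn : σ ^ n = 1 := by
    apply LinearMap.ext
    intro v
    obtain ⟨k, rfl⟩ := e.surjective v
    rw [hσpow, hpowcard]
    rfl
  have hσ1 : σ ≠ 1 := by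
    intro h1
    have hall : ∀ k : ↥K, k ^ q = k := by
      intro k
      apply e.injective
      rw [← hσe, h1]
      rfl
    have hsub : (Finset.univ : Finset ↥K).val ⊆ (X ^ q - X : (↥K)[X]).roots := by
      intro k _
      rw [Polynomial.mem_roots (FiniteField.X_pow_card_sub_X_ne_zero ↥K hq1)]
      simp [hall k]
    have := Polynomial.card_le_degree_of_subset_roots hsub
    rw [FiniteField.X_pow_card_sub_X_natDegree_eq ↥K hq1, Finset.card_univ, hcard] at this
    have h2 : q ^ 2 ≤ q ^ n := Nat.pow_le_pow_right (by omega) hn2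
    nlinarith
  refine ⟨LinearMap.toMatrixAlgEquiv' σ, ?_, ?_, ?_⟩
  · rw [← map_pow, hσn, map_one]
  · intro h
    apply hσ1
    apply LinearMap.toMatrixAlgEquiv'.injective
    rw [h, map_one]
  · intro k hk
    apply Matrix.toLin'.injective
    apply LinearMap.ext
    intro v
    have h2 : Matrix.toLin' (LinearMap.toMatrixAlgEquiv' σ) = σ :=
      Matrix.toLinAlgEquiv'_toMatrixAlgEquiv' σ
    rw [Matrix.toLin'_mul, Matrix.toLin'_mul, h2]
    show σ (Matrix.toLin' k v) = Matrix.toLin' (k ^ q) (σ v)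
    rw [Matrix.toLin'_apply, Matrix.toLin'_apply]
    exact hσk ⟨k, hk⟩ v

end frob

end Cfsg.Agent.Lib.Helper2.BG
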