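import Cfsg.Agent.Lib.Helper2.BGNK2
import Cfsg.Agent.Lib.Helper2.BGFix

/-! # Nonscalar elements of the normalizer of a field subalgebra of prime degree have
minimal polynomial of full degree (helper2, S5970) -/

set_option autoImplicit false

namespace Cfsg.Agent.Lib.Helper2.BG

open Polynomial Module Matrix

section nk3
variable {F : Type*} [Field F] {n : ℕ} {K : Subalgebra F (Matrix (Fin n) (Fin n) F)}

/-- the centralizer of `K` in `GL` -/
def subalgebraCentralizer (K : Subalgebra F (Matrix (Fin n) (Fin n) F)) : Subgroup (GL (Fin n) F) where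
  carrier := {g | ∀ k ∈ K, (g : Matrix (Fin n) (Fin n) F) * k = k * (g : Matrix (Fin n) (Fin n) F)}
  mul_mem' {a b} ha hb := by
    intro k hk
    rw [Units.val_mul, mul_assoc, hb k hk, ← mul_assoc, ha k hk, mul_assoc]
  one_mem' := by
    intro k _
    simp
  inv_mem' {a} ha := by
    intro k hk
    have h1 : ((a⁻¹ : GL (Fin n) F) : Matrix (Fin n) (Fin n) F) * (a : Matrix (Fin n) (Fin n) F) = 1 := by
      rw [← Units.val_mul, inv_mul_cancel, Units.val_one]
    have h2 : (a : Matrix (Fin n) (Fin n) F) * ((a⁻¹ : GL (Fin n) F) : Matrix (Fin n) (Fin n) F) = 1 := by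
      rw [← Units.val_mul, mul_inv_cancel, Units.val_one]
    calc ((a⁻¹ : GL (Fin n) F) : Matrix (Fin n) (Fin n) F) * k
        = ((a⁻¹ : GL (Fin n) F) : Matrix (Fin n) (Fin n) F) * (k * (a : Matrix (Fin n) (Fin n) F)) *
          ((a⁻¹ : GL (Fin n) F) : Matrix (Fin n) (Fin n) F) := by
          rw [mul_assoc, mul_assoc, h2, mul_one]
      _ = ((a⁻¹ : GL (Fin n) F) : Matrix (Fin n) (Fin n) F) * ((a : Matrix (Fin n) (Fin n) F) * k) *
          ((a⁻¹ : GL (Fin n) F) : Matrix (Fin n) (Fin n) F) := by rw [ha k hk]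
      _ = k * ((a⁻¹ : GL (Fin n) F) : Matrix (Fin n) (Fin n) F) := by
          rw [← mul_assoc, h1, one_mul]

lemma mem_subalgebraCentralizer (g : GL (Fin n) F) :
    g ∈ subalgebraCentralizer K ↔
      ∀ k ∈ K, (g : Matrix (Fin n) (Fin n) F) * k = k * (g : Matrix (Fin n) (Fin n) F) := Iff.rfl

/-- Case A: nonscalar elements of `K` have minimal polynomial of degree `n` -/
theorem no_small_annihilator_of_mem [NeZero n] (hn : n.Prime)
    (hK : Cfsg.Geo.IsFieldSubalgebra n K) (G : Matrix (Fin n) (Fin n) F) (hG : G ∈ K)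
    (hns : ∀ z : F, G ≠ z • (1 : Matrix (Fin n) (Fin n) F)) (f : F[X]) (hf0 : f ≠ 0)
    (hfd : f.natDegree < n) (hfG : aeval G f = 0) : False := by
  have : NoZeroDivisors ↥K := ⟨fun {a b} hab => by
    have h1 : (a : Matrix (Fin n) (Fin n) F) * (b : Matrix (Fin n) (Fin n) F) = 0 :=
      congrArg Subtype.val hab
    rcases fieldSub_mul_eq_zero hK a.2 h1 with h | h
    · exact Or.inl (Subtype.ext h)
    · exact Or.inr (Subtype.ext h)⟩
  have : IsDomain ↥K := NoZeroDivisors.to_isDomain _
  let g' : ↥K := ⟨G, hG⟩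
  have hint : IsIntegral F g' := Algebra.IsIntegral.isIntegral g'
  set m := minpoly F g' with hm
  have hirr : Irreducible m := minpoly.irreducible hint
  have hmon : m.Monic := minpoly.monic hint
  have hcoe : ∀ P : F[X], aeval G P = ((aeval g' P : ↥K) : Matrix (Fin n) (Fin n) F) := by
    intro P
    exact aeval_algHom_apply K.val g' P
  have hmG : aeval G m = 0 := by
    rw [hcoe, hm, minpoly.aeval]
    rfl
  have hmf : m ∣ f := by
    apply minpoly.dvd
    apply Subtype.ext
    rw [← hcoe, hfG]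
    rfl
  have hmT : aeval (Matrix.toLin' G) m = 0 := by
    have h1 : aeval (Matrix.toLinAlgEquiv' G) m = Matrix.toLinAlgEquiv' (aeval G m) :=
      aeval_algHom_apply (Matrix.toLinAlgEquiv' : Matrix (Fin n) (Fin n) F ≃ₐ[F] _) G m
    rw [hmG, map_zero] at h1
    exact h1
  have : Fact (Irreducible m) := ⟨hirr⟩
  obtain ⟨d, hd, _⟩ := det_of_aeval_irreducible m (Matrix.toLin' G) hmT
  rw [Module.finrank_fin_fun] at hd
  have hdvd : m.natDegree ∣ n := ⟨d, hd⟩
  rcases (Nat.dvd_prime hn).mp hdvd with h1 | h1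
  · -- degree one: scalar
    have h2 := hmon.eq_X_add_C h1
    rw [h2, map_add, aeval_X, aeval_C] at hmG
    apply hns (-(m.coeff 0))
    rw [neg_smul, ← Algebra.algebraMap_eq_smul_one]
    exact eq_neg_of_add_eq_zero_left hmG
  · have := Polynomial.natDegree_le_of_dvd hmf hf0
    omega

/-- Dedekind independence of the powers of a normalizing element over `K` -/
theorem dedekind_indep (hK : Cfsg.Geo.IsFieldSubalgebra n K) (g : GL (Fin n) F)
    (hgN : g ∈ Cfsg.Geo.subalgebraNormalizer K)
    (hsep : ∀ j1 j2 : ℕ, j1 < n → j2 < n → j1 ≠ j2 → ∃ k ∈ K,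
      ((g ^ j1 : GL (Fin n) F) : Matrix (Fin n) (Fin n) F) * k *
        (((g ^ j1)⁻¹ : GL (Fin n) F) : Matrix (Fin n) (Fin n) F) ≠
      ((g ^ j2 : GL (Fin n) F) : Matrix (Fin n) (Fin n) F) * k *
        (((g ^ j2)⁻¹ : GL (Fin n) F) : Matrix (Fin n) (Fin n) F)) :
    ∀ S : Finset ℕ, (∀ j ∈ S, j < n) → ∀ c : ℕ → Matrix (Fin n) (Fin n) F, (∀ j ∈ S, c j ∈ K) →
      ∑ j ∈ S, c j * ((g ^ j : GL (Fin n) F) : Matrix (Fin n) (Fin n) F) = 0 → ∀ j ∈ S, c j = 0 := by
  classical
  -- notation
  have hinvmul : ∀ j : ℕ, (((g ^ j)⁻¹ : GL (Fin n) F) : Matrix (Fin n) (Fin n) F) *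
      ((g ^ j : GL (Fin n) F) : Matrix (Fin n) (Fin n) F) = 1 := by
    intro j
    rw [← Units.val_mul, inv_mul_cancel, Units.val_one]
  obtain ⟨α, hα⟩ : ∃ α : ℕ → Matrix (Fin n) (Fin n) F → Matrix (Fin n) (Fin n) F, ∀ j k, α j k =
      ((g ^ j : GL (Fin n) F) : Matrix (Fin n) (Fin n) F) * k *
        (((g ^ j)⁻¹ : GL (Fin n) F) : Matrix (Fin n) (Fin n) F) := ⟨_, fun _ _ => rfl⟩
  have hαmem : ∀ j k, k ∈ K → α j k ∈ K := fun j k hk => by
    rw [hα]
    exact ((pow_mem hgN j) k).mp hk
  have hαcomm : ∀ j k, ((g ^ j : GL (Fin n) F) : Matrix (Fin n) (Fin n) F) * k =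
      α j k * ((g ^ j : GL (Fin n) F) : Matrix (Fin n) (Fin n) F) := by
    intro j k
    rw [hα, mul_assoc, hinvmul, mul_one]
  intro S
  induction S using Finset.induction_on with
  | empty => intro _ c _ _ j hj; simp at hj
  | insert j1 S' hj1 ih =>
    intro hlt c hc hsum
    have hlt' : ∀ j ∈ S', j < n := fun j hj => hlt j (Finset.mem_insert_of_mem hj)
    have hc' : ∀ j ∈ S', c j ∈ K := fun j hj => hc j (Finset.mem_insert_of_mem hj)
    have hcj1 : c j1 ∈ K := hc j1 (Finset.mem_insert_self _ _)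
    -- all other coefficients vanish
    have hrest : ∀ j2 ∈ S', c j2 = 0 := by
      intro j2 hj2
      have hne : j1 ≠ j2 := fun h => hj1 (h ▸ hj2)
      obtain ⟨k, hk, hkne⟩ := hsep j1 j2 (hlt j1 (Finset.mem_insert_self _ _)) (hlt' j2 hj2) hne
      have hkne' : α j1 k ≠ α j2 k := by
        rw [hα, hα]
        exact hkne
      -- the new relation
      have hrel : ∑ j ∈ S', (c j * (α j k - α j1 k)) *
          ((g ^ j : GL (Fin n) F) : Matrix (Fin n) (Fin n) F) = 0 := by
        have e1 : ∑ j ∈ insert j1 S', (c j * α j k) *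
            ((g ^ j : GL (Fin n) F) : Matrix (Fin n) (Fin n) F) = 0 := by
          have : (∑ j ∈ insert j1 S', c j * ((g ^ j : GL (Fin n) F) : Matrix (Fin n) (Fin n) F)) * k
              = 0 := by rw [hsum, zero_mul]
          rw [Finset.sum_mul] at this
          rw [← this]
          apply Finset.sum_congr rfl
          intro j _
          rw [mul_assoc, mul_assoc, hαcomm]
        have e2 : ∑ j ∈ insert j1 S', (c j * α j1 k) *
            ((g ^ j : GL (Fin n) F) : Matrix (Fin n) (Fin n) F) = 0 := by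
          have : α j1 k *
              (∑ j ∈ insert j1 S', c j * ((g ^ j : GL (Fin n) F) : Matrix (Fin n) (Fin n) F))
              = 0 := by rw [hsum, mul_zero]
          rw [Finset.mul_sum] at this
          rw [← this]
          apply Finset.sum_congr rfl
          intro j hj
          rw [hK.comm (c j) (hc j hj) (α j1 k) (hαmem j1 k hk), mul_assoc]
        have e3 : ∑ j ∈ insert j1 S', (c j * (α j k - α j1 k)) *
            ((g ^ j : GL (Fin n) F) : Matrix (Fin n) (Fin n) F) = 0 := by
          have : ∀ j, (c j * (α j k - α j1 k)) *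
            ((g ^ j : GL (Fin n) F) : Matrix (Fin n) (Fin n) F) =
            (c j * α j k) * ((g ^ j : GL (Fin n) F) : Matrix (Fin n) (Fin n) F) -
            (c j * α j1 k) * ((g ^ j : GL (Fin n) F) : Matrix (Fin n) (Fin n) F) := by
            intro j
            rw [mul_sub, sub_mul]
          simp_rw [this]
          rw [Finset.sum_sub_distrib, e1, e2, sub_zero]
        rw [Finset.sum_insert hj1, sub_self, mul_zero, zero_mul, zero_add] at e3
        exact e3
      have h0 := ih hlt' (fun j => c j * (α j k - α j1 k))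
        (fun j hj => K.mul_mem (hc' j hj) (K.sub_mem (hαmem j k hk) (hαmem j1 k hk))) hrel j2 hj2
      rcases fieldSub_mul_eq_zero hK (hc' j2 hj2) h0 with h | h
      · exact h
      · exact absurd (sub_eq_zero.mp h).symm hkne'
    intro j hj
    rcases Finset.mem_insert.mp hj with rfl | hj'
    · rw [Finset.sum_insert hj1, Finset.sum_eq_zero (fun j hj => by rw [hrest j hj, zero_mul]),
        add_zero] at hsum
      have h2 : ((g ^ j : GL (Fin n) F) : Matrix (Fin n) (Fin n) F) *
          (((g ^ j)⁻¹ : GL (Fin n) F) : Matrix (Fin n) (Fin n) F) = 1 := by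
        rw [← Units.val_mul, mul_inv_cancel, Units.val_one]
      calc c j = c j * ((g ^ j : GL (Fin n) F) : Matrix (Fin n) (Fin n) F) *
            (((g ^ j)⁻¹ : GL (Fin n) F) : Matrix (Fin n) (Fin n) F) := by
            rw [mul_assoc, h2, mul_one]
        _ = 0 := by rw [hsum, zero_mul]
    · exact hrest j hj'

/-- a Bezout argument in a group -/
lemma mem_of_pow_mem_of_zpow_mem {G' : Type*} [Group G'] (C : Subgroup G') (g : G') {n : ℕ}
    (hn : n.Prime) (hgn : g ^ n ∈ C) (d : ℤ) (hd : ¬ (n : ℤ) ∣ d) (hgd : g ^ d ∈ C) : g ∈ C := by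
  have hirr : Irreducible (n : ℤ) := (Nat.prime_iff_prime_int.mp hn).irreducible
  obtain ⟨a, b, hab⟩ := (hirr.coprime_iff_not_dvd).mpr hd
  have : g = (g ^ n) ^ a * (g ^ d) ^ b := by
    rw [← zpow_natCast, ← _root_.zpow_mul', ← _root_.zpow_mul', ← _root_.zpow_add, hab, zpow_one]
  rw [this]
  exact C.mul_mem (C.zpow_mem hgn a) (C.zpow_mem hgd b)

/-- nonscalar elements `g` of the normalizer of `K` with `g^n` scalar have no nonzero annihilating
polynomial of degree less than `n` -/
theorem no_small_annihilator [NeZero n] (hn : n.Prime) (hK : Cfsg.Geo.IsFieldSubalgebra n K)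
    (g : GL (Fin n) F) (hgN : g ∈ Cfsg.Geo.subalgebraNormalizer K)
    (hns : ∀ z : F, (g : Matrix (Fin n) (Fin n) F) ≠ z • (1 : Matrix (Fin n) (Fin n) F))
    (z : F) (hz : (g : Matrix (Fin n) (Fin n) F) ^ n = z • (1 : Matrix (Fin n) (Fin n) F))
    (f : F[X]) (hf0 : f ≠ 0) (hfd : f.natDegree < n)
    (hfG : aeval (g : Matrix (Fin n) (Fin n) F) f = 0) : False := by
  by_cases hC : g ∈ subalgebraCentralizer K
  · exact no_small_annihilator_of_mem hn hK _
      (mem_of_forall_commute hK _ ((mem_subalgebraCentralizer g).mp hC)) hns f hf0 hfd hfG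
  · have hgnC : g ^ n ∈ subalgebraCentralizer K := by
      rw [mem_subalgebraCentralizer]
      intro k _
      rw [Units.val_pow_eq_pow_val, hz]
      simp
    have hsep : ∀ j1 j2 : ℕ, j1 < n → j2 < n → j1 ≠ j2 → ∃ k ∈ K,
      ((g ^ j1 : GL (Fin n) F) : Matrix (Fin n) (Fin n) F) * k *
        (((g ^ j1)⁻¹ : GL (Fin n) F) : Matrix (Fin n) (Fin n) F) ≠
      ((g ^ j2 : GL (Fin n) F) : Matrix (Fin n) (Fin n) F) * k *
        (((g ^ j2)⁻¹ : GL (Fin n) F) : Matrix (Fin n) (Fin n) F) := by
      intro j1 j2 h1 h2 hne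
      by_contra hcon
      push Not at hcon
      apply hC
      apply mem_of_pow_mem_of_zpow_mem _ g hn hgnC ((j1 : ℤ) - j2)
      · intro hdvd
        have h3 : |(j1 : ℤ) - j2| < n := by
          rw [abs_lt]
          constructor <;> omega
        have := Int.eq_zero_of_abs_lt_dvd hdvd h3
        omega
      · have e : g ^ ((j1 : ℤ) - j2) = (g ^ j2)⁻¹ * g ^ j1 := by
          rw [sub_eq_neg_add, _root_.zpow_add, _root_.zpow_neg, zpow_natCast, zpow_natCast]
        rw [e, mem_subalgebraCentralizer]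
        intro k hk
        have h4 := hcon k hk
        have hi2 : (((g ^ j2)⁻¹ : GL (Fin n) F) : Matrix (Fin n) (Fin n) F) *
            ((g ^ j2 : GL (Fin n) F) : Matrix (Fin n) (Fin n) F) = 1 := by
          rw [← Units.val_mul, inv_mul_cancel, Units.val_one]
        have hi1 : (((g ^ j1)⁻¹ : GL (Fin n) F) : Matrix (Fin n) (Fin n) F) *
            ((g ^ j1 : GL (Fin n) F) : Matrix (Fin n) (Fin n) F) = 1 := by
          rw [← Units.val_mul, inv_mul_cancel, Units.val_one]
        rw [Units.val_mul]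
        calc (((g ^ j2)⁻¹ : GL (Fin n) F) : Matrix (Fin n) (Fin n) F) *
              ((g ^ j1 : GL (Fin n) F) : Matrix (Fin n) (Fin n) F) * k
            = (((g ^ j2)⁻¹ : GL (Fin n) F) : Matrix (Fin n) (Fin n) F) *
              (((g ^ j1 : GL (Fin n) F) : Matrix (Fin n) (Fin n) F) * k *
              (((g ^ j1)⁻¹ : GL (Fin n) F) : Matrix (Fin n) (Fin n) F)) *
              ((g ^ j1 : GL (Fin n) F) : Matrix (Fin n) (Fin n) F) := by
              simp only [mul_assoc]
              rw [hi1, mul_one]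
          _ = (((g ^ j2)⁻¹ : GL (Fin n) F) : Matrix (Fin n) (Fin n) F) *
              (((g ^ j2 : GL (Fin n) F) : Matrix (Fin n) (Fin n) F) * k *
              (((g ^ j2)⁻¹ : GL (Fin n) F) : Matrix (Fin n) (Fin n) F)) *
              ((g ^ j1 : GL (Fin n) F) : Matrix (Fin n) (Fin n) F) := by rw [h4]
          _ = k * ((((g ^ j2)⁻¹ : GL (Fin n) F) : Matrix (Fin n) (Fin n) F) *
              ((g ^ j1 : GL (Fin n) F) : Matrix (Fin n) (Fin n) F)) := by
              rw [← mul_assoc, ← mul_assoc, hi2, one_mul, mul_assoc]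
    have hded := dedekind_indep hK g hgN hsep (Finset.range n)
      (fun j hj => Finset.mem_range.mp hj)
      (fun j => (f.coeff j) • (1 : Matrix (Fin n) (Fin n) F))
      (fun j _ => by
        rw [← Algebra.algebraMap_eq_smul_one]
        exact K.algebraMap_mem _)
      (by
        rw [Polynomial.aeval_eq_sum_range' hfd] at hfG
        rw [← hfG]
        apply Finset.sum_congr rfl
        intro j _
        rw [smul_mul_assoc, one_mul, Units.val_pow_eq_pow_val])
    apply hf0
    ext j
    rw [Polynomial.coeff_zero]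
    by_cases hj : j < n
    · have := hded j (Finset.mem_range.mpr hj)
      rcases smul_eq_zero.mp this with h | h
      · exact h
      · exact absurd h one_ne_zero
    · exact Polynomial.coeff_eq_zero_of_natDegree_lt (by omega)

end nk3

end Cfsg.Agent.Lib.Helper2.BG
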