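import Cfsg.Agent.Lib.Helper2.BGDer

/-! # Nonscalar elements of `SL_r(q)` of order `r` with small minimal polynomial (helper2, S5970) -/

set_option autoImplicit false

namespace Cfsg.Agent.Lib.Helper2.BG

open Polynomial Module

section nk4
variable {F : Type*} [Field F] [Fintype F]

omit [Fintype F] in
lemma root_ne_algebraMap (g : F[X]) [hg : Fact (Irreducible g)] (h2 : 2 ≤ g.natDegree) (z : F) :
    AdjoinRoot.root g ≠ algebraMap F (AdjoinRoot g) z := by
  intro h
  have h1 : AdjoinRoot.mk g (X - C z) = 0 := by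
    rw [map_sub, AdjoinRoot.mk_X, AdjoinRoot.mk_C, h]
    exact sub_self _
  have h3 := AdjoinRoot.mk_eq_zero.mp h1
  have h4 := Polynomial.natDegree_le_of_dvd h3 (Polynomial.X_sub_C_ne_zero z)
  rw [Polynomial.natDegree_X_sub_C] at h4
  omega

/-- order of `q` at least two and less than `r - 1`: one irreducible block and a fixed space -/
theorem exists_small_annihilator_A {p : ℕ} [hp : Fact p.Prime] [CharP F p] {r : ℕ} [hr : Fact r.Prime]
    (hrp : r ≠ p) (hi : 2 ≤ orderOf ((Fintype.card F : ℕ) : ZMod r))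
    (hi2 : orderOf ((Fintype.card F : ℕ) : ZMod r) + 1 < r) :
    ∃ x : Matrix.SpecialLinearGroup (Fin r) F,
      ((x ^ r : Matrix.SpecialLinearGroup (Fin r) F) : Matrix (Fin r) (Fin r) F) = 1 ∧
      (∀ z : F, (x : Matrix (Fin r) (Fin r) F) ≠ z • (1 : Matrix (Fin r) (Fin r) F)) ∧
      ∃ f : F[X], f ≠ 0 ∧ f.natDegree < r ∧ aeval (x : Matrix (Fin r) (Fin r) F) f = 0 := by
  obtain ⟨i, hidef⟩ : ∃ i, i = orderOf ((Fintype.card F : ℕ) : ZMod r) := ⟨_, rfl⟩
  rw [← hidef] at hi hi2
  have hrF : (r : F) ≠ 0 := natCast_ne_zero_of_ne (p := p) hrp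
  have hcyc0 : cyclotomic r F ≠ 0 := cyclotomic_ne_zero r F
  have hcycnu : ¬ IsUnit (cyclotomic r F) := by
    intro hu
    have h1 := Polynomial.natDegree_eq_zero_of_isUnit hu
    rw [Polynomial.natDegree_cyclotomic, Nat.totient_prime hr.out] at h1
    have := hr.out.two_le
    omega
  obtain ⟨g, hgirr, hgd⟩ := WfDvdMonoid.exists_irreducible_factor hcycnu hcyc0
  have hgdeg : g.natDegree = i := by
    rw [hidef]
    exact allIrrDeg_cyclotomic (p := p) hrp g hgirr hgd
  have : Fact (Irreducible g) := ⟨hgirr⟩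
  have hcycd : cyclotomic r F ∣ X ^ r - 1 := by
    rw [← Polynomial.cyclotomic_prime_mul_X_sub_one F r]
    exact dvd_mul_right _ _
  have hgX : g ∣ X ^ r - 1 := hgd.trans hcycd
  have := finite_adjoinRoot g
  obtain ⟨a, ha⟩ : ∃ a, r = 1 * i + (a + 1) := ⟨r - i - 1, by omega⟩
  have hfr : Module.finrank F (BlockSpace g 1 (a + 1)) = Module.finrank F (Fin r → F) := by
    rw [finrank_blockSpace, Module.finrank_fin_fun, hgdeg, ha]
  let e : BlockSpace g 1 (a + 1) ≃ₗ[F] (Fin r → F) := LinearEquiv.ofFinrankEq _ _ hfr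
  obtain ⟨f', hf'⟩ : ∃ f', f' = blockOp g 1 (a + 1) := ⟨_, rfl⟩
  have hpolyX : aeval f' (X ^ r - 1 : F[X]) = 0 := by
    rw [hf']
    exact aeval_blockOp_eq_zero g 1 (a + 1) _ hgX (by simp)
  have hpow : f' ^ r = 1 := by
    have h1 := hpolyX
    rw [map_sub, map_pow, aeval_X, map_one] at h1
    exact sub_eq_zero.mp h1
  have hcop : Nat.Coprime r (Fintype.card F - 1) := by
    rw [Nat.Prime.coprime_iff_not_dvd hr.out]
    intro hdvd
    have := (orderOf_eq_one_iff_dvd (r := r) (Fintype.card F) Fintype.card_pos).mpr hdvd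
    omega
  have hdet' : (endMatEquiv e f').det = 1 := by
    rw [det_endMatEquiv, hf', det_blockOp, norm_root_eq_one hr.out.pos g hgX hcop, one_pow]
  let x : Matrix.SpecialLinearGroup (Fin r) F := ⟨endMatEquiv e f', hdet'⟩
  refine ⟨x, ?_, ?_, (X - 1) * g, ?_, ?_, ?_⟩
  · rw [Matrix.SpecialLinearGroup.coe_pow]
    show (endMatEquiv e f') ^ r = _
    rw [← map_pow, hpow, map_one]
  · intro z hz
    have h1 : endMatEquiv e f' = endMatEquiv e (z • (1 : Module.End F _)) := by
      rw [map_smul, map_one]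
      exact hz
    have h2 := (endMatEquiv e).injective h1
    have h3 := congrArg (fun T : Module.End F (BlockSpace g 1 (a + 1)) =>
      (T ((fun _ => 1), 0)).1 0) h2
    simp only [hf', blockOp_apply, LinearMap.smul_apply, Module.End.one_apply, Prod.smul_mk,
      Pi.smul_apply, mul_one] at h3
    apply root_ne_algebraMap g (by omega) z
    rw [h3, Algebra.algebraMap_eq_smul_one]
  · exact mul_ne_zero (Polynomial.X_sub_C_ne_zero (1 : F) |> fun h => by simpa using h) hgirr.ne_zero
  · rw [Polynomial.natDegree_mul (Polynomial.X_sub_C_ne_zero (1 : F) |> fun h => by simpa using h)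
      hgirr.ne_zero, hgdeg, show (X - 1 : F[X]) = X - C 1 by simp, Polynomial.natDegree_X_sub_C]
    omega
  · show aeval (endMatEquiv e f') _ = 0
    have h1 : aeval (endMatEquiv e f') ((X - 1) * g : F[X]) =
        endMatEquiv e (aeval f' ((X - 1) * g : F[X])) := aeval_algHom_apply (endMatEquiv e) f' _
    rw [h1, hf', aeval_blockOp_eq_zero g 1 (a + 1) _ (dvd_mul_left _ _) (by simp), map_zero]

/-- `q ≡ 1 mod r`: a diagonal element -/
theorem exists_small_annihilator_B {r : ℕ} (hr : r.Prime) (hr3 : 3 < r)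
    (hrq : r ∣ Fintype.card F - 1) :
    ∃ x : Matrix.SpecialLinearGroup (Fin r) F,
      ((x ^ r : Matrix.SpecialLinearGroup (Fin r) F) : Matrix (Fin r) (Fin r) F) = 1 ∧
      (∀ z : F, (x : Matrix (Fin r) (Fin r) F) ≠ z • (1 : Matrix (Fin r) (Fin r) F)) ∧
      ∃ f : F[X], f ≠ 0 ∧ f.natDegree < r ∧ aeval (x : Matrix (Fin r) (Fin r) F) f = 0 := by
  classical
  have : Fact r.Prime := ⟨hr⟩
  have hcard : r ∣ Fintype.card Fˣ := by rwa [Fintype.card_units]
  obtain ⟨u, hu⟩ := exists_prime_orderOf_dvd_card r hcard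
  obtain ⟨ζ, hζdef⟩ : ∃ ζ : F, ζ = (u : F) := ⟨_, rfl⟩
  have hζr : ζ ^ r = 1 := by
    rw [hζdef, ← Units.val_pow_eq_pow_val, ← hu, pow_orderOf_eq_one, Units.val_one]
  have hζ1 : ζ ≠ 1 := by
    intro h
    have : u = 1 := Units.ext (by rw [← hζdef, h, Units.val_one])
    rw [this, orderOf_one] at hu
    omega
  have hζ0 : ζ ≠ 0 := by rw [hζdef]; exact u.ne_zero
  have hζir : ζ⁻¹ ^ r = 1 := by rw [inv_pow, hζr, inv_one]
  let j0 : Fin r := ⟨0, by omega⟩
  let j1 : Fin r := ⟨1, by omega⟩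
  let j2 : Fin r := ⟨2, by omega⟩
  have h01 : j0 ≠ j1 := by intro h; have := congrArg Fin.val h; simp [j0, j1] at this
  have h02 : j2 ≠ j0 := by intro h; have := congrArg Fin.val h; simp [j0, j2] at this
  have h12 : j2 ≠ j1 := by intro h; have := congrArg Fin.val h; simp [j1, j2] at this
  obtain ⟨d, hd⟩ : ∃ d : Fin r → F, d = fun j => (if j = j0 then ζ else 1) * (if j = j1 then ζ⁻¹ else 1) :=
    ⟨_, rfl⟩
  have hd0 : d j0 = ζ := by rw [hd]; simp [h01]
  have hd2 : d j2 = 1 := by rw [hd]; simp [h02, h12]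
  have hdcases : ∀ j, d j = ζ ∨ d j = ζ⁻¹ ∨ d j = 1 := by
    intro j
    rw [hd]
    by_cases hj0 : j = j0
    · left
      subst hj0
      simp [h01]
    · by_cases hj1 : j = j1
      · right; left
        subst hj1
        simp [Ne.symm h01]
      · right; right
        simp [hj0, hj1]
  have hprod : ∏ j, d j = 1 := by
    rw [hd, Finset.prod_mul_distrib, Finset.prod_ite_eq', Finset.prod_ite_eq']
    simp [hζ0]
  have hdet : (Matrix.diagonal d).det = 1 := by rw [Matrix.det_diagonal, hprod]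
  let x : Matrix.SpecialLinearGroup (Fin r) F := ⟨Matrix.diagonal d, hdet⟩
  refine ⟨x, ?_, ?_, (X - C ζ) * ((X - C ζ⁻¹) * (X - C 1)), ?_, ?_, ?_⟩
  · rw [Matrix.SpecialLinearGroup.coe_pow]
    show (Matrix.diagonal d) ^ r = _
    rw [Matrix.diagonal_pow, ← Matrix.diagonal_one]
    congr 1
    funext j
    rw [Pi.pow_apply]
    show d j ^ r = 1
    rcases hdcases j with h | h | h <;> rw [h]
    · exact hζr
    · exact hζir
    · exact one_pow _
  · intro z hz
    have hz' : Matrix.diagonal d = z • (1 : Matrix (Fin r) (Fin r) F) := hz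
    have e0 := congrFun (congrFun hz' j0) j0
    have e2 := congrFun (congrFun hz' j2) j2
    simp only [Matrix.diagonal_apply_eq, Matrix.smul_apply, Matrix.one_apply_eq, smul_eq_mul,
      mul_one] at e0 e2
    apply hζ1
    rw [← hd0, e0, ← e2, hd2]
  · exact mul_ne_zero (Polynomial.X_sub_C_ne_zero _)
      (mul_ne_zero (Polynomial.X_sub_C_ne_zero _) (Polynomial.X_sub_C_ne_zero _))
  · have m1 := Polynomial.monic_X_sub_C ζ
    have m2 := Polynomial.monic_X_sub_C ζ⁻¹
    have m3 := Polynomial.monic_X_sub_C (1 : F)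
    rw [m1.natDegree_mul (m2.mul m3), m2.natDegree_mul m3, Polynomial.natDegree_X_sub_C,
      Polynomial.natDegree_X_sub_C, Polynomial.natDegree_X_sub_C]
    omega
  · show aeval (Matrix.diagonal d) _ = 0
    have hsub : ∀ c : F, aeval (Matrix.diagonal d) (X - C c : F[X]) =
        Matrix.diagonal (fun j => d j - c) := by
      intro c
      rw [map_sub, aeval_X, aeval_C, Algebra.algebraMap_eq_smul_one, Matrix.smul_one_eq_diagonal,
        ← Matrix.diagonal_sub]
    rw [map_mul, map_mul, hsub, hsub, hsub, Matrix.diagonal_mul_diagonal,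
      Matrix.diagonal_mul_diagonal, ← Matrix.diagonal_zero]
    congr 1
    funext j
    rcases hdcases j with h | h | h <;> rw [h] <;> simp

end nk4

end Cfsg.Agent.Lib.Helper2.BG
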