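import Cfsg.Agent.Lib.Helper2.BGJordan
import Cfsg.Agent.Lib.Helper99.JordanDecomp

/-! # Elements of order `p` in `SL_n(q)`, `q` a power of `p` (helper2, for S5950) -/

set_option autoImplicit false

namespace Cfsg.Agent.Lib.Helper2.BG

open Module

section unip
variable {F : Type*} [Field F] [Fintype F] {p : ℕ} [hp : Fact p.Prime] [CharP F p]

/-- a unipotent element of `SL_n` with prescribed Jordan type -/
theorem exists_unipotent_of_multiset (n : ℕ) (hn : n ≠ 0) (μ : Multiset ℕ)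
    (hμ : ∀ b ∈ μ, 0 < b ∧ b ≤ p) (hsum : μ.sum = n) :
    ∃ (x : Matrix.SpecialLinearGroup (Fin n) F) (T : Module.End F (Fin n → F)),
      ((x ^ p : Matrix.SpecialLinearGroup (Fin n) F) : Matrix (Fin n) (Fin n) F) = 1 ∧
      T ^ p = 0 ∧ (∀ k, Cfsg.Agent.Lib.Helper99.dker T k = (μ.map (fun b => min b k)).sum) ∧
      ∀ v, Matrix.toLin' (x : Matrix (Fin n) (Fin n) F) v = v + T v := by
  classical
  have hp' : p.Prime := hp.out
  have : NeZero n := ⟨hn⟩
  obtain ⟨T, hT⟩ := Cfsg.Agent.Lib.Helper99.exists_end_of_multiset F μ n hsum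
  have hTp : T ^ p = 0 := by
    have h1 : Cfsg.Agent.Lib.Helper99.dker T p = n := by
      rw [hT, ← hsum]
      congr 1
      conv_rhs => rw [← Multiset.map_id μ]
      apply Multiset.map_congr rfl
      intro b hb
      exact min_eq_left (hμ b hb).2
    have h2 : LinearMap.ker (T ^ p) = ⊤ := by
      apply Submodule.eq_top_of_finrank_eq
      rw [Module.finrank_fintype_fun_eq_card, Fintype.card_fin]
      exact h1
    exact LinearMap.ker_eq_top.mp h2
  set N : Matrix (Fin n) (Fin n) F := LinearMap.toMatrix' T with hNdef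
  have hN : Matrix.toLin' N = T := Matrix.toLin'_toMatrix' T
  have hNp : N ^ p = 0 := by
    apply Matrix.toLin'.injective
    rw [Matrix.toLin'_pow, hN, hTp, map_zero]
  set X : Matrix (Fin n) (Fin n) F := 1 + N with hXdef
  have hXp : X ^ p = 1 := by
    have hcomm : Commute (1 : Matrix (Fin n) (Fin n) F) N := Commute.one_left N
    rw [hXdef, add_pow_char_of_commute _ hcomm, one_pow, hNp, add_zero]
  have hdet : X.det = 1 := by
    have h1 : X.det ^ p = 1 := by rw [← Matrix.det_pow, hXp, Matrix.det_one]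
    have h2 : (X.det - 1) ^ p = 0 := by rw [sub_pow_char, h1, one_pow, sub_self]
    exact sub_eq_zero.mp ((pow_eq_zero_iff hp'.ne_zero).mp h2)
  let x : Matrix.SpecialLinearGroup (Fin n) F := ⟨X, hdet⟩
  refine ⟨x, T, ?_, hTp, hT, ?_⟩
  · rw [Matrix.SpecialLinearGroup.coe_pow]
    exact hXp
  · intro v
    show Matrix.toLin' X v = v + T v
    rw [hXdef, map_add, Matrix.toLin'_one, hN]
    rfl

/-- an element with `x^p` scalar is a scalar times a unipotent element -/
theorem exists_nilpotent_of_pow_scalar (n : ℕ) (hn : n ≠ 0)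
    (x : Matrix.SpecialLinearGroup (Fin n) F) (c : F)
    (hx : ((x ^ p : Matrix.SpecialLinearGroup (Fin n) F) : Matrix (Fin n) (Fin n) F) =
      c • (1 : Matrix (Fin n) (Fin n) F)) :
    ∃ (μ₀ : F) (T : Module.End F (Fin n → F)), μ₀ ≠ 0 ∧ T ^ p = 0 ∧
      ∀ v, Matrix.toLin' (x : Matrix (Fin n) (Fin n) F) v = μ₀ • (v + T v) := by
  classical
  have hp' : p.Prime := hp.out
  have : NeZero n := ⟨hn⟩
  rw [Matrix.SpecialLinearGroup.coe_pow] at hx
  have hc0 : c ≠ 0 := by
    rintro rfl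
    have h1 : ((x : Matrix (Fin n) (Fin n) F) ^ p).det = 1 := by
      rw [Matrix.det_pow, x.2, one_pow]
    have : Nonempty (Fin n) := ⟨⟨0, Nat.pos_of_ne_zero hn⟩⟩
    rw [hx, zero_smul, Matrix.det_zero] at h1
    exact zero_ne_one h1
  have : ExpChar F p := ExpChar.prime hp'
  obtain ⟨μ₀, hμ₀⟩ := surjective_frobenius F p c
  rw [frobenius_def] at hμ₀
  have hμ0 : μ₀ ≠ 0 := by
    rintro rfl
    rw [zero_pow hp'.ne_zero] at hμ₀
    exact hc0 hμ₀.symm
  set X : Matrix (Fin n) (Fin n) F := (x : Matrix (Fin n) (Fin n) F) with hX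
  set N : Matrix (Fin n) (Fin n) F := μ₀⁻¹ • X - 1 with hNdef
  have hNp : N ^ p = 0 := by
    have hcomm : Commute (μ₀⁻¹ • X) (1 : Matrix (Fin n) (Fin n) F) := Commute.one_right _
    rw [hNdef, sub_pow_char_of_commute _ hcomm, one_pow, smul_pow, hx, smul_smul, inv_pow, hμ₀,
      inv_mul_cancel₀ hc0, one_smul, sub_self]
  refine ⟨μ₀, Matrix.toLin' N, hμ0, ?_, ?_⟩
  · rw [← Matrix.toLin'_pow, hNp, map_zero]
  · intro v
    rw [hNdef, map_sub, map_smul, Matrix.toLin'_one, LinearMap.sub_apply, LinearMap.smul_apply,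
      LinearMap.id_apply, add_sub_cancel, smul_smul, mul_inv_cancel₀ hμ0, one_smul]

end unip

end Cfsg.Agent.Lib.Helper2.BG
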