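import Mathlib
import Cfsg.Agent.Lib.Helper99.BMDefs
import Cfsg.Agent.Lib.Helper97.BMORTHSUB

/-! # S2733 leaf BM-SIMPLE-A (helper2 for helper99): the core, with BM-ORTHSUB as a hypothesis -/

set_option autoImplicit false

namespace Cfsg.Agent.Lib.Helper99.BM

universe u v

section simpA

variable {K : Type u} [Field K] {V : Type v} [AddCommGroup V] [Module K V]

/-- restriction of a linear equivalence preserving `E` (together with its inverse) -/
def simpA_res (E : Submodule K V) (x : V ≃ₗ[K] V) (hx : ∀ v ∈ E, x v ∈ E)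
    (hx' : ∀ v ∈ E, x⁻¹ v ∈ E) : E ≃ₗ[K] E where
  toFun v := ⟨x v, hx v v.2⟩
  invFun v := ⟨x⁻¹ v, hx' v v.2⟩
  map_add' a b := by ext; simp
  map_smul' c a := by ext; simp
  left_inv a := by ext; simp
  right_inv a := by ext; simp

theorem simpA_res_apply (E : Submodule K V) (x : V ≃ₗ[K] V) (hx : ∀ v ∈ E, x v ∈ E)
    (hx' : ∀ v ∈ E, x⁻¹ v ∈ E) (v : E) : ((simpA_res E x hx hx' v : E) : V) = x v := rfl

/-- extension of a linear equivalence of `E` by the identity on the complement `E'` -/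
noncomputable def simpA_ext {E E' : Submodule K V} (hc : IsCompl E E') (y : E ≃ₗ[K] E) :
    V ≃ₗ[K] V :=
  ((Submodule.prodEquivOfIsCompl E E' hc).symm.trans
    (LinearEquiv.prodCongr y (LinearEquiv.refl K E'))).trans (Submodule.prodEquivOfIsCompl E E' hc)

theorem simpA_ext_add {E E' : Submodule K V} (hc : IsCompl E E') (y : E ≃ₗ[K] E) (a : E) (b : E') :
    simpA_ext hc y ((a : V) + b) = (y a : V) + b := by
  have h1 : (Submodule.prodEquivOfIsCompl E E' hc).symm ((a : V) + b) = (a, b) := by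
    rw [LinearEquiv.symm_apply_eq]; rfl
  simp only [simpA_ext, LinearEquiv.trans_apply, h1, LinearEquiv.prodCongr_apply,
    LinearEquiv.refl_apply, Submodule.coe_prodEquivOfIsCompl']

theorem simpA_ext_left {E E' : Submodule K V} (hc : IsCompl E E') (y : E ≃ₗ[K] E) (a : E) :
    simpA_ext hc y (a : V) = (y a : V) := by
  have := simpA_ext_add hc y a 0
  simpa using this

theorem simpA_ext_right {E E' : Submodule K V} (hc : IsCompl E E') (y : E ≃ₗ[K] E) (b : E') :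
    simpA_ext hc y (b : V) = (b : V) := by
  have := simpA_ext_add hc y 0 b
  simpa using this

theorem simpA_restrict_apply (B : LinearMap.BilinForm K V) (E : Submodule K V) (u w : E) :
    B.restrict E u w = B (u : V) (w : V) := rfl

theorem simpA_decomp {E E' : Submodule K V} (hc : IsCompl E E') (v : V) :
    ∃ (a : E) (b : E'), v = (a : V) + b := by
  have hv : v ∈ E ⊔ E' := by rw [hc.sup_eq_top]; exact Submodule.mem_top
  obtain ⟨a, ha, b, hb, rfl⟩ := Submodule.mem_sup.mp hv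
  exact ⟨⟨a, ha⟩, ⟨b, hb⟩, rfl⟩

theorem simpA_ext_mem_left {E E' : Submodule K V} (hc : IsCompl E E') (y : E ≃ₗ[K] E) (v : V)
    (hv : v ∈ E) : simpA_ext hc y v ∈ E := by
  have := simpA_ext_left hc y ⟨v, hv⟩
  simp only at this
  rw [this]
  exact (y ⟨v, hv⟩).2

theorem simpA_ext_mem_right {E E' : Submodule K V} (hc : IsCompl E E') (y : E ≃ₗ[K] E) (v : V)
    (hv : v ∈ E') : simpA_ext hc y v ∈ E' := by
  have := simpA_ext_right hc y ⟨v, hv⟩
  simp only at this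
  rw [this]
  exact hv

theorem simpA_ext_inv {E E' : Submodule K V} (hc : IsCompl E E') (y : E ≃ₗ[K] E) :
    (simpA_ext hc y)⁻¹ = simpA_ext hc y⁻¹ := by
  rw [inv_eq_iff_mul_eq_one]
  apply LinearEquiv.ext
  intro v
  obtain ⟨a, b, rfl⟩ := simpA_decomp hc v
  rw [LinearEquiv.mul_apply, simpA_ext_add, simpA_ext_add]
  simp

/-- the extension of an isometry is an isometry -/
theorem simpA_ext_isom (B : LinearMap.BilinForm K V) (hs : B.IsSymm) {E E' : Submodule K V}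
    (hc : IsCompl E E') (horth : ∀ u ∈ E, ∀ w ∈ E', B u w = 0) (y : E ≃ₗ[K] E)
    (hy : ∀ u w : E, B.restrict E (y u) (y w) = B.restrict E u w) (u w : V) :
    B (simpA_ext hc y u) (simpA_ext hc y w) = B u w := by
  obtain ⟨a, b, rfl⟩ := simpA_decomp hc u
  obtain ⟨a', b', rfl⟩ := simpA_decomp hc w
  rw [simpA_ext_add, simpA_ext_add]
  have h1 := hy a a'
  simp only [simpA_restrict_apply] at h1
  have h2 : B (y a : V) (b' : V) = 0 := horth _ (y a).2 _ b'.2
  have h3 : B (b : V) (y a' : V) = 0 := by rw [hs.eq]; exact horth _ (y a').2 _ b.2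
  have h4 : B (a : V) (b' : V) = 0 := horth _ a.2 _ b'.2
  have h5 : B (b : V) (a' : V) = 0 := by rw [hs.eq]; exact horth _ a'.2 _ b.2
  simp only [map_add, LinearMap.add_apply, h1, h2, h3, h4, h5]

/-- the restriction of a nondegenerate form to an orthogonal summand is nondegenerate -/
theorem simpA_restrict_nondeg (B : LinearMap.BilinForm K V) (hs : B.IsSymm) (hnd : B.Nondegenerate)
    {E E' : Submodule K V} (hc : IsCompl E E') (horth : ∀ u ∈ E, ∀ w ∈ E', B u w = 0) :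
    (B.restrict E).Nondegenerate := by
  have key : ∀ x : E, (∀ y : E, B (x : V) (y : V) = 0) → x = 0 := by
    intro x hx
    have : (x : V) = 0 := by
      apply hnd.1
      intro v
      obtain ⟨a, b, rfl⟩ := simpA_decomp hc v
      rw [map_add, hx a, horth _ x.2 _ b.2, add_zero]
    exact Subtype.ext this
  refine ⟨fun x hx => key x (fun y => hx y), fun y hy => key y (fun x => ?_)⟩
  have := hy x
  simp only [simpA_restrict_apply] at this
  rw [hs.eq]
  exact this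

theorem simpA_pow_apply {E : Submodule K V} (x : V ≃ₗ[K] V) (z : E ≃ₗ[K] E)
    (h : ∀ v : E, x v = z v) (k : ℕ) (v : E) : (x ^ k) (v : V) = ((z ^ k) v : E) := by
  induction k generalizing v with
  | zero => simp
  | succ k ih =>
    rw [pow_succ, pow_succ, LinearEquiv.mul_apply, LinearEquiv.mul_apply, h, ih]

end simpA

/-- one side of BM-SIMPLE-A -/
theorem simpA_side {K : Type u} [Field K] [Finite K] {V : Type v}
    [AddCommGroup V] [Module K V] [FiniteDimensional K V] (B : LinearMap.BilinForm K V)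
    (hos : ∀ (W : Submodule K V), OrthP K W (B.restrict W) →
      ∀ (T N : Subgroup (W ≃ₗ[K] W)),
      (∀ t ∈ T, ∀ u w, B.restrict W (t u) (t w) = B.restrict W u w) →
      (∀ h : W ≃ₗ[K] W, (∀ u w, B.restrict W (h u) (h w) = B.restrict W u w) →
        ∀ t ∈ T, h * t * h⁻¹ ∈ T) →
      N ≤ T → (∀ t ∈ T, ∀ x ∈ N, t * x * t⁻¹ ∈ N) →
      (∀ x ∈ N, ∃ k : ℕ, Odd k ∧ (x ^ k = 1 ∨ x ^ k = LinearEquiv.neg K)) →
      ∀ x ∈ N, x = 1 ∨ x = LinearEquiv.neg K)
    (hs : B.IsSymm) (hnd : B.Nondegenerate)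
    (E E' : Submodule K V) (hc : IsCompl E E') (horth : ∀ u ∈ E, ∀ w ∈ E', B u w = 0)
    (hd : Module.finrank K E ≠ 2)
    (hP : ∀ W : Submodule K V, 3 ≤ Module.finrank K W → (B.restrict W).Nondegenerate →
      OrthP K W (B.restrict W))
    (T N : Subgroup (V ≃ₗ[K] V))
    (hT : ∀ t ∈ T, ∀ u w, B (t u) (t w) = B u w)
    (hTn : ∀ h : V ≃ₗ[K] V, (∀ u w, B (h u) (h w) = B u w) → ∀ t ∈ T, h * t * h⁻¹ ∈ T)
    (hNT : N ≤ T) (hN : ∀ x ∈ N, ∀ v ∈ E, x v ∈ E) (hN' : ∀ x ∈ N, ∀ v ∈ E', x v ∈ E')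
    (hNn : ∀ t ∈ T, (∀ v ∈ E, t v ∈ E) → (∀ v ∈ E', t v ∈ E') → ∀ x ∈ N, t * x * t⁻¹ ∈ N)
    (hodd : ∀ x ∈ N, ∃ k : ℕ, Odd k ∧ (x ^ k = 1 ∨ x ^ k = LinearEquiv.neg K)) :
    ∀ x ∈ N, (∀ v ∈ E, x v = v) ∨ (∀ v ∈ E, x v = -v) := by
  have hndE := simpA_restrict_nondeg B hs hnd hc horth
  intro x hx
  rcases Nat.lt_or_ge (Module.finrank K E) 3 with hlt | hge
  · have h01 : Module.finrank K E = 0 ∨ Module.finrank K E = 1 := by omega
    rcases h01 with h0 | h1
    · left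
      intro v hv
      rw [Submodule.finrank_eq_zero] at h0
      rw [h0, Submodule.mem_bot] at hv
      rw [hv, map_zero]
    · obtain ⟨e, he0, he⟩ := finrank_eq_one_iff'.mp h1
      have hBe : B (e : V) (e : V) ≠ 0 := by
        intro h0
        apply he0
        apply hndE.1
        intro w
        obtain ⟨c, rfl⟩ := he w
        simp only [simpA_restrict_apply, Submodule.coe_smul, map_smul, smul_eq_mul, h0, mul_zero]
      obtain ⟨c, hc'⟩ := he ⟨x e, hN x hx _ e.2⟩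
      have hc1 : x (e : V) = c • (e : V) := by
        have := congrArg Subtype.val hc'
        simpa using this.symm
      have hcc : c * c = 1 := by
        have h3 := hT x (hNT hx) (e : V) (e : V)
        rw [hc1] at h3
        simp only [map_smul, LinearMap.smul_apply, smul_eq_mul] at h3
        have h4 : (c * c - 1) * B (e : V) (e : V) = 0 := by linear_combination h3
        rcases mul_eq_zero.mp h4 with h5 | h5
        · linear_combination h5
        · exact absurd h5 hBe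
      have hc2 : c = 1 ∨ c = -1 := mul_self_eq_one_iff.mp hcc
      have hall : ∀ v ∈ E, x v = c • v := by
        intro v hv
        obtain ⟨d, hd'⟩ := he ⟨v, hv⟩
        have : v = d • (e : V) := by
          have := congrArg Subtype.val hd'
          simpa using this.symm
        rw [this, map_smul, hc1, smul_comm]
      rcases hc2 with rfl | rfl
      · left; intro v hv; rw [hall v hv, one_smul]
      · right; intro v hv; rw [hall v hv, neg_one_smul]
  · -- the main case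
    have hinvN : ∀ y ∈ N, ∀ v ∈ E, y⁻¹ v ∈ E := fun y hy => hN y⁻¹ (N.inv_mem hy)
    -- the restricted groups
    let NE : Subgroup (E ≃ₗ[K] E) :=
      { carrier := {z | ∃ y ∈ N, ∀ v : E, y v = z v}
        mul_mem' := by
          rintro z₁ z₂ ⟨y₁, hy₁, h₁⟩ ⟨y₂, hy₂, h₂⟩
          refine ⟨y₁ * y₂, N.mul_mem hy₁ hy₂, fun v => ?_⟩
          rw [LinearEquiv.mul_apply, LinearEquiv.mul_apply, h₂, h₁]
        one_mem' := ⟨1, N.one_mem, fun v => rfl⟩
        inv_mem' := by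
          rintro z ⟨y, hy, h⟩
          refine ⟨y⁻¹, N.inv_mem hy, fun v => ?_⟩
          have := h (z⁻¹ v)
          rw [LinearEquiv.coe_inv, LinearEquiv.symm_apply_eq]
          rw [this]
          simp }
    let TE : Subgroup (E ≃ₗ[K] E) :=
      { carrier := {z | ∃ t ∈ T, ((∀ v, t v ∈ E ↔ v ∈ E) ∧ (∀ v, t v ∈ E' ↔ v ∈ E')) ∧
          ∀ v : E, t v = z v}
        mul_mem' := by
          rintro z₁ z₂ ⟨y₁, hy₁, ⟨s₁, s₁'⟩, h₁⟩ ⟨y₂, hy₂, ⟨s₂, s₂'⟩, h₂⟩
          refine ⟨y₁ * y₂, T.mul_mem hy₁ hy₂, ⟨fun v => ?_, fun v => ?_⟩, fun v => ?_⟩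
          · rw [LinearEquiv.mul_apply, s₁, s₂]
          · rw [LinearEquiv.mul_apply, s₁', s₂']
          · rw [LinearEquiv.mul_apply, LinearEquiv.mul_apply, h₂, h₁]
        one_mem' := ⟨1, T.one_mem, ⟨fun v => Iff.rfl, fun v => Iff.rfl⟩, fun v => rfl⟩
        inv_mem' := by
          rintro z ⟨y, hy, ⟨s, s'⟩, h⟩
          refine ⟨y⁻¹, T.inv_mem hy, ⟨fun v => ?_, fun v => ?_⟩, fun v => ?_⟩
          · rw [← s (y⁻¹ v)]; simp
          · rw [← s' (y⁻¹ v)]; simp
          · have := h (z⁻¹ v)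
            rw [LinearEquiv.coe_inv, LinearEquiv.symm_apply_eq]
            rw [this]
            simp }
    have hTE_isom : ∀ t ∈ TE, ∀ u w, B.restrict E (t u) (t w) = B.restrict E u w := by
      rintro z ⟨t, ht, -, h⟩ u w
      simp only [simpA_restrict_apply]
      rw [← h, ← h]
      exact hT t ht _ _
    have hTE_norm : ∀ h : E ≃ₗ[K] E, (∀ u w, B.restrict E (h u) (h w) = B.restrict E u w) →
        ∀ t ∈ TE, h * t * h⁻¹ ∈ TE := by
      rintro h hh z ⟨t, ht, ⟨s, s'⟩, hz⟩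
      have hext := simpA_ext_isom B hs hc horth h hh
      have hstab : ∀ (g : E ≃ₗ[K] E), (∀ v, simpA_ext hc g v ∈ E ↔ v ∈ E) ∧
          (∀ v, simpA_ext hc g v ∈ E' ↔ v ∈ E') := by
        intro g
        constructor
        · intro v
          refine ⟨fun hv => ?_, fun hv => simpA_ext_mem_left hc g v hv⟩
          have := simpA_ext_mem_left hc g⁻¹ _ hv
          rw [← simpA_ext_inv] at this
          simpa using this
        · intro v
          refine ⟨fun hv => ?_, fun hv => simpA_ext_mem_right hc g v hv⟩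
          have := simpA_ext_mem_right hc g⁻¹ _ hv
          rw [← simpA_ext_inv] at this
          simpa using this
      refine ⟨simpA_ext hc h * t * (simpA_ext hc h)⁻¹, hTn _ hext t ht, ⟨fun v => ?_, fun v => ?_⟩,
        fun v => ?_⟩
      · rw [LinearEquiv.mul_apply, LinearEquiv.mul_apply, (hstab h).1, s, simpA_ext_inv,
          (hstab h⁻¹).1]
      · rw [LinearEquiv.mul_apply, LinearEquiv.mul_apply, (hstab h).2, s', simpA_ext_inv,
          (hstab h⁻¹).2]
      · rw [LinearEquiv.mul_apply, LinearEquiv.mul_apply, simpA_ext_inv, simpA_ext_left, hz,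
          simpA_ext_left]
        rfl
    have hNE_le : NE ≤ TE := by
      rintro z ⟨y, hy, h⟩
      refine ⟨y, hNT hy, ⟨fun v => ⟨fun hv => ?_, hN y hy v⟩, fun v => ⟨fun hv => ?_, hN' y hy v⟩⟩, h⟩
      · have := hN y⁻¹ (N.inv_mem hy) _ hv
        simpa using this
      · have := hN' y⁻¹ (N.inv_mem hy) _ hv
        simpa using this
    have hNE_norm : ∀ t ∈ TE, ∀ z ∈ NE, t * z * t⁻¹ ∈ NE := by
      rintro t' ⟨t, ht, ⟨s, s'⟩, htz⟩ z ⟨y, hy, hyz⟩
      refine ⟨t * y * t⁻¹, hNn t ht (fun v hv => (s v).mpr hv) (fun v hv => (s' v).mpr hv) y hy,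
        fun v => ?_⟩
      have h1 : t⁻¹ (v : V) = ((t'⁻¹ v : E) : V) := by
        rw [LinearEquiv.coe_inv, LinearEquiv.symm_apply_eq, htz]
        simp
      rw [LinearEquiv.mul_apply, LinearEquiv.mul_apply, h1, hyz, htz]
      rfl
    have hNE_odd : ∀ z ∈ NE, ∃ k : ℕ, Odd k ∧ (z ^ k = 1 ∨ z ^ k = LinearEquiv.neg K) := by
      rintro z ⟨y, hy, hyz⟩
      obtain ⟨k, hk, hk'⟩ := hodd y hy
      refine ⟨k, hk, ?_⟩
      rcases hk' with h1 | h1
      · left
        apply LinearEquiv.ext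
        intro v
        apply Subtype.ext
        rw [← simpA_pow_apply y z hyz k v, h1]
        rfl
      · right
        apply LinearEquiv.ext
        intro v
        apply Subtype.ext
        rw [← simpA_pow_apply y z hyz k v, h1]
        rfl
    have hmain := hos E (hP E hge hndE) TE NE hTE_isom hTE_norm hNE_le hNE_norm hNE_odd
    have hxres : simpA_res E x (hN x hx) (hinvN x hx) ∈ NE := ⟨x, hx, fun v => rfl⟩
    rcases hmain _ hxres with h1 | h1
    · left
      intro v hv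
      have := congrArg (fun f : E ≃ₗ[K] E => ((f ⟨v, hv⟩ : E) : V)) h1
      simpa [simpA_res_apply] using this
    · right
      intro v hv
      have := congrArg (fun f : E ≃ₗ[K] E => ((f ⟨v, hv⟩ : E) : V)) h1
      simpa [simpA_res_apply] using this

/-- BM-SIMPLE-A with BM-ORTHSUB as a hypothesis -/
theorem simpA_core {K : Type u} [Field K] [Finite K] {V : Type v}
    [AddCommGroup V] [Module K V] [FiniteDimensional K V] (B : LinearMap.BilinForm K V)
    (hos : ∀ (W : Submodule K V), OrthP K W (B.restrict W) →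
      ∀ (T N : Subgroup (W ≃ₗ[K] W)),
      (∀ t ∈ T, ∀ u w, B.restrict W (t u) (t w) = B.restrict W u w) →
      (∀ h : W ≃ₗ[K] W, (∀ u w, B.restrict W (h u) (h w) = B.restrict W u w) →
        ∀ t ∈ T, h * t * h⁻¹ ∈ T) →
      N ≤ T → (∀ t ∈ T, ∀ x ∈ N, t * x * t⁻¹ ∈ N) →
      (∀ x ∈ N, ∃ k : ℕ, Odd k ∧ (x ^ k = 1 ∨ x ^ k = LinearEquiv.neg K)) →
      ∀ x ∈ N, x = 1 ∨ x = LinearEquiv.neg K)
    (hs : B.IsSymm) (hnd : B.Nondegenerate)
    (E₁ E₂ : Submodule K V) (hc : IsCompl E₁ E₂) (horth : ∀ u ∈ E₁, ∀ w ∈ E₂, B u w = 0)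
    (hd₁ : Module.finrank K E₁ ≠ 2) (hd₂ : Module.finrank K E₂ ≠ 2)
    (hP : ∀ W : Submodule K V, 3 ≤ Module.finrank K W → (B.restrict W).Nondegenerate →
      OrthP K W (B.restrict W))
    (T N : Subgroup (V ≃ₗ[K] V))
    (hT : ∀ t ∈ T, ∀ u w, B (t u) (t w) = B u w)
    (hTn : ∀ h : V ≃ₗ[K] V, (∀ u w, B (h u) (h w) = B u w) → ∀ t ∈ T, h * t * h⁻¹ ∈ T)
    (hNT : N ≤ T) (hN₁ : ∀ x ∈ N, ∀ v ∈ E₁, x v ∈ E₁) (hN₂ : ∀ x ∈ N, ∀ v ∈ E₂, x v ∈ E₂)
    (hNn : ∀ t ∈ T, (∀ v ∈ E₁, t v ∈ E₁) → (∀ v ∈ E₂, t v ∈ E₂) → ∀ x ∈ N, t * x * t⁻¹ ∈ N)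
    (hodd : ∀ x ∈ N, ∃ k : ℕ, Odd k ∧ (x ^ k = 1 ∨ x ^ k = LinearEquiv.neg K)) :
    ∀ x ∈ N, x = 1 ∨ x = LinearEquiv.neg K := by
  have side1 := simpA_side B hos hs hnd E₁ E₂ hc horth hd₁ hP T N hT hTn hNT hN₁ hN₂ hNn hodd
  have side2 := simpA_side B hos hs hnd E₂ E₁ hc.symm
    (fun u hu w hw => by rw [hs.eq]; exact horth w hw u hu) hd₂ hP T N hT hTn hNT hN₂ hN₁
    (fun t ht h2 h1 => hNn t ht h1 h2) hodd
  intro x hx
  have hsq : x * x = 1 := by
    apply LinearEquiv.ext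
    intro v
    obtain ⟨a, b, rfl⟩ := simpA_decomp hc v
    have ha : x (x (a : V)) = a := by
      rcases side1 x hx with h | h
      · rw [h _ a.2, h _ a.2]
      · rw [h _ a.2, map_neg, h _ a.2, neg_neg]
    have hb : x (x (b : V)) = b := by
      rcases side2 x hx with h | h
      · rw [h _ b.2, h _ b.2]
      · rw [h _ b.2, map_neg, h _ b.2, neg_neg]
    rw [LinearEquiv.mul_apply, map_add, map_add, ha, hb]
    rfl
  obtain ⟨k, ⟨m, rfl⟩, hk⟩ := hodd x hx
  have hpow : x ^ (2 * m + 1) = x := by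
    rw [pow_succ, pow_mul, sq, hsq, one_pow, one_mul]
  rwa [hpow] at hk

/-- BM-SIMPLE-A -/
theorem simple_A {K : Type u} [Field K] [Finite K] (h2 : (2 : K) ≠ 0) {V : Type v}
    [AddCommGroup V] [Module K V] [FiniteDimensional K V] (B : LinearMap.BilinForm K V)
    (hs : B.IsSymm) (hnd : B.Nondegenerate)
    (E₁ E₂ : Submodule K V) (hc : IsCompl E₁ E₂) (horth : ∀ u ∈ E₁, ∀ w ∈ E₂, B u w = 0)
    (hd₁ : Module.finrank K E₁ ≠ 2) (hd₂ : Module.finrank K E₂ ≠ 2)
    (hP : ∀ W : Submodule K V, 3 ≤ Module.finrank K W → (B.restrict W).Nondegenerate →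
      OrthP K W (B.restrict W))
    (T N : Subgroup (V ≃ₗ[K] V))
    (hT : ∀ t ∈ T, ∀ u w, B (t u) (t w) = B u w)
    (hTn : ∀ h : V ≃ₗ[K] V, (∀ u w, B (h u) (h w) = B u w) → ∀ t ∈ T, h * t * h⁻¹ ∈ T)
    (hNT : N ≤ T) (hN₁ : ∀ x ∈ N, ∀ v ∈ E₁, x v ∈ E₁) (hN₂ : ∀ x ∈ N, ∀ v ∈ E₂, x v ∈ E₂)
    (hNn : ∀ t ∈ T, (∀ v ∈ E₁, t v ∈ E₁) → (∀ v ∈ E₂, t v ∈ E₂) → ∀ x ∈ N, t * x * t⁻¹ ∈ N)
    (hodd : ∀ x ∈ N, ∃ k : ℕ, Odd k ∧ (x ^ k = 1 ∨ x ^ k = LinearEquiv.neg K)) :
    ∀ x ∈ N, x = 1 ∨ x = LinearEquiv.neg K :=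
  simpA_core B
    (fun W hPW T' N' h1 h3 h4 h5 h6 => orth_sub (B.restrict W) hPW T' N' h1 h3 h4 h5 h6)
    hs hnd E₁ E₂ hc horth hd₁ hd₂ hP T N hT hTn hNT hN₁ hN₂ hNn hodd

end Cfsg.Agent.Lib.Helper99.BM
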