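import Mathlib
import Cfsg.Agent.Lib.Helper99.BMDefs
import Cfsg.Agent.Lib.Helper97.BMORTHSUB
import Cfsg.Agent.Lib.Helper9.BMBQ

/-! # S2733 leaf BM-SIMPLE-B (helper2 for helper99) -/

set_option autoImplicit false
set_option linter.unusedVariables false
set_option linter.unusedSectionVars false

namespace Cfsg.Agent.Lib.Helper99.BM

universe u v

section typeB

variable {F : Type u} [Field F] {K' : Type u} [Field K'] [Algebra F K']
  {V : Type v} [AddCommGroup V] [Module F V] [Module K' V] [IsScalarTower F K' V]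

/-- an `F`-linear equivalence commuting with `ω` is `K'`-linear -/
def simpB_lift (ω : K') (μ : F) (hω : ω * ω = algebraMap F K' μ)
    (hμ : ¬ IsSquare μ) (hrank : Module.finrank F K' = 2) (x : V ≃ₗ[F] V)
    (hx : ∀ v : V, x (ω • v) = ω • x v) : V ≃ₗ[K'] V where
  toFun := x
  invFun := x.symm
  map_add' := x.map_add
  map_smul' := by
    intro c v
    obtain ⟨a, b, rfl⟩ := bq_span ω μ hω hμ hrank c
    simp only [RingHom.id_apply, add_smul, mul_smul, algebraMap_smul, map_add, map_smul, hx]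
  left_inv := x.left_inv
  right_inv := x.right_inv

theorem simpB_lift_apply (ω : K') (μ : F) (hω : ω * ω = algebraMap F K' μ)
    (hμ : ¬ IsSquare μ) (hrank : Module.finrank F K' = 2) (x : V ≃ₗ[F] V)
    (hx : ∀ v : V, x (ω • v) = ω • x v) (v : V) : simpB_lift ω μ hω hμ hrank x hx v = x v := rfl

variable (F) in
/-- restriction of scalars as a group homomorphism -/
def simpB_rs : (V ≃ₗ[K'] V) →* (V ≃ₗ[F] V) where
  toFun y := y.restrictScalars F
  map_one' := rfl
  map_mul' _ _ := rfl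

theorem simpB_rs_apply (y : V ≃ₗ[K'] V) (v : V) : simpB_rs F y v = y v := rfl

end typeB

section main

variable {F : Type u} [Field F] [Finite F] {K' : Type u} [Field K'] [Finite K'] [Algebra F K']
  {V : Type v} [AddCommGroup V] [Module F V] [Module K' V] [IsScalarTower F K' V]
  [FiniteDimensional F V]

/-- BM-SIMPLE-B -/
theorem simple_B (h2 : (2 : F) ≠ 0) (ω : K') (μ : F) (hω : ω * ω = algebraMap F K' μ)
    (hμ : ¬ IsSquare μ) (hrank : Module.finrank F K' = 2)
    (B : LinearMap.BilinForm F V) (hs : B.IsSymm) (hnd : B.Nondegenerate)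
    (hadj : ∀ u w : V, B (ω • u) w = B u (ω • w)) (hdim : 6 ≤ Module.finrank F V)
    (hP : ∀ B' : LinearMap.BilinForm K' V, B'.IsSymm → B'.Nondegenerate → OrthP K' V B')
    (T N : Subgroup (V ≃ₗ[F] V))
    (hT : ∀ t ∈ T, ∀ u w, B (t u) (t w) = B u w)
    (hTn : ∀ h : V ≃ₗ[F] V, (∀ u w, B (h u) (h w) = B u w) → ∀ t ∈ T, h * t * h⁻¹ ∈ T)
    (hNT : N ≤ T) (hNω : ∀ x ∈ N, ∀ v : V, x (ω • v) = ω • x v)
    (hNn : ∀ t ∈ T, (∀ v : V, t (ω • v) = ω • t v) → ∀ x ∈ N, t * x * t⁻¹ ∈ N)
    (hodd : ∀ x ∈ N, ∃ k : ℕ, Odd k ∧ (x ^ k = 1 ∨ x ^ k = LinearEquiv.neg F)) :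
    ∀ x ∈ N, x = 1 ∨ x = LinearEquiv.neg F := by
  obtain ⟨B', hs', hnd', hB'⟩ := exists_BQ h2 ω μ hω hμ hrank B hs hnd hadj
  have hfd : FiniteDimensional F K' := Module.finite_of_finrank_pos (by rw [hrank]; norm_num)
  haveI : FiniteDimensional K' V := Module.Finite.right F K' V
  have hT' : ∀ t ∈ T.comap (simpB_rs (K' := K') F), ∀ u w, B' (t u) (t w) = B' u w := by
    intro t ht u w
    have ht' : simpB_rs F t ∈ T := ht
    rw [hB', hB', ← map_smul t ω u]
    have h1 := hT _ ht' (ω • u) w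
    have h2 := hT _ ht' u w
    rw [simpB_rs_apply, simpB_rs_apply] at h1 h2
    rw [h1, h2]
  have hTn' : ∀ h : V ≃ₗ[K'] V, (∀ u w, B' (h u) (h w) = B' u w) →
      ∀ t ∈ T.comap (simpB_rs (K' := K') F), h * t * h⁻¹ ∈ T.comap (simpB_rs (K' := K') F) := by
    intro h hh t ht
    have ht' : simpB_rs F t ∈ T := ht
    show simpB_rs F (h * t * h⁻¹) ∈ T
    rw [map_mul, map_mul, map_inv]
    apply hTn _ _ _ ht'
    intro u w
    have h1 := hh u w
    rw [hB', hB', ← sub_eq_zero] at h1
    have h3 : algebraMap F K' (B (ω • h u) (h w) - B (ω • u) w) +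
        ω * algebraMap F K' (B (h u) (h w) - B u w) = 0 := by
      rw [map_sub, map_sub]
      linear_combination h1
    have := (bq_indep ω μ hω hμ _ _ h3).2
    rw [simpB_rs_apply, simpB_rs_apply]
    exact sub_eq_zero.mp this
  have hNT' : N.comap (simpB_rs (K' := K') F) ≤ T.comap (simpB_rs (K' := K') F) := Subgroup.comap_mono hNT
  have hNn' : ∀ t ∈ T.comap (simpB_rs (K' := K') F), ∀ x ∈ N.comap (simpB_rs (K' := K') F),
      t * x * t⁻¹ ∈ N.comap (simpB_rs (K' := K') F) := by
    intro t ht x hx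
    have ht' : simpB_rs F t ∈ T := ht
    have hx' : simpB_rs F x ∈ N := hx
    show simpB_rs F (t * x * t⁻¹) ∈ N
    rw [map_mul, map_mul, map_inv]
    apply hNn _ ht' _ _ hx'
    intro v
    rw [simpB_rs_apply, simpB_rs_apply, map_smul]
  have hodd' : ∀ x ∈ N.comap (simpB_rs (K' := K') F), ∃ k : ℕ, Odd k ∧ (x ^ k = 1 ∨ x ^ k = LinearEquiv.neg K') := by
    intro x hx
    have hx' : simpB_rs F x ∈ N := hx
    obtain ⟨k, hk, hk'⟩ := hodd _ hx'
    refine ⟨k, hk, ?_⟩
    rw [← map_pow] at hk'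
    rcases hk' with h1 | h1
    · left
      apply LinearEquiv.ext
      intro v
      have := congrArg (fun f : V ≃ₗ[F] V => f v) h1
      exact this
    · right
      apply LinearEquiv.ext
      intro v
      have := congrArg (fun f : V ≃ₗ[F] V => f v) h1
      exact this
  have hmain := orth_sub B' (hP B' hs' hnd') (T.comap (simpB_rs (K' := K') F)) (N.comap (simpB_rs (K' := K') F))
    hT' hTn' hNT' hNn' hodd'
  intro x hx
  have hmem : simpB_lift ω μ hω hμ hrank x (hNω x hx) ∈ N.comap (simpB_rs (K' := K') F) := by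
    show simpB_rs F (simpB_lift ω μ hω hμ hrank x (hNω x hx)) ∈ N
    have : simpB_rs F (simpB_lift ω μ hω hμ hrank x (hNω x hx)) = x := by
      apply LinearEquiv.ext
      intro v
      rfl
    rw [this]
    exact hx
  rcases hmain _ hmem with h1 | h1
  · left
    apply LinearEquiv.ext
    intro v
    have := congrArg (fun f : V ≃ₗ[K'] V => f v) h1
    simpa [simpB_lift_apply] using this
  · right
    apply LinearEquiv.ext
    intro v
    have := congrArg (fun f : V ≃ₗ[K'] V => f v) h1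
    simpa [simpB_lift_apply] using this

end main

end Cfsg.Agent.Lib.Helper99.BM
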