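import Mathlib
import Cfsg.Agent.Lib.Helper5.BalRed
import Cfsg.Agent.Lib.Helper55.Cores

/-! # S2686 leaf BAL-OS (helper2 for helper5): an odd-order subgroup of `LG g` (`g` symmetric)
normalised by `LG g` is trivial, from BAL-ORTH (taken as a hypothesis in `os_core`). -/

set_option autoImplicit false
set_option linter.unusedVariables false
set_option linter.unusedSectionVars false

namespace Cfsg.Agent.Lib.Helper5.Bal

open Matrix Cfsg.Agent.Lib.Helper5.AutPSLn Cfsg.Agent.Lib.Helper45.AutPSL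
  Cfsg.Agent.Lib.Helper5.BalE

variable {n : ℕ} {F : Type*} [Field F]

/-- the `p'`-core is mapped into itself by every bijective endomorphism -/
theorem os_pPrimeCore_map_le {H : Type*} [Group H] (p : ℕ) (f : H →* H)
    (hf : Function.Bijective f) : (Cfsg.pPrimeCore p H).map f ≤ Cfsg.pPrimeCore p H := by
  rw [Subgroup.map_le_iff_le_comap]
  apply sSup_le
  rintro N ⟨hN, hNc⟩
  rw [← Subgroup.map_le_iff_le_comap]
  apply le_sSup
  refine ⟨hN.map f hf.2, ?_⟩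
  rw [Subgroup.card_map_of_injective hf.1]
  exact hNc

theorem os_gl_mul_inv (g : GL (Fin n) F) : g.1 * (g⁻¹).1 = 1 := by
  rw [← Units.val_mul, mul_inv_cancel]; rfl

theorem os_gl_inv_mul (g : GL (Fin n) F) : (g⁻¹).1 * g.1 = 1 := by
  rw [← Units.val_mul, inv_mul_cancel]; rfl

/-- `x g xᵀ = g` iff `xᵀ g⁻¹ x = g⁻¹` -/
theorem os_form_iff (g : GL (Fin n) F) (x : Matrix (Fin n) (Fin n) F) :
    x * g.1 * xᵀ = g.1 ↔ xᵀ * (g⁻¹).1 * x = (g⁻¹).1 := by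
  constructor
  · intro h
    have h1 : ((g⁻¹).1 * x * g.1) * xᵀ = 1 := by
      calc ((g⁻¹).1 * x * g.1) * xᵀ = (g⁻¹).1 * (x * g.1 * xᵀ) := by simp only [Matrix.mul_assoc]
        _ = 1 := by rw [h, os_gl_inv_mul]
    have h2 : xᵀ * ((g⁻¹).1 * x * g.1) = 1 := _root_.mul_eq_one_comm.mp h1
    calc xᵀ * (g⁻¹).1 * x = xᵀ * (g⁻¹).1 * x * (g.1 * (g⁻¹).1) := by
          rw [os_gl_mul_inv, Matrix.mul_one]
      _ = (xᵀ * ((g⁻¹).1 * x * g.1)) * (g⁻¹).1 := by simp only [Matrix.mul_assoc]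
      _ = (g⁻¹).1 := by rw [h2, Matrix.one_mul]
  · intro h
    have h1 : (g.1 * xᵀ * (g⁻¹).1) * x = 1 := by
      calc (g.1 * xᵀ * (g⁻¹).1) * x = g.1 * (xᵀ * (g⁻¹).1 * x) := by simp only [Matrix.mul_assoc]
        _ = 1 := by rw [h, os_gl_mul_inv]
    have h2 : x * (g.1 * xᵀ * (g⁻¹).1) = 1 := _root_.mul_eq_one_comm.mp h1
    calc x * g.1 * xᵀ = x * g.1 * xᵀ * ((g⁻¹).1 * g.1) := by rw [os_gl_inv_mul, Matrix.mul_one]
      _ = (x * (g.1 * xᵀ * (g⁻¹).1)) * g.1 := by simp only [Matrix.mul_assoc]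
      _ = g.1 := by rw [h2, Matrix.one_mul]

/-- the inverse of a symmetric matrix is symmetric -/
theorem os_inv_symm (g : GL (Fin n) F) (hg : g.1ᵀ = g.1) : ((g⁻¹).1)ᵀ = (g⁻¹).1 := by
  have h1 : ((g⁻¹).1)ᵀ * g.1 = 1 := by
    rw [← hg, ← Matrix.transpose_mul, os_gl_mul_inv, Matrix.transpose_one]
  calc ((g⁻¹).1)ᵀ = ((g⁻¹).1)ᵀ * (g.1 * (g⁻¹).1) := by rw [os_gl_mul_inv, Matrix.mul_one]
    _ = (((g⁻¹).1)ᵀ * g.1) * (g⁻¹).1 := by rw [Matrix.mul_assoc]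
    _ = (g⁻¹).1 := by rw [h1, Matrix.one_mul]

/-- isometries of `g⁻¹` normalise `formSL g` -/
theorem os_conj_mem_formSL (g : GL (Fin n) F) (y : GL (Fin n) F)
    (hy : y.1ᵀ * (g⁻¹).1 * y.1 = (g⁻¹).1) {s : SpecialLinearGroup (Fin n) F}
    (hs : s ∈ formSL g.1) : conjS y s ∈ formSL g.1 := by
  rw [mem_formSL, conjS_coe, os_form_iff]
  have hs' : s.1ᵀ * (g⁻¹).1 * s.1 = (g⁻¹).1 := (os_form_iff g s.1).mp hs
  have hyi : ((y⁻¹).1)ᵀ * (g⁻¹).1 * (y⁻¹).1 = (g⁻¹).1 := by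
    have h1 : ((y⁻¹).1)ᵀ * y.1ᵀ = 1 := by
      rw [← Matrix.transpose_mul, os_gl_mul_inv, Matrix.transpose_one]
    calc ((y⁻¹).1)ᵀ * (g⁻¹).1 * (y⁻¹).1
        = ((y⁻¹).1)ᵀ * (y.1ᵀ * (g⁻¹).1 * y.1) * (y⁻¹).1 := by rw [hy]
      _ = (((y⁻¹).1)ᵀ * y.1ᵀ) * (g⁻¹).1 * (y.1 * (y⁻¹).1) := by simp only [Matrix.mul_assoc]
      _ = (g⁻¹).1 := by rw [h1, os_gl_mul_inv, Matrix.one_mul, Matrix.mul_one]
  rw [Matrix.transpose_mul, Matrix.transpose_mul]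
  calc ((y⁻¹).1)ᵀ * (s.1ᵀ * y.1ᵀ) * (g⁻¹).1 * (y.1 * s.1 * (y⁻¹).1)
      = ((y⁻¹).1)ᵀ * (s.1ᵀ * (y.1ᵀ * (g⁻¹).1 * y.1) * s.1) * (y⁻¹).1 := by
        simp only [Matrix.mul_assoc]
    _ = (g⁻¹).1 := by rw [hy, hs', hyi]

/-- a scalar isometry is `±1` -/
theorem os_scalar_sq (hn : 1 ≤ n) (g : GL (Fin n) F) (r : F)
    (h : (r • (1 : Matrix (Fin n) (Fin n) F)) * g.1 * (r • (1 : Matrix (Fin n) (Fin n) F))ᵀ = g.1) :
    r = 1 ∨ r = -1 := by
  have h1 : (r * r) • g.1 = g.1 := by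
    rw [Matrix.transpose_smul, Matrix.transpose_one, Matrix.smul_mul, Matrix.mul_smul,
      Matrix.one_mul, Matrix.mul_one, smul_smul] at h
    exact h
  have h2 : (r * r) • (1 : Matrix (Fin n) (Fin n) F) = 1 := by
    calc (r * r) • (1 : Matrix (Fin n) (Fin n) F) = (r * r) • (g.1 * (g⁻¹).1) := by
          rw [os_gl_mul_inv]
      _ = ((r * r) • g.1) * (g⁻¹).1 := by rw [Matrix.smul_mul]
      _ = 1 := by rw [h1, os_gl_mul_inv]
  have h3 := congrFun (congrFun h2 ⟨0, hn⟩) ⟨0, hn⟩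
  rw [Matrix.smul_apply, Matrix.one_apply_eq, smul_eq_mul, mul_one] at h3
  exact mul_self_eq_one_iff.mp h3

/-- BAL-OS, with BAL-ORTH as a hypothesis -/
theorem os_core [Fintype F] (hn : 3 ≤ n) (h2 : (2 : F) ≠ 0)
    (horth : ∀ (g : Matrix (Fin n) (Fin n) F), IsUnit g.det → gᵀ = g →
      ∀ (N : Subgroup (GL (Fin n) F)),
      (∀ x ∈ N, x.1ᵀ * g * x.1 = g) →
      (∀ y : GL (Fin n) F, y.1ᵀ * g * y.1 = g → ∀ x ∈ N, y * x * y⁻¹ ∈ N) →
      (∀ x ∈ N, ∃ k : ℕ, Odd k ∧ (x.1 ^ k = 1 ∨ x.1 ^ k = -1)) →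
      ∀ x ∈ N, x.1 = 1 ∨ x.1 = -1)
    (g : GL (Fin n) F)
    (hg : g.1ᵀ = g.1) (M : Subgroup (Matrix.ProjectiveSpecialLinearGroup (Fin n) F))
    (hM : M ≤ LG g.1) (hinv : ∀ l ∈ LG g.1, ∀ m ∈ M, l * m * l⁻¹ ∈ M)
    (hc : (Nat.card ↥M).Coprime 2) : M = ⊥ := by
  classical
  -- the odd core of `L = LG g`
  obtain ⟨L, hL⟩ : ∃ L, L = LG g.1 := ⟨_, rfl⟩
  rw [← hL] at hM hinv
  obtain ⟨K, hK⟩ : ∃ K : Subgroup ↥L, K = Cfsg.pPrimeCore 2 ↥L := ⟨_, rfl⟩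
  have hKodd : (Nat.card K).Coprime 2 := by
    rw [hK]; exact Cfsg.Agent.Lib.Helper55.pPrimeCore_card_coprime 2
  -- `M ≤ K`
  have hMK : M.subgroupOf L ≤ K := by
    rw [hK]
    haveI : (M.subgroupOf L).Normal := by
      constructor
      intro m hm l
      rw [Subgroup.mem_subgroupOf] at hm ⊢
      exact hinv l.1 l.2 _ hm
    apply Cfsg.Agent.Lib.Helper55.le_pPrimeCore
    rw [Nat.card_congr (Subgroup.subgroupOfEquivOfLe hM).toEquiv]
    exact hc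
  -- the preimage of `K` in `GL_n`
  obtain ⟨N, hNdef⟩ : ∃ N : Subgroup (GL (Fin n) F),
      N = (((K.map L.subtype).comap pr) ⊓ formSL g.1).map SpecialLinearGroup.toGL := ⟨_, rfl⟩
  have hmemN : ∀ x : GL (Fin n) F, x ∈ N ↔ ∃ s : SpecialLinearGroup (Fin n) F,
      (∃ k ∈ K, (k : Matrix.ProjectiveSpecialLinearGroup (Fin n) F) = pr s) ∧ s ∈ formSL g.1 ∧
        SpecialLinearGroup.toGL s = x := by
    intro x
    rw [hNdef, Subgroup.mem_map]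
    constructor
    · rintro ⟨s, hs, rfl⟩
      rw [Subgroup.mem_inf, Subgroup.mem_comap, Subgroup.mem_map] at hs
      obtain ⟨⟨k, hk, hks⟩, hs2⟩ := hs
      exact ⟨s, ⟨k, hk, hks⟩, hs2, rfl⟩
    · rintro ⟨s, ⟨k, hk, hks⟩, hs2, rfl⟩
      refine ⟨s, ?_, rfl⟩
      rw [Subgroup.mem_inf, Subgroup.mem_comap, Subgroup.mem_map]
      exact ⟨⟨k, hk, hks⟩, hs2⟩
  have hN1 : ∀ x ∈ N, x.1ᵀ * (g⁻¹).1 * x.1 = (g⁻¹).1 := by
    intro x hx
    obtain ⟨s, -, hs, rfl⟩ := (hmemN x).mp hx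
    exact (os_form_iff g s.1).mp hs
  -- isometries preserve `L`
  have hGamL : ∀ y : GL (Fin n) F, y.1ᵀ * (g⁻¹).1 * y.1 = (g⁻¹).1 → ∀ l ∈ L, Gam y l ∈ L := by
    intro y hy l hl
    rw [hL] at hl ⊢
    obtain ⟨s, hs, rfl⟩ := hl
    rw [Gam_pr]
    exact ⟨conjS y s, os_conj_mem_formSL g y hy hs, rfl⟩
  have hN2 : ∀ y : GL (Fin n) F, y.1ᵀ * (g⁻¹).1 * y.1 = (g⁻¹).1 → ∀ x ∈ N, y * x * y⁻¹ ∈ N := by
    intro y hy x hx
    obtain ⟨s, ⟨k, hk, hks⟩, hs, rfl⟩ := (hmemN x).mp hx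
    rw [hmemN]
    refine ⟨conjS y s, ?_, os_conj_mem_formSL g y hy hs, ?_⟩
    · -- the restriction of `Gam y` to `L`
      let f : ↥L →* ↥L := MonoidHom.codRestrict ((Gam y).toMonoidHom.comp L.subtype) L
        (fun l => hGamL y hy l.1 l.2)
      have hfinj : Function.Injective f := by
        intro a b hab
        have h1 : (f a : Matrix.ProjectiveSpecialLinearGroup (Fin n) F) = f b := by rw [hab]
        have h2 : Gam y a.1 = Gam y b.1 := h1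
        exact Subtype.ext ((Gam y).injective h2)
      have hfbij : Function.Bijective f := ⟨hfinj, Finite.injective_iff_surjective.mp hfinj⟩
      have hfk : f k ∈ K := by
        rw [hK]
        apply os_pPrimeCore_map_le 2 f hfbij
        exact Subgroup.mem_map_of_mem f (by rw [← hK]; exact hk)
      refine ⟨f k, hfk, ?_⟩
      show Gam y k.1 = pr (conjS y s)
      rw [hks, Gam_pr]
    · apply Units.ext
      rw [Units.val_mul, Units.val_mul]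
      rfl
  have hN3 : ∀ x ∈ N, ∃ d : ℕ, Odd d ∧ (x.1 ^ d = 1 ∨ x.1 ^ d = -1) := by
    intro x hx
    obtain ⟨s, ⟨k, hk, hks⟩, hs, rfl⟩ := (hmemN x).mp hx
    have hkK : (⟨k, hk⟩ : K) ^ Nat.card K = 1 := pow_card_eq_one'
    have hkd : k ^ Nat.card K = 1 := by
      have := congrArg Subtype.val hkK
      rwa [Subgroup.coe_pow, Subgroup.coe_one] at this
    have hodd : Odd (Nat.card K) := by
      rw [← Nat.not_even_iff_odd]
      intro he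
      have : 2 ∣ Nat.gcd (Nat.card K) 2 := Nat.dvd_gcd he.two_dvd (dvd_refl 2)
      rw [hKodd] at this
      omega
    refine ⟨Nat.card K, hodd, ?_⟩
    have h1 : pr (s ^ Nat.card K) = pr (1 : SpecialLinearGroup (Fin n) F) := by
      rw [map_pow, ← hks, map_one]
      have := congrArg Subtype.val hkd
      rwa [Subgroup.coe_pow, Subgroup.coe_one] at this
    obtain ⟨r, -, hr⟩ := exists_smul_of_pr_eq h1.symm
    rw [val_one] at hr
    have hsd : s ^ Nat.card K ∈ formSL g.1 := (formSL g.1).pow_mem hs _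
    rw [mem_formSL, hr] at hsd
    have hval : ∀ d : ℕ, (SpecialLinearGroup.toGL s).1 ^ d = (s ^ d).1 := by
      intro d
      induction d with
      | zero => rw [pow_zero, pow_zero]; rfl
      | succ d ih => rw [pow_succ, pow_succ, ih]; rfl
    rw [hval, hr]
    rcases os_scalar_sq (by omega) g r hsd with rfl | rfl
    · left; rw [one_smul]
    · right; rw [neg_smul, one_smul]
  have hres := horth (g⁻¹).1 (Matrix.isUnits_det_units g⁻¹) (os_inv_symm g hg) N hN1 hN2 hN3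
  -- conclusion
  rw [eq_bot_iff]
  intro m hm
  rw [Subgroup.mem_bot]
  have hmL : m ∈ L := hM hm
  have hmK : (⟨m, hmL⟩ : ↥L) ∈ K := hMK (by rw [Subgroup.mem_subgroupOf]; exact hm)
  have hmL' := hmL
  rw [hL] at hmL'
  obtain ⟨s, hs, rfl⟩ := hmL'
  have hsN : SpecialLinearGroup.toGL s ∈ N := by
    rw [hmemN]
    exact ⟨s, ⟨⟨pr s, hmL⟩, hmK, rfl⟩, hs, rfl⟩
  have hs1 : s.1 = 1 ∨ s.1 = -1 := hres _ hsN
  rw [pr_def, QuotientGroup.eq_one_iff, Subgroup.mem_center_iff]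
  intro z
  apply Subtype.ext
  rw [val_mul, val_mul]
  rcases hs1 with h | h
  · rw [h, Matrix.mul_one, Matrix.one_mul]
  · rw [h, Matrix.mul_neg, Matrix.neg_mul, Matrix.mul_one, Matrix.one_mul]

end Cfsg.Agent.Lib.Helper5.Bal
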