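import Mathlib
import Cfsg.Agent.Lib.Helper5.BalRed
import Cfsg.Agent.Lib.Helper2.BalOS
import Cfsg.Agent.Lib.Helper61.BalORTH10

/-! # S2686 leaf BAL-OS (helper2 for helper5): `os_core` instantiated with helper61's BAL-ORTH. -/

set_option autoImplicit false
set_option linter.unusedVariables false
set_option linter.unusedSectionVars false

namespace Cfsg.Agent.Lib.Helper5.Bal

open Matrix Cfsg.Agent.Lib.Helper5.AutPSLn Cfsg.Agent.Lib.Helper45.AutPSL
  Cfsg.Agent.Lib.Helper5.BalE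

variable {n : ℕ} {F : Type*} [Field F]

/-- BAL-OS -/
theorem LG_simple_orth [Fintype F] (hn : 3 ≤ n) (h2 : (2 : F) ≠ 0) (g : GL (Fin n) F)
    (hg : g.1ᵀ = g.1) (M : Subgroup (Matrix.ProjectiveSpecialLinearGroup (Fin n) F))
    (hM : M ≤ LG g.1) (hinv : ∀ l ∈ LG g.1, ∀ m ∈ M, l * m * l⁻¹ ∈ M)
    (hc : (Nat.card ↥M).Coprime 2) : M = ⊥ :=
  os_core hn h2
    (fun g' hdet hsymm N hN hnorm hodd => orth_odd_normal h2 hn g' hdet hsymm N hN hnorm hodd)
    g hg M hM hinv hc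

end Cfsg.Agent.Lib.Helper5.Bal
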