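import Mathlib

/-! # S5293 leaf CS-GEN (helper2 for helper88): a subgroup containing a Sylow `p`-subgroup and all
`p'`-elements is everything. -/

set_option autoImplicit false

namespace Cfsg.Agent.Lib.Helper88.Cs

variable {p : ℕ} [Fact p.Prime]

/-- **CS-GEN** (pure group theory). -/
theorem eq_top_of_sylow_le_of_pprime {A : Type*} [Group A] [Finite A] (P₀ : Sylow p A)
    (B : Subgroup A) (hP : (P₀ : Subgroup A) ≤ B) (hB : ∀ a : A, (orderOf a).Coprime p → a ∈ B) :
    B = ⊤ := by
  have hp : p.Prime := Fact.out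
  -- the normal subgroup generated by the `p'`-elements
  obtain ⟨N, hN⟩ : ∃ N : Subgroup A, N = Subgroup.normalClosure {a : A | (orderOf a).Coprime p} :=
    ⟨_, rfl⟩
  haveI hNn : N.Normal := by rw [hN]; exact Subgroup.normalClosure_normal
  have hNB : N ≤ B := by
    rw [hN, Subgroup.normalClosure]
    apply (Subgroup.closure_le _).mpr
    intro a ha
    obtain ⟨a', ha', hc⟩ := Group.mem_conjugatesOfSet_iff.mp ha
    obtain ⟨c, rfl⟩ := isConj_iff.mp hc
    apply hB
    have h1 : orderOf (c * a' * c⁻¹) = orderOf a' := by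
      have := orderOf_injective (MulAut.conj c).toMonoidHom (MulAut.conj c).injective a'
      simpa using this
    rw [h1]
    exact ha'
  have hmemN : ∀ a : A, (orderOf a).Coprime p → a ∈ N := by
    intro a ha
    rw [hN]
    exact Subgroup.subset_normalClosure ha
  -- the quotient is a `p`-group
  have hQ : IsPGroup p (A ⧸ N) := by
    intro q
    obtain ⟨a, rfl⟩ := QuotientGroup.mk_surjective q
    have hpos : 0 < orderOf a := orderOf_pos a
    obtain ⟨k, m, hm, hkm⟩ := Nat.exists_eq_pow_mul_and_not_dvd hpos.ne' p hp.ne_one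
    refine ⟨k, ?_⟩
    rw [← QuotientGroup.mk_pow, QuotientGroup.eq_one_iff]
    apply hmemN
    have hdvd : orderOf (a ^ p ^ k) ∣ m := by
      apply orderOf_dvd_of_pow_eq_one
      rw [← pow_mul, ← hkm, pow_orderOf_eq_one]
    have hcop : m.Coprime p := ((Nat.Prime.coprime_iff_not_dvd hp).mpr hm).symm
    exact Nat.Coprime.coprime_dvd_left hdvd hcop
  obtain ⟨n, hn⟩ := IsPGroup.iff_card.mp hQ
  have hidx : N.index = p ^ n := by rw [Subgroup.index_eq_card]; exact hn
  -- the index of `N ⊔ P₀`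
  have h1 : (N ⊔ (P₀ : Subgroup A)).index ∣ p ^ n := by
    rw [← hidx]
    exact Subgroup.index_dvd_of_le le_sup_left
  have h2 : (N ⊔ (P₀ : Subgroup A)).index ∣ (P₀ : Subgroup A).index :=
    Subgroup.index_dvd_of_le le_sup_right
  have h3 : ((P₀ : Subgroup A).index).Coprime (p ^ n) := by
    apply Nat.Coprime.pow_right
    exact ((Nat.Prime.coprime_iff_not_dvd hp).mpr P₀.not_dvd_index).symm
  have h4 : (N ⊔ (P₀ : Subgroup A)).index = 1 :=
    Nat.eq_one_of_dvd_coprimes h3 h2 h1
  have h5 : N ⊔ (P₀ : Subgroup A) = ⊤ := Subgroup.index_eq_one.mp h4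
  rw [eq_top_iff, ← h5]
  exact sup_le hNB hP

end Cfsg.Agent.Lib.Helper88.Cs
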