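import Mathlib

/-! # Two classes of involutions: the counting step (helper2, for helper12's D3 hive S2183)

If every involution of a subgroup `H` of `G` is `H`-conjugate to `a` or to `b`, where `a`, `b` are involutions of `H`
which are not `H`-conjugate, then the set of conjugacy classes of involutions of `↥H` has exactly two elements. -/

set_option autoImplicit false

namespace Cfsg.Agent.Lib.Helper2.D3Ncard

theorem d3ncard_orderOf {G : Type*} [Group G] (H : Subgroup G) (g : ↥H) : orderOf g = orderOf (g : G) :=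
  (Subgroup.orderOf_coe g).symm

theorem d3ncard_isConj_iff {G : Type*} [Group G] (H : Subgroup G) (x y : ↥H) :
    IsConj x y ↔ ∃ h ∈ H, h * (x : G) * h⁻¹ = (y : G) := by
  rw [isConj_iff]
  constructor
  · rintro ⟨c, hc⟩
    exact ⟨c, c.2, by rw [← hc]; rfl⟩
  · rintro ⟨h, hh, e⟩
    exact ⟨⟨h, hh⟩, Subtype.ext e⟩

/-- exactly two classes of involutions -/
theorem ncard_two {G : Type*} [Group G] (H : Subgroup G) (a b : G) (ha : a ∈ H) (hb : b ∈ H)
    (hoa : orderOf a = 2) (hob : orderOf b = 2)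
    (hall : ∀ g ∈ H, orderOf g = 2 → (∃ h ∈ H, h * g * h⁻¹ = a) ∨ (∃ h ∈ H, h * g * h⁻¹ = b))
    (hne : ¬ ∃ h ∈ H, h * a * h⁻¹ = b) :
    (ConjClasses.mk '' {g : ↥H | orderOf g = 2}).ncard = 2 := by
  have hset : ConjClasses.mk '' {g : ↥H | orderOf g = 2} =
      {ConjClasses.mk (⟨a, ha⟩ : ↥H), ConjClasses.mk (⟨b, hb⟩ : ↥H)} := by
    ext c
    constructor
    · rintro ⟨g, hg, rfl⟩
      rw [Set.mem_setOf_eq, d3ncard_orderOf] at hg
      rcases hall g g.2 hg with h | h
      · left
        rw [ConjClasses.mk_eq_mk_iff_isConj, d3ncard_isConj_iff]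
        exact h
      · right
        rw [Set.mem_singleton_iff, ConjClasses.mk_eq_mk_iff_isConj, d3ncard_isConj_iff]
        exact h
    · rintro (rfl | rfl)
      · exact ⟨⟨a, ha⟩, by rw [Set.mem_setOf_eq, d3ncard_orderOf]; exact hoa, rfl⟩
      · exact ⟨⟨b, hb⟩, by rw [Set.mem_setOf_eq, d3ncard_orderOf]; exact hob, rfl⟩
  rw [hset]
  apply Set.ncard_pair
  intro e
  rw [ConjClasses.mk_eq_mk_iff_isConj, d3ncard_isConj_iff] at e
  exact hne e

end Cfsg.Agent.Lib.Helper2.D3Ncard
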