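import Cfsg.Agent.Lib.Helper12.D3Defs
import Cfsg.Agent.Lib.Helper36.ChevTwD4
import Cfsg.Agent.Lib.Helper36.ChevBN
import Cfsg.Agent.S0308
import Cfsg.Agent.S1045

/-! # D3 hive (S2183, helper12): the non-conjugacy part of the assembly (helper2)

`x_a(1)` and `x_b(1) = x_14(1)` are not conjugate in `³D₄(q)`, `q` even - they are not even conjugate in `D₄(K)`.
The leaves NC1, NC2, RS2, RL3 of the hive enter as explicit hypotheses, in the exact shape of the skeleton, so that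
this file depends on no leaf file.  Same argument as `G2i.not_conj`: Bruhat `h = x n y`, `y` moves `T'(1,1,1,0,0)` to
`T'(k₁,k₂,k₃,d,e)` with `kᵢ ≠ 0`, `x⁻¹` moves `x_23(1)` to `x_23(k)`, and `n` cannot carry the one to the other. -/

set_option autoImplicit false

namespace Cfsg.Agent.Lib.Helper12.D3

open Cfsg Cfsg.Lie Cfsg.Agent.Lib.Helper36 Cfsg.Agent.Lib.Helper75.D4g

variable (K : Type*) [Field K] (φ : K →+* K)

variable {K} in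
theorem d3nc_cj_refl (q : ℕ) (g : GL chevD4.Idx K) : Cj K q g g := ⟨1, one_mem _, by group⟩

variable {K} in
theorem d3nc_cj_symm {q : ℕ} {a b : GL chevD4.Idx K} (h : Cj K q a b) : Cj K q b a := by
  obtain ⟨k, hk, rfl⟩ := h
  exact ⟨k⁻¹, inv_mem hk, by group⟩

variable {K} in
theorem d3nc_cj_trans {q : ℕ} {a b c : GL chevD4.Idx K} (h1 : Cj K q a b) (h2 : Cj K q b c) : Cj K q a c := by
  obtain ⟨h, hh, rfl⟩ := h1
  obtain ⟨k, hk, rfl⟩ := h2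
  exact ⟨k * h, mul_mem hk hh, by group⟩

variable {K} in
theorem d3nc_cj_mul_self {q : ℕ} {a b : GL chevD4.Idx K} (h : Cj K q a b) (ha : a * a = 1) : b * b = 1 := by
  obtain ⟨k, -, rfl⟩ := h
  calc k * a * k⁻¹ * (k * a * k⁻¹) = k * (a * a) * k⁻¹ := by group
    _ = 1 := by rw [ha]; group

/-- `³D₄(q) ≤ D₄(K)` -/
theorem d3nc_le_group [Fintype K] {q : ℕ} (hK : Fintype.card K = q ^ 3) (hφ : ∀ t : K, φ t = t ^ q) :
    twistedD4 K q ≤ chevD4.group K := by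
  rw [twistedD4_eq K q φ hφ hK]
  exact twGroup_le_group chevD4 hD4 graphD4 orbsD4 fundD4 K φ chkFund_D4

/-- `x_{2a+b}(1) = T'(1,1,1,0,0)` -/
theorem d3nc_x2ab_one : x2ab K φ 1 = T' K 1 1 1 0 0 := by
  unfold x2ab T'
  rw [map_one, map_one]
  have h0 : ∀ r : ℕ, xg K r 0 = 1 := fun r => xGL_zero chevD4 hD4 K r
  rw [h0, h0, mul_one, mul_one]

/-- `x_23(e) = T'(0,0,0,0,e)` is not needed: `x_23` is handled directly.
The two root involutions are not conjugate in `D₄(K)`, given NC1 and NC2. -/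
theorem d3_not_conj_group
    (hNC1a : ∀ (y : GL chevD4.Idx K), y ∈ chevD4.borelSubgroup K → ∀ (c₁ c₂ c₃ d e : K),
      ∃ k₁ k₂ k₃ : K, k₁ ≠ 0 ∧ k₂ ≠ 0 ∧ k₃ ≠ 0 ∧ ∃ d' e' : K,
        y * T' K c₁ c₂ c₃ d e * y⁻¹ = T' K (k₁ * c₁) (k₂ * c₂) (k₃ * c₃) d' e')
    (hNC1b : ∀ (y : GL chevD4.Idx K), y ∈ chevD4.borelSubgroup K → ∀ (e : K),
      ∃ k : K, y * xg K 23 e * y⁻¹ = xg K 23 (k * e))
    (hNC2 : ∀ (n : GL chevD4.Idx K), n ∈ chevD4.monomialSubgroup K → ∀ (c₁ c₂ c₃ d e e' : K),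
      c₁ ≠ 0 → c₂ ≠ 0 → n * T' K c₁ c₂ c₃ d e * n⁻¹ = xg K 23 e' → False)
    (g : GL chevD4.Idx K) (hg : g ∈ chevD4.group K) (hc : g * x2ab K φ 1 * g⁻¹ = xg K 23 1) : False := by
  have h45 : ∀ i < chevD4.rank, H45 chevD4 K i := fun i hi => Cfsg.Agent.S1045.result chevD4 hD4 i hi
  obtain ⟨P, hB, hN, -⟩ := exists_bnPair chevD4 hD4 K h45
  obtain ⟨n, hn, hgn⟩ := Cfsg.Agent.S0308.result P ⟨g, hg⟩
  rw [hN, Subgroup.mem_subgroupOf] at hn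
  rw [DoubleCoset.mem_doubleCoset] at hgn
  obtain ⟨x, hx, y, hy, e⟩ := hgn
  rw [SetLike.mem_coe, hB, Subgroup.mem_subgroupOf] at hx hy
  have e' : g = (x : GL chevD4.Idx K) * (n : GL chevD4.Idx K) * (y : GL chevD4.Idx K) :=
    congrArg Subtype.val e
  obtain ⟨k₁, k₂, k₃, hk₁, hk₂, -, d, e₁, hy1⟩ := hNC1a _ hy 1 1 1 0 0
  obtain ⟨k', hx1⟩ := hNC1b _ (inv_mem hx) 1
  rw [inv_inv] at hx1
  rw [d3nc_x2ab_one] at hc
  have hn1 : (n : GL chevD4.Idx K) * T' K (k₁ * 1) (k₂ * 1) (k₃ * 1) d e₁ * (n : GL chevD4.Idx K)⁻¹ =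
      xg K 23 (k' * 1) := by
    rw [← hy1, ← hx1, ← hc, e']
    group
  exact hNC2 _ hn _ _ _ _ _ _ (by rw [mul_one]; exact hk₁) (by rw [mul_one]; exact hk₂) hn1

/-- the short and the long root involution of `³D₄(q)`, `q` even, are not conjugate -/
theorem d3_not_conj [Fintype K] {q : ℕ} (hK : Fintype.card K = q ^ 3) (hφ : ∀ t : K, φ t = t ^ q)
    (hNC1a : ∀ (y : GL chevD4.Idx K), y ∈ chevD4.borelSubgroup K → ∀ (c₁ c₂ c₃ d e : K),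
      ∃ k₁ k₂ k₃ : K, k₁ ≠ 0 ∧ k₂ ≠ 0 ∧ k₃ ≠ 0 ∧ ∃ d' e' : K,
        y * T' K c₁ c₂ c₃ d e * y⁻¹ = T' K (k₁ * c₁) (k₂ * c₂) (k₃ * c₃) d' e')
    (hNC1b : ∀ (y : GL chevD4.Idx K), y ∈ chevD4.borelSubgroup K → ∀ (e : K),
      ∃ k : K, y * xg K 23 e * y⁻¹ = xg K 23 (k * e))
    (hNC2 : ∀ (n : GL chevD4.Idx K), n ∈ chevD4.monomialSubgroup K → ∀ (c₁ c₂ c₃ d e e' : K),
      c₁ ≠ 0 → c₂ ≠ 0 → n * T' K c₁ c₂ c₃ d e * n⁻¹ = xg K 23 e' → False)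
    (hrs2 : Cj K q (x2ab K φ 1) (xa K φ 1)) (hrl3 : Cj K q (xg K 23 1) (xg K 14 1)) :
    ¬ Cj K q (xa K φ 1) (xg K 14 1) := by
  intro h
  obtain ⟨g, hg, hc⟩ := d3nc_cj_trans (d3nc_cj_trans hrs2 h) (d3nc_cj_symm hrl3)
  exact d3_not_conj_group K φ hNC1a hNC1b hNC2 g (d3nc_le_group K φ hK hφ hg) hc

end Cfsg.Agent.Lib.Helper12.D3
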