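import Cfsg.Agent.Lib.Helper2.SL2b

set_option autoImplicit false

/-! Dickson project, part 1: root elements, the Borel subgroup and its unipotent radical in
`SL(2,F)`. -/

namespace Cfsg.Agent.Lib.Helper2.Dk

open Matrix Cfsg.Agent.Lib.Helper2.SL2

variable {F : Type*} [Field F]

/-- upper unitriangular element -/
def tt (μ : F) : Matrix.SpecialLinearGroup (Fin 2) F :=
  ⟨!![1, μ; 0, 1], by simp [Matrix.det_fin_two]⟩

/-- lower unitriangular element -/
def ss (ν : F) : Matrix.SpecialLinearGroup (Fin 2) F :=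
  ⟨!![1, 0; ν, 1], by simp [Matrix.det_fin_two]⟩

@[simp] theorem tt00 (μ : F) : tt μ 0 0 = 1 := rfl
@[simp] theorem tt01 (μ : F) : tt μ 0 1 = μ := rfl
@[simp] theorem tt10 (μ : F) : tt μ 1 0 = 0 := rfl
@[simp] theorem tt11 (μ : F) : tt μ 1 1 = 1 := rfl
@[simp] theorem ss00 (μ : F) : ss μ 0 0 = 1 := rfl
@[simp] theorem ss01 (μ : F) : ss μ 0 1 = 0 := rfl
@[simp] theorem ss10 (μ : F) : ss μ 1 0 = μ := rfl
@[simp] theorem ss11 (μ : F) : ss μ 1 1 = 1 := rfl

theorem tt_add (μ ν : F) : tt (μ + ν) = tt μ * tt ν := by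
  apply ext2 <;> simp only [mul00, mul01, mul10, mul11, tt00, tt01, tt10, tt11] <;> ring

theorem ss_add (μ ν : F) : ss (μ + ν) = ss μ * ss ν := by
  apply ext2 <;> simp only [mul00, mul01, mul10, mul11, ss00, ss01, ss10, ss11] <;> ring

theorem tt_zero : tt (0 : F) = 1 := by
  apply ext2 <;> simp only [one00, one01, one10, one11, tt00, tt01, tt10, tt11]

theorem ss_zero : ss (0 : F) = 1 := by
  apply ext2 <;> simp only [one00, one01, one10, one11, ss00, ss01, ss10, ss11]

theorem tt_inv (μ : F) : (tt μ)⁻¹ = tt (-μ) := by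
  apply ext2 <;> simp only [inv00, inv01, inv10, inv11, tt00, tt01, tt10, tt11] <;> simp

theorem ss_inv (μ : F) : (ss μ)⁻¹ = ss (-μ) := by
  apply ext2 <;> simp only [inv00, inv01, inv10, inv11, ss00, ss01, ss10, ss11] <;> simp

theorem tt_pow (μ : F) (n : ℕ) : tt μ ^ n = tt (n * μ) := by
  induction n with
  | zero => simp [tt_zero]
  | succ n ih => rw [pow_succ, ih, ← tt_add]; congr 1; push_cast; ring

theorem ss_pow (μ : F) (n : ℕ) : ss μ ^ n = ss (n * μ) := by
  induction n with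
  | zero => simp [ss_zero]
  | succ n ih => rw [pow_succ, ih, ← ss_add]; congr 1; push_cast; ring

theorem tt_injective : Function.Injective (tt : F → _) := by
  intro a b h
  have := congrArg (fun g : Matrix.SpecialLinearGroup (Fin 2) F => g 0 1) h
  simpa using this

theorem ss_injective : Function.Injective (ss : F → _) := by
  intro a b h
  have := congrArg (fun g : Matrix.SpecialLinearGroup (Fin 2) F => g 1 0) h
  simpa using this

theorem tt_eq_one_iff (μ : F) : tt μ = 1 ↔ μ = 0 := by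
  rw [← tt_zero]; exact tt_injective.eq_iff

/-- entries of a conjugate of an upper unitriangular element -/
theorem conj_tt (g : Matrix.SpecialLinearGroup (Fin 2) F) (μ : F) :
    (g * tt μ * g⁻¹) 0 0 = 1 - μ * g 0 0 * g 1 0 ∧ (g * tt μ * g⁻¹) 0 1 = μ * g 0 0 ^ 2 ∧
    (g * tt μ * g⁻¹) 1 0 = - μ * g 1 0 ^ 2 ∧ (g * tt μ * g⁻¹) 1 1 = 1 + μ * g 0 0 * g 1 0 := by
  have hd := det2 g
  simp only [mul00, mul01, mul10, mul11, inv00, inv01, inv10, inv11, tt00, tt01, tt10, tt11]
  refine ⟨?_, ?_, ?_, ?_⟩ <;> grind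

/-- entries of a conjugate of a lower unitriangular element -/
theorem conj_ss (g : Matrix.SpecialLinearGroup (Fin 2) F) (μ : F) :
    (g * ss μ * g⁻¹) 0 0 = 1 + μ * g 0 1 * g 1 1 ∧ (g * ss μ * g⁻¹) 0 1 = - μ * g 0 1 ^ 2 ∧
    (g * ss μ * g⁻¹) 1 0 = μ * g 1 1 ^ 2 ∧ (g * ss μ * g⁻¹) 1 1 = 1 - μ * g 0 1 * g 1 1 := by
  have hd := det2 g
  simp only [mul00, mul01, mul10, mul11, inv00, inv01, inv10, inv11, ss00, ss01, ss10, ss11]
  refine ⟨?_, ?_, ?_, ?_⟩ <;> grind

variable (F)

/-- the upper triangular (Borel) subgroup -/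
def Bor : Subgroup (Matrix.SpecialLinearGroup (Fin 2) F) where
  carrier := {g | g 1 0 = 0}
  mul_mem' := by
    intro a b ha hb
    simp only [Set.mem_setOf_eq] at *
    rw [mul10, ha, hb]; ring
  one_mem' := by simp
  inv_mem' := by
    intro a ha
    simp only [Set.mem_setOf_eq] at *
    rw [inv10, ha]; ring

/-- `± ` upper unitriangular: the centralizer of a nontrivial upper unitriangular element -/
def PU : Subgroup (Matrix.SpecialLinearGroup (Fin 2) F) where
  carrier := {g | g 1 0 = 0 ∧ g 0 0 = g 1 1}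
  mul_mem' := by
    intro a b ha hb
    simp only [Set.mem_setOf_eq] at *
    rw [mul10, mul00, mul11, ha.1, hb.1, ha.2, hb.2]
    constructor <;> ring
  one_mem' := by simp
  inv_mem' := by
    intro a ha
    simp only [Set.mem_setOf_eq] at *
    rw [inv10, inv00, inv11, ha.1, ha.2]
    simp

/-- upper unitriangular subgroup -/
def Uni : Subgroup (Matrix.SpecialLinearGroup (Fin 2) F) where
  carrier := {g | g 1 0 = 0 ∧ g 0 0 = 1 ∧ g 1 1 = 1}
  mul_mem' := by
    intro a b ha hb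
    simp only [Set.mem_setOf_eq] at *
    rw [mul10, mul00, mul11, ha.1, hb.1, ha.2.1, hb.2.1, ha.2.2, hb.2.2]
    refine ⟨?_, ?_, ?_⟩ <;> ring
  one_mem' := by simp
  inv_mem' := by
    intro a ha
    simp only [Set.mem_setOf_eq] at *
    rw [inv10, inv00, inv11, ha.1, ha.2.1, ha.2.2]
    simp

variable {F}

theorem mem_Bor {g : Matrix.SpecialLinearGroup (Fin 2) F} : g ∈ Bor F ↔ g 1 0 = 0 := Iff.rfl
theorem mem_PU {g : Matrix.SpecialLinearGroup (Fin 2) F} :
    g ∈ PU F ↔ g 1 0 = 0 ∧ g 0 0 = g 1 1 := Iff.rfl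
theorem mem_Uni {g : Matrix.SpecialLinearGroup (Fin 2) F} :
    g ∈ Uni F ↔ g 1 0 = 0 ∧ g 0 0 = 1 ∧ g 1 1 = 1 := Iff.rfl

theorem Uni_le_PU : Uni F ≤ PU F := fun g hg => ⟨hg.1, by rw [hg.2.1, hg.2.2]⟩
theorem PU_le_Bor : PU F ≤ Bor F := fun g hg => hg.1

theorem tt_mem_Uni (μ : F) : tt μ ∈ Uni F := ⟨rfl, rfl, rfl⟩

theorem eq_tt_of_mem_Uni {g : Matrix.SpecialLinearGroup (Fin 2) F} (hg : g ∈ Uni F) :
    g = tt (g 0 1) := by
  apply ext2 <;> simp only [tt00, tt01, tt10, tt11]
  · exact hg.2.1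
  · exact hg.1
  · exact hg.2.2

/-- in the Borel subgroup the diagonal entries are inverse to each other -/
theorem diag_mul_of_mem_Bor {g : Matrix.SpecialLinearGroup (Fin 2) F} (hg : g ∈ Bor F) :
    g 0 0 * g 1 1 = 1 := by
  have := det2 g
  rw [mem_Bor.mp hg] at this
  linear_combination this

theorem sq_eq_one_of_mem_PU {g : Matrix.SpecialLinearGroup (Fin 2) F} (hg : g ∈ PU F) :
    g 0 0 ^ 2 = 1 := by
  have := diag_mul_of_mem_Bor (PU_le_Bor hg)
  rw [← hg.2] at this
  linear_combination this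

/-- an element of `PU` is `± tt μ` -/
theorem mem_PU_cases {g : Matrix.SpecialLinearGroup (Fin 2) F} (hg : g ∈ PU F) :
    g = tt (g 0 1) ∨ g = - tt (- g 0 1) := by
  have h := sq_eq_one_of_mem_PU hg
  have h' : (g 0 0 - 1) * (g 0 0 + 1) = 0 := by linear_combination h
  rcases mul_eq_zero.mp h' with h1 | h1
  · left
    have h00 : g 0 0 = 1 := by linear_combination h1
    apply ext2 <;> simp only [tt00, tt01, tt10, tt11]
    · exact h00
    · exact hg.1
    · rw [← hg.2, h00]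
  · right
    have h00 : g 0 0 = -1 := by linear_combination h1
    apply ext2 <;> simp only [neg00, neg01, neg10, neg11, tt00, tt01, tt10, tt11]
    · exact h00
    · ring
    · rw [hg.1]; ring
    · rw [← hg.2, h00]

/-- conjugating `tt μ` by an upper triangular element -/
theorem conj_tt_of_mem_Bor {b : Matrix.SpecialLinearGroup (Fin 2) F} (hb : b ∈ Bor F) (μ : F) :
    b * tt μ * b⁻¹ = tt (b 0 0 ^ 2 * μ) := by
  obtain ⟨h0, h1, h2, h3⟩ := conj_tt b μ
  rw [mem_Bor.mp hb] at h0 h2 h3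
  apply ext2 <;> simp only [tt00, tt01, tt10, tt11]
  · rw [h0]; ring
  · rw [h1]; ring
  · rw [h2]; ring
  · rw [h3]; ring

/-- (G1) an element of `PU` that is not `±1` has a unique fixed point: if a conjugate of it
is upper triangular then so is the conjugating element. -/
theorem mem_Bor_of_conj_mem_Bor {x u : Matrix.SpecialLinearGroup (Fin 2) F} (hu : u ∈ PU F)
    (hu1 : u 0 1 ≠ 0) (hx : x * u * x⁻¹ ∈ Bor F) : x ∈ Bor F := by
  rw [mem_Bor] at hx ⊢
  have hd := det2 x
  simp only [mul00, mul01, mul10, mul11, inv00, inv01, inv10, inv11, hu.1, hu.2] at hx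
  have : u 0 1 * x 1 0 ^ 2 = 0 := by linear_combination -hx
  rcases mul_eq_zero.mp this with h | h
  · exact absurd h hu1
  · exact pow_eq_zero_iff (two_ne_zero) |>.mp h

theorem ne_of_zero_one_ne {u : Matrix.SpecialLinearGroup (Fin 2) F} (hu1 : u 0 1 ≠ 0) :
    u ≠ 1 ∧ u ≠ -1 := by
  constructor
  · intro h; apply hu1; rw [h]; simp
  · intro h; apply hu1; rw [h]; simp

theorem zero_one_ne_of_mem_PU {u : Matrix.SpecialLinearGroup (Fin 2) F} (hu : u ∈ PU F)
    (h1 : u ≠ 1) (h2 : u ≠ -1) : u 0 1 ≠ 0 := by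
  intro h
  rcases mem_PU_cases hu with e | e
  · rw [h, tt_zero] at e; exact h1 e
  · rw [h, neg_zero, tt_zero] at e; exact h2 e

/-- an element commuting with a nontrivial upper unitriangular element lies in `PU` -/
theorem mem_PU_of_commute {g : Matrix.SpecialLinearGroup (Fin 2) F} {μ : F} (hμ : μ ≠ 0)
    (h : g * tt μ = tt μ * g) : g ∈ PU F := by
  obtain ⟨h00, h01, h10, h11⟩ := entries_of_eq h
  simp only [mul00, mul01, mul10, mul11, tt00, tt01, tt10, tt11] at h00 h01 h10 h11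
  have h1 : μ * g 1 0 = 0 := by linear_combination -h00
  have h2 : g 1 0 = 0 := by
    rcases mul_eq_zero.mp h1 with h | h
    · exact absurd h hμ
    · exact h
  refine ⟨h2, ?_⟩
  have : μ * (g 0 0 - g 1 1) = 0 := by linear_combination h01
  rcases mul_eq_zero.mp this with h | h
  · exact absurd h hμ
  · linear_combination h

theorem commute_tt_of_mem_PU {g : Matrix.SpecialLinearGroup (Fin 2) F} (hg : g ∈ PU F) (μ : F) :
    g * tt μ = tt μ * g := by
  apply ext2 <;> simp only [mul00, mul01, mul10, mul11, tt00, tt01, tt10, tt11, hg.1, hg.2] <;> ring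

end Cfsg.Agent.Lib.Helper2.Dk
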