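import Cfsg.Agent.Lib.Helper2.Dk10
import Mathlib.Algebra.QuadraticAlgebra.Basic

set_option autoImplicit false

/-! Dickson project, part 11: the exceptional subgroup of order `120` in `SL(2,9)`,
by enumeration over the model `F₃[i]`. -/

namespace Cfsg.Agent.Lib.Helper2.Dk

open Matrix Cfsg.Agent.Lib.Helper2.SL2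

/-- the field with nine elements, as `F₃[i]` -/
abbrev K9 : Type := QuadraticAlgebra (ZMod 3) (-1) 0

instance K9.fact : Fact (∀ r : ZMod 3, r ^ 2 ≠ (-1 : ZMod 3) + 0 * r) := ⟨by decide⟩

/-- entries of a matrix as a tuple -/
def enc9 (g : Matrix.SpecialLinearGroup (Fin 2) K9) : K9 × K9 × K9 × K9 :=
  (g 0 0, g 0 1, g 1 0, g 1 1)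

/-- matrix product on tuples -/
def mul9 (x y : K9 × K9 × K9 × K9) : K9 × K9 × K9 × K9 :=
  (x.1 * y.1 + x.2.1 * y.2.2.1, x.1 * y.2.1 + x.2.1 * y.2.2.2,
   x.2.2.1 * y.1 + x.2.2.2 * y.2.2.1, x.2.2.1 * y.2.1 + x.2.2.2 * y.2.2.2)

theorem enc9_mul (g h : Matrix.SpecialLinearGroup (Fin 2) K9) :
    enc9 (g * h) = mul9 (enc9 g) (enc9 h) := by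
  simp only [enc9, mul9, mul00, mul01, mul10, mul11]

/-- the `120` elements of the exceptional subgroup -/
def list9 : List (K9 × K9 × K9 × K9) :=
  [(⟨1, 0⟩, ⟨0, 0⟩, ⟨0, 0⟩, ⟨1, 0⟩),
  (⟨1, 0⟩, ⟨0, 0⟩, ⟨1, 0⟩, ⟨1, 0⟩),
  (⟨1, 0⟩, ⟨0, 0⟩, ⟨2, 0⟩, ⟨1, 0⟩),
  (⟨1, 0⟩, ⟨0, 1⟩, ⟨0, 0⟩, ⟨1, 0⟩),
  (⟨1, 0⟩, ⟨0, 2⟩, ⟨0, 0⟩, ⟨1, 0⟩),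
  (⟨1, 1⟩, ⟨0, 1⟩, ⟨1, 0⟩, ⟨1, 0⟩),
  (⟨1, 2⟩, ⟨0, 2⟩, ⟨1, 0⟩, ⟨1, 0⟩),
  (⟨1, 2⟩, ⟨0, 1⟩, ⟨2, 0⟩, ⟨1, 0⟩),
  (⟨1, 1⟩, ⟨0, 2⟩, ⟨2, 0⟩, ⟨1, 0⟩),
  (⟨1, 0⟩, ⟨0, 1⟩, ⟨1, 0⟩, ⟨1, 1⟩),
  (⟨1, 0⟩, ⟨0, 1⟩, ⟨2, 0⟩, ⟨1, 2⟩),
  (⟨1, 0⟩, ⟨0, 2⟩, ⟨1, 0⟩, ⟨1, 2⟩),
  (⟨1, 0⟩, ⟨0, 2⟩, ⟨2, 0⟩, ⟨1, 1⟩),
  (⟨1, 1⟩, ⟨0, 1⟩, ⟨2, 1⟩, ⟨1, 1⟩),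
  (⟨1, 1⟩, ⟨0, 1⟩, ⟨0, 2⟩, ⟨1, 2⟩),
  (⟨1, 2⟩, ⟨0, 2⟩, ⟨2, 2⟩, ⟨1, 2⟩),
  (⟨1, 2⟩, ⟨0, 2⟩, ⟨0, 1⟩, ⟨1, 1⟩),
  (⟨1, 2⟩, ⟨0, 1⟩, ⟨0, 2⟩, ⟨1, 1⟩),
  (⟨1, 2⟩, ⟨0, 1⟩, ⟨1, 1⟩, ⟨1, 2⟩),
  (⟨1, 1⟩, ⟨0, 2⟩, ⟨0, 1⟩, ⟨1, 2⟩),
  (⟨1, 1⟩, ⟨0, 2⟩, ⟨1, 2⟩, ⟨1, 1⟩),
  (⟨1, 1⟩, ⟨2, 2⟩, ⟨1, 0⟩, ⟨1, 1⟩),
  (⟨1, 2⟩, ⟨1, 0⟩, ⟨1, 0⟩, ⟨1, 1⟩),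
  (⟨1, 2⟩, ⟨1, 2⟩, ⟨2, 0⟩, ⟨1, 2⟩),
  (⟨1, 1⟩, ⟨2, 0⟩, ⟨2, 0⟩, ⟨1, 2⟩),
  (⟨1, 1⟩, ⟨1, 0⟩, ⟨1, 0⟩, ⟨1, 2⟩),
  (⟨1, 2⟩, ⟨2, 1⟩, ⟨1, 0⟩, ⟨1, 2⟩),
  (⟨1, 2⟩, ⟨2, 0⟩, ⟨2, 0⟩, ⟨1, 1⟩),
  (⟨1, 1⟩, ⟨1, 1⟩, ⟨2, 0⟩, ⟨1, 1⟩),
  (⟨0, 0⟩, ⟨2, 2⟩, ⟨2, 1⟩, ⟨1, 1⟩),
  (⟨2, 2⟩, ⟨1, 0⟩, ⟨2, 1⟩, ⟨1, 1⟩),
  (⟨2, 1⟩, ⟨1, 2⟩, ⟨0, 2⟩, ⟨1, 2⟩),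
  (⟨0, 1⟩, ⟨2, 0⟩, ⟨0, 2⟩, ⟨1, 2⟩),
  (⟨2, 1⟩, ⟨1, 0⟩, ⟨2, 2⟩, ⟨1, 2⟩),
  (⟨0, 0⟩, ⟨2, 1⟩, ⟨2, 2⟩, ⟨1, 2⟩),
  (⟨0, 2⟩, ⟨2, 0⟩, ⟨0, 1⟩, ⟨1, 1⟩),
  (⟨2, 2⟩, ⟨1, 1⟩, ⟨0, 1⟩, ⟨1, 1⟩),
  (⟨2, 2⟩, ⟨2, 2⟩, ⟨0, 2⟩, ⟨1, 1⟩),
  (⟨0, 2⟩, ⟨1, 0⟩, ⟨0, 2⟩, ⟨1, 1⟩),
  (⟨0, 0⟩, ⟨1, 2⟩, ⟨1, 1⟩, ⟨1, 2⟩),
  (⟨2, 1⟩, ⟨2, 0⟩, ⟨1, 1⟩, ⟨1, 2⟩),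
  (⟨0, 1⟩, ⟨1, 0⟩, ⟨0, 1⟩, ⟨1, 2⟩),
  (⟨2, 1⟩, ⟨2, 1⟩, ⟨0, 1⟩, ⟨1, 2⟩),
  (⟨2, 2⟩, ⟨2, 0⟩, ⟨1, 2⟩, ⟨1, 1⟩),
  (⟨0, 0⟩, ⟨1, 1⟩, ⟨1, 2⟩, ⟨1, 1⟩),
  (⟨1, 1⟩, ⟨2, 2⟩, ⟨2, 1⟩, ⟨0, 0⟩),
  (⟨1, 1⟩, ⟨2, 2⟩, ⟨0, 2⟩, ⟨2, 2⟩),
  (⟨1, 2⟩, ⟨1, 0⟩, ⟨2, 2⟩, ⟨2, 1⟩),
  (⟨1, 2⟩, ⟨1, 0⟩, ⟨0, 1⟩, ⟨0, 1⟩),
  (⟨1, 2⟩, ⟨1, 2⟩, ⟨0, 2⟩, ⟨2, 1⟩),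
  (⟨1, 2⟩, ⟨1, 2⟩, ⟨1, 1⟩, ⟨0, 0⟩),
  (⟨1, 1⟩, ⟨2, 0⟩, ⟨0, 1⟩, ⟨0, 2⟩),
  (⟨1, 1⟩, ⟨2, 0⟩, ⟨1, 2⟩, ⟨2, 2⟩),
  (⟨1, 1⟩, ⟨1, 0⟩, ⟨2, 1⟩, ⟨2, 2⟩),
  (⟨1, 1⟩, ⟨1, 0⟩, ⟨0, 2⟩, ⟨0, 2⟩),
  (⟨1, 2⟩, ⟨2, 1⟩, ⟨2, 2⟩, ⟨0, 0⟩),
  (⟨1, 2⟩, ⟨2, 1⟩, ⟨0, 1⟩, ⟨2, 1⟩),
  (⟨1, 2⟩, ⟨2, 0⟩, ⟨0, 2⟩, ⟨0, 1⟩),
  (⟨1, 2⟩, ⟨2, 0⟩, ⟨1, 1⟩, ⟨2, 1⟩),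
  (⟨1, 1⟩, ⟨1, 1⟩, ⟨0, 1⟩, ⟨2, 2⟩),
  (⟨1, 1⟩, ⟨1, 1⟩, ⟨1, 2⟩, ⟨0, 0⟩),
  (⟨0, 0⟩, ⟨2, 2⟩, ⟨2, 1⟩, ⟨0, 0⟩),
  (⟨0, 0⟩, ⟨2, 2⟩, ⟨2, 1⟩, ⟨2, 2⟩),
  (⟨2, 2⟩, ⟨1, 0⟩, ⟨1, 0⟩, ⟨2, 1⟩),
  (⟨2, 2⟩, ⟨1, 0⟩, ⟨0, 2⟩, ⟨0, 1⟩),
  (⟨2, 1⟩, ⟨1, 2⟩, ⟨2, 0⟩, ⟨2, 1⟩),
  (⟨2, 1⟩, ⟨1, 2⟩, ⟨1, 1⟩, ⟨0, 0⟩),
  (⟨0, 1⟩, ⟨2, 0⟩, ⟨0, 0⟩, ⟨0, 2⟩),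
  (⟨0, 1⟩, ⟨2, 0⟩, ⟨0, 1⟩, ⟨2, 2⟩),
  (⟨2, 1⟩, ⟨1, 0⟩, ⟨1, 0⟩, ⟨2, 2⟩),
  (⟨2, 1⟩, ⟨1, 0⟩, ⟨0, 1⟩, ⟨0, 2⟩),
  (⟨0, 0⟩, ⟨2, 1⟩, ⟨2, 2⟩, ⟨0, 0⟩),
  (⟨0, 0⟩, ⟨2, 1⟩, ⟨2, 2⟩, ⟨2, 1⟩),
  (⟨0, 2⟩, ⟨2, 0⟩, ⟨0, 0⟩, ⟨0, 1⟩),
  (⟨0, 2⟩, ⟨2, 0⟩, ⟨0, 2⟩, ⟨2, 1⟩),
  (⟨2, 2⟩, ⟨1, 1⟩, ⟨2, 0⟩, ⟨2, 2⟩),
  (⟨2, 2⟩, ⟨1, 1⟩, ⟨1, 2⟩, ⟨0, 0⟩),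
  (⟨2, 2⟩, ⟨2, 2⟩, ⟨2, 1⟩, ⟨0, 0⟩),
  (⟨2, 2⟩, ⟨2, 2⟩, ⟨1, 0⟩, ⟨2, 2⟩),
  (⟨0, 2⟩, ⟨1, 0⟩, ⟨0, 1⟩, ⟨2, 1⟩),
  (⟨0, 2⟩, ⟨1, 0⟩, ⟨0, 0⟩, ⟨0, 1⟩),
  (⟨0, 0⟩, ⟨1, 2⟩, ⟨1, 1⟩, ⟨2, 1⟩),
  (⟨0, 0⟩, ⟨1, 2⟩, ⟨1, 1⟩, ⟨0, 0⟩),
  (⟨2, 1⟩, ⟨2, 0⟩, ⟨0, 2⟩, ⟨0, 2⟩),
  (⟨2, 1⟩, ⟨2, 0⟩, ⟨2, 0⟩, ⟨2, 2⟩),
  (⟨0, 1⟩, ⟨1, 0⟩, ⟨0, 2⟩, ⟨2, 2⟩),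
  (⟨0, 1⟩, ⟨1, 0⟩, ⟨0, 0⟩, ⟨0, 2⟩),
  (⟨2, 1⟩, ⟨2, 1⟩, ⟨2, 2⟩, ⟨0, 0⟩),
  (⟨2, 1⟩, ⟨2, 1⟩, ⟨1, 0⟩, ⟨2, 1⟩),
  (⟨2, 2⟩, ⟨2, 0⟩, ⟨0, 1⟩, ⟨0, 1⟩),
  (⟨2, 2⟩, ⟨2, 0⟩, ⟨2, 0⟩, ⟨2, 1⟩),
  (⟨0, 0⟩, ⟨1, 1⟩, ⟨1, 2⟩, ⟨2, 2⟩),
  (⟨0, 0⟩, ⟨1, 1⟩, ⟨1, 2⟩, ⟨0, 0⟩),
  (⟨2, 1⟩, ⟨0, 1⟩, ⟨0, 2⟩, ⟨2, 2⟩),
  (⟨2, 1⟩, ⟨0, 2⟩, ⟨2, 2⟩, ⟨2, 1⟩),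
  (⟨0, 2⟩, ⟨0, 0⟩, ⟨0, 1⟩, ⟨0, 1⟩),
  (⟨2, 2⟩, ⟨0, 1⟩, ⟨0, 2⟩, ⟨2, 1⟩),
  (⟨0, 1⟩, ⟨0, 0⟩, ⟨0, 1⟩, ⟨0, 2⟩),
  (⟨2, 2⟩, ⟨0, 2⟩, ⟨1, 2⟩, ⟨2, 2⟩),
  (⟨2, 2⟩, ⟨0, 1⟩, ⟨2, 1⟩, ⟨2, 2⟩),
  (⟨0, 1⟩, ⟨0, 0⟩, ⟨0, 2⟩, ⟨0, 2⟩),
  (⟨2, 2⟩, ⟨0, 2⟩, ⟨0, 1⟩, ⟨2, 1⟩),
  (⟨0, 2⟩, ⟨0, 0⟩, ⟨0, 2⟩, ⟨0, 1⟩),
  (⟨2, 1⟩, ⟨0, 1⟩, ⟨1, 1⟩, ⟨2, 1⟩),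
  (⟨2, 1⟩, ⟨0, 2⟩, ⟨0, 1⟩, ⟨2, 2⟩),
  (⟨2, 0⟩, ⟨0, 2⟩, ⟨1, 0⟩, ⟨2, 1⟩),
  (⟨2, 0⟩, ⟨0, 1⟩, ⟨2, 0⟩, ⟨2, 1⟩),
  (⟨0, 1⟩, ⟨0, 0⟩, ⟨0, 0⟩, ⟨0, 2⟩),
  (⟨2, 0⟩, ⟨0, 1⟩, ⟨1, 0⟩, ⟨2, 2⟩),
  (⟨0, 2⟩, ⟨0, 0⟩, ⟨0, 0⟩, ⟨0, 1⟩),
  (⟨2, 0⟩, ⟨0, 2⟩, ⟨2, 0⟩, ⟨2, 2⟩),
  (⟨2, 1⟩, ⟨0, 1⟩, ⟨2, 0⟩, ⟨2, 0⟩),
  (⟨2, 1⟩, ⟨0, 2⟩, ⟨1, 0⟩, ⟨2, 0⟩),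
  (⟨2, 2⟩, ⟨0, 1⟩, ⟨1, 0⟩, ⟨2, 0⟩),
  (⟨2, 2⟩, ⟨0, 2⟩, ⟨2, 0⟩, ⟨2, 0⟩),
  (⟨2, 0⟩, ⟨0, 2⟩, ⟨0, 0⟩, ⟨2, 0⟩),
  (⟨2, 0⟩, ⟨0, 1⟩, ⟨0, 0⟩, ⟨2, 0⟩),
  (⟨2, 0⟩, ⟨0, 0⟩, ⟨2, 0⟩, ⟨2, 0⟩),
  (⟨2, 0⟩, ⟨0, 0⟩, ⟨1, 0⟩, ⟨2, 0⟩),
  (⟨2, 0⟩, ⟨0, 0⟩, ⟨0, 0⟩, ⟨2, 0⟩)]

theorem list9_one : ((1 : K9), (0 : K9), (0 : K9), (1 : K9)) ∈ list9 := by decide +kernel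

theorem list9_closed (s : K9 × K9 × K9 × K9)
    (hs : s ∈ [((1 : K9), (0 : K9), (1 : K9), (1 : K9)), ((1 : K9), (0 : K9), (-1 : K9), (1 : K9)),
      ((1 : K9), (⟨0, 1⟩ : K9), (0 : K9), (1 : K9)), ((1 : K9), (⟨0, -1⟩ : K9), (0 : K9), (1 : K9))]) :
    ∀ e ∈ list9, mul9 s e ∈ list9 := by
  revert s
  decide +kernel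

theorem list9_not_mem : ((1 : K9), (1 : K9), (0 : K9), (1 : K9)) ∉ list9 := by decide +kernel

/-- the closure of the two generators over `K9` stays inside the list -/
theorem enc9_mem_of_mem_closure {y : Matrix.SpecialLinearGroup (Fin 2) K9}
    (hy : y ∈ Subgroup.closure {ss (1 : K9), tt (⟨0, 1⟩ : K9)}) : enc9 y ∈ list9 := by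
  induction hy using Subgroup.closure_induction_left with
  | one => exact list9_one
  | mul_left x hx y _ ih =>
    rw [enc9_mul]
    apply list9_closed _ _ _ ih
    rcases hx with rfl | rfl
    · exact List.mem_cons_self
    · exact List.mem_cons_of_mem _ (List.mem_cons_of_mem _ List.mem_cons_self)
  | inv_mul_cancel x hx y _ ih =>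
    rw [enc9_mul]
    apply list9_closed _ _ _ ih
    rcases hx with rfl | rfl
    · rw [ss_inv]
      exact List.mem_cons_of_mem _ List.mem_cons_self
    · rw [tt_inv]
      exact List.mem_cons_of_mem _ (List.mem_cons_of_mem _ (List.mem_cons_of_mem _
        List.mem_cons_self))

section transport

variable {F : Type*} [Field F] [CharP F 3]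

/-- the embedding of `K9` attached to a square root of `-1` -/
noncomputable def emb9 (lam : F) (h : lam ^ 2 = -1) : K9 →+* F :=
  letI := ZMod.algebra F 3
  (QuadraticAlgebra.lift (R := ZMod 3) (a := -1) (b := 0) (A := F)
    ⟨lam, by
      rw [← sq, h, Algebra.smul_def, Algebra.smul_def, map_neg, map_one, map_zero]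
      ring⟩ : K9 →ₐ[ZMod 3] F).toRingHom

theorem emb9_omega (lam : F) (h : lam ^ 2 = -1) : emb9 lam h ⟨0, 1⟩ = lam := by
  letI := ZMod.algebra F 3
  show (0 : ZMod 3) • (1 : F) + (1 : ZMod 3) • lam = lam
  rw [zero_smul, one_smul, zero_add]

/-- the two root elements `ss 1`, `tt lam` with `lam ^ 2 = -1` in characteristic `3` do not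
generate `tt 1` -/
theorem tt_one_not_mem_closure9 (lam : F) (h : lam ^ 2 = -1) :
    tt (1 : F) ∉ Subgroup.closure {ss (1 : F), tt lam} := by
  intro hmem
  have hcl : Subgroup.closure {ss (1 : F), tt lam} =
      (Subgroup.closure {ss (1 : K9), tt (⟨0, 1⟩ : K9)}).map
        (Matrix.SpecialLinearGroup.map (emb9 lam h)) := by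
    rw [MonoidHom.map_closure, Set.image_pair, mapSL_ss, mapSL_tt, map_one, emb9_omega]
  rw [hcl] at hmem
  obtain ⟨y, hy, hy1⟩ := hmem
  have hy2 : y = tt 1 := by
    apply mapSL_injective (emb9 lam h)
    rw [hy1, mapSL_tt, map_one]
  have := enc9_mem_of_mem_closure hy
  rw [hy2] at this
  exact list9_not_mem this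

/-- a field of characteristic `3` generated by a square root of `-1` has nine elements -/
theorem card_eq_nine (lam : F) (h : lam ^ 2 = -1)
    (hgen : Subfield.closure ({lam} : Set F) = ⊤) : Nat.card F = 9 := by
  have hsurj : Function.Surjective (emb9 lam h) := by
    have h1 : Subfield.closure ({lam} : Set F) ≤ (emb9 lam h).fieldRange := by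
      rw [Subfield.closure_le]
      intro x hx
      rw [Set.mem_singleton_iff] at hx
      rw [hx]
      exact ⟨⟨0, 1⟩, emb9_omega lam h⟩
    rw [hgen] at h1
    intro x
    exact h1 (Subfield.mem_top x)
  have hbij : Function.Bijective (emb9 lam h) := ⟨(emb9 lam h).injective, hsurj⟩
  rw [← Nat.card_congr (Equiv.ofBijective _ hbij),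
    Nat.card_congr (QuadraticAlgebra.equivProd (-1 : ZMod 3) 0), Nat.card_prod]
  simp

end transport

end Cfsg.Agent.Lib.Helper2.Dk
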