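import Cfsg.Agent.Lib.Helper2.Dk11

set_option autoImplicit false

/-! Dickson project, part 12: the subgroup generated by two root elements. -/

namespace Cfsg.Agent.Lib.Helper2.Dk

open Matrix Cfsg.Agent.Lib.Helper2.SL2

variable {F : Type*} [Field F]

/-- the order of `SL(2,F)` is at most `|F|^4` -/
theorem card_SL2_le [Finite F] :
    Nat.card (Matrix.SpecialLinearGroup (Fin 2) F) ≤ Nat.card F ^ 4 := by
  have h1 : Nat.card (Matrix.SpecialLinearGroup (Fin 2) F) ≤ Nat.card (Fin 2 → Fin 2 → F) :=
    Nat.card_le_card_of_injective (fun g => (g : Matrix (Fin 2) (Fin 2) F))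
      (fun g h hgh => Subtype.ext hgh)
  rw [Nat.card_fun, Nat.card_fun, Nat.card_fin, ← pow_mul] at h1
  exact h1

/-- a field of characteristic `3` generated by `1` or `-1` has at most three elements -/
theorem card_le_three [CharP F 3] (lam : F) (h : lam = 1 ∨ lam = -1)
    (hgen : Subfield.closure ({lam} : Set F) = ⊤) : Nat.card F ≤ 3 := by
  let φ : ZMod 3 →+* F := ZMod.castHom (dvd_refl 3) F
  have h1 : Subfield.closure ({lam} : Set F) ≤ φ.fieldRange := by
    rw [Subfield.closure_le]
    intro x hx
    rw [Set.mem_singleton_iff] at hx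
    rw [hx]
    rcases h with rfl | rfl
    · exact φ.fieldRange.one_mem
    · exact φ.fieldRange.neg_mem φ.fieldRange.one_mem
  rw [hgen] at h1
  have hsurj : Function.Surjective φ := fun x => h1 (Subfield.mem_top x)
  have := Nat.card_le_card_of_surjective φ hsurj
  simpa using this

/-- **Dickson's two-generator theorem**: in odd characteristic, `ss 1` and `tt lam` with `lam` a
field generator generate `SL(2,F)`, unless `|F| = 9` and `lam ^ 2 = -1`, in which case they
generate a subgroup of order `120`. -/
theorem two_transvections [Fintype F] (h2 : (2 : F) ≠ 0) (lam : F) (hlam : lam ≠ 0)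
    (hgen : Subfield.closure ({lam} : Set F) = ⊤) :
    (Subgroup.closure {ss (1 : F), tt lam} = ⊤ ∧ ¬ (Fintype.card F = 9 ∧ lam ^ 2 = -1)) ∨
    (Fintype.card F = 9 ∧ lam ^ 2 = -1 ∧
      Nat.card ↥(Subgroup.closure {ss (1 : F), tt lam}) = 120) := by
  classical
  obtain ⟨p, hchar⟩ := CharP.exists F
  haveI := hchar
  have hpp : p.Prime := CharP.char_is_prime F p
  haveI : Fact p.Prime := ⟨hpp⟩
  have hp : p ≠ 2 := by
    rintro rfl
    apply h2
    exact_mod_cast CharP.cast_eq_zero F 2
  obtain ⟨L, hL⟩ : ∃ L, L = Subgroup.closure {ss (1 : F), tt lam} := ⟨_, rfl⟩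
  rw [← hL]
  have hsL : ss (1 : F) ∈ L := by rw [hL]; exact Subgroup.subset_closure (by simp)
  have htL : tt lam ∈ L := by rw [hL]; exact Subgroup.subset_closure (by simp)
  obtain ⟨w, hw⟩ : ∃ w, w = ww (1 : F) one_ne_zero := ⟨_, rfl⟩
  obtain ⟨L', hL'⟩ : ∃ L', L' = L.map (MulAut.conj w).toMonoidHom := ⟨_, rfl⟩
  have hmem' : ∀ y ∈ L, w * y * w⁻¹ ∈ L' := fun y hy => by
    rw [hL']; exact ⟨y, hy, rfl⟩
  have h1' : tt (1 : F) ∈ L' := by
    have := hmem' _ (L.inv_mem hsL)
    rw [ss_inv, hw, ww_conj_ss] at this
    simpa using this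
  have h2' : ss (-lam) ∈ L' := by
    have := hmem' _ htL
    rw [hw, ww_conj_tt] at this
    simpa using this
  have hcardL : Nat.card L' = Nat.card L := by
    rw [hL']; exact Subgroup.card_map_of_injective (MulAut.conj w).injective
  rcases dickson_struct hp h1' (neg_ne_zero.mpr hlam) h2' with ⟨E, hE, hall⟩ | ⟨h3, h120, htr⟩
  · left
    have hlamE : lam ∈ E := by simpa using E.neg_mem hE
    have hEtop : E = ⊤ := by
      rw [eq_top_iff, ← hgen, Subfield.closure_le]
      intro x hx
      rw [Set.mem_singleton_iff] at hx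
      rw [hx]; exact hlamE
    have hL'top : L' = ⊤ :=
      eq_top_of_forall_tt_ss L' (fun μ => hall μ (by rw [hEtop]; exact Subfield.mem_top μ))
    have hLtop : L = ⊤ := by
      rw [eq_top_iff]
      intro g _
      have hg : w * g * w⁻¹ ∈ L' := by rw [hL'top]; exact Subgroup.mem_top _
      rw [hL'] at hg
      obtain ⟨y, hy, hyg⟩ := hg
      have : y = g := (MulAut.conj w).injective hyg
      rw [← this]; exact hy
    refine ⟨hLtop, ?_⟩
    rintro ⟨h9, hsq⟩
    have h9F : ((9 : ℕ) : F) = 0 := by rw [← h9]; exact Nat.cast_card_eq_zero F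
    have h3F : ((3 : ℕ) : F) = 0 := by
      have : ((3 : ℕ) : F) * ((3 : ℕ) : F) = 0 := by rw [← Nat.cast_mul]; exact h9F
      exact mul_self_eq_zero.mp this
    have hp3 : p = 3 :=
      (Nat.prime_dvd_prime_iff_eq hpp Nat.prime_three).mp ((CharP.cast_eq_zero_iff F p 3).mp h3F)
    subst hp3
    apply tt_one_not_mem_closure9 lam hsq
    rw [← hL, hLtop]; exact Subgroup.mem_top _
  · right
    have hp3 : p = 3 := by
      have hpg : IsPGroup p ↥(L' ⊓ Uni F) := (isPGroup_Uni p).to_le inf_le_right
      rcases hpg.card_eq_or_dvd with h | h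
      · rw [h3] at h; omega
      · rw [h3] at h
        exact (Nat.prime_dvd_prime_iff_eq hpp Nat.prime_three).mp h
    subst hp3
    have h3F : (3 : F) = 0 := by exact_mod_cast CharP.cast_eq_zero F 3
    have hg1 : TrProp (tt 1 * ss (-lam)) := htr _ (L'.mul_mem h1' h2')
    have hg2 : TrProp (tt (-1) * ss (-lam)) := htr _ (L'.mul_mem (tt_neg_mem h1') h2')
    unfold TrProp at hg1 hg2
    simp only [mul00, mul11, tt00, tt01, tt10, tt11, ss00, ss01, ss10, ss11] at hg1 hg2
    -- the non-quartic cases force `lam = ± 1`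
    have hbad : ¬ (lam = 1 ∨ lam = -1) := by
      intro hc
      have hF3 := card_le_three lam hc hgen
      have h81 : Nat.card (Matrix.SpecialLinearGroup (Fin 2) F) ≤ 81 := by
        refine le_trans card_SL2_le ?_
        calc Nat.card F ^ 4 ≤ 3 ^ 4 := Nat.pow_le_pow_left hF3 4
          _ = 81 := by norm_num
      have := Subgroup.card_le_card_group L'
      omega
    have hsq : lam ^ 2 = -1 := by
      rcases hg1 with h | h | hq1
      · exfalso; apply hbad; left
        have : lam * (lam - 1) = 0 := by linear_combination h + lam * h3F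
        rcases mul_eq_zero.mp this with h0 | h0
        · exact absurd h0 hlam
        · linear_combination h0
      · exfalso; apply hbad; right
        linear_combination -h + h3F
      · rcases hg2 with h | h | hq2
        · exfalso; apply hbad; right
          have : lam * (lam + 1) = 0 := by linear_combination h - lam * h3F
          rcases mul_eq_zero.mp this with h0 | h0
          · exact absurd h0 hlam
          · linear_combination h0
        · exfalso; apply hbad; left
          linear_combination h - h3F
        · have : lam * (lam ^ 2 + 1) = 0 := by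
            linear_combination hq2 - hq1 - (5 * lam ^ 3 + 13 * lam) * h3F
          rcases mul_eq_zero.mp this with h0 | h0
          · exact absurd h0 hlam
          · linear_combination h0
    refine ⟨?_, hsq, ?_⟩
    · rw [← Nat.card_eq_fintype_card]; exact card_eq_nine lam hsq hgen
    · rw [← hcardL]; exact h120

end Cfsg.Agent.Lib.Helper2.Dk
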