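import Cfsg.Agent.Lib.Helper2.Dk1

set_option autoImplicit false

/-! Dickson project, part 2: centralizers of non-central elements in subgroups of `SL(2,F)`
("tori"). -/

namespace Cfsg.Agent.Lib.Helper2.Dk

open Matrix Cfsg.Agent.Lib.Helper2.SL2

variable {F : Type*} [Field F]

/-- centralizer in `L` of the element `h` -/
def cen (L : Subgroup (Matrix.SpecialLinearGroup (Fin 2) F))
    (h : Matrix.SpecialLinearGroup (Fin 2) F) : Subgroup (Matrix.SpecialLinearGroup (Fin 2) F) :=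
  L ⊓ Subgroup.centralizer {h}

variable {L : Subgroup (Matrix.SpecialLinearGroup (Fin 2) F)}
  {h a g x y : Matrix.SpecialLinearGroup (Fin 2) F}

theorem mem_cen : x ∈ cen L h ↔ x ∈ L ∧ x * h = h * x := by
  unfold cen
  rw [Subgroup.mem_inf, Subgroup.mem_centralizer_iff]
  constructor
  · rintro ⟨h1, h2⟩; exact ⟨h1, (h2 h rfl).symm⟩
  · rintro ⟨h1, h2⟩; refine ⟨h1, ?_⟩; intro k hk; rw [Set.mem_singleton_iff] at hk; rw [hk]; exact h2.symm

theorem cen_le : cen L h ≤ L := inf_le_left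

theorem self_mem_cen (hL : h ∈ L) : h ∈ cen L h := mem_cen.mpr ⟨hL, rfl⟩

theorem neg_one_mul_comm (x : Matrix.SpecialLinearGroup (Fin 2) F) : x * (-1) = (-1) * x := by
  apply ext2 <;> simp [mul00, mul01, mul10, mul11]

theorem cen_comm (h1 : h ≠ 1) (h2 : h ≠ -1) (hx : x ∈ cen L h) (hy : y ∈ cen L h) :
    x * y = y * x :=
  commute_of_commute_nonscalar h x y h1 h2 (mem_cen.mp hx).2 (mem_cen.mp hy).2

/-- centralizers of non-central elements are "TI": they agree as soon as they share a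
non-central element. -/
theorem cen_eq (h1 : h ≠ 1) (h2 : h ≠ -1) (ha : a ∈ cen L h) (a1 : a ≠ 1) (a2 : a ≠ -1) :
    cen L a = cen L h := by
  have hah : a * h = h * a := (mem_cen.mp ha).2
  ext x
  rw [mem_cen, mem_cen]
  constructor
  · rintro ⟨hxL, hxa⟩
    refine ⟨hxL, ?_⟩
    exact commute_of_commute_nonscalar a x h a1 a2 hxa hah.symm
  · rintro ⟨hxL, hxh⟩
    refine ⟨hxL, ?_⟩
    exact commute_of_commute_nonscalar h x a h1 h2 hxh hah

theorem conj_ne_one (a1 : a ≠ 1) : g * a * g⁻¹ ≠ 1 := by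
  intro e
  apply a1
  have : a = g⁻¹ * (g * a * g⁻¹) * g := by group
  rw [this, e]; group

theorem conj_ne_neg_one (a2 : a ≠ -1) : g * a * g⁻¹ ≠ -1 := by
  intro e
  apply a2
  have : a = g⁻¹ * (g * a * g⁻¹) * g := by group
  rw [this, e, mul_assoc, ← neg_one_mul_comm, ← mul_assoc]; group

theorem conj_mem_cen_conj (hg : g ∈ L) : g * x * g⁻¹ ∈ cen L (g * a * g⁻¹) ↔ x ∈ cen L a := by
  rw [mem_cen, mem_cen]
  constructor
  · rintro ⟨h1, h2⟩
    constructor
    · have : x = g⁻¹ * (g * x * g⁻¹) * g := by group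
      rw [this]; exact L.mul_mem (L.mul_mem (L.inv_mem hg) h1) hg
    · have e1 : g * x * g⁻¹ * (g * a * g⁻¹) = g * (x * a) * g⁻¹ := by group
      have e2 : g * a * g⁻¹ * (g * x * g⁻¹) = g * (a * x) * g⁻¹ := by group
      rw [e1, e2] at h2
      have := congrArg (fun q => g⁻¹ * q * g) h2
      simpa [mul_assoc] using this
  · rintro ⟨h1, h2⟩
    refine ⟨L.mul_mem (L.mul_mem hg h1) (L.inv_mem hg), ?_⟩
    have e1 : g * x * g⁻¹ * (g * a * g⁻¹) = g * (x * a) * g⁻¹ := by group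
    have e2 : g * a * g⁻¹ * (g * x * g⁻¹) = g * (a * x) * g⁻¹ := by group
    rw [e1, e2, h2]

/-- TI property of centralizers -/
theorem cen_TI (h1 : h ≠ 1) (h2 : h ≠ -1) (hg : g ∈ L) (ha : a ∈ cen L h) (a1 : a ≠ 1)
    (a2 : a ≠ -1) (hga : g * a * g⁻¹ ∈ cen L h) (x : Matrix.SpecialLinearGroup (Fin 2) F) :
    g * x * g⁻¹ ∈ cen L h ↔ x ∈ cen L h := by
  have e1 : cen L (g * a * g⁻¹) = cen L h :=
    cen_eq h1 h2 hga (conj_ne_one a1) (conj_ne_neg_one a2)
  have e2 : cen L a = cen L h := cen_eq h1 h2 ha a1 a2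
  calc g * x * g⁻¹ ∈ cen L h ↔ g * x * g⁻¹ ∈ cen L (g * a * g⁻¹) := by rw [e1]
    _ ↔ x ∈ cen L a := conj_mem_cen_conj hg
    _ ↔ x ∈ cen L h := by rw [e2]

/-- the normalizer in `L` of `cen L h` -/
def ncen (L : Subgroup (Matrix.SpecialLinearGroup (Fin 2) F))
    (h : Matrix.SpecialLinearGroup (Fin 2) F) : Subgroup (Matrix.SpecialLinearGroup (Fin 2) F) :=
  L ⊓ Subgroup.normalizer (cen L h : Set (Matrix.SpecialLinearGroup (Fin 2) F))

theorem mem_ncen : g ∈ ncen L h ↔ g ∈ L ∧ ∀ x, x ∈ cen L h ↔ g * x * g⁻¹ ∈ cen L h := by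
  unfold ncen
  rw [Subgroup.mem_inf, Subgroup.mem_normalizer_iff]

theorem ncen_le : ncen L h ≤ L := inf_le_left

theorem cen_le_ncen : cen L h ≤ ncen L h := by
  intro g hg
  rw [mem_ncen]
  refine ⟨cen_le hg, fun x => ?_⟩
  constructor
  · intro hx
    exact (cen L h).mul_mem ((cen L h).mul_mem hg hx) ((cen L h).inv_mem hg)
  · intro hx
    have : x = g⁻¹ * (g * x * g⁻¹) * g := by group
    rw [this]
    exact (cen L h).mul_mem ((cen L h).mul_mem ((cen L h).inv_mem hg) hx) hg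

theorem mem_ncen_of_conj (h1 : h ≠ 1) (h2 : h ≠ -1) (hg : g ∈ L) (ha : a ∈ cen L h) (a1 : a ≠ 1)
    (a2 : a ≠ -1) (hga : g * a * g⁻¹ ∈ cen L h) : g ∈ ncen L h :=
  mem_ncen.mpr ⟨hg, fun x => (cen_TI h1 h2 hg ha a1 a2 hga x).symm⟩

theorem conj_mem_cen_of_mem_ncen (hg : g ∈ ncen L h) (hx : x ∈ cen L h) :
    g * x * g⁻¹ ∈ cen L h := ((mem_ncen.mp hg).2 x).mp hx

theorem trace_ne_of_ne (htr : (h 0 0 + h 1 1) ^ 2 ≠ 4) : h ≠ 1 ∧ h ≠ -1 := by
  constructor
  · intro e; apply htr; rw [e, one00, one11]; norm_num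
  · intro e; apply htr; rw [e, neg00, neg11, one00, one11]; norm_num

/-- an element of the normalizer of a semisimple torus centralizes or inverts it -/
theorem ncen_cases (htr : (h 0 0 + h 1 1) ^ 2 ≠ 4) (hL : h ∈ L)
    (hg : g ∈ ncen L h) : g ∈ cen L h ∨ g * h * g⁻¹ = h⁻¹ := by
  obtain ⟨h1, h2⟩ := trace_ne_of_ne htr
  have hc := conj_mem_cen_of_mem_ncen hg (self_mem_cen hL)
  have hcomm : g * h * g⁻¹ * h = h * (g * h * g⁻¹) := (mem_cen.mp hc).2
  rcases eq_or_eq_inv_of_commute h (g * h * g⁻¹) (trace_conj g h) htr hcomm with e | e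
  · left
    rw [mem_cen]
    refine ⟨ncen_le hg, ?_⟩
    have := congrArg (fun q => q * g) e
    simpa [mul_assoc] using this
  · right; exact e

theorem card_ncen_le [Finite F] (htr : (h 0 0 + h 1 1) ^ 2 ≠ 4) (hL : h ∈ L) :
    Nat.card (ncen L h) ≤ 2 * Nat.card (cen L h) := by
  classical
  by_cases hex : ∃ g₀ ∈ ncen L h, g₀ * h * g₀⁻¹ = h⁻¹
  · obtain ⟨g₀, hg₀, hg₀h⟩ := hex
    have hsub : (ncen L h : Set (Matrix.SpecialLinearGroup (Fin 2) F)) ⊆
        (cen L h : Set _) ∪ (fun x => g₀ * x) '' (cen L h : Set _) := by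
      intro g hg
      rcases ncen_cases htr hL hg with h1 | h1
      · left; exact h1
      · right
        refine ⟨g₀⁻¹ * g, ?_, by group⟩
        rw [SetLike.mem_coe, mem_cen]
        refine ⟨L.mul_mem (L.inv_mem (ncen_le hg₀)) (ncen_le hg), ?_⟩
        have e1 : g * h = h⁻¹ * g := by
          have := congrArg (fun q => q * g) h1
          simpa [mul_assoc] using this
        have e2 : g₀ * h = h⁻¹ * g₀ := by
          have := congrArg (fun q => q * g₀) hg₀h
          simpa [mul_assoc] using this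
        have e3 : g₀⁻¹ * h⁻¹ = h * g₀⁻¹ := by
          have := congrArg (fun q => g₀⁻¹ * q * g₀⁻¹) e2
          simp only [mul_assoc, mul_inv_cancel, mul_one, inv_mul_cancel_left] at this
          rw [this]
        calc g₀⁻¹ * g * h = g₀⁻¹ * (g * h) := by group
          _ = g₀⁻¹ * (h⁻¹ * g) := by rw [e1]
          _ = (g₀⁻¹ * h⁻¹) * g := by group
          _ = h * g₀⁻¹ * g := by rw [e3]
          _ = h * (g₀⁻¹ * g) := by group
    have hfin : ((cen L h : Set _) ∪ (fun x => g₀ * x) '' (cen L h : Set _)).Finite :=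
      Set.toFinite _
    have k1 : Nat.card (ncen L h) = (ncen L h : Set (Matrix.SpecialLinearGroup (Fin 2) F)).ncard :=
      Nat.card_coe_set_eq _
    have k2 : Nat.card (cen L h) = (cen L h : Set (Matrix.SpecialLinearGroup (Fin 2) F)).ncard :=
      Nat.card_coe_set_eq _
    have k3 := Set.ncard_le_ncard hsub hfin
    have k4 := Set.ncard_union_le (cen L h : Set (Matrix.SpecialLinearGroup (Fin 2) F))
      ((fun x => g₀ * x) '' (cen L h : Set _))
    have k5 : ((fun x => g₀ * x) '' (cen L h : Set (Matrix.SpecialLinearGroup (Fin 2) F))).ncard ≤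
        (cen L h : Set (Matrix.SpecialLinearGroup (Fin 2) F)).ncard :=
      Set.ncard_image_le (Set.toFinite _)
    omega
  · push Not at hex
    have hsub : (ncen L h : Set (Matrix.SpecialLinearGroup (Fin 2) F)) ⊆ (cen L h : Set _) := by
      intro g hg
      rcases ncen_cases htr hL hg with h1 | h1
      · exact h1
      · exact absurd h1 (hex g hg)
    have k1 : Nat.card (ncen L h) = (ncen L h : Set (Matrix.SpecialLinearGroup (Fin 2) F)).ncard :=
      Nat.card_coe_set_eq _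
    have k2 : Nat.card (cen L h) = (cen L h : Set (Matrix.SpecialLinearGroup (Fin 2) F)).ncard :=
      Nat.card_coe_set_eq _
    have k3 := Set.ncard_le_ncard hsub (Set.toFinite _)
    omega

end Cfsg.Agent.Lib.Helper2.Dk
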