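import Mathlib

set_option autoImplicit false

/-! Dickson project, part 3: counting the union of the conjugates of a TI subset. -/

namespace Cfsg.Agent.Lib.Helper2.Dk

variable {G : Type*} [Group G]

/-- the union of the `L`-conjugates of a subset `S` -/
def conjUnion (L : Subgroup G) (S : Set G) : Set G := {g | ∃ x ∈ L, x * g * x⁻¹ ∈ S}

theorem mem_conjUnion {L : Subgroup G} {S : Set G} {g : G} :
    g ∈ conjUnion L S ↔ ∃ x ∈ L, x * g * x⁻¹ ∈ S := Iff.rfl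

theorem subset_conjUnion (L : Subgroup G) (S : Set G) : S ⊆ conjUnion L S := by
  intro s hs
  exact ⟨1, L.one_mem, by simpa using hs⟩

theorem conjUnion_subset (L : Subgroup G) {S : Set G} (hS : S ⊆ L) : conjUnion L S ⊆ L := by
  rintro g ⟨x, hx, hs⟩
  have := hS hs
  have h2 : g = x⁻¹ * (x * g * x⁻¹) * x := by group
  rw [h2]
  exact L.mul_mem (L.mul_mem (L.inv_mem hx) this) hx

theorem conj_mem_conjUnion {L : Subgroup G} {S : Set G} {g y : G} (hy : y ∈ L)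
    (hg : g ∈ conjUnion L S) : y * g * y⁻¹ ∈ conjUnion L S := by
  obtain ⟨x, hx, hs⟩ := hg
  refine ⟨x * y⁻¹, L.mul_mem hx (L.inv_mem hy), ?_⟩
  have : x * y⁻¹ * (y * g * y⁻¹) * (x * y⁻¹)⁻¹ = x * g * x⁻¹ := by group
  rw [this]; exact hs

/-- **TI counting**: if `S ⊆ L` is normalized by `N ≤ L` and `x S x⁻¹ ∩ S ≠ ∅` forces `x ∈ N`
for `x ∈ L`, then the union of the `L`-conjugates of `S` has `|L : N| * |S|` elements. -/
theorem card_conjUnion_mul [Finite G] (L N : Subgroup G) (S : Set G) (hNL : N ≤ L)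
    (hnorm : ∀ x ∈ N, ∀ s ∈ S, x * s * x⁻¹ ∈ S)
    (hTI : ∀ x ∈ L, ∀ s ∈ S, x * s * x⁻¹ ∈ S → x ∈ N) :
    Nat.card (conjUnion L S) * Nat.card N = Nat.card L * Nat.card S := by
  classical
  rw [← Nat.card_prod, ← Nat.card_prod]
  have hch : ∀ u : conjUnion L S, ∃ x ∈ L, x * u.1 * x⁻¹ ∈ S := fun u => u.2
  choose X hXL hXS using hch
  let f : (conjUnion L S) × N → L × S := fun un =>
    (⟨un.2.1 * X un.1, L.mul_mem (hNL un.2.2) (hXL un.1)⟩,
      ⟨un.2.1 * (X un.1 * un.1.1 * (X un.1)⁻¹) * un.2.1⁻¹, hnorm _ un.2.2 _ (hXS un.1)⟩)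
  refine Nat.card_eq_of_bijective f ⟨?_, ?_⟩
  · rintro ⟨u, n⟩ ⟨u', n'⟩ h
    have h1 : n.1 * X u = n'.1 * X u' := congrArg (fun q : L × S => q.1.1) h
    have h2 : n.1 * (X u * u.1 * (X u)⁻¹) * n.1⁻¹ = n'.1 * (X u' * u'.1 * (X u')⁻¹) * n'.1⁻¹ :=
      congrArg (fun q : L × S => q.2.1) h
    have h3 : n.1 * (X u * u.1 * (X u)⁻¹) * n.1⁻¹ = (n.1 * X u) * u.1 * (n.1 * X u)⁻¹ := by group
    have h4 : n'.1 * (X u' * u'.1 * (X u')⁻¹) * n'.1⁻¹ = (n'.1 * X u') * u'.1 * (n'.1 * X u')⁻¹ := by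
      group
    rw [h3, h4, ← h1] at h2
    have h5 : u.1 = u'.1 := by
      have := congrArg (fun q => (n.1 * X u)⁻¹ * q * (n.1 * X u)) h2
      simpa [mul_assoc] using this
    have h6 : u = u' := Subtype.ext h5
    subst h6
    have h7 : n.1 = n'.1 := mul_right_cancel h1
    have h8 : n = n' := Subtype.ext h7
    rw [h8]
  · rintro ⟨⟨x, hx⟩, ⟨s, hs⟩⟩
    have hu : x⁻¹ * s * x ∈ conjUnion L S := ⟨x, hx, by
      have : x * (x⁻¹ * s * x) * x⁻¹ = s := by group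
      rw [this]; exact hs⟩
    set u : conjUnion L S := ⟨x⁻¹ * s * x, hu⟩ with hudef
    have hn : x * (X u)⁻¹ ∈ N := by
      apply hTI _ (L.mul_mem hx (L.inv_mem (hXL u))) _ (hXS u)
      have : x * (X u)⁻¹ * (X u * u.1 * (X u)⁻¹) * (x * (X u)⁻¹)⁻¹ = s := by
        rw [hudef]; group
      rw [this]; exact hs
    refine ⟨(u, ⟨x * (X u)⁻¹, hn⟩), ?_⟩
    apply Prod.ext
    · apply Subtype.ext
      show x * (X u)⁻¹ * X u = x
      group
    · apply Subtype.ext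
      show x * (X u)⁻¹ * (X u * u.1 * (X u)⁻¹) * (x * (X u)⁻¹)⁻¹ = s
      rw [hudef]; group

end Cfsg.Agent.Lib.Helper2.Dk
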