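import Cfsg.Agent.Lib.Helper2.Dk4

set_option autoImplicit false

/-! Dickson project, part 5: the structure of `L ⊓ Bor`. -/

namespace Cfsg.Agent.Lib.Helper2.Dk

open Matrix Cfsg.Agent.Lib.Helper2.SL2

variable {F : Type*} [Field F]

/-- the diagonal character of the Borel subgroup -/
def dgHom : ↥(Bor F) →* Fˣ where
  toFun g := ⟨g.1 0 0, g.1 1 1, diag_mul_of_mem_Bor g.2, by
    rw [mul_comm]; exact diag_mul_of_mem_Bor g.2⟩
  map_one' := by ext; simp
  map_mul' := by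
    intro g h
    ext
    simp only [Subgroup.coe_mul, Units.val_mul]
    rw [mul00, mem_Bor.mp h.2]; ring

theorem dgHom_apply (g : ↥(Bor F)) : ((dgHom g : Fˣ) : F) = g.1 0 0 := rfl

theorem card_eq_ker_mul_range {G H : Type*} [Group G] [Group H] [Finite G] (f : G →* H) :
    Nat.card G = Nat.card f.ker * Nat.card f.range := by
  rw [Subgroup.card_eq_card_quotient_mul_card_subgroup f.ker,
    Nat.card_congr (QuotientGroup.quotientKerEquivRange f).toEquiv, mul_comm]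

variable (F)

/-- the centre `{±1}` of `SL(2,F)` -/
def ZG : Subgroup (Matrix.SpecialLinearGroup (Fin 2) F) where
  carrier := {g | g = 1 ∨ g = -1}
  mul_mem' := by
    rintro a b (rfl | rfl) (rfl | rfl)
    · left; simp
    · right; simp
    · right; simp
    · left; apply ext2 <;> simp [mul00, mul01, mul10, mul11]
  one_mem' := Or.inl rfl
  inv_mem' := by
    rintro a (rfl | rfl)
    · left; simp
    · right; apply ext2 <;> simp [inv00, inv01, inv10, inv11]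

variable {F}

theorem mem_ZG {g : Matrix.SpecialLinearGroup (Fin 2) F} : g ∈ ZG F ↔ g = 1 ∨ g = -1 := Iff.rfl

theorem ZG_le_PU : ZG F ≤ PU F := by
  rintro g (rfl | rfl)
  · exact (PU F).one_mem
  · exact neg_mem_PU (PU F).one_mem

theorem mem_ZG_of_mem_PU {g : Matrix.SpecialLinearGroup (Fin 2) F} (hg : g ∈ PU F)
    (h01 : g 0 1 = 0) : g ∈ ZG F := by
  rcases mem_PU_cases hg with e | e
  · left; rw [e, h01, tt_zero]
  · right; rw [e, h01, neg_zero, tt_zero]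

theorem ZG_comm (z : Matrix.SpecialLinearGroup (Fin 2) F) (hz : z ∈ ZG F)
    (x : Matrix.SpecialLinearGroup (Fin 2) F) : x * z = z * x := by
  rcases hz with rfl | rfl
  · simp
  · exact neg_one_mul_comm x

variable (L : Subgroup (Matrix.SpecialLinearGroup (Fin 2) F))

/-- restriction of the diagonal character to `L ⊓ Bor` -/
def dgL : ↥(L ⊓ Bor F) →* Fˣ := dgHom.comp (Subgroup.inclusion inf_le_right)

theorem dgL_apply (g : ↥(L ⊓ Bor F)) : ((dgL L g : Fˣ) : F) = g.1 0 0 := rfl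

theorem dgL_ker_map : (dgL L).ker.map (L ⊓ Bor F).subtype = L ⊓ Uni F := by
  ext g
  constructor
  · rintro ⟨y, hy, rfl⟩
    rw [SetLike.mem_coe, MonoidHom.mem_ker] at hy
    have h00 : y.1 0 0 = 1 := by
      have := congrArg Units.val hy
      simpa [dgL_apply] using this
    have hb := y.2.2
    refine ⟨y.2.1, mem_Bor.mp hb, h00, ?_⟩
    have := diag_mul_of_mem_Bor hb
    rw [h00, one_mul] at this
    exact this
  · rintro ⟨hL, hU⟩
    refine ⟨⟨g, hL, hU.1⟩, ?_, rfl⟩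
    rw [SetLike.mem_coe, MonoidHom.mem_ker]
    ext
    rw [dgL_apply]
    exact hU.2.1

/-- `|L ⊓ Bor| = |L ⊓ Uni| * |D|`, `D` the group of diagonal entries -/
theorem card_BL [Finite F] :
    Nat.card ↥(L ⊓ Bor F) = Nat.card ↥(L ⊓ Uni F) * Nat.card (dgL L).range := by
  rw [card_eq_ker_mul_range (dgL L), ← dgL_ker_map L,
    Subgroup.card_map_of_injective (Subgroup.subtype_injective _)]

/-- `|L ⊓ PU| = |L ⊓ Uni| * |L ⊓ Z|` -/
theorem card_VL [Finite F] (p : ℕ) [Fact p.Prime] [CharP F p] (hp : p ≠ 2) :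
    Nat.card ↥(L ⊓ PU F) = Nat.card ↥(L ⊓ Uni F) * Nat.card ↥(L ⊓ ZG F) := by
  have h2 := two_ne_zero_of_char (F := F) p hp
  rw [← Nat.card_prod]
  symm
  refine Nat.card_eq_of_bijective
    (fun uz : ↥(L ⊓ Uni F) × ↥(L ⊓ ZG F) => (⟨uz.1.1 * uz.2.1,
      L.mul_mem uz.1.2.1 uz.2.2.1, (PU F).mul_mem (Uni_le_PU uz.1.2.2) (ZG_le_PU uz.2.2.2)⟩ :
        ↥(L ⊓ PU F))) ⟨?_, ?_⟩
  · rintro ⟨⟨u, hu⟩, ⟨z, hz⟩⟩ ⟨⟨u', hu'⟩, ⟨z', hz'⟩⟩ h
    have h' : u * z = u' * z' := congrArg Subtype.val h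
    -- compare the (0,0) entries
    have e00 := congrArg (fun g : Matrix.SpecialLinearGroup (Fin 2) F => g 0 0) h'
    simp only [mul00] at e00
    have hz00 : z = z' := by
      rcases hz.2 with rfl | rfl <;> rcases hz'.2 with rfl | rfl
      · rfl
      · exfalso
        simp only [one00, one10, neg00, neg10, hu.2.2.1, hu'.2.2.1] at e00
        apply h2; linear_combination e00
      · exfalso
        simp only [one00, one10, neg00, neg10, hu.2.2.1, hu'.2.2.1] at e00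
        apply h2; linear_combination -e00
      · rfl
    subst hz00
    have : u = u' := mul_right_cancel h'
    subst this
    rfl
  · rintro ⟨g, hgL, hg⟩
    -- the (0,0) entry is `±1`
    rcases mem_PU_cases hg with e | e
    · refine ⟨(⟨g, hgL, ?_⟩, 1), ?_⟩
      · rw [e]; exact tt_mem_Uni _
      · apply Subtype.ext; simp
    · -- `g = - tt`, so `-1 = g ^ p ∈ L`
      have hodd : Odd p := (Fact.out : p.Prime).odd_of_ne_two hp
      have hm1 : (-1 : Matrix.SpecialLinearGroup (Fin 2) F) ∈ L := by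
        have e2 : g ^ p = -1 := by
          rw [e, neg_eq_neg_one_mul]
          have hcm : Commute (-1 : Matrix.SpecialLinearGroup (Fin 2) F) (tt (-g 0 1)) :=
            (neg_one_mul_comm _).symm
          rw [hcm.mul_pow, tt_pow_char, mul_one]
          obtain ⟨m, hm⟩ := hodd
          rw [hm, pow_succ, pow_mul]
          have : (-1 : Matrix.SpecialLinearGroup (Fin 2) F) ^ 2 = 1 := by
            rw [pow_two]; apply ext2 <;> simp [mul00, mul01, mul10, mul11]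
          rw [this, one_pow, one_mul]
        rw [← e2]; exact L.pow_mem hgL p
      have hu : -g ∈ L ⊓ Uni F := by
        refine ⟨by rw [neg_eq_neg_one_mul]; exact L.mul_mem hm1 hgL, ?_⟩
        rw [e, neg_neg]; exact tt_mem_Uni _
      refine ⟨(⟨-g, hu⟩, ⟨-1, hm1, Or.inr rfl⟩), ?_⟩
      apply Subtype.ext
      show -g * -1 = g
      rw [mul_neg', neg_mul', mul_one, neg_neg]


omit L in
theorem pow00_of_mem_Bor {b : Matrix.SpecialLinearGroup (Fin 2) F} (hb : b ∈ Bor F) (k : ℕ) :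
    (b ^ k) 0 0 = (b 0 0) ^ k := by
  induction k with
  | zero => simp
  | succ k ih => rw [pow_succ, mul00, ih, mem_Bor.mp hb, pow_succ]; ring

/-- a generator of the group of diagonal entries -/
theorem exists_gen [Finite F] : ∃ h₁ ∈ L ⊓ Bor F, ∀ h ∈ L ⊓ Bor F, ∃ k : ℕ, h 0 0 = (h₁ 0 0) ^ k := by
  obtain ⟨⟨g, hg⟩, hgen⟩ := IsCyclic.exists_generator (α := (dgL L).range)
  obtain ⟨h₁, rfl⟩ := hg
  refine ⟨h₁.1, h₁.2, ?_⟩
  intro h hh
  have h1 := hgen ⟨dgL L ⟨h, hh⟩, ⟨_, rfl⟩⟩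
  rw [← mem_powers_iff_mem_zpowers] at h1
  obtain ⟨k, hk⟩ := h1
  refine ⟨k, ?_⟩
  have h2 := congrArg (fun x : (dgL L).range => ((x : Fˣ) : F)) hk
  simp only [SubmonoidClass.coe_pow, Units.val_pow_eq_pow_val] at h2
  rw [dgL_apply, dgL_apply] at h2
  exact h2.symm

section torus

variable {L}
variable {h₁ : Matrix.SpecialLinearGroup (Fin 2) F}

theorem cen_le_Bor (hB : h₁ ∈ Bor F) (hd : h₁ 0 0 ^ 2 ≠ 1) : cen L h₁ ≤ L ⊓ Bor F := by
  intro x hx
  obtain ⟨hxL, hxc⟩ := mem_cen.mp hx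
  refine ⟨hxL, ?_⟩
  show x 1 0 = 0
  have e := congrArg (fun g : Matrix.SpecialLinearGroup (Fin 2) F => g 1 0) hxc
  simp only [mul10, mem_Bor.mp hB] at e
  have hdm := diag_mul_of_mem_Bor hB
  by_contra hne
  apply hd
  have : h₁ 0 0 = h₁ 1 1 := by
    have : x 1 0 * (h₁ 0 0 - h₁ 1 1) = 0 := by linear_combination e
    rcases mul_eq_zero.mp this with h | h
    · exact absurd h hne
    · linear_combination h
  rw [pow_two]; nth_rewrite 2 [this]; exact hdm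

theorem cen_inter_PU (hB : h₁ ∈ Bor F) (hd : h₁ 0 0 ^ 2 ≠ 1)
    {x : Matrix.SpecialLinearGroup (Fin 2) F} (hx : x ∈ cen L h₁) (hxP : x ∈ PU F) : x ∈ ZG F := by
  apply mem_ZG_of_mem_PU hxP
  obtain ⟨hxL, hxc⟩ := mem_cen.mp hx
  have e := congrArg (fun g : Matrix.SpecialLinearGroup (Fin 2) F => g 0 1) hxc
  simp only [mul01, ← hxP.2] at e
  have hdm := diag_mul_of_mem_Bor hB
  by_contra hne
  apply hd
  have : h₁ 0 0 = h₁ 1 1 := by
    have : x 0 1 * (h₁ 0 0 - h₁ 1 1) = 0 := by linear_combination -e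
    rcases mul_eq_zero.mp this with h | h
    · exact absurd h hne
    · linear_combination h
  rw [pow_two]; nth_rewrite 2 [this]; exact hdm

theorem ZL_le_cen : L ⊓ ZG F ≤ cen L h₁ := by
  intro z hz
  exact mem_cen.mpr ⟨hz.1, (ZG_comm z hz.2 h₁).symm⟩

theorem neg_one_not_mem_Uni (h2 : (2 : F) ≠ 0) :
    (-1 : Matrix.SpecialLinearGroup (Fin 2) F) ∉ Uni F := by
  intro h
  have := h.2.1
  rw [neg00, one00] at this
  apply h2; linear_combination -this

/-- `|C| = |D|` for the centralizer `C` of a generator of the diagonal group -/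
theorem card_cen_gen [Finite F] (h2 : (2 : F) ≠ 0) (hL : h₁ ∈ L) (hB : h₁ ∈ Bor F)
    (hd : h₁ 0 0 ^ 2 ≠ 1)
    (hgen : ∀ h ∈ L ⊓ Bor F, ∃ k : ℕ, h 0 0 = (h₁ 0 0) ^ k) :
    Nat.card (cen L h₁) = Nat.card (dgL L).range := by
  refine Nat.card_eq_of_bijective
    (fun c : cen L h₁ => (⟨dgL L ⟨c.1, cen_le_Bor hB hd c.2⟩, ⟨_, rfl⟩⟩ : (dgL L).range)) ⟨?_, ?_⟩
  · rintro ⟨c, hc⟩ ⟨c', hc'⟩ h
    have h' : c 0 0 = c' 0 0 := by
      have := congrArg (fun x : (dgL L).range => ((x : Fˣ) : F)) h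
      simpa [dgL_apply] using this
    have hcB := (cen_le_Bor hB hd hc).2
    have hcB' := (cen_le_Bor hB hd hc').2
    -- `c * c'⁻¹` lies in `C ⊓ Uni`
    have hm : c * c'⁻¹ ∈ cen L h₁ := (cen L h₁).mul_mem hc ((cen L h₁).inv_mem hc')
    have hU : c * c'⁻¹ ∈ Uni F := by
      have h1 := diag_mul_of_mem_Bor hcB'
      have h2' := diag_mul_of_mem_Bor hcB
      rw [mem_Uni, mul10, mul00, mul11, inv00, inv10, inv11, inv01, mem_Bor.mp hcB,
        mem_Bor.mp hcB']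
      refine ⟨by ring, ?_, ?_⟩
      · rw [h']; linear_combination h1
      · rw [← h']; linear_combination h2'
    have hz := cen_inter_PU hB hd hm (Uni_le_PU hU)
    rcases hz with e | e
    · apply Subtype.ext
      show c = c'
      have := congrArg (fun q => q * c') e
      simpa using this
    · exfalso
      rw [e] at hU
      exact neg_one_not_mem_Uni h2 hU
  · rintro ⟨d, ⟨g, rfl⟩⟩
    obtain ⟨k, hk⟩ := hgen g.1 g.2
    refine ⟨⟨h₁ ^ k, (cen L h₁).pow_mem (self_mem_cen hL) k⟩, ?_⟩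
    apply Subtype.ext
    ext
    show (h₁ ^ k) 0 0 = g.1 0 0
    rw [pow00_of_mem_Bor hB, hk]

/-- every element of `L ⊓ Bor` with non-`±1` diagonal is conjugate under `L ⊓ Uni` into `C` -/
theorem exists_conj_mem_cen [Finite F] (hL : h₁ ∈ L) (hB : h₁ ∈ Bor F)
    (hgen : ∀ h ∈ L ⊓ Bor F, ∃ k : ℕ, h 0 0 = (h₁ 0 0) ^ k)
    {h : Matrix.SpecialLinearGroup (Fin 2) F} (hh : h ∈ L ⊓ Bor F) (hhd : h 0 0 ^ 2 ≠ 1) :
    ∃ u ∈ L ⊓ Uni F, u * h * u⁻¹ ∈ cen L h₁ := by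
  obtain ⟨k, hk⟩ := hgen h hh
  set c := h₁ ^ k with hc
  have hcC : c ∈ cen L h₁ := (cen L h₁).pow_mem (self_mem_cen hL) k
  have hcB : c ∈ Bor F := (Bor F).pow_mem hB k
  have hcL : c ∈ L := L.pow_mem hL k
  have hc00 : c 0 0 = h 0 0 := by rw [hc, pow00_of_mem_Bor hB, hk]
  have hcd : c 0 0 ^ 2 ≠ 1 := by rw [hc00]; exact hhd
  -- the commutator map on `L ⊓ Uni`
  let ψ : ↥(L ⊓ Uni F) → ↥(L ⊓ Uni F) := fun u => ⟨c * u.1 * c⁻¹ * u.1⁻¹,
    L.mul_mem (L.mul_mem (L.mul_mem hcL u.2.1) (L.inv_mem hcL)) (L.inv_mem u.2.1), by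
      rw [eq_tt_of_mem_Uni u.2.2, conj_tt_of_mem_Bor hcB]
      exact (Uni F).mul_mem (tt_mem_Uni _) ((Uni F).inv_mem (tt_mem_Uni _))⟩
  have hψ : ∀ u : ↥(L ⊓ Uni F), (ψ u).1 = tt ((c 0 0 ^ 2 - 1) * u.1 0 1) := by
    intro u
    show c * u.1 * c⁻¹ * u.1⁻¹ = _
    nth_rewrite 1 [eq_tt_of_mem_Uni u.2.2]
    nth_rewrite 2 [eq_tt_of_mem_Uni u.2.2]
    rw [conj_tt_of_mem_Bor hcB, tt_inv, ← tt_add]
    congr 1; ring
  have hinj : Function.Injective ψ := by
    intro u u' huu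
    have h1 : (ψ u).1 = (ψ u').1 := congrArg Subtype.val huu
    rw [hψ, hψ] at h1
    have h2 := tt_injective h1
    have h3 : (c 0 0 ^ 2 - 1) * (u.1 0 1 - u'.1 0 1) = 0 := by linear_combination h2
    have h4 : u.1 0 1 = u'.1 0 1 := by
      rcases mul_eq_zero.mp h3 with h | h
      · exfalso; apply hcd; linear_combination h
      · linear_combination h
    apply Subtype.ext
    rw [eq_tt_of_mem_Uni u.2.2, eq_tt_of_mem_Uni u'.2.2, h4]
  have hsurj : Function.Surjective ψ := Finite.injective_iff_surjective.mp hinj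
  -- `u₀ = h * c⁻¹`
  have hu₀ : h * c⁻¹ ∈ L ⊓ Uni F := by
    refine ⟨L.mul_mem hh.1 (L.inv_mem hcL), ?_⟩
    have h1 := diag_mul_of_mem_Bor hcB
    have h2 := diag_mul_of_mem_Bor hh.2
    show h * c⁻¹ ∈ Uni F
    rw [mem_Uni, mul10, mul00, mul11, inv00, inv10, inv11, inv01, mem_Bor.mp hcB,
      mem_Bor.mp hh.2]
    refine ⟨by ring, ?_, ?_⟩
    · rw [← hc00]; linear_combination h1
    · rw [hc00]; linear_combination h2
  obtain ⟨u, hu⟩ := hsurj ⟨h * c⁻¹, hu₀⟩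
  have hu' : c * u.1 * c⁻¹ * u.1⁻¹ = h * c⁻¹ := congrArg Subtype.val hu
  refine ⟨u.1, u.2, ?_⟩
  -- `u * h * u⁻¹ = c`
  have hcomm : u.1 * (c * u.1 * c⁻¹ * u.1⁻¹) = (c * u.1 * c⁻¹ * u.1⁻¹) * u.1 := by
    have e : c * u.1 * c⁻¹ * u.1⁻¹ = tt ((c 0 0 ^ 2 - 1) * u.1 0 1) := hψ u
    rw [e]
    generalize ((c 0 0 ^ 2 - 1) * u.1 0 1) = m
    rw [eq_tt_of_mem_Uni u.2.2, ← tt_add, ← tt_add, add_comm]
  have : u.1 * h * u.1⁻¹ = c := by
    have e1 : h = (c * u.1 * c⁻¹ * u.1⁻¹) * c := by rw [hu']; group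
    calc u.1 * h * u.1⁻¹ = u.1 * ((c * u.1 * c⁻¹ * u.1⁻¹) * c) * u.1⁻¹ := by rw [← e1]
      _ = (u.1 * (c * u.1 * c⁻¹ * u.1⁻¹)) * c * u.1⁻¹ := by group
      _ = ((c * u.1 * c⁻¹ * u.1⁻¹) * u.1) * c * u.1⁻¹ := by rw [hcomm]
      _ = c * (u.1 * c⁻¹ * u.1⁻¹ * u.1 * c * u.1⁻¹) := by group
      _ = c := by group
  rw [this]; exact hcC

end torus

end Cfsg.Agent.Lib.Helper2.Dk
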