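import Cfsg.Agent.Lib.Helper2.Dk3
import Cfsg.Agent.Lib.Helper2.Dk5

set_option autoImplicit false

/-! Dickson project, part 6: the classes of maximal abelian subgroups. -/

namespace Cfsg.Agent.Lib.Helper2.Dk

open Matrix Cfsg.Agent.Lib.Helper2.SL2

variable {F : Type*} [Field F]

/-- non-central part of the centralizer of `h` in `L` -/
def ncs (L : Subgroup (Matrix.SpecialLinearGroup (Fin 2) F))
    (h : Matrix.SpecialLinearGroup (Fin 2) F) : Set (Matrix.SpecialLinearGroup (Fin 2) F) :=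
  {g | g ∈ cen L h ∧ g ∉ ZG F}

/-- the union of the `L`-conjugates of the non-central part of the centralizer of `h` -/
def cls (L : Subgroup (Matrix.SpecialLinearGroup (Fin 2) F))
    (h : Matrix.SpecialLinearGroup (Fin 2) F) : Set (Matrix.SpecialLinearGroup (Fin 2) F) :=
  conjUnion L (ncs L h)

variable {L : Subgroup (Matrix.SpecialLinearGroup (Fin 2) F)}
  {h h' a g x y : Matrix.SpecialLinearGroup (Fin 2) F}

theorem mem_cls : g ∈ cls L h ↔ ∃ x ∈ L, x * g * x⁻¹ ∈ cen L h ∧ x * g * x⁻¹ ∉ ZG F := Iff.rfl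

theorem not_mem_ZG_iff : g ∉ ZG F ↔ g ≠ 1 ∧ g ≠ -1 := by
  rw [mem_ZG]; push Not; rfl

theorem conj_mem_ZG_iff : x * g * x⁻¹ ∈ ZG F ↔ g ∈ ZG F := by
  constructor
  · intro hc
    have e1 : g = x⁻¹ * (x * g * x⁻¹) * x := by group
    have e2 := ZG_comm _ hc x⁻¹
    rw [e1, e2, mul_assoc, inv_mul_cancel, mul_one]; exact hc
  · intro hc
    rw [ZG_comm _ hc x, mul_assoc, mul_inv_cancel, mul_one]; exact hc

theorem ncs_subset : ncs L h ⊆ L := fun _ hg => cen_le hg.1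

theorem cls_subset : cls L h ⊆ L := conjUnion_subset L ncs_subset

theorem not_mem_ZG_of_mem_cls (hg : g ∈ cls L h) : g ∉ ZG F := by
  obtain ⟨x, _, _, hx⟩ := hg
  exact fun hz => hx (conj_mem_ZG_iff.mpr hz)

theorem self_mem_cls (hL : h ∈ L) (hZ : h ∉ ZG F) : h ∈ cls L h :=
  subset_conjUnion L _ ⟨self_mem_cen hL, hZ⟩

theorem cls_conj (hg : g ∈ cls L h) (hy : y ∈ L) : y * g * y⁻¹ ∈ cls L h :=
  conj_mem_conjUnion hy hg

theorem cls_trans (hg : g ∈ cls L h) (hZ : h ∉ ZG F) (ha : a ∈ cen L g) (haZ : a ∉ ZG F) :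
    a ∈ cls L h := by
  obtain ⟨x, hx, hc, hcZ⟩ := hg
  obtain ⟨h1, h2⟩ := not_mem_ZG_iff.mp hZ
  obtain ⟨c1, c2⟩ := not_mem_ZG_iff.mp hcZ
  refine ⟨x, hx, ?_, fun hz => haZ (conj_mem_ZG_iff.mp hz)⟩
  rw [← cen_eq h1 h2 hc c1 c2]
  exact (conj_mem_cen_conj hx).mpr ha

theorem cls_symm (hg : g ∈ cls L h) (hL : h ∈ L) (hZ : h ∉ ZG F) : h ∈ cls L g := by
  obtain ⟨x, hx, hc, hcZ⟩ := hg
  refine ⟨x⁻¹, L.inv_mem hx, ?_, fun hz => hZ (conj_mem_ZG_iff.mp hz)⟩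
  rw [inv_inv, mem_cen]
  refine ⟨L.mul_mem (L.mul_mem (L.inv_mem hx) hL) hx, ?_⟩
  have e := (mem_cen.mp hc).2
  -- x g x⁻¹ commutes with h
  have e1 : x⁻¹ * h * x * g = x⁻¹ * (h * (x * g * x⁻¹)) * x := by group
  have e2 : g * (x⁻¹ * h * x) = x⁻¹ * ((x * g * x⁻¹) * h) * x := by group
  rw [e1, e2, e]

theorem cls_disjoint (hg : g ∈ cls L h) (hg' : g ∈ cls L h') (hL' : h' ∈ L) (hZ' : h' ∉ ZG F)
    (hZ : h ∉ ZG F) : h' ∈ cls L h := by
  obtain ⟨x, hx, hc, hcZ⟩ := cls_symm hg' hL' hZ'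
  have h1 := cls_trans hg hZ hc hcZ
  have h2 := cls_conj h1 (L.inv_mem hx)
  have : x⁻¹ * (x * h' * x⁻¹) * x⁻¹⁻¹ = h' := by group
  rw [this] at h2
  exact h2

/-- the cardinality of a class -/
theorem card_cls [Finite F] (hZ : h ∉ ZG F) :
    Nat.card (cls L h) * Nat.card (ncen L h) =
      Nat.card L * (Nat.card (cen L h) - Nat.card ↥(L ⊓ ZG F)) := by
  obtain ⟨h1, h2⟩ := not_mem_ZG_iff.mp hZ
  have key := card_conjUnion_mul L (ncen L h) (ncs L h) ncen_le ?_ ?_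
  · have hc : Nat.card (ncs L h) = Nat.card (cen L h) - Nat.card ↥(L ⊓ ZG F) := by
      have e : ncs L h = (cen L h : Set _) \ ((L ⊓ ZG F : Subgroup _) : Set _) := by
        ext g
        simp only [ncs, Set.mem_ofPred_eq, Set.mem_sdiff, SetLike.mem_coe, Subgroup.mem_inf]
        constructor
        · rintro ⟨a, b⟩; exact ⟨a, fun hh => b hh.2⟩
        · rintro ⟨a, b⟩; exact ⟨a, fun hh => b ⟨cen_le a, hh⟩⟩
      rw [e, Nat.card_coe_set_eq, Set.ncard_sdiff (by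
        intro z hz; exact ZL_le_cen hz) (Set.toFinite _), ← Nat.card_coe_set_eq,
        ← Nat.card_coe_set_eq]
      rfl
    rw [hc] at key
    exact key
  · intro x hx s hs
    exact ⟨conj_mem_cen_of_mem_ncen hx hs.1, fun hz => hs.2 (conj_mem_ZG_iff.mp hz)⟩
  · intro x hx s hs hxs
    obtain ⟨s1, s2⟩ := not_mem_ZG_iff.mp hs.2
    exact mem_ncen_of_conj h1 h2 hx hs.1 s1 s2 hxs.1

/-- all elements of a class have the trace of some non-central element of the centralizer -/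
theorem exists_trace_of_mem_cls (hg : g ∈ cls L h) :
    ∃ c ∈ cen L h, c ∉ ZG F ∧ c 0 0 + c 1 1 = g 0 0 + g 1 1 := by
  obtain ⟨x, _, hc, hcZ⟩ := hg
  exact ⟨_, hc, hcZ, trace_conj x g⟩

end Cfsg.Agent.Lib.Helper2.Dk
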