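import Cfsg.Agent.Lib.Helper2.Dk6

set_option autoImplicit false

/-! Dickson project, part 7a: the unipotent class, the sets `U x B`, and the bound on the
diagonal group. -/

namespace Cfsg.Agent.Lib.Helper2.Dk

open Matrix Cfsg.Agent.Lib.Helper2.SL2

variable {F : Type*} [Field F]

theorem conj_mem_PU_of_mem_Bor {b y : Matrix.SpecialLinearGroup (Fin 2) F} (hb : b ∈ Bor F)
    (hy : y ∈ PU F) : b * y * b⁻¹ ∈ PU F := by
  have hd := diag_mul_of_mem_Bor hb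
  rw [mem_PU]
  simp only [mul00, mul01, mul10, mul11, inv00, inv01, inv10, inv11, mem_Bor.mp hb, hy.1, hy.2]
  constructor
  · ring
  · ring

variable (L : Subgroup (Matrix.SpecialLinearGroup (Fin 2) F))

theorem cen_tt_one : cen L (tt 1) = L ⊓ PU F := by
  ext g
  rw [mem_cen, Subgroup.mem_inf]
  constructor
  · rintro ⟨h1, h2⟩; exact ⟨h1, mem_PU_of_commute one_ne_zero h2⟩
  · rintro ⟨h1, h2⟩; exact ⟨h1, commute_tt_of_mem_PU h2 1⟩

theorem tt_one_not_mem_ZG (h2 : (2 : F) ≠ 0) : tt (1 : F) ∉ ZG F := by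
  rintro (h | h)
  · exact one_ne_zero ((tt_eq_one_iff (1 : F)).mp h)
  · have := congrArg (fun g : Matrix.SpecialLinearGroup (Fin 2) F => g 0 0) h
    simp only [tt00, neg00, one00] at this
    apply h2; linear_combination this

theorem ncen_tt_one (hL : tt 1 ∈ L) : ncen L (tt 1) = L ⊓ Bor F := by
  ext x
  rw [mem_ncen, Subgroup.mem_inf]
  constructor
  · rintro ⟨hxL, hx⟩
    refine ⟨hxL, ?_⟩
    have h1 := (hx (tt 1)).mp (self_mem_cen hL)
    rw [cen_tt_one] at h1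
    exact mem_Bor_of_conj_mem_Bor (Uni_le_PU (tt_mem_Uni 1)) (by simp) (PU_le_Bor h1.2)
  · rintro ⟨hxL, hxB⟩
    refine ⟨hxL, fun y => ?_⟩
    rw [cen_tt_one, Subgroup.mem_inf, Subgroup.mem_inf]
    constructor
    · rintro ⟨a, b⟩
      exact ⟨L.mul_mem (L.mul_mem hxL a) (L.inv_mem hxL), conj_mem_PU_of_mem_Bor hxB b⟩
    · rintro ⟨a, b⟩
      have e : y = x⁻¹ * (x * y * x⁻¹) * x⁻¹⁻¹ := by group
      rw [e]
      exact ⟨L.mul_mem (L.mul_mem (L.inv_mem hxL) a) (L.inv_mem (L.inv_mem hxL)),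
        conj_mem_PU_of_mem_Bor ((Bor F).inv_mem hxB) b⟩

/-- elements of the unipotent class have trace `±2` -/
theorem trace_sq_of_mem_cls_tt {g : Matrix.SpecialLinearGroup (Fin 2) F}
    (hg : g ∈ cls L (tt 1)) : (g 0 0 + g 1 1) ^ 2 = 4 := by
  obtain ⟨c, hc, _, htr⟩ := exists_trace_of_mem_cls hg
  rw [cen_tt_one] at hc
  rw [← htr, ← hc.2.2]
  have := sq_eq_one_of_mem_PU hc.2
  linear_combination 4 * this

theorem mem_cls_tt_of_trace [Finite F] {p : ℕ} [Fact p.Prime] [CharP F p] (hp : p ≠ 2)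
    (hL : tt 1 ∈ L) {g : Matrix.SpecialLinearGroup (Fin 2) F} (hg : g ∈ L) (hgZ : g ∉ ZG F)
    (htr : (g 0 0 + g 1 1) ^ 2 = 4) : g ∈ cls L (tt 1) := by
  obtain ⟨x, hx, hxg⟩ := exists_conj_mem_PU hp L one_ne_zero hL g hg htr
  refine ⟨x, hx, ?_, fun hz => hgZ (conj_mem_ZG_iff.mp hz)⟩
  rw [cen_tt_one]; exact hxg

/-- the set `U x B` -/
def UxB (x : Matrix.SpecialLinearGroup (Fin 2) F) : Set (Matrix.SpecialLinearGroup (Fin 2) F) :=
  {g | ∃ u ∈ L ⊓ Uni F, ∃ b ∈ L ⊓ Bor F, g = u * x * b}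

variable {L}

theorem UxB_subset {x : Matrix.SpecialLinearGroup (Fin 2) F} (hx : x ∈ L) : UxB L x ⊆ L := by
  rintro g ⟨u, hu, b, hb, rfl⟩
  exact L.mul_mem (L.mul_mem hu.1 hx) hb.1

theorem UxB_disjoint_Bor {x : Matrix.SpecialLinearGroup (Fin 2) F} (hx : x ∉ Bor F)
    {g : Matrix.SpecialLinearGroup (Fin 2) F} (hg : g ∈ UxB L x) : g ∉ Bor F := by
  obtain ⟨u, hu, b, hb, rfl⟩ := hg
  intro h
  apply hx
  have : x = u⁻¹ * (u * x * b) * b⁻¹ := by group
  rw [this]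
  exact (Bor F).mul_mem ((Bor F).mul_mem ((Bor F).inv_mem (PU_le_Bor (Uni_le_PU hu.2))) h)
    ((Bor F).inv_mem hb.2)

theorem mem_UxB_of_mem {x y : Matrix.SpecialLinearGroup (Fin 2) F} (hy : y ∈ UxB L x)
    {g : Matrix.SpecialLinearGroup (Fin 2) F} (hg : g ∈ UxB L y) : g ∈ UxB L x := by
  obtain ⟨u, hu, b, hb, rfl⟩ := hy
  obtain ⟨u', hu', b', hb', rfl⟩ := hg
  exact ⟨u' * u, (L ⊓ Uni F).mul_mem hu' hu, b * b', (L ⊓ Bor F).mul_mem hb hb', by group⟩

theorem self_mem_UxB (x : Matrix.SpecialLinearGroup (Fin 2) F) : x ∈ UxB L x :=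
  ⟨1, (L ⊓ Uni F).one_mem, 1, (L ⊓ Bor F).one_mem, by simp⟩

theorem card_UxB [Finite F] {x : Matrix.SpecialLinearGroup (Fin 2) F} (hx : x ∉ Bor F) :
    Nat.card (UxB L x) = Nat.card ↥(L ⊓ Uni F) * Nat.card ↥(L ⊓ Bor F) := by
  rw [← Nat.card_prod]
  symm
  refine Nat.card_eq_of_bijective
    (fun ub : ↥(L ⊓ Uni F) × ↥(L ⊓ Bor F) => (⟨ub.1.1 * x * ub.2.1,
      ⟨ub.1.1, ub.1.2, ub.2.1, ub.2.2, rfl⟩⟩ : UxB L x)) ⟨?_, ?_⟩
  · rintro ⟨⟨u, hu⟩, ⟨b, hb⟩⟩ ⟨⟨u', hu'⟩, ⟨b', hb'⟩⟩ h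
    have h' : u * x * b = u' * x * b' := congrArg Subtype.val h
    -- `x⁻¹ (u'⁻¹ u) x ∈ B`
    have e : x⁻¹ * (u'⁻¹ * u) * x⁻¹⁻¹ = b' * b⁻¹ := by
      have : u'⁻¹ * u * x = x * (b' * b⁻¹) := by
        have := congrArg (fun q => u'⁻¹ * q * b⁻¹) h'
        simp only [mul_assoc, inv_mul_cancel_left, mul_inv_cancel, mul_one] at this
        rw [mul_assoc, this]
      rw [inv_inv, mul_assoc, this]; group
    have hw : u'⁻¹ * u ∈ Uni F := (Uni F).mul_mem ((Uni F).inv_mem hu'.2) hu.2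
    have hu1 : u'⁻¹ * u = 1 := by
      by_contra hne
      have h01 : (u'⁻¹ * u) 0 1 ≠ 0 := by
        intro h0
        apply hne
        rw [eq_tt_of_mem_Uni hw, h0, tt_zero]
      have hB : x⁻¹ * (u'⁻¹ * u) * x⁻¹⁻¹ ∈ Bor F := by
        rw [e]; exact (Bor F).mul_mem hb'.2 ((Bor F).inv_mem hb.2)
      have := mem_Bor_of_conj_mem_Bor (Uni_le_PU hw) h01 hB
      exact hx (by simpa using (Bor F).inv_mem this)
    have huu : u = u' := by
      have := congrArg (fun q => u' * q) hu1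
      simpa using this
    subst huu
    have hbb : b = b' := mul_left_cancel h'
    subst hbb
    rfl
  · rintro ⟨g, u, hu, b, hb, rfl⟩
    exact ⟨(⟨u, hu⟩, ⟨b, hb⟩), rfl⟩

theorem card_subtype_ne_one {G : Type*} [Group G] [Finite G] :
    Nat.card {u : G // u ≠ 1} = Nat.card G - 1 := by
  classical
  have := Fintype.ofFinite G
  rw [Nat.card_eq_fintype_card, Nat.card_eq_fintype_card]
  exact Fintype.card_subtype_compl (fun u : G => u = 1) |>.trans (by simp)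

/-- the diagonal group of a torus in the Borel subgroup is small -/
theorem card_cen_le [Finite F] (hL1 : tt 1 ∈ L) {h₁ : Matrix.SpecialLinearGroup (Fin 2) F}
    (hB : h₁ ∈ Bor F) (hd : h₁ 0 0 ^ 2 ≠ 1) :
    Nat.card (cen L h₁) ≤ Nat.card ↥(L ⊓ ZG F) * (Nat.card ↥(L ⊓ Uni F) - 1) := by
  let ψ : ↥(cen L h₁) →* Fˣ :=
    (powMonoidHom 2).comp ((dgL L).comp (Subgroup.inclusion (cen_le_Bor hB hd)))
  have hψ : ∀ c : ↥(cen L h₁), ((ψ c : Fˣ) : F) = c.1 0 0 ^ 2 := fun c => rfl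
  rw [card_eq_ker_mul_range ψ]
  apply Nat.mul_le_mul
  · -- the kernel is central
    have : ψ.ker.map (cen L h₁).subtype ≤ L ⊓ ZG F := by
      rintro g ⟨c, hc, rfl⟩
      rw [SetLike.mem_coe, MonoidHom.mem_ker] at hc
      have h00 : c.1 0 0 ^ 2 = 1 := by
        have := congrArg Units.val hc
        rw [hψ] at this; simpa using this
      have hcB := (cen_le_Bor hB hd c.2).2
      refine ⟨cen_le c.2, cen_inter_PU hB hd c.2 ⟨mem_Bor.mp hcB, ?_⟩⟩
      show c.1 0 0 = c.1 1 1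
      have := diag_mul_of_mem_Bor hcB
      have hne : c.1 0 0 ≠ 0 := by
        intro h0; rw [h0] at this; simp at this
      apply mul_left_cancel₀ hne
      rw [this, ← pow_two, h00]
    calc Nat.card ψ.ker = Nat.card (ψ.ker.map (cen L h₁).subtype) :=
          (Subgroup.card_map_of_injective (Subgroup.subtype_injective _)).symm
      _ ≤ Nat.card ↥(L ⊓ ZG F) := Subgroup.card_le_of_le this
  · rw [← card_subtype_ne_one]
    have hr : ∀ r : ψ.range, ∃ c : ↥(cen L h₁), ((r : Fˣ) : F) = c.1 0 0 ^ 2 := by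
      rintro ⟨r, c, rfl⟩
      exact ⟨c, rfl⟩
    refine Nat.card_le_card_of_injective (fun r : ψ.range =>
      (⟨⟨tt ((r : Fˣ) : F), ?_, tt_mem_Uni _⟩, ?_⟩ : {u : ↥(L ⊓ Uni F) // u ≠ 1})) ?_
    · obtain ⟨c, hc⟩ := hr r
      have hcB := (cen_le_Bor hB hd c.2).2
      have := conj_tt_of_mem_Bor hcB 1
      rw [mul_one, ← hc] at this
      rw [← this]
      exact L.mul_mem (L.mul_mem (cen_le c.2) hL1) (L.inv_mem (cen_le c.2))
    · intro h
      have := congrArg Subtype.val h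
      simp only [Subgroup.coe_one] at this
      exact Units.ne_zero _ ((tt_eq_one_iff _).mp this)
    · intro r r' h
      have h1 := congrArg (fun u : {u : ↥(L ⊓ Uni F) // u ≠ 1} => (u.1.1)) h
      simp only at h1
      apply Subtype.ext
      apply Units.ext
      exact tt_injective h1

omit L in
/-- `h = A g - B` entrywise -/
def Lin (g h : Matrix.SpecialLinearGroup (Fin 2) F) (A B : F) : Prop :=
  h 0 0 = A * g 0 0 - B ∧ h 0 1 = A * g 0 1 ∧ h 1 0 = A * g 1 0 ∧ h 1 1 = A * g 1 1 - B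

omit L in
theorem Lin.mul {g h : Matrix.SpecialLinearGroup (Fin 2) F} {A B : F} (hl : Lin g h A B) :
    Lin g (h * g) (A * (g 0 0 + g 1 1) - B) A := by
  obtain ⟨h0, h1, h2, h3⟩ := hl
  have hd := det2 g
  refine ⟨?_, ?_, ?_, ?_⟩
  · rw [mul00, h0, h1]; linear_combination (-A) * hd
  · rw [mul01, h0, h1]; ring
  · rw [mul10, h2, h3]; ring
  · rw [mul11, h2, h3]; linear_combination (-A) * hd

omit L in
theorem lin_self (g : Matrix.SpecialLinearGroup (Fin 2) F) : Lin g g 1 0 :=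
  ⟨by ring, by ring, by ring, by ring⟩

omit L in
theorem lin_pow5 (g : Matrix.SpecialLinearGroup (Fin 2) F) :
    Lin g (g ^ 5) ((g 0 0 + g 1 1) ^ 4 - 3 * (g 0 0 + g 1 1) ^ 2 + 1)
      ((g 0 0 + g 1 1) ^ 3 - 2 * (g 0 0 + g 1 1)) := by
  have h2 := (lin_self g).mul
  have h3 := h2.mul
  have h4 := h3.mul
  have h5 := h4.mul
  have e : g ^ 5 = g * g * g * g * g := by
    simp [pow_succ]
  rw [e]
  convert h5 using 1 <;> ring

omit L in
/-- the trace of a non-central element whose fifth power is central -/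
theorem trace_of_pow5 {g : Matrix.SpecialLinearGroup (Fin 2) F} (h5 : g ^ 5 ∈ ZG F)
    (hg : g ∉ ZG F) : (g 0 0 + g 1 1) ^ 4 - 3 * (g 0 0 + g 1 1) ^ 2 + 1 = 0 := by
  obtain ⟨l0, l1, l2, l3⟩ := lin_pow5 g
  set A := (g 0 0 + g 1 1) ^ 4 - 3 * (g 0 0 + g 1 1) ^ 2 + 1 with hA
  by_contra hne
  apply hg
  have h01 : (g ^ 5) 0 1 = 0 := by rcases h5 with h | h <;> rw [h] <;> simp
  have h10 : (g ^ 5) 1 0 = 0 := by rcases h5 with h | h <;> rw [h] <;> simp
  have hdd : (g ^ 5) 0 0 = (g ^ 5) 1 1 := by rcases h5 with h | h <;> rw [h] <;> simp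
  have g01 : g 0 1 = 0 := by
    rw [l1] at h01
    rcases mul_eq_zero.mp h01 with h | h
    · exact absurd h hne
    · exact h
  have g10 : g 1 0 = 0 := by
    rw [l2] at h10
    rcases mul_eq_zero.mp h10 with h | h
    · exact absurd h hne
    · exact h
  have gdd : g 0 0 = g 1 1 := by
    rw [l0, l3] at hdd
    have : A * (g 0 0 - g 1 1) = 0 := by linear_combination hdd
    rcases mul_eq_zero.mp this with h | h
    · exact absurd h hne
    · linear_combination h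
  exact mem_ZG_of_mem_PU ⟨g10, gdd⟩ g01

end Cfsg.Agent.Lib.Helper2.Dk
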