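import Mathlib

set_option autoImplicit false

/-! Dickson project, part 7b: the arithmetic of the class equation. -/

namespace Cfsg.Agent.Lib.Helper2.Dk

theorem arith_final (N t e d : ℕ) (ht : 3 ≤ t) (he2 : 2 ≤ e) (het : e ≤ t - 1) (hd : 2 ≤ d)
    (hN : N = 1 + t ∨ 1 + 2 * t ≤ N) (heq : N * t * e = d * (N * (t - 2) + 2)) :
    N = 1 + t ∨ (t = 3 ∧ e = 2 ∧ d = 5 ∧ N = 10) := by
  rcases hN with h | h
  · left; exact h
  right
  obtain ⟨s, rfl⟩ : ∃ s, t = s + 2 := ⟨t - 2, by omega⟩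
  simp only [Nat.add_sub_cancel] at heq
  have het' : e ≤ s + 1 := by omega
  zify at *
  set M : ℤ := (s + 2) * e - d * s with hM
  have hNM : (N : ℤ) * M = 2 * d := by rw [hM]; linarith
  have hs : (1 : ℤ) ≤ s := by omega
  have hM1 : 1 ≤ M := by
    by_contra hc
    push Not at hc
    have : M ≤ 0 := by omega
    nlinarith
  have hM2 : M < 2 := by
    by_contra hc
    push Not at hc
    have h1 : 2 * (d : ℤ) ≥ 2 * N := by nlinarith
    have h2 : (d : ℤ) ≥ 1 + 2 * (s + 2) := by linarith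
    have h3 : (d : ℤ) * s ≥ (1 + 2 * (s + 2)) * s := by nlinarith
    have h4 : ((s : ℤ) + 2) * e ≤ (s + 2) * (s + 1) := by nlinarith
    nlinarith
  have hM3 : M = 1 := by omega
  rw [hM3, mul_one] at hNM
  have hd1 : (d : ℤ) ≥ s + 3 := by linarith
  have h5 : (d : ℤ) * s = (s + 2) * e - 1 := by rw [hM] at hM3; linarith
  have h6 : (e : ℤ) = s + 1 := by
    by_contra hne
    have : (e : ℤ) ≤ s := by omega
    nlinarith
  rw [h6] at h5
  have h7 : ((d : ℤ) - s - 3) * s = 1 := by nlinarith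
  have h8 : (s : ℤ) = 1 := by
    rcases Int.eq_one_or_neg_one_of_mul_eq_one' h7 with ⟨_, h⟩ | ⟨_, h⟩
    · exact h
    · omega
  have h9 : (d : ℤ) = 5 := by rw [h8] at h7; linarith
  refine ⟨by omega, by omega, by omega, by omega⟩

/-- numerical data of a class of tori -/
def ClassData (nL z K α ν : ℕ) : Prop :=
  z ∣ α ∧ z < α ∧ α ∣ ν ∧ ν ≤ 2 * α ∧ K * ν = nL * (α - z)

theorem classData_param {nL z K α ν : ℕ} (h : ClassData nL z K α ν) (hnL : 0 < nL) (hz : 0 < z) :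
    ∃ d ε : ℕ, 2 ≤ d ∧ (ε = 1 ∨ ε = 2) ∧ α = d * z ∧ K * ε * d = nL * (d - 1) := by
  obtain ⟨⟨d, rfl⟩, h2, ⟨ε, rfl⟩, h4, h5⟩ := h
  have hd : 2 ≤ d := by
    by_contra hc
    push Not at hc
    interval_cases d <;> simp at h2
  have hzd : 0 < z * d := by positivity
  have hε : ε = 1 ∨ ε = 2 := by
    have h6 : ε ≤ 2 := by
      by_contra hc
      push Not at hc
      have : 3 * (z * d) ≤ z * d * ε := by nlinarith
      omega
    interval_cases ε
    · exfalso
      simp at h5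
      rcases h5 with h5 | h5
      · omega
      · have : z * 1 < z * d := by nlinarith
        omega
    · left; rfl
    · right; rfl
  refine ⟨d, ε, hd, hε, by ring, ?_⟩
  have h7 : z * d - z = z * (d - 1) := by
    rw [Nat.mul_sub, mul_one]
  rw [h7] at h5
  have : z * (K * ε * d) = z * (nL * (d - 1)) := by
    calc z * (K * ε * d) = K * (z * d * ε) := by ring
      _ = nL * (z * (d - 1)) := h5
      _ = z * (nL * (d - 1)) := by ring
  exact Nat.eq_of_mul_eq_mul_left hz this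

theorem classData_four {nL z K α ν : ℕ} (h : ClassData nL z K α ν) (hnL : 0 < nL) (hz : 0 < z) :
    nL ≤ 4 * K := by
  obtain ⟨d, ε, hd, hε, -, h4⟩ := classData_param h hnL hz
  obtain ⟨d', rfl⟩ : ∃ d', d = d' + 2 := ⟨d - 2, by omega⟩
  simp only [show d' + 2 - 1 = d' + 1 by omega] at h4
  rcases hε with rfl | rfl <;> nlinarith


theorem arith_noC_class {N t z K α ν : ℕ} (ht : 3 ≤ t) (hz : 0 < z) (hN : 1 ≤ N)
    (h : ClassData (N * t * z) z K α ν) (hK : K ≤ (N - 1) * z) : t = 3 ∧ 4 * K = 3 * N * z := by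
  have hnL : 0 < N * t * z := by positivity
  obtain ⟨d, ε, hd, hε, -, h4⟩ := classData_param h hnL hz
  obtain ⟨d', rfl⟩ : ∃ d', d = d' + 2 := ⟨d - 2, by omega⟩
  obtain ⟨N', rfl⟩ : ∃ N', N = N' + 1 := ⟨N - 1, by omega⟩
  obtain ⟨t', rfl⟩ : ∃ t', t = t' + 3 := ⟨t - 3, by omega⟩
  simp only [show d' + 2 - 1 = d' + 1 by omega, Nat.add_sub_cancel] at h4 hK
  -- `K ε d = N t z (d-1)` and `K ≤ N' z`
  have h5 : K * ε * (d' + 2) ≤ N' * z * ε * (d' + 2) := by
    have := Nat.mul_le_mul_right (ε * (d' + 2)) hK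
    calc K * ε * (d' + 2) = K * (ε * (d' + 2)) := by ring
      _ ≤ N' * z * (ε * (d' + 2)) := this
      _ = N' * z * ε * (d' + 2) := by ring
  rw [h4] at h5
  rcases hε with rfl | rfl
  · exfalso
    -- (N'+1)(t'+3) z (d'+1) ≤ N' z (d'+2)
    have : N' * z * (d' + 2) < (N' + 1) * (t' + 3) * z * (d' + 1) := by
      have h1 : N' * z * (d' + 2) ≤ N' * z * (3 * (d' + 1)) := by
        apply Nat.mul_le_mul_left; omega
      have h2 : N' * z * (3 * (d' + 1)) < (N' + 1) * (t' + 3) * z * (d' + 1) := by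
        have e1 : (N' + 1) * (t' + 3) * z * (d' + 1) =
          N' * z * (3 * (d' + 1)) + (N' * t' * z * (d' + 1) + (t' + 3) * z * (d' + 1)) := by ring
        rw [e1]
        have : 0 < (t' + 3) * z * (d' + 1) := by positivity
        omega
      omega
    simp only [mul_one] at h5
    omega
  · -- ε = 2
    have hd0 : d' = 0 := by
      by_contra hne
      have hd1 : 1 ≤ d' := by omega
      -- (N'+1)(t'+3) z (d'+1) ≤ 2 N' z (d'+2) is impossible for d' ≥ 1
      have : N' * z * 2 * (d' + 2) < (N' + 1) * (t' + 3) * z * (d' + 1) := by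
        have h1 : N' * z * 2 * (d' + 2) ≤ N' * z * (3 * (d' + 1)) := by
          have : 2 * (d' + 2) ≤ 3 * (d' + 1) := by omega
          calc N' * z * 2 * (d' + 2) = N' * z * (2 * (d' + 2)) := by ring
            _ ≤ N' * z * (3 * (d' + 1)) := Nat.mul_le_mul_left _ this
        have e1 : (N' + 1) * (t' + 3) * z * (d' + 1) =
          N' * z * (3 * (d' + 1)) + (N' * t' * z * (d' + 1) + (t' + 3) * z * (d' + 1)) := by ring
        have : 0 < (t' + 3) * z * (d' + 1) := by positivity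
        omega
      omega
    subst hd0
    simp only [zero_add, mul_one] at h5 h4
    have ht0 : t' = 0 := by
      by_contra hne
      have ht1 : 1 ≤ t' := by omega
      have : N' * z * 2 * 2 < (N' + 1) * (t' + 3) * z := by
        have e1 : (N' + 1) * (t' + 3) * z = N' * z * 4 + (N' * z * (t' - 1) + (t' + 3) * z) := by
          obtain ⟨t'', rfl⟩ : ∃ t'', t' = t'' + 1 := ⟨t' - 1, by omega⟩
          simp only [Nat.add_sub_cancel]; ring
        have : 0 < (t' + 3) * z := by positivity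
        omega
      omega
    subst ht0
    refine ⟨rfl, ?_⟩
    simp only [zero_add] at h4
    linarith

theorem arith_noC_two {N z K K₂ : ℕ} (hz : 0 < z) (hN : 1 ≤ N) (h1 : 4 * K = 3 * N * z)
    (h2 : 4 * K₂ = 3 * N * z) (h3 : K + K₂ ≤ (N - 1) * z) : False := by
  obtain ⟨N', rfl⟩ : ∃ N', N = N' + 1 := ⟨N - 1, by omega⟩
  simp only [Nat.add_sub_cancel] at h3
  have : 0 < (N' + 1) * z := by positivity
  nlinarith

theorem arith_noC_one {N z K : ℕ} (hz : 0 < z) (hN : 1 ≤ N) (h1 : 4 * K = 3 * N * z)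
    (h3 : K = (N - 1) * z) : N = 4 := by
  obtain ⟨N', rfl⟩ : ∃ N', N = N' + 1 := ⟨N - 1, by omega⟩
  simp only [Nat.add_sub_cancel] at h3
  subst h3
  have : z * (4 * N') = z * (3 * (N' + 1)) := by ring_nf; ring_nf at h1; linarith
  have := Nat.eq_of_mul_eq_mul_left hz this
  omega

theorem classData_cases {nL z K α ν : ℕ} (h : ClassData nL z K α ν) (hnL : 0 < nL) (hz : 0 < z) :
    nL ≤ 2 * K ∨ ∃ d : ℕ, 2 ≤ d ∧ α = d * z ∧ 2 * K * d = nL * (d - 1) := by
  obtain ⟨d, ε, hd, hε, hα, h4⟩ := classData_param h hnL hz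
  rcases hε with rfl | rfl
  · left
    obtain ⟨d', rfl⟩ : ∃ d', d = d' + 2 := ⟨d - 2, by omega⟩
    simp only [show d' + 2 - 1 = d' + 1 by omega] at h4
    nlinarith
  · right
    exact ⟨d, hd, hα, by linarith⟩

theorem arith_C_eps1 {N t e z : ℕ} (ht : 3 ≤ t) (he : 2 ≤ e) (hz : 0 < z) (hN : 1 ≤ N) :
    ¬ (N * t * e * z ≤ 4 * ((N - 1) * z)) := by
  obtain ⟨N', rfl⟩ : ∃ N', N = N' + 1 := ⟨N - 1, by omega⟩
  simp only [Nat.add_sub_cancel]
  intro h
  have h1 : 6 ≤ t * e := by nlinarith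
  have h2 : (N' + 1) * t * e * z = (N' + 1) * z * (t * e) := by ring
  have h3 : (N' + 1) * z * 6 ≤ (N' + 1) * z * (t * e) := Nat.mul_le_mul_left _ h1
  have : 0 < z * (N' + 1) := by positivity
  nlinarith

theorem arith_phi2 {N t e z S φ : ℕ} (ht : 1 ≤ t) (he : 1 ≤ e)
    (hsum : N * t * e * z = z + N * (t - 1) * z + S + φ) (hS : 2 * S = N * t * z * (e - 1)) :
    2 * φ + 2 * z + N * t * z = z * (N * t * e + 2 * N) := by
  obtain ⟨t', rfl⟩ : ∃ t', t = t' + 1 := ⟨t - 1, by omega⟩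
  obtain ⟨e', rfl⟩ : ∃ e', e = e' + 1 := ⟨e - 1, by omega⟩
  simp only [Nat.add_sub_cancel] at hsum hS
  nlinarith

theorem arith_phi2_pos {N t e z φ : ℕ} (ht : 3 ≤ t) (he : 2 ≤ e) (hN : 1 ≤ N) (hz : 0 < z)
    (h : 2 * φ + 2 * z + N * t * z = z * (N * t * e + 2 * N)) : 0 < φ := by
  by_contra hc
  have hφ : φ = 0 := by omega
  subst hφ
  have h1 : z * (2 + N * t) = z * (N * t * e + 2 * N) := by linarith
  have h2 := Nat.eq_of_mul_eq_mul_left hz h1
  have h3 : N * t * 2 ≤ N * t * e := Nat.mul_le_mul_left _ he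
  have h4 : 3 ≤ N * t := by nlinarith
  omega

theorem arith_phi2_lt {N t e z φ : ℕ} (ht : 3 ≤ t) (hz : 0 < z)
    (h : 2 * φ + 2 * z + N * t * z = z * (N * t * e + 2 * N)) : 2 * φ < N * t * e * z := by
  have h1 : 2 * N * z < N * t * z + 2 * z := by
    have : N * 3 * z ≤ N * t * z := by
      apply Nat.mul_le_mul_right; apply Nat.mul_le_mul_left; exact ht
    nlinarith
  nlinarith

theorem arith_phi2_single {N t e z φ d : ℕ} (ht : 3 ≤ t) (hz : 0 < z) (hd : 2 ≤ d)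
    (h : 2 * φ + 2 * z + N * t * z = z * (N * t * e + 2 * N))
    (hK : 2 * φ * d = N * t * e * z * (d - 1)) : N * t * e = d * (N * (t - 2) + 2) := by
  obtain ⟨t', rfl⟩ : ∃ t', t = t' + 2 := ⟨t - 2, by omega⟩
  obtain ⟨d', rfl⟩ : ∃ d', d = d' + 1 := ⟨d - 1, by omega⟩
  simp only [Nat.add_sub_cancel] at hK ⊢
  have h1 : z * (N * (t' + 2) * e) = z * ((d' + 1) * (N * t' + 2)) := by nlinarith
  exact Nat.eq_of_mul_eq_mul_left hz h1

theorem arith_phi1 {N t e z S φ : ℕ} (ht : 1 ≤ t) (he : 1 ≤ e) (hN : 1 ≤ N)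
    (hsum : N * t * e * z = z + N * (t - 1) * z + S + φ) (hS : S = N * t * z * (e - 1)) :
    φ = (N - 1) * z := by
  obtain ⟨t', rfl⟩ : ∃ t', t = t' + 1 := ⟨t - 1, by omega⟩
  obtain ⟨e', rfl⟩ : ∃ e', e = e' + 1 := ⟨e - 1, by omega⟩
  obtain ⟨N', rfl⟩ : ∃ N', N = N' + 1 := ⟨N - 1, by omega⟩
  simp only [Nat.add_sub_cancel] at hsum hS ⊢
  subst hS
  nlinarith

end Cfsg.Agent.Lib.Helper2.Dk
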