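import Cfsg.Agent.Lib.Helper2.Dk7a
import Cfsg.Agent.Lib.Helper2.Dk7b

set_option autoImplicit false

/-! Dickson project, part 7c: preparations for the class equation. -/

namespace Cfsg.Agent.Lib.Helper2.Dk

open Matrix Cfsg.Agent.Lib.Helper2.SL2

variable {F : Type*} [Field F]

theorem trace_sq_iff_of_mem_Bor {h : Matrix.SpecialLinearGroup (Fin 2) F} (hB : h ∈ Bor F) :
    (h 0 0 + h 1 1) ^ 2 = 4 ↔ h 0 0 ^ 2 = 1 := by
  have hd := diag_mul_of_mem_Bor hB
  constructor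
  · intro h4
    have h1 : (h 0 0 - h 1 1) ^ 2 = 0 := by linear_combination h4 - 4 * hd
    have h2 : h 0 0 = h 1 1 := by
      have := pow_eq_zero_iff (two_ne_zero) |>.mp h1
      linear_combination this
    rw [pow_two]; nth_rewrite 2 [h2]; exact hd
  · intro h1
    have hne : h 0 0 ≠ 0 := by
      intro h0; rw [h0] at hd; simp at hd
    have h2 : h 0 0 = h 1 1 := by
      apply mul_left_cancel₀ hne
      rw [hd, ← pow_two, h1]
    rw [← h2]; linear_combination 4 * h1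

variable (L : Subgroup (Matrix.SpecialLinearGroup (Fin 2) F))

theorem card_ZL_le [Finite F] : Nat.card ↥(L ⊓ ZG F) ≤ 2 := by
  have h1 : Nat.card ↥(L ⊓ ZG F) ≤ Nat.card ↥(ZG F) := Subgroup.card_le_of_le inf_le_right
  have h2 : Nat.card ↥(ZG F) ≤ 2 := by
    have e : ((ZG F : Subgroup _) : Set (Matrix.SpecialLinearGroup (Fin 2) F)) = {1, -1} := by
      ext g; simp [ZG]
    have : Nat.card ↥(ZG F) = ((ZG F : Subgroup _) : Set (Matrix.SpecialLinearGroup (Fin 2) F)).ncard :=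
      Nat.card_coe_set_eq _
    rw [this, e]
    have := Set.ncard_insert_le (1 : Matrix.SpecialLinearGroup (Fin 2) F) {-1}
    rw [Set.ncard_singleton] at this
    exact this
  omega

theorem card_ZL_pos [Finite F] : 0 < Nat.card ↥(L ⊓ ZG F) := Nat.card_pos

theorem three_le_card_UL [Finite F] {p : ℕ} [Fact p.Prime] [CharP F p] (hp : p ≠ 2)
    (hL1 : tt 1 ∈ L) : 3 ≤ Nat.card ↥(L ⊓ Uni F) := by
  have hP : IsPGroup p ↥(L ⊓ Uni F) := (isPGroup_Uni p).to_le inf_le_right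
  have : Nontrivial ↥(L ⊓ Uni F) := by
    refine ⟨⟨⟨tt 1, hL1, tt_mem_Uni 1⟩, 1, ?_⟩⟩
    intro h
    have := congrArg Subtype.val h
    simp only [Subgroup.coe_one] at this
    exact one_ne_zero ((tt_eq_one_iff (1 : F)).mp this)
  obtain ⟨n, hn, hcard⟩ := (IsPGroup.nontrivial_iff_card hP).mp inferInstance
  have hp2 : 2 ≤ p := (Fact.out : p.Prime).two_le
  have hp3 : 3 ≤ p := by omega
  rw [hcard]
  calc 3 ≤ p := hp3
    _ = p ^ 1 := (pow_one p).symm
    _ ≤ p ^ n := Nat.pow_le_pow_right (by omega) hn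

/-- either `L = B ∪ U x B`, or `L` is at least as big as `B`, `U x B` and `U y B` together -/
theorem index_cases [Finite F] {x : Matrix.SpecialLinearGroup (Fin 2) F} (hx : x ∈ L)
    (hxB : x ∉ Bor F) :
    ((∀ g ∈ L, g ∈ Bor F ∨ g ∈ UxB L x) ∧
      Nat.card L = (1 + Nat.card ↥(L ⊓ Uni F)) * Nat.card ↥(L ⊓ Bor F)) ∨
    (1 + 2 * Nat.card ↥(L ⊓ Uni F)) * Nat.card ↥(L ⊓ Bor F) ≤ Nat.card L := by
  classical
  have hfin : ∀ s : Set (Matrix.SpecialLinearGroup (Fin 2) F), s.Finite := fun s => Set.toFinite s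
  have cB : ((L ⊓ Bor F : Subgroup _) : Set (Matrix.SpecialLinearGroup (Fin 2) F)).ncard =
      Nat.card ↥(L ⊓ Bor F) := (Nat.card_coe_set_eq _).symm
  have cL : ((L : Subgroup _) : Set (Matrix.SpecialLinearGroup (Fin 2) F)).ncard =
      Nat.card L := (Nat.card_coe_set_eq _).symm
  have cX : (UxB L x).ncard = Nat.card ↥(L ⊓ Uni F) * Nat.card ↥(L ⊓ Bor F) := by
    rw [← Nat.card_coe_set_eq]; exact card_UxB hxB
  have dBX : Disjoint ((L ⊓ Bor F : Subgroup _) : Set (Matrix.SpecialLinearGroup (Fin 2) F))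
      (UxB L x) := by
    rw [Set.disjoint_left]
    intro g hg hg'
    exact UxB_disjoint_Bor hxB hg' hg.2
  by_cases hall : ∀ g ∈ L, g ∈ Bor F ∨ g ∈ UxB L x
  · left
    refine ⟨hall, ?_⟩
    have e : ((L : Subgroup _) : Set (Matrix.SpecialLinearGroup (Fin 2) F)) =
        ((L ⊓ Bor F : Subgroup _) : Set _) ∪ UxB L x := by
      ext g
      constructor
      · intro hg
        rcases hall g hg with h | h
        · left; exact ⟨hg, h⟩
        · right; exact h
      · rintro (h | h)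
        · exact h.1
        · exact UxB_subset hx h
    rw [← cL, e, Set.ncard_union_eq dBX (hfin _) (hfin _), cB, cX]; ring
  · right
    push Not at hall
    obtain ⟨y, hy, hyB, hyX⟩ := hall
    have cY : (UxB L y).ncard = Nat.card ↥(L ⊓ Uni F) * Nat.card ↥(L ⊓ Bor F) := by
      rw [← Nat.card_coe_set_eq]; exact card_UxB hyB
    have dBY : Disjoint ((L ⊓ Bor F : Subgroup _) : Set (Matrix.SpecialLinearGroup (Fin 2) F))
        (UxB L y) := by
      rw [Set.disjoint_left]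
      intro g hg hg'
      exact UxB_disjoint_Bor hyB hg' hg.2
    have dXY : Disjoint (UxB L x) (UxB L y) := by
      rw [Set.disjoint_left]
      intro g hg hg'
      apply hyX
      obtain ⟨u, hu, b, hb, rfl⟩ := hg'
      -- y = u⁻¹ * g * b⁻¹
      have : y = u⁻¹ * (u * y * b) * b⁻¹ := by group
      rw [this]
      obtain ⟨u', hu', b', hb', e⟩ := hg
      rw [e]
      exact ⟨u⁻¹ * u', (L ⊓ Uni F).mul_mem ((L ⊓ Uni F).inv_mem hu) hu', b' * b⁻¹,
        (L ⊓ Bor F).mul_mem hb' ((L ⊓ Bor F).inv_mem hb), by group⟩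
    have hsub : ((L ⊓ Bor F : Subgroup _) : Set _) ∪ UxB L x ∪ UxB L y ⊆
        ((L : Subgroup _) : Set (Matrix.SpecialLinearGroup (Fin 2) F)) := by
      rintro g ((h | h) | h)
      · exact h.1
      · exact UxB_subset hx h
      · exact UxB_subset hy h
    have h1 := Set.ncard_le_ncard hsub (hfin _)
    rw [Set.ncard_union_eq (Set.disjoint_union_left.mpr ⟨dBY, dXY⟩) (hfin _) (hfin _),
      Set.ncard_union_eq dBX (hfin _) (hfin _), cB, cX, cY, cL] at h1
    calc (1 + 2 * Nat.card ↥(L ⊓ Uni F)) * Nat.card ↥(L ⊓ Bor F)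
        = Nat.card ↥(L ⊓ Bor F) + Nat.card ↥(L ⊓ Uni F) * Nat.card ↥(L ⊓ Bor F) +
          Nat.card ↥(L ⊓ Uni F) * Nat.card ↥(L ⊓ Bor F) := by ring
      _ ≤ Nat.card L := h1

variable {L}

/-- the numerical data of the class of a semisimple element -/
theorem classData_of [Finite F] {a : Matrix.SpecialLinearGroup (Fin 2) F} (haL : a ∈ L)
    (htr : (a 0 0 + a 1 1) ^ 2 ≠ 4) :
    ClassData (Nat.card L) (Nat.card ↥(L ⊓ ZG F)) (cls L a).ncard (Nat.card (cen L a))
      (Nat.card (ncen L a)) := by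
  obtain ⟨a1, a2⟩ := trace_ne_of_ne htr
  have haZ : a ∉ ZG F := not_mem_ZG_iff.mpr ⟨a1, a2⟩
  refine ⟨Subgroup.card_dvd_of_le ZL_le_cen, ?_, Subgroup.card_dvd_of_le cen_le_ncen,
    card_ncen_le htr haL, ?_⟩
  · -- strict inequality
    have hss : ((L ⊓ ZG F : Subgroup _) : Set (Matrix.SpecialLinearGroup (Fin 2) F)) ⊂
        (cen L a : Set _) := by
      refine ⟨fun g hg => ZL_le_cen hg, fun hsub => ?_⟩
      exact haZ (hsub (self_mem_cen haL)).2
    have := Set.ncard_lt_ncard hss (Set.toFinite _)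
    rwa [← Nat.card_coe_set_eq, ← Nat.card_coe_set_eq] at this
  · rw [← Nat.card_coe_set_eq]
    exact card_cls haZ

/-- a union of classes is empty, one class, or contains two disjoint classes -/
theorem phi_classes {Φ : Set (Matrix.SpecialLinearGroup (Fin 2) F)} (hΦL : Φ ⊆ L)
    (hΦZ : ∀ g ∈ Φ, g ∉ ZG F) (hΦc : ∀ a ∈ Φ, cls L a ⊆ Φ) :
    Φ = ∅ ∨ ∃ a ∈ Φ, (Φ = cls L a ∨ ∃ a₂ ∈ Φ, Disjoint (cls L a) (cls L a₂)) := by
  by_cases hne : Φ = ∅
  · left; exact hne
  right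
  obtain ⟨a, ha⟩ := Set.nonempty_iff_ne_empty.mpr hne
  refine ⟨a, ha, ?_⟩
  by_cases hsub : Φ ⊆ cls L a
  · left; exact Set.Subset.antisymm hsub (hΦc a ha)
  right
  obtain ⟨a₂, ha₂, hna⟩ := Set.not_subset.mp hsub
  refine ⟨a₂, ha₂, ?_⟩
  rw [Set.disjoint_left]
  intro g hg hg'
  exact hna (cls_disjoint hg hg' (hΦL ha₂) (hΦZ a₂ ha₂) (hΦZ a ha))

end Cfsg.Agent.Lib.Helper2.Dk
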