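import Cfsg.Agent.Lib.Helper2.Dk7c

set_option autoImplicit false

/-! Dickson project, part 7d: the partition of `L` into classes. -/

namespace Cfsg.Agent.Lib.Helper2.Dk

open Matrix Cfsg.Agent.Lib.Helper2.SL2

variable {F : Type*} [Field F]

/-- the trace condition satisfied by the elements of the exceptional group -/
def TrProp (g : Matrix.SpecialLinearGroup (Fin 2) F) : Prop :=
  (g 0 0 + g 1 1) ^ 2 = 4 ∨ g 0 0 + g 1 1 = 0 ∨
    (g 0 0 + g 1 1) ^ 4 - 3 * (g 0 0 + g 1 1) ^ 2 + 1 = 0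

variable (L : Subgroup (Matrix.SpecialLinearGroup (Fin 2) F))

/-- the remainder set: non-central elements of `L` outside the unipotent class and `S` -/
def phiSet (S : Set (Matrix.SpecialLinearGroup (Fin 2) F)) :
    Set (Matrix.SpecialLinearGroup (Fin 2) F) :=
  {g | g ∈ L ∧ g ∉ ZG F ∧ g ∉ cls L (tt 1) ∧ g ∉ S}

variable {L}

theorem card_partition [Finite F] {S : Set (Matrix.SpecialLinearGroup (Fin 2) F)} (hSL : S ⊆ L)
    (hSZ : ∀ g ∈ S, g ∉ ZG F) (hSP : ∀ g ∈ S, g ∉ cls L (tt 1)) :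
    Nat.card L = Nat.card ↥(L ⊓ ZG F) + (cls L (tt 1)).ncard + S.ncard + (phiSet L S).ncard := by
  classical
  have hfin : ∀ s : Set (Matrix.SpecialLinearGroup (Fin 2) F), s.Finite := fun s => Set.toFinite s
  have e : ((L : Subgroup _) : Set (Matrix.SpecialLinearGroup (Fin 2) F)) =
      ((L ⊓ ZG F : Subgroup _) : Set _) ∪ cls L (tt 1) ∪ S ∪ phiSet L S := by
    ext g
    constructor
    · intro hg
      by_cases h1 : g ∈ ZG F
      · left; left; left; exact ⟨hg, h1⟩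
      by_cases h2 : g ∈ cls L (tt 1)
      · left; left; right; exact h2
      by_cases h3 : g ∈ S
      · left; right; exact h3
      · right; exact ⟨hg, h1, h2, h3⟩
    · rintro (((h | h) | h) | h)
      · exact h.1
      · exact cls_subset h
      · exact hSL h
      · exact h.1
  have d1 : Disjoint ((L ⊓ ZG F : Subgroup _) : Set (Matrix.SpecialLinearGroup (Fin 2) F))
      (cls L (tt 1)) := by
    rw [Set.disjoint_left]; intro g hg hg'; exact not_mem_ZG_of_mem_cls hg' hg.2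
  have d2 : Disjoint (((L ⊓ ZG F : Subgroup _) : Set (Matrix.SpecialLinearGroup (Fin 2) F)) ∪
      cls L (tt 1)) S := by
    rw [Set.disjoint_left]
    rintro g (hg | hg) hg'
    · exact hSZ g hg' hg.2
    · exact hSP g hg' hg
  have d3 : Disjoint (((L ⊓ ZG F : Subgroup _) : Set (Matrix.SpecialLinearGroup (Fin 2) F)) ∪
      cls L (tt 1) ∪ S) (phiSet L S) := by
    rw [Set.disjoint_left]
    rintro g ((hg | hg) | hg) hg'
    · exact hg'.2.1 hg.2
    · exact hg'.2.2.1 hg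
    · exact hg'.2.2.2 hg
  calc Nat.card L = ((L : Subgroup _) : Set (Matrix.SpecialLinearGroup (Fin 2) F)).ncard :=
        Nat.card_coe_set_eq _
    _ = _ := by
      rw [e, Set.ncard_union_eq d3 (hfin _) (hfin _), Set.ncard_union_eq d2 (hfin _) (hfin _),
        Set.ncard_union_eq d1 (hfin _) (hfin _), ← Nat.card_coe_set_eq]
      rfl

/-- trichotomy for the remainder set -/
theorem phi_data [Finite F] {p : ℕ} [Fact p.Prime] [CharP F p] (hp : p ≠ 2) (hL1 : tt 1 ∈ L)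
    {S : Set (Matrix.SpecialLinearGroup (Fin 2) F)}
    (hSc : ∀ a ∈ L, a ∉ ZG F → a ∉ S → ∀ g ∈ cls L a, g ∉ S) :
    (phiSet L S).ncard = 0 ∨
    (∃ a ∈ L, (a 0 0 + a 1 1) ^ 2 ≠ 4 ∧ phiSet L S = cls L a ∧
      ClassData (Nat.card L) (Nat.card ↥(L ⊓ ZG F)) (phiSet L S).ncard (Nat.card (cen L a))
        (Nat.card (ncen L a))) ∨
    (∃ K α ν K₂ α₂ ν₂ : ℕ, ClassData (Nat.card L) (Nat.card ↥(L ⊓ ZG F)) K α ν ∧
      ClassData (Nat.card L) (Nat.card ↥(L ⊓ ZG F)) K₂ α₂ ν₂ ∧ K + K₂ ≤ (phiSet L S).ncard) := by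
  classical
  have h2 := two_ne_zero_of_char (F := F) p hp
  have hfin : ∀ s : Set (Matrix.SpecialLinearGroup (Fin 2) F), s.Finite := fun s => Set.toFinite s
  have htr : ∀ a ∈ phiSet L S, (a 0 0 + a 1 1) ^ 2 ≠ 4 := by
    intro a ha h4
    exact ha.2.2.1 (mem_cls_tt_of_trace L hp hL1 ha.1 ha.2.1 h4)
  have hΦc : ∀ a ∈ phiSet L S, cls L a ⊆ phiSet L S := by
    intro a ha g hg
    refine ⟨cls_subset hg, not_mem_ZG_of_mem_cls hg, ?_, hSc a ha.1 ha.2.1 ha.2.2.2 g hg⟩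
    intro hgP
    exact ha.2.2.1 (cls_disjoint hgP hg ha.1 ha.2.1 (tt_one_not_mem_ZG h2))
  rcases phi_classes (L := L) (Φ := phiSet L S) (fun g hg => hg.1) (fun g hg => hg.2.1) hΦc with
    h | ⟨a, ha, h | ⟨a₂, ha₂, hd⟩⟩
  · left; rw [h]; exact Set.ncard_empty _
  · right; left
    refine ⟨a, ha.1, htr a ha, h, ?_⟩
    have := classData_of ha.1 (htr a ha)
    rw [← h] at this
    exact this
  · right; right
    refine ⟨_, _, _, _, _, _, classData_of ha.1 (htr a ha), classData_of ha₂.1 (htr a₂ ha₂), ?_⟩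
    rw [← Set.ncard_union_eq hd (hfin _) (hfin _)]
    apply Set.ncard_le_ncard _ (hfin _)
    rintro g (hg | hg)
    · exact hΦc a ha hg
    · exact hΦc a₂ ha₂ hg

end Cfsg.Agent.Lib.Helper2.Dk
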