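import Cfsg.Agent.Lib.Helper2.Dk7d

set_option autoImplicit false

/-! Dickson project, part 7e: the class equation and its consequences. -/

namespace Cfsg.Agent.Lib.Helper2.Dk

open Matrix Cfsg.Agent.Lib.Helper2.SL2

variable {F : Type*} [Field F]

theorem trace_zero_of_pow4 (h2 : (2 : F) ≠ 0) {c : Matrix.SpecialLinearGroup (Fin 2) F}
    (h4 : c ^ 4 = 1) (hc : c ∉ ZG F) : c 0 0 + c 1 1 = 0 := by
  have e : (c * c) * (c * c) = 1 := by rw [← h4]; simp [pow_succ, mul_assoc]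
  rcases eq_one_or_neg_one_of_mul_self h2 (c * c) e with h | h
  · exfalso
    exact hc (eq_one_or_neg_one_of_mul_self h2 c h)
  · obtain ⟨h00, h01, h10, h11⟩ := entries_of_eq h
    simp only [mul00, mul01, mul10, mul11, neg00, neg01, neg10, neg11, one00, one01, one10,
      one11] at h00 h01 h10 h11
    have hd := det2 c
    grind

variable {L : Subgroup (Matrix.SpecialLinearGroup (Fin 2) F)}

theorem trace_sq_ne_of_mem_cls_gen {h₁ : Matrix.SpecialLinearGroup (Fin 2) F} (hB : h₁ ∈ Bor F)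
    (hd : h₁ 0 0 ^ 2 ≠ 1) {g : Matrix.SpecialLinearGroup (Fin 2) F} (hg : g ∈ cls L h₁) :
    (g 0 0 + g 1 1) ^ 2 ≠ 4 := by
  obtain ⟨c, hc, hcZ, htr⟩ := exists_trace_of_mem_cls hg
  rw [← htr]
  have hcB := (cen_le_Bor hB hd hc).2
  intro h4
  have h1 := (trace_sq_iff_of_mem_Bor hcB).mp h4
  apply hcZ
  apply cen_inter_PU hB hd hc
  refine ⟨mem_Bor.mp hcB, ?_⟩
  have hdm := diag_mul_of_mem_Bor hcB
  have hne : c 0 0 ≠ 0 := by
    intro h0; rw [h0] at hdm; simp at hdm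
  apply mul_left_cancel₀ hne
  rw [hdm, ← pow_two, h1]

theorem pow_card_cen [Finite F] {a c : Matrix.SpecialLinearGroup (Fin 2) F} (hc : c ∈ cen L a) :
    c ^ Nat.card (cen L a) = 1 := by
  have h := pow_card_eq_one' (G := ↥(cen L a)) (x := ⟨c, hc⟩)
  have h' := congrArg Subtype.val h
  rw [SubgroupClass.coe_pow, Subgroup.coe_one] at h'
  exact h'

/-- the case where the diagonal group of `L ⊓ Bor` is `±1` -/
theorem count_noC [Finite F] {p : ℕ} [Fact p.Prime] [CharP F p] (hp : p ≠ 2) (hL1 : tt 1 ∈ L)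
    {N : ℕ} (hN : Nat.card L = Nat.card ↥(L ⊓ Bor F) * N)
    (hbig : 1 + 2 * Nat.card ↥(L ⊓ Uni F) ≤ N)
    (hBV : L ⊓ Bor F = L ⊓ PU F) : False := by
  classical
  have h2 := two_ne_zero_of_char (F := F) p hp
  have hv : Nat.card ↥(L ⊓ PU F) = Nat.card ↥(L ⊓ Uni F) * Nat.card ↥(L ⊓ ZG F) := card_VL L p hp
  have ht3 := three_le_card_UL L hp hL1
  have hz0 := card_ZL_pos L
  have hP := card_cls (L := L) (tt_one_not_mem_ZG h2)
  rw [ncen_tt_one L hL1, cen_tt_one, hBV, hv, Nat.card_coe_set_eq] at hP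
  have hsum := card_partition (L := L) (S := ∅) (Set.empty_subset _) (fun g hg => absurd hg (by simp))
    (fun g hg => absurd hg (by simp))
  have hphi := phi_data (L := L) hp hL1 (S := ∅) (fun a _ _ _ g _ => by simp)
  rw [hBV, hv] at hN
  -- abbreviations
  obtain ⟨nL, hnL⟩ : ∃ n, n = Nat.card L := ⟨_, rfl⟩
  obtain ⟨t, ht⟩ : ∃ n, n = Nat.card ↥(L ⊓ Uni F) := ⟨_, rfl⟩
  obtain ⟨z, hz⟩ : ∃ n, n = Nat.card ↥(L ⊓ ZG F) := ⟨_, rfl⟩
  obtain ⟨P, hPd⟩ : ∃ n, n = (cls L (tt 1)).ncard := ⟨_, rfl⟩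
  obtain ⟨φ, hφ⟩ : ∃ n, n = (phiSet L ∅).ncard := ⟨_, rfl⟩
  rw [← hnL, ← ht, ← hz] at hN
  rw [← hnL, ← ht, ← hz, ← hPd] at hP
  rw [← hnL, ← hz, ← hPd, ← hφ, Set.ncard_empty] at hsum
  rw [← hnL, ← hz, ← hφ] at hphi
  rw [← ht] at ht3 hbig
  rw [← hz] at hz0
  have hnL' : nL = N * t * z := by rw [hN]; ring
  have hPN : P = N * (t - 1) * z := by
    have e1 : t * z - z = (t - 1) * z := by rw [Nat.sub_mul, one_mul]
    have : P * (t * z) = (N * (t - 1) * z) * (t * z) := by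
      rw [hP, hN, e1]; ring
    exact Nat.eq_of_mul_eq_mul_right (by positivity) this
  have hN1 : 1 ≤ N := by omega
  have hφ1 : φ = (N - 1) * z := by
    apply arith_phi1 (t := t) (e := 1) (S := 0) (by omega) le_rfl hN1
    · rw [mul_one, ← hnL', hsum, hPN]
    · simp
  rw [hnL'] at hphi
  rcases hphi with h0 | ⟨a, _, _, _, cd⟩ | ⟨K, α, ν, K₂, α₂, ν₂, cd, cd₂, hKK⟩
  · rw [hφ1] at h0
    have : N - 1 = 0 := by
      rcases Nat.mul_eq_zero.mp h0 with h | h
      · exact h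
      · omega
    omega
  · obtain ⟨h3, h4⟩ := arith_noC_class ht3 hz0 hN1 cd (le_of_eq hφ1)
    have := arith_noC_one hz0 hN1 h4 hφ1
    omega
  · have hK1 : K ≤ (N - 1) * z := by omega
    have hK2 : K₂ ≤ (N - 1) * z := by omega
    obtain ⟨_, h4⟩ := arith_noC_class ht3 hz0 hN1 cd hK1
    obtain ⟨_, h4'⟩ := arith_noC_class ht3 hz0 hN1 cd₂ hK2
    exact arith_noC_two hz0 hN1 h4 h4' (by omega)

/-- the case where the diagonal group of `L ⊓ Bor` is bigger than `±1` -/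
theorem count_C [Finite F] {p : ℕ} [Fact p.Prime] [CharP F p] (hp : p ≠ 2) (hL1 : tt 1 ∈ L)
    {N : ℕ} (hN : Nat.card L = Nat.card ↥(L ⊓ Bor F) * N)
    (hbig : 1 + 2 * Nat.card ↥(L ⊓ Uni F) ≤ N)
    {h₁ : Matrix.SpecialLinearGroup (Fin 2) F} (hL₁ : h₁ ∈ L) (hB₁ : h₁ ∈ Bor F)
    (hd : h₁ 0 0 ^ 2 ≠ 1) (hgen : ∀ h ∈ L ⊓ Bor F, ∃ k : ℕ, h 0 0 = (h₁ 0 0) ^ k) :
    Nat.card ↥(L ⊓ Uni F) = 3 ∧ Nat.card L = 120 ∧ ∀ g ∈ L, TrProp g := by
  classical
  have h2 := two_ne_zero_of_char (F := F) p hp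
  have hv : Nat.card ↥(L ⊓ PU F) = Nat.card ↥(L ⊓ Uni F) * Nat.card ↥(L ⊓ ZG F) := card_VL L p hp
  have ht3 := three_le_card_UL L hp hL1
  have hz0 := card_ZL_pos L
  have hz2 := card_ZL_le L
  have hbte := card_BL L
  have hCe := card_cen_gen h2 hL₁ hB₁ hd hgen
  have htr₁ : (h₁ 0 0 + h₁ 1 1) ^ 2 ≠ 4 := fun h => hd ((trace_sq_iff_of_mem_Bor hB₁).mp h)
  obtain ⟨h₁1, h₁2⟩ := trace_ne_of_ne htr₁
  have h₁Z : h₁ ∉ ZG F := not_mem_ZG_iff.mpr ⟨h₁1, h₁2⟩
  have cd₁ := classData_of hL₁ htr₁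
  have hβ2 := card_cen_le hL1 hB₁ hd
  have hP := card_cls (L := L) (tt_one_not_mem_ZG h2)
  rw [ncen_tt_one L hL1, cen_tt_one, hv, Nat.card_coe_set_eq] at hP
  have hsum := card_partition (L := L) (S := cls L h₁) cls_subset
    (fun g hg => not_mem_ZG_of_mem_cls hg)
    (fun g hg hg' => trace_sq_ne_of_mem_cls_gen hB₁ hd hg (trace_sq_of_mem_cls_tt L hg'))
  have hphi := phi_data (L := L) hp hL1 (S := cls L h₁)
    (fun a haL haZ ha g hg hg' => ha (cls_disjoint hg' hg haL haZ h₁Z))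
  -- abbreviations
  obtain ⟨nL, hnL⟩ : ∃ n, n = Nat.card L := ⟨_, rfl⟩
  obtain ⟨t, ht⟩ : ∃ n, n = Nat.card ↥(L ⊓ Uni F) := ⟨_, rfl⟩
  obtain ⟨z, hz⟩ : ∃ n, n = Nat.card ↥(L ⊓ ZG F) := ⟨_, rfl⟩
  obtain ⟨b, hb⟩ : ∃ n, n = Nat.card ↥(L ⊓ Bor F) := ⟨_, rfl⟩
  obtain ⟨e, he⟩ : ∃ n, n = Nat.card ↥(cen L h₁) := ⟨_, rfl⟩
  obtain ⟨ν₁, hν₁⟩ : ∃ n, n = Nat.card ↥(ncen L h₁) := ⟨_, rfl⟩
  obtain ⟨P, hPd⟩ : ∃ n, n = (cls L (tt 1)).ncard := ⟨_, rfl⟩
  obtain ⟨S, hSd⟩ : ∃ n, n = (cls L h₁).ncard := ⟨_, rfl⟩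
  obtain ⟨φ, hφ⟩ : ∃ n, n = (phiSet L (cls L h₁)).ncard := ⟨_, rfl⟩
  rw [← hCe, ← he, ← ht, ← hb] at hbte
  rw [← hnL, ← hb] at hN
  rw [← hnL, ← ht, ← hz, ← hPd, ← hb] at hP
  rw [← hnL, ← hz, ← hPd, ← hφ, ← hSd] at hsum
  rw [← hnL, ← hz, ← hφ] at hphi
  rw [← hnL, ← hz, ← hSd, ← he, ← hν₁] at cd₁
  rw [← he, ← hz, ← ht] at hβ2
  rw [← ht] at ht3 hbig ⊢
  rw [← hz] at hz0 hz2
  rw [← hnL]
  obtain ⟨d, ε, hd2, hε, hed, hSε⟩ := classData_param cd₁ (by rw [hnL]; exact Nat.card_pos) hz0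
  have hnL' : nL = N * t * d * z := by rw [hN, hbte, hed]; ring
  have hN1 : 1 ≤ N := by omega
  have ht1 : 1 ≤ t := by omega
  have hd1 : 1 ≤ d := by omega
  have hPN : P = N * (t - 1) * z := by
    have e1 : t * z - z = (t - 1) * z := by rw [Nat.sub_mul, one_mul]
    have : P * b = (N * (t - 1) * z) * b := by
      rw [hP, hN, e1]; ring
    have hb0 : 0 < b := by rw [hb]; exact Nat.card_pos
    exact Nat.eq_of_mul_eq_mul_right hb0 this
  have hdt : d ≤ t - 1 := by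
    rw [hed] at hβ2
    have : z * d ≤ z * (t - 1) := by rw [mul_comm z d]; exact hβ2
    exact Nat.le_of_mul_le_mul_left this hz0
  have hsum' : N * t * d * z = z + N * (t - 1) * z + S + φ := by
    rw [← hnL', hsum, hPN]
  rw [hnL'] at hphi hSε
  rcases hε with rfl | rfl
  · -- `ε = 1` is impossible
    exfalso
    have hS1 : S = N * t * z * (d - 1) := by
      have : d * S = d * (N * t * z * (d - 1)) := by
        calc d * S = S * 1 * d := by ring
          _ = N * t * d * z * (d - 1) := hSε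
          _ = d * (N * t * z * (d - 1)) := by ring
      exact Nat.eq_of_mul_eq_mul_left (by omega) this
    have hφ1 := arith_phi1 ht1 hd1 hN1 hsum' hS1
    rcases hphi with h0 | ⟨a, _, _, _, cd⟩ | ⟨K, α, ν, K₂, α₂, ν₂, cd, cd₂, hKK⟩
    · rw [hφ1] at h0
      have : N - 1 = 0 := by
        rcases Nat.mul_eq_zero.mp h0 with h | h
        · exact h
        · omega
      omega
    · have := classData_four cd (by positivity) hz0
      apply arith_C_eps1 ht3 hd2 hz0 hN1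
      rw [← hφ1]; exact this
    · have := classData_four cd (by positivity) hz0
      apply arith_C_eps1 ht3 hd2 hz0 hN1
      rw [← hφ1]; omega
  · -- `ε = 2`
    have hS2 : 2 * S = N * t * z * (d - 1) := by
      have : d * (2 * S) = d * (N * t * z * (d - 1)) := by
        calc d * (2 * S) = S * 2 * d := by ring
          _ = N * t * d * z * (d - 1) := hSε
          _ = d * (N * t * z * (d - 1)) := by ring
      exact Nat.eq_of_mul_eq_mul_left (by omega) this
    have hφ2 := arith_phi2 ht1 hd1 hsum' hS2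
    have hφlt := arith_phi2_lt (e := d) ht3 hz0 hφ2
    rcases hphi with h0 | ⟨a, haL, htra, hΦa, cd⟩ | ⟨K, α, ν, K₂, α₂, ν₂, cd, cd₂, hKK⟩
    · exfalso
      have := arith_phi2_pos ht3 hd2 hN1 hz0 hφ2
      omega
    · rcases classData_cases cd (by positivity) hz0 with hle | ⟨d', hd', hαd', hKd'⟩
      · exfalso; omega
      · have heq := arith_phi2_single ht3 hz0 hd' hφ2 hKd'
        rcases arith_final N t d d' ht3 hd2 hdt hd' (Or.inr hbig) heq with h | ⟨h3, hd_2, hd'5, hN10⟩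
        · exfalso; omega
        · subst h3 hd_2 hd'5 hN10
          -- `z = 2`
          have hz_2 : z = 2 := by
            by_contra hne
            have hz1 : z = 1 := by omega
            rw [hz1] at hed
            have h1 := pow_card_cen (self_mem_cen hL₁ : h₁ ∈ cen L h₁)
            rw [← he, hed] at h1
            have h3 : h₁ * h₁ = 1 := by rw [← h1]; simp [pow_succ]
            exact h₁Z (eq_one_or_neg_one_of_mul_self h2 h₁ h3)
          subst hz_2
          refine ⟨rfl, by rw [hnL'], ?_⟩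
          intro g hg
          by_cases hgZ : g ∈ ZG F
          · left
            rcases hgZ with rfl | rfl
            · rw [one00, one11]; norm_num
            · rw [neg00, neg11, one00, one11]; norm_num
          by_cases hgP : g ∈ cls L (tt 1)
          · left; exact trace_sq_of_mem_cls_tt L hgP
          by_cases hgS : g ∈ cls L h₁
          · right; left
            obtain ⟨c, hc, hcZ, htr⟩ := exists_trace_of_mem_cls hgS
            rw [← htr]
            apply trace_zero_of_pow4 h2 _ hcZ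
            have := pow_card_cen hc
            rw [← he, hed] at this
            exact this
          · right; right
            have hgΦ : g ∈ phiSet L (cls L h₁) := ⟨hg, hgZ, hgP, hgS⟩
            rw [hΦa] at hgΦ
            obtain ⟨c, hc, hcZ, htr⟩ := exists_trace_of_mem_cls hgΦ
            rw [← htr]
            apply trace_of_pow5 _ hcZ
            have h10 := pow_card_cen hc
            rw [hαd'] at h10
            have e5 : c ^ 5 * c ^ 5 = 1 := by rw [← pow_add]; exact h10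
            exact eq_one_or_neg_one_of_mul_self h2 _ e5
    · exfalso
      have h1 := classData_four cd (by positivity) hz0
      have h2' := classData_four cd₂ (by positivity) hz0
      omega

/-- **Main counting theorem.**  A subgroup `L` of `SL(2,F)` (`F` finite of odd characteristic)
containing `tt 1` and not contained in the Borel subgroup is either "doubly transitive"
(`L = B ∪ U x B`) or exceptional of order `120`. -/
theorem count_main [Finite F] {p : ℕ} [Fact p.Prime] [CharP F p] (hp : p ≠ 2) (hL1 : tt 1 ∈ L)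
    {x : Matrix.SpecialLinearGroup (Fin 2) F} (hxL : x ∈ L) (hxB : x ∉ Bor F) :
    (∀ g ∈ L, g ∈ Bor F ∨ g ∈ UxB L x) ∨
    (Nat.card ↥(L ⊓ Uni F) = 3 ∧ Nat.card L = 120 ∧ ∀ g ∈ L, TrProp g) := by
  rcases index_cases L hxL hxB with ⟨h, _⟩ | hbig
  · left; exact h
  right
  obtain ⟨N, hN⟩ : Nat.card ↥(L ⊓ Bor F) ∣ Nat.card L := Subgroup.card_dvd_of_le inf_le_left
  have hb0 : 0 < Nat.card ↥(L ⊓ Bor F) := Nat.card_pos
  have hbig' : 1 + 2 * Nat.card ↥(L ⊓ Uni F) ≤ N := by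
    rw [hN, mul_comm] at hbig
    exact Nat.le_of_mul_le_mul_left hbig hb0
  obtain ⟨h₁, hh₁, hgen⟩ := exists_gen L
  by_cases hd : h₁ 0 0 ^ 2 = 1
  · exfalso
    apply count_noC hp hL1 hN hbig'
    apply le_antisymm
    · intro g hg
      refine ⟨hg.1, mem_Bor.mp hg.2, ?_⟩
      obtain ⟨k, hk⟩ := hgen g hg
      have h1 : g 0 0 ^ 2 = 1 := by rw [hk, ← pow_mul, mul_comm, pow_mul, hd, one_pow]
      have hdm := diag_mul_of_mem_Bor hg.2
      have hne : g 0 0 ≠ 0 := by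
        intro h0; rw [h0] at hdm; simp at hdm
      apply mul_left_cancel₀ hne
      rw [hdm, ← pow_two, h1]
    · exact inf_le_inf_left L PU_le_Bor
  · exact count_C hp hL1 hN hbig' hh₁.1 hh₁.2 hd hgen

end Cfsg.Agent.Lib.Helper2.Dk
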