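import Cfsg.Agent.Lib.Helper2.Dk8

set_option autoImplicit false

/-! Dickson project, part 9: the structure theorem. -/

namespace Cfsg.Agent.Lib.Helper2.Dk

open Matrix Cfsg.Agent.Lib.Helper2.SL2

variable {F : Type*} [Field F] {L : Subgroup (Matrix.SpecialLinearGroup (Fin 2) F)}

/-- **Dickson's structure theorem** (odd characteristic): a subgroup of `SL(2,F)` containing
`tt 1` and some `ss ν₀`, `ν₀ ≠ 0`, either contains all `tt μ`, `ss μ` for `μ` in a subfield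
containing `ν₀`, or is exceptional of order `120`. -/
theorem dickson_struct [Finite F] {p : ℕ} [Fact p.Prime] [CharP F p] (hp : p ≠ 2)
    (hL1 : tt 1 ∈ L) {ν₀ : F} (hν₀ : ν₀ ≠ 0) (hs : ss ν₀ ∈ L) :
    (∃ E : Subfield F, ν₀ ∈ E ∧ ∀ μ ∈ E, tt μ ∈ L ∧ ss μ ∈ L) ∨
    (Nat.card ↥(L ⊓ Uni F) = 3 ∧ Nat.card L = 120 ∧ ∀ g ∈ L, TrProp g) := by
  -- an element of `L` mapping `∞` to `0`
  obtain ⟨x, hxL, hxU⟩ := exists_conj_mem_Uni hp L one_ne_zero hL1 (ss ν₀) hs 1
    (by rw [pow_one]; exact ss_pow_char p ν₀)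
  have hx11 : x 1 1 = 0 := by
    have h1 := hxU.2.1
    rw [(conj_ss x ν₀).2.2.1] at h1
    rcases mul_eq_zero.mp h1 with h | h
    · exact absurd h hν₀
    · exact pow_eq_zero_iff (two_ne_zero) |>.mp h
  have hx10 : x 1 0 ≠ 0 := by
    intro h0
    have := det2 x
    rw [hx11, h0] at this
    simp at this
  have hg₀L : x⁻¹ ∈ L := L.inv_mem hxL
  have hg₀B : x⁻¹ ∉ Bor F := by
    rw [mem_Bor, inv10]; exact neg_ne_zero.mpr hx10
  rcases count_main hp hL1 hg₀L hg₀B with h | h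
  · left
    apply hua_field _ hν₀ hs hL1 hp
    intro g hg hc
    rcases h g hg with hB | hX
    · exact absurd (mem_Bor.mp hB) hc
    · obtain ⟨u, hu, b, hb, rfl⟩ := hX
      have hb10 := mem_Bor.mp hb.2
      have hu' := eq_tt_of_mem_Uni hu.2
      have e00 : (u * x⁻¹ * b) 0 0 = u 0 1 * (-x 1 0) * b 0 0 := by
        rw [mul00, mul00, mul01, inv00, inv10, inv01, inv11, hb10, hx11, hu.2.2.1]; ring
      have e10 : (u * x⁻¹ * b) 1 0 = (-x 1 0) * b 0 0 := by
        rw [mul10, mul10, mul11, inv00, inv10, inv01, inv11, hb10, hx11, hu.2.1, hu.2.2.2]; ring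
      have hne : (-x 1 0) * b 0 0 ≠ 0 := by rw [← e10]; exact hc
      rw [e00, e10, mul_assoc, mul_div_assoc, div_self hne, mul_one, ← hu']
      exact hu.1
  · right; exact h

end Cfsg.Agent.Lib.Helper2.Dk
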