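import Cfsg.Agent.Lib.Helper6.EqD.Defs
import Cfsg.Agent.Lib.Helper2.BGMain

/-! # S5958 FO-4 (helper2 for helper6): type B elements permute a decomposition -/

set_option autoImplicit false

namespace Cfsg.Agent.Lib.Helper6.EqD

open Module Polynomial Cfsg.Agent.Lib.Helper2.BG

section general
variable {F V : Type*} [Field F] [AddCommGroup V] [Module F V] [FiniteDimensional F V]

/-- an injective operator maps invariant subspaces onto themselves -/
lemma fo4_map_eq_of_inv {y : Module.End F V} (hinj : Function.Injective y) {W : Submodule F V}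
    (hW : Inv y W) : W.map y = W := by
  apply Submodule.eq_of_le_of_finrank_eq ((inv_iff_map_le y W).mp hW)
  exact (Submodule.equivMapOfInjective y hinj W).finrank_eq.symm

/-- peeling induction -/
lemma fo4_peel {y : Module.End F V} (hss : y.IsSemisimple) {P : F[X]} (hP0 : P ≠ 0) {d : ℕ}
    (hd : AllIrrDeg P d) (hPy : aeval y P = 0) (a m₀ : ℕ) (hdm : d ∣ m₀)
    (hbase : ∀ W : Submodule F V, Inv y W → finrank F W = m₀ →
      ∃ (ι : Type) (_ : Fintype ι) (D : ι → Submodule F V) (σ : Equiv.Perm ι), Dec y a W D σ) :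
    ∀ (t' : ℕ) (M : Submodule F V), Inv y M → finrank F M = m₀ * t' →
      ∃ (ι : Type) (_ : Fintype ι) (D : ι → Submodule F V) (σ : Equiv.Perm ι), Dec y a M D σ := by
  intro t'
  induction t' with
  | zero =>
    intro M _ hM
    rw [mul_zero] at hM
    have hM0 : M = ⊥ := Submodule.finrank_eq_zero.mp hM
    subst hM0
    exact ⟨Fin 0, inferInstance, fun _ => ⊥, 1, Dec.empty a _ _⟩
  | succ t' ih =>
    intro M hMinv hM
    have hs : finrank F (⊥ : Submodule F V) + (m₀ / d) * d ≤ finrank F M := by
      rw [finrank_bot, zero_add, Nat.div_mul_cancel hdm, hM]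
      exact Nat.le_mul_of_pos_right _ (Nat.succ_pos _)
    obtain ⟨W, hW, _, hWM, hWfr⟩ := exists_inv_extension hss hP0 hd hMinv
      (fun v _ => by rw [hPy]; rfl) (inv_bot y) bot_le (m₀ / d) hs
    rw [finrank_bot, zero_add, Nat.div_mul_cancel hdm] at hWfr
    obtain ⟨M', hM', hM'M, hdisj, hsup, hfr⟩ := exists_inv_compl_in hss hW hMinv hWM
    have hM'fr : finrank F M' = m₀ * t' := by
      rw [hM, hWfr, Nat.mul_succ] at hfr
      omega
    obtain ⟨ι, _, D, σ, h1⟩ := hbase W hW hWfr
    obtain ⟨κ, _, E, ρ, h2⟩ := ih M' hM' hM'fr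
    refine ⟨ι ⊕ κ, inferInstance, Sum.elim D E, Equiv.sumCongr σ ρ, ?_⟩
    rw [← hsup]
    exact Dec.glue h1 h2 hdisj

/-- linear independence of the orbit of a nonzero vector under an operator with irreducible
annihilating polynomial -/
lemma fo4_linearIndependent {y : Module.End F V} {g : F[X]} (hg : Irreducible g)
    (hgy : aeval y g = 0) {r : ℕ} (hr : g.natDegree = r) {e : V} (he : e ≠ 0) :
    LinearIndependent F (fun i : Fin r => (y ^ (i : ℕ)) e) := by
  rw [Fintype.linearIndependent_iff]
  intro c hc
  set f : F[X] := ∑ i : Fin r, C (c i) * X ^ (i : ℕ) with hf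
  have hfe : aeval y f e = 0 := by
    rw [hf, map_sum, LinearMap.sum_apply, ← hc]
    apply Finset.sum_congr rfl
    intro i _
    rw [map_mul, aeval_C, map_pow, aeval_X, Module.End.mul_apply, Module.algebraMap_end_apply]
  have hf0 : f = 0 := by
    by_contra hne
    have hdeg : f.degree < r := Polynomial.degree_sum_fin_lt c
    have hnd : ¬ g ∣ f := by
      intro hdvd
      have h1 := Polynomial.natDegree_le_of_dvd hdvd hne
      have h2 : f.natDegree < r := (Polynomial.natDegree_lt_iff_degree_lt hne).mpr hdeg
      omega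
    obtain ⟨a, b, hab⟩ := (hg.coprime_iff_not_dvd).mpr hnd
    apply he
    have : aeval y (a * g + b * f) e = e := by rw [hab]; simp
    rw [← this, map_add, LinearMap.add_apply, map_mul, map_mul, hgy, mul_zero,
      LinearMap.zero_apply, zero_add, Module.End.mul_apply, hfe, map_zero]
  intro j
  have hcoeff : f.coeff (j : ℕ) = c j := by
    rw [hf, Polynomial.finset_sum_coeff]
    rw [Finset.sum_eq_single j]
    · rw [Polynomial.coeff_C_mul_X_pow, if_pos rfl]
    · intro i _ hij
      rw [Polynomial.coeff_C_mul_X_pow, if_neg]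
      intro h
      exact hij (Fin.ext h.symm)
    · intro h
      exact absurd (Finset.mem_univ j) h
  rw [← hcoeff, hf0, Polynomial.coeff_zero]

/-- invariant subspaces of dimension `r * b` are cyclically permuted sums of `r` pieces -/
lemma fo4_cyclic {r : ℕ} [hr : Fact r.Prime] (hrF : (r : F) ≠ 0) (z : F)
    (hz : ∀ b : F, b ^ r ≠ z) (y : Module.End F V) (hy : y ^ r = algebraMap F _ z) :
    ∃ σ : Equiv.Perm (Fin r), ∀ (b : ℕ) (M : Submodule F V), Inv y M → finrank F M = r * b →
      ∃ D : Fin r → Submodule F V, Dec y b M D σ := by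
  have hz0 : z ≠ 0 := by
    rintro rfl
    exact hz 0 (zero_pow hr.out.ne_zero)
  have hgirr : Irreducible (X ^ r - C z : F[X]) := X_pow_sub_C_irreducible_of_prime hr.out hz
  have hgdeg : (X ^ r - C z : F[X]).natDegree = r := Polynomial.natDegree_X_pow_sub_C
  have hgy : aeval y (X ^ r - C z : F[X]) = 0 := by
    rw [map_sub, map_pow, aeval_X, aeval_C, hy, sub_self]
  have hss : y.IsSemisimple :=
    Module.End.isSemisimple_of_squarefree_aeval_eq_zero (squarefree_X_pow_sub_C hrF hz0) hgy
  obtain ⟨r', hr'⟩ : ∃ r', r = r' + 1 := Nat.exists_eq_succ_of_ne_zero hr.out.ne_zero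
  subst hr'
  refine ⟨finRotate (r' + 1), ?_⟩
  intro b
  induction b with
  | zero =>
    intro M _ hM
    rw [mul_zero] at hM
    have hM0 : M = ⊥ := Submodule.finrank_eq_zero.mp hM
    subst hM0
    refine ⟨fun _ => ⊥, ?_⟩
    exact
      { finrank_eq := fun _ => finrank_bot F V
        indep := by
          rw [iSupIndep_def]
          intro i
          exact disjoint_bot_left
        iSup_eq := by simp
        map_eq := fun _ => Submodule.map_bot _ }
  | succ b ih =>
    intro M hMinv hM
    have hMne : M ≠ ⊥ := by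
      intro h
      rw [h, finrank_bot] at hM
      have := Nat.mul_pos (Nat.succ_pos r') (Nat.succ_pos b)
      rw [← hM] at this
      exact lt_irrefl _ this
    obtain ⟨e, heM, he⟩ := (Submodule.ne_bot_iff M).mp hMne
    have hli := fo4_linearIndependent hgirr hgy hgdeg he
    set L : Fin (r' + 1) → Submodule F V := fun i => Submodule.span F {(y ^ (i : ℕ)) e} with hL
    have hLdec : Dec y 1 (⨆ i, L i) L (finRotate (r' + 1)) :=
      { finrank_eq := fun i => finrank_span_singleton (hli.ne_zero i)
        indep := hli.iSupIndep_span_singleton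
        iSup_eq := rfl
        map_eq := by
          intro i
          show (Submodule.span F {(y ^ (i : ℕ)) e}).map y =
            Submodule.span F {(y ^ ((finRotate (r' + 1) i : Fin (r' + 1)) : ℕ)) e}
          rw [Submodule.map_span, Set.image_singleton, ← Module.End.mul_apply, ← pow_succ']
          rcases Nat.lt_or_ge (i : ℕ) r' with hlt | hge
          · have : finRotate (r' + 1) i = ⟨(i : ℕ) + 1, by omega⟩ := by
              have h1 := finRotate_of_lt hlt
              convert h1
            rw [this]
          · have hi : (i : ℕ) = r' := by have := i.2; omega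
            have : finRotate (r' + 1) i = ⟨0, Nat.zero_lt_succ _⟩ := by
              have h1 := @finRotate_last' r'
              convert h1
            rw [this, hi, hy]
            show Submodule.span F {(algebraMap F (Module.End F V) z) e} = Submodule.span F {(y ^ 0) e}
            rw [Module.algebraMap_end_apply, pow_zero, Module.End.one_apply]
            exact Submodule.span_singleton_smul_eq (IsUnit.mk0 z hz0) e }
    set Z : Submodule F V := ⨆ i, L i with hZ
    have hyinj : Function.Injective y := by
      rw [← LinearMap.ker_eq_bot, LinearMap.ker_eq_bot']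
      intro v hv
      have h1 : (y ^ (r' + 1)) v = 0 := by
        rw [pow_succ, Module.End.mul_apply, hv, map_zero]
      rw [hy, Module.algebraMap_end_apply] at h1
      rcases smul_eq_zero.mp h1 with h | h
      · exact absurd h hz0
      · exact h
    have hZinv : Inv y Z := by
      rw [inv_iff_map_le, hZ, Submodule.map_iSup]
      apply iSup_le
      intro i
      rw [hLdec.map_eq i]
      exact le_iSup L _
    have hZM : Z ≤ M := by
      rw [hZ]
      apply iSup_le
      intro i
      rw [hL]
      simp only
      rw [Submodule.span_singleton_le_iff_mem]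
      exact hMinv.pow _ e heM
    have hZfr : finrank F Z = r' + 1 := by
      have := hLdec.card_mul
      rw [Fintype.card_fin, one_mul] at this
      exact this.symm
    obtain ⟨M', hM', hM'M, hdisj, hsup, hfr⟩ := exists_inv_compl_in hss hZinv hMinv hZM
    have hM'fr : finrank F M' = (r' + 1) * b := by
      rw [hM, hZfr, Nat.mul_succ] at hfr
      omega
    obtain ⟨E, hE⟩ := ih M' hM' hM'fr
    refine ⟨fun i => L i ⊔ E i, ?_⟩
    have := Dec.merge hLdec hE hdisj
    rw [hsup, add_comm] at this
    exact this

/-! ## FO-4 (TYPE B) -/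
theorem exists_dec_not_pow {r : ℕ} [Fact r.Prime] (hrF : (r : F) ≠ 0) (z : F)
    (hz : ∀ b : F, b ^ r ≠ z) (y : Module.End F V) (hy : y ^ r = algebraMap F _ z) (a t : ℕ)
    (ha : 1 ≤ a) (hdim : finrank F V = a * t) :
    ∃ (ι : Type) (_ : Fintype ι) (D : ι → Submodule F V) (σ : Equiv.Perm ι), Dec y a ⊤ D σ := by
  have hr : Fact r.Prime := inferInstance
  have hz0 : z ≠ 0 := by
    rintro rfl
    exact hz 0 (zero_pow hr.out.ne_zero)
  have hgirr : Irreducible (X ^ r - C z : F[X]) := X_pow_sub_C_irreducible_of_prime hr.out hz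
  have hgdeg : (X ^ r - C z : F[X]).natDegree = r := Polynomial.natDegree_X_pow_sub_C
  have hgy : aeval y (X ^ r - C z : F[X]) = 0 := by
    rw [map_sub, map_pow, aeval_X, aeval_C, hy, sub_self]
  have hss : y.IsSemisimple :=
    Module.End.isSemisimple_of_squarefree_aeval_eq_zero (squarefree_X_pow_sub_C hrF hz0) hgy
  have hall : AllIrrDeg (X ^ r - C z : F[X]) r := by
    have := allIrrDeg_of_irreducible hgirr
    rwa [hgdeg] at this
  have hyinj : Function.Injective y := by
    rw [← LinearMap.ker_eq_bot, LinearMap.ker_eq_bot']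
    intro v hv
    have h1 : (y ^ r) v = 0 := by
      obtain ⟨r', rfl⟩ : ∃ r', r = r' + 1 := Nat.exists_eq_succ_of_ne_zero hr.out.ne_zero
      rw [pow_succ, Module.End.mul_apply, hv, map_zero]
    rw [hy, Module.algebraMap_end_apply] at h1
    rcases smul_eq_zero.mp h1 with h | h
    · exact absurd h hz0
    · exact h
  -- `r` divides the dimension
  have hrdvd : r ∣ a * t := by
    have := dvd_finrank_of_inv hss hgirr.ne_zero hall _ (⊤ : Submodule F V) rfl (inv_top y)
      (fun v _ => by rw [hgy]; rfl)
    rwa [finrank_top, hdim] at this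
  have htop : finrank F (⊤ : Submodule F V) = a * t := by rw [finrank_top, hdim]
  rcases (Nat.Prime.dvd_mul hr.out).mp hrdvd with hra | hrt
  · -- `r ∣ a`: invariant pieces
    exact fo4_peel hss hgirr.ne_zero hall hgy a a hra
      (fun W hW hWfr => ⟨Unit, inferInstance, fun _ => W, 1, by
        have := Dec.single (y := y) (fo4_map_eq_of_inv hyinj hW)
        rwa [hWfr] at this⟩) t ⊤ (inv_top y) htop
  · -- `r ∣ t`: cyclically permuted pieces
    obtain ⟨t', rfl⟩ := hrt
    obtain ⟨σ, hσ⟩ := fo4_cyclic hrF z hz y hy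
    refine fo4_peel hss hgirr.ne_zero hall hgy a (r * a) (dvd_mul_right r a)
      (fun W hW hWfr => ?_) t' ⊤ (inv_top y) (by rw [htop]; ring)
    obtain ⟨D, hD⟩ := hσ a W hW hWfr
    exact ⟨Fin r, inferInstance, D, σ, hD⟩

end general

end Cfsg.Agent.Lib.Helper6.EqD
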