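import Cfsg.Agent.Lib.Helper6.EqD.Defs
import Cfsg.Agent.Lib.Helper2.BGMain

/-! # S5958 FO-7 (helper2 for helper6): an element of `SL_n(q)` of order `r` with prescribed fixed space -/

set_option autoImplicit false

namespace Cfsg.Agent.Lib.Helper6.EqD

open Module Polynomial Cfsg.Agent.Lib.Helper2.BG

lemma fo7_finrank_ker_blockOp {F : Type*} [Field F] (g : F[X]) [hg : Fact (Irreducible g)]
    (k a : ℕ) (h2 : 2 ≤ g.natDegree) :
    finrank F (LinearMap.ker (blockOp g k a - 1)) = a := by
  have := finite_adjoinRoot g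
  have hA : aeval (blockOp g k a) (X - 1 : F[X]) = blockOp g k a - 1 := by
    rw [map_sub, aeval_X, map_one]
  apply le_antisymm
  · rw [← hA]
    exact finrank_ker_blockOp_le g k a h2
  · have hle : LinearMap.range (LinearMap.inr F (Fin k → AdjoinRoot g) (Fin a → F)) ≤
        LinearMap.ker (blockOp g k a - 1) := by
      rintro _ ⟨w, rfl⟩
      rw [LinearMap.mem_ker, LinearMap.sub_apply, Module.End.one_apply, sub_eq_zero]
      show blockOp g k a ((0 : Fin k → AdjoinRoot g), w) = (0, w)
      rw [blockOp_apply]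
      congr 1
      funext i
      simp
    calc a = finrank F (LinearMap.range (LinearMap.inr F (Fin k → AdjoinRoot g) (Fin a → F))) := by
          rw [LinearMap.finrank_range_of_inj LinearMap.inr_injective, Module.finrank_fin_fun]
      _ ≤ _ := Submodule.finrank_mono hle

/-! ## FO-7 (ELEMENT) -/
theorem exists_SL_with_ker {F : Type*} [Field F] [Fintype F] {p : ℕ} [Fact p.Prime] [CharP F p]
    {r : ℕ} [Fact r.Prime] (hrp : r ≠ p) (hc2 : 2 ≤ orderOf ((Fintype.card F : ℕ) : ZMod r))
    (n s f : ℕ) (hn : n = s * orderOf ((Fintype.card F : ℕ) : ZMod r) + f) :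
    ∃ x : Matrix.SpecialLinearGroup (Fin n) F,
      ((x ^ r : Matrix.SpecialLinearGroup (Fin n) F) : Matrix (Fin n) (Fin n) F) = 1 ∧
      finrank F (LinearMap.ker (Matrix.toLin' (x : Matrix (Fin n) (Fin n) F) - 1)) = f := by
  have hr : Fact r.Prime := inferInstance
  obtain ⟨i, hidef⟩ : ∃ i, i = orderOf ((Fintype.card F : ℕ) : ZMod r) := ⟨_, rfl⟩
  rw [← hidef] at hc2 hn
  have hrF : (r : F) ≠ 0 := natCast_ne_zero_of_ne (p := p) hrp
  have hcyc0 : cyclotomic r F ≠ 0 := cyclotomic_ne_zero r F
  have hcycnu : ¬ IsUnit (cyclotomic r F) := by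
    intro hu
    have h1 := Polynomial.natDegree_eq_zero_of_isUnit hu
    rw [Polynomial.natDegree_cyclotomic, Nat.totient_prime hr.out] at h1
    have := hr.out.two_le
    omega
  obtain ⟨g, hgirr, hgd⟩ := WfDvdMonoid.exists_irreducible_factor hcycnu hcyc0
  have hgdeg : g.natDegree = i := by
    rw [hidef]
    exact allIrrDeg_cyclotomic (p := p) hrp g hgirr hgd
  have : Fact (Irreducible g) := ⟨hgirr⟩
  have hcycd : cyclotomic r F ∣ X ^ r - 1 := by
    rw [← Polynomial.cyclotomic_prime_mul_X_sub_one F r]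
    exact dvd_mul_right _ _
  have hgX : g ∣ X ^ r - 1 := hgd.trans hcycd
  have := finite_adjoinRoot g
  have hfr : Module.finrank F (BlockSpace g s f) = Module.finrank F (Fin n → F) := by
    rw [finrank_blockSpace, Module.finrank_fin_fun, hgdeg, hn]
  let e : BlockSpace g s f ≃ₗ[F] (Fin n → F) := LinearEquiv.ofFinrankEq _ _ hfr
  obtain ⟨f', hf'⟩ : ∃ f', f' = blockOp g s f := ⟨_, rfl⟩
  have hpolyX : aeval f' (X ^ r - 1 : F[X]) = 0 := by
    rw [hf']
    exact aeval_blockOp_eq_zero g s f _ hgX (by simp)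
  have hpow : f' ^ r = 1 := by
    have h1 := hpolyX
    rw [map_sub, map_pow, aeval_X, map_one] at h1
    exact sub_eq_zero.mp h1
  have hcop : Nat.Coprime r (Fintype.card F - 1) := by
    rw [Nat.Prime.coprime_iff_not_dvd hr.out]
    intro hdvd
    have := (orderOf_eq_one_iff_dvd (r := r) (Fintype.card F) Fintype.card_pos).mpr hdvd
    omega
  have hdet' : (endMatEquiv e f').det = 1 := by
    rw [det_endMatEquiv, hf', det_blockOp, norm_root_eq_one hr.out.pos g hgX hcop, one_pow]
  let x : Matrix.SpecialLinearGroup (Fin n) F := ⟨endMatEquiv e f', hdet'⟩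
  refine ⟨x, ?_, ?_⟩
  · rw [Matrix.SpecialLinearGroup.coe_pow]
    show (endMatEquiv e f') ^ r = _
    rw [← map_pow, hpow, map_one]
  · show finrank F (LinearMap.ker (Matrix.toLin' (endMatEquiv e f') - 1)) = f
    have hker : LinearMap.ker (Matrix.toLin' (endMatEquiv e f') - 1) =
        (LinearMap.ker (f' - 1)).map e.toLinearMap := by
      ext v
      rw [LinearMap.mem_ker, toLin'_endMatEquiv, LinearMap.sub_apply, Module.End.one_apply,
        LinearEquiv.conj_apply_apply, sub_eq_zero, Submodule.mem_map]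
      constructor
      · intro hv
        refine ⟨e.symm v, ?_, by simp⟩
        rw [LinearMap.mem_ker, LinearMap.sub_apply, Module.End.one_apply, sub_eq_zero]
        apply e.injective
        rw [hv, LinearEquiv.apply_symm_apply]
      · rintro ⟨u, hu, rfl⟩
        rw [LinearMap.mem_ker, LinearMap.sub_apply, Module.End.one_apply, sub_eq_zero] at hu
        simp only [LinearEquiv.coe_coe, LinearEquiv.symm_apply_apply]
        rw [hu]
    rw [hker, LinearEquiv.finrank_map_eq, hf']
    exact fo7_finrank_ker_blockOp g s f (by omega)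

end Cfsg.Agent.Lib.Helper6.EqD
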