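import Mathlib
import Cfsg.Prelude.Def_GeometricClasses
import Cfsg.Agent.Lib.Helper81.EsDefs

/-!
# Es hive (S5877): cores of ES-K5 and ES-TRIV, with the eigenvalue-shifting bound (ES-E) as a hypothesis.
-/

set_option autoImplicit false
set_option linter.style.haveILetI false
set_option linter.unusedVariables false
set_option linter.unusedSectionVars false

namespace Cfsg.Agent.Lib.Helper81.Es

open scoped MatrixGroups

variable {F : Type*} [Field F] {n : ℕ}

/-- the statement of ES-E (`shift_le`), as a proposition -/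
def k5_ShiftStmt (F : Type*) [Field F] (n : ℕ) : Prop :=
  ∀ (g y : GL (Fin n) F) (lam : F) (k : ℕ),
    (∀ i, 0 < i → i < k → lam ^ i ≠ 1) →
    ((g : Matrix (Fin n) (Fin n) F) * (y : Matrix (Fin n) (Fin n) F) =
      lam • ((y : Matrix (Fin n) (Fin n) F) * (g : Matrix (Fin n) (Fin n) F))) →
    ∀ c : F, k * Module.finrank F (eig g c) ≤ n

/-- from `cm g x = ζ • 1` to `g x = ζ • (x g)` on matrices -/
theorem k5_of_cm (g x : GL (Fin n) F) (ζ : F)
    (h : ((cm g x : GL (Fin n) F) : Matrix (Fin n) (Fin n) F) = ζ • 1) :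
    (g : Matrix (Fin n) (Fin n) F) * (x : Matrix (Fin n) (Fin n) F) =
      ζ • ((x : Matrix (Fin n) (Fin n) F) * (g : Matrix (Fin n) (Fin n) F)) := by
  have h1 : ((cm g x * (x * g) : GL (Fin n) F) : Matrix (Fin n) (Fin n) F) =
      (g : Matrix (Fin n) (Fin n) F) * (x : Matrix (Fin n) (Fin n) F) := by
    have : cm g x * (x * g) = g * x := by
      unfold cm; group
    rw [this, Units.val_mul]
  rw [← h1, Units.val_mul, h, Units.val_mul, Matrix.smul_mul, Matrix.one_mul]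

/-- a root of unity of prime order `r`, different from `1`, has no smaller positive power equal to `1` -/
theorem k5_pow_ne_one {r : ℕ} (hr : r.Prime) (ζ : F) (hζ : ζ ^ r = 1) (hζ1 : ζ ≠ 1) :
    ∀ i, 0 < i → i < r → ζ ^ i ≠ 1 := by
  intro i hi0 hir hi
  have h1 : orderOf ζ ∣ r := orderOf_dvd_of_pow_eq_one hζ
  have h2 : orderOf ζ ∣ i := orderOf_dvd_of_pow_eq_one hi
  rcases (Nat.dvd_prime hr).mp h1 with h | h
  · exact hζ1 (orderOf_eq_one_iff.mp h)
  · rw [h] at h2
    exact absurd (Nat.le_of_dvd hi0 h2) (by omega)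

/-- Schur, contrapositive: a non-scalar invertible matrix fails to commute with some element of `R` -/
theorem k5_exists_not_commute {r : ℕ} {R : Subgroup (GL (Fin n) F)} (hS : Setup r R)
    (h : GL (Fin n) F) (hns : ¬ IsSc h) :
    ∃ x ∈ R, (h : Matrix (Fin n) (Fin n) F) * (x : Matrix (Fin n) (Fin n) F) ≠
      (x : Matrix (Fin n) (Fin n) F) * (h : Matrix (Fin n) (Fin n) F) := by
  by_contra hcon
  push_neg at hcon
  exact hns (hS.schur _ hcon)

/-- decomposition of an element of `R Z` -/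
theorem k5_mem_NN {R : Subgroup (GL (Fin n) F)} (h : GL (Fin n) F) (hN : h ∈ NN R) :
    ∃ ρ ∈ R, ∃ d : F, (h : Matrix (Fin n) (Fin n) F) = d • (ρ : Matrix (Fin n) (Fin n) F) := by
  unfold NN at hN
  obtain ⟨ρ, hρ, z, hz, rfl⟩ := Subgroup.mem_sup_of_normal_right.mp hN
  obtain ⟨d, hd⟩ := (Cfsg.Geo.mem_scalars_iff z).mp hz
  refine ⟨ρ, hρ, (d : F), ?_⟩
  rw [Units.val_mul, hd, Matrix.mul_smul, Matrix.mul_one]

/-- ES-K5 core. -/
theorem k5_core (hE : k5_ShiftStmt F n) {r : ℕ} {R : Subgroup (GL (Fin n) F)} (hS : Setup r R)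
    (h : GL (Fin n) F) (hN : h ∈ NN R) (hns : ¬ IsSc h) (c : F) :
    r * Module.finrank F (eig h c) ≤ n := by
  obtain ⟨ρ, hρ, d, hd⟩ := k5_mem_NN h hN
  have hρns : ¬ IsSc ρ := by
    rintro ⟨e, he⟩
    exact hns ⟨d * e, by rw [hd, he, smul_smul]⟩
  obtain ⟨x, hx, hne⟩ := k5_exists_not_commute hS ρ hρns
  obtain ⟨ζ, hζr, hζ⟩ := hS.comm ρ hρ x hx
  have hρx := k5_of_cm ρ x ζ hζ
  have hζ1 : ζ ≠ 1 := by
    rintro rfl
    rw [one_smul] at hρx
    exact hne hρx
  have hhx : (h : Matrix (Fin n) (Fin n) F) * (x : Matrix (Fin n) (Fin n) F) =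
      ζ • ((x : Matrix (Fin n) (Fin n) F) * (h : Matrix (Fin n) (Fin n) F)) := by
    rw [hd, Matrix.smul_mul, hρx, Matrix.mul_smul, smul_comm]
  exact hE h x ζ r (k5_pow_ne_one hS.prime ζ hζr hζ1) hhx c

/-- ES-TRIV core. -/
theorem triv_core (hE : k5_ShiftStmt F n) {r : ℕ} {R : Subgroup (GL (Fin n) F)} (hS : Setup r R)
    (g : GL (Fin n) F) (ht : ActsTriv R g) (hns : ¬ IsSc g) (c : F) :
    2 * Module.finrank F (eig g c) ≤ n := by
  obtain ⟨x, hx, hne⟩ := k5_exists_not_commute hS g hns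
  obtain ⟨lam, hlam⟩ := ht x hx
  have hgx := k5_of_cm g x lam hlam
  have hlam1 : lam ≠ 1 := by
    rintro rfl
    rw [one_smul] at hgx
    exact hne hgx
  refine hE g x lam 2 ?_ hgx c
  intro i hi0 hi2
  have : i = 1 := by omega
  subst this
  rwa [pow_one]

end Cfsg.Agent.Lib.Helper81.Es
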