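import Mathlib
import Cfsg.Prelude.Def_GeometricClasses
import Cfsg.Agent.Lib.Helper81.EsDefs

/-!
# Es hive (S5877): eigenvalue shifting (own copy of the ES-E argument, names prefixed `k5_`).
-/

set_option autoImplicit false
set_option linter.style.haveILetI false
set_option linter.unusedVariables false
set_option linter.unusedSectionVars false

namespace Cfsg.Agent.Lib.Helper81.Es

open scoped MatrixGroups

variable {F : Type*} [Field F] {n : ℕ}

/-- sum of dimensions of eigenspaces over a finite set of eigenvalues -/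
theorem k5_sum_finrank_eigenspace {V : Type*} [AddCommGroup V] [Module F V] [FiniteDimensional F V]
    (f : Module.End F V) (s : Finset F) :
    ∑ μ ∈ s, Module.finrank F (Module.End.eigenspace f μ) =
      Module.finrank F ↥(⨆ μ ∈ s, Module.End.eigenspace f μ) := by
  classical
  induction s using Finset.induction_on with
  | empty =>
    have : (⨆ μ ∈ (∅ : Finset F), Module.End.eigenspace f μ) = ⊥ := by simp
    rw [this, finrank_bot, Finset.sum_empty]
  | insert a s ha ih =>
    rw [Finset.sum_insert ha, ih, Finset.iSup_insert]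
    have hind := Module.End.eigenspaces_iSupIndep f
    have hdisj : Module.End.eigenspace f a ⊓ (⨆ μ ∈ s, Module.End.eigenspace f μ) = ⊥ := by
      have h1 := hind a
      have h2 : (⨆ μ ∈ s, Module.End.eigenspace f μ) ≤ ⨆ (j) (_ : j ≠ a), Module.End.eigenspace f j := by
        apply iSup₂_le
        intro μ hμ
        have hne : μ ≠ a := fun h => ha (h ▸ hμ)
        exact le_iSup₂_of_le μ hne le_rfl
      exact disjoint_iff.mp (h1.mono_right h2)
    have h3 := Submodule.finrank_sup_add_finrank_inf_eq (Module.End.eigenspace f a)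
      (⨆ μ ∈ s, Module.End.eigenspace f μ)
    rw [hdisj, finrank_bot, add_zero] at h3
    exact h3.symm

theorem k5_sum_finrank_le {V : Type*} [AddCommGroup V] [Module F V] [FiniteDimensional F V]
    (f : Module.End F V) (s : Finset F) :
    ∑ μ ∈ s, Module.finrank F (Module.End.eigenspace f μ) ≤ Module.finrank F V := by
  rw [k5_sum_finrank_eigenspace]
  exact Submodule.finrank_le _

/-- `y` maps `eig g μ` injectively into `eig g (lam * μ)` -/
theorem k5_finrank_eig_le (g y : GL (Fin n) F) (lam : F)
    (hgy : (g : Matrix (Fin n) (Fin n) F) * (y : Matrix (Fin n) (Fin n) F) =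
      lam • ((y : Matrix (Fin n) (Fin n) F) * (g : Matrix (Fin n) (Fin n) F))) (μ : F) :
    Module.finrank F (eig g μ) ≤ Module.finrank F (eig g (lam * μ)) := by
  have hinj : Function.Injective (Matrix.toLin' (y : Matrix (Fin n) (Fin n) F)) := by
    intro u v huv
    have h1 : Matrix.toLin' ((y⁻¹ : GL (Fin n) F) : Matrix (Fin n) (Fin n) F)
        (Matrix.toLin' (y : Matrix (Fin n) (Fin n) F) u) =
        Matrix.toLin' ((y⁻¹ : GL (Fin n) F) : Matrix (Fin n) (Fin n) F)
        (Matrix.toLin' (y : Matrix (Fin n) (Fin n) F) v) := by rw [huv]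
    have h2 : ∀ w : Fin n → F, Matrix.toLin' ((y⁻¹ : GL (Fin n) F) : Matrix (Fin n) (Fin n) F)
        (Matrix.toLin' (y : Matrix (Fin n) (Fin n) F) w) = w := by
      intro w
      rw [← LinearMap.comp_apply, ← Matrix.toLin'_mul, ← Units.val_mul, inv_mul_cancel,
        Units.val_one, Matrix.toLin'_one, LinearMap.id_apply]
    rwa [h2, h2] at h1
  have hmap : (eig g μ).map (Matrix.toLin' (y : Matrix (Fin n) (Fin n) F)) ≤ eig g (lam * μ) := by
    rintro _ ⟨v, hv, rfl⟩
    have hv' : Matrix.toLin' (g : Matrix (Fin n) (Fin n) F) v = μ • v :=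
      Module.End.mem_eigenspace_iff.mp hv
    unfold eig
    rw [Module.End.mem_eigenspace_iff, ← LinearMap.comp_apply, ← Matrix.toLin'_mul, hgy,
      map_smul, LinearMap.smul_apply, Matrix.toLin'_mul, LinearMap.comp_apply, hv', map_smul,
      smul_smul]
  calc Module.finrank F (eig g μ)
      = Module.finrank F ((eig g μ).map (Matrix.toLin' (y : Matrix (Fin n) (Fin n) F))) :=
        (Submodule.equivMapOfInjective _ hinj (eig g μ)).finrank_eq
    _ ≤ Module.finrank F (eig g (lam * μ)) := Submodule.finrank_mono hmap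

theorem k5_finrank_eig_pow_le (g y : GL (Fin n) F) (lam : F)
    (hgy : (g : Matrix (Fin n) (Fin n) F) * (y : Matrix (Fin n) (Fin n) F) =
      lam • ((y : Matrix (Fin n) (Fin n) F) * (g : Matrix (Fin n) (Fin n) F))) (c : F) (i : ℕ) :
    Module.finrank F (eig g c) ≤ Module.finrank F (eig g (lam ^ i * c)) := by
  induction i with
  | zero => rw [pow_zero, one_mul]
  | succ i ih =>
    refine le_trans ih ?_
    have := k5_finrank_eig_le g y lam hgy (lam ^ i * c)
    rwa [← mul_assoc, ← pow_succ'] at this

/-- own copy of ES-E: if `g y = lam • y g` and `lam, …, lam^(k-1) ≠ 1` then `k · dim (eig g c) ≤ n`. -/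
theorem k5_shift_le (g y : GL (Fin n) F) (lam : F) (k : ℕ)
    (hk : ∀ i, 0 < i → i < k → lam ^ i ≠ 1)
    (hgy : (g : Matrix (Fin n) (Fin n) F) * (y : Matrix (Fin n) (Fin n) F) =
      lam • ((y : Matrix (Fin n) (Fin n) F) * (g : Matrix (Fin n) (Fin n) F))) (c : F) :
    k * Module.finrank F (eig g c) ≤ n := by
  classical
  by_cases hW : eig g c = ⊥
  · rw [hW, finrank_bot, mul_zero]; exact Nat.zero_le _
  obtain ⟨v, hvW, hv0⟩ := (Submodule.ne_bot_iff _).mp hW
  have hgv : Matrix.toLin' (g : Matrix (Fin n) (Fin n) F) v = c • v :=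
    Module.End.mem_eigenspace_iff.mp hvW
  -- injectivity of invertible matrices
  have hinj : ∀ z : GL (Fin n) F, ∀ w : Fin n → F,
      Matrix.toLin' (z : Matrix (Fin n) (Fin n) F) w = 0 → w = 0 := by
    intro z w hw
    have h2 : Matrix.toLin' ((z⁻¹ : GL (Fin n) F) : Matrix (Fin n) (Fin n) F)
        (Matrix.toLin' (z : Matrix (Fin n) (Fin n) F) w) = w := by
      rw [← LinearMap.comp_apply, ← Matrix.toLin'_mul, ← Units.val_mul, inv_mul_cancel,
        Units.val_one, Matrix.toLin'_one, LinearMap.id_apply]
    rw [hw, map_zero] at h2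
    exact h2.symm
  have hc0 : c ≠ 0 := by
    rintro rfl
    rw [zero_smul] at hgv
    exact hv0 (hinj g v hgv)
  have hlam0 : lam ≠ 0 := by
    rintro rfl
    have h1 : Matrix.toLin' ((g * y : GL (Fin n) F) : Matrix (Fin n) (Fin n) F) v = 0 := by
      rw [Units.val_mul, hgy, zero_smul, map_zero, LinearMap.zero_apply]
    exact hv0 (hinj (g * y) v h1)
  -- the eigenvalues `lam^i c`, `i < k`, are distinct
  have hinjμ : Set.InjOn (fun i : ℕ => lam ^ i * c) (Finset.range k : Set ℕ) := by
    have key : ∀ i j : ℕ, i < j → j < k → lam ^ i * c ≠ lam ^ j * c := by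
      intro i j hij hjk h
      have h1 : lam ^ i = lam ^ j := mul_right_cancel₀ hc0 h
      have h2 : lam ^ (j - i) = 1 := by
        have : lam ^ j = lam ^ i * lam ^ (j - i) := by
          rw [← pow_add]; congr 1; omega
        rw [this] at h1
        have h3 : lam ^ i * 1 = lam ^ i * lam ^ (j - i) := by rw [mul_one]; exact h1
        exact (mul_left_cancel₀ (pow_ne_zero i hlam0) h3).symm
      exact hk (j - i) (by omega) (by omega) h2
    intro i hi j hj hij
    simp only [Finset.coe_range, Set.mem_Iio] at hi hj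
    by_contra hne
    rcases Nat.lt_or_gt_of_ne hne with h | h
    · exact key i j h hj hij
    · exact key j i h hi hij.symm
  have hsum := k5_sum_finrank_le (Matrix.toLin' (g : Matrix (Fin n) (Fin n) F))
    ((Finset.range k).image (fun i : ℕ => lam ^ i * c))
  rw [Finset.sum_image hinjμ] at hsum
  have hfr : Module.finrank F (Fin n → F) = n := by simp
  rw [hfr] at hsum
  calc k * Module.finrank F (eig g c)
      = ∑ _i ∈ Finset.range k, Module.finrank F (eig g c) := by
        rw [Finset.sum_const, Finset.card_range, smul_eq_mul]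
    _ ≤ ∑ i ∈ Finset.range k, Module.finrank F (eig g (lam ^ i * c)) :=
        Finset.sum_le_sum (fun i _ => k5_finrank_eig_pow_le g y lam hgy c i)
    _ ≤ n := hsum

end Cfsg.Agent.Lib.Helper81.Es
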