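import Mathlib
import Cfsg.Prelude.Def_GeometricClasses
import Cfsg.Agent.Lib.Helper81.EsDefs
import Cfsg.Agent.Lib.Helper2.EsK5core
import Cfsg.Agent.Lib.Helper2.EsShift

/-!
# Es hive (S5877): leaf ES-K5.
-/

set_option autoImplicit false
set_option linter.style.haveILetI false
set_option linter.unusedVariables false
set_option linter.unusedSectionVars false

namespace Cfsg.Agent.Lib.Helper81.Es

open scoped MatrixGroups

variable {F : Type*} [Field F] {n : ℕ}

theorem k5_shiftStmt : k5_ShiftStmt F n :=
  fun g y lam k hk hgy c => k5_shift_le g y lam k hk hgy c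

/-- ES-K5 : a non-scalar element of `R Z` has all eigenspaces of dimension `≤ n / r`. -/
theorem k5 {r : ℕ} {R : Subgroup (GL (Fin n) F)} (hS : Setup r R) (h : GL (Fin n) F)
    (hN : h ∈ NN R) (hns : ¬ IsSc h) (c : F) : r * Module.finrank F (eig h c) ≤ n :=
  k5_core k5_shiftStmt hS h hN hns c

end Cfsg.Agent.Lib.Helper81.Es
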