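import Mathlib
import Cfsg.Prelude.Def_GeometricClasses
import Cfsg.Agent.Lib.Helper81.EsDefs
import Cfsg.Agent.Lib.Helper2.EsK5

/-!
# Es hive (S5877): leaf ES-TRIV.
-/

set_option autoImplicit false
set_option linter.style.haveILetI false
set_option linter.unusedVariables false
set_option linter.unusedSectionVars false

namespace Cfsg.Agent.Lib.Helper81.Es

open scoped MatrixGroups

variable {F : Type*} [Field F] {n : ℕ}

/-- ES-TRIV : trivial action modulo scalars, not scalar: eigenspaces have dimension `≤ n / 2`. -/
theorem triv_le {r : ℕ} {R : Subgroup (GL (Fin n) F)} (hS : Setup r R) (g : GL (Fin n) F)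
    (ht : ActsTriv R g) (hns : ¬ IsSc g) (c : F) : 2 * Module.finrank F (eig g c) ≤ n :=
  triv_core k5_shiftStmt hS g ht hns c

end Cfsg.Agent.Lib.Helper81.Es
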