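import Mathlib
import Cfsg.Prelude.Def_Transfer

set_option autoImplicit false

/-!
Two general tools for recognising isomorphisms via "graph subgroups":
* a subgroup `R ≤ X × X'` projecting onto both factors and of order at most `|X|`, `|X'|`
  is the graph of an isomorphism;
* an order bound for subgroups generated by elements commuting modulo a central subgroup.
-/

namespace Cfsg.Agent.Lib.Helper2.Extra

open Subgroup
open scoped commutatorElement

/-- A subgroup of `X × X'` that projects onto both factors and is no bigger than either of them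
gives an isomorphism `X ≃* X'`, compatible with the relation. -/
theorem exists_mulEquiv_of_graph {X X' : Type*} [Group X] [Group X'] [Finite X] [Finite X']
    (R : Subgroup (X × X')) (h1 : R.map (MonoidHom.fst X X') = ⊤)
    (h2 : R.map (MonoidHom.snd X X') = ⊤)
    (c1 : Nat.card R ≤ Nat.card X) (c2 : Nat.card R ≤ Nat.card X') :
    ∃ e : X ≃* X', ∀ r ∈ R, e (r : X × X').1 = r.2 := by
  let f1 : R →* X := (MonoidHom.fst X X').comp R.subtype
  let f2 : R →* X' := (MonoidHom.snd X X').comp R.subtype
  have s1 : Function.Surjective f1 := by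
    intro x
    have : x ∈ R.map (MonoidHom.fst X X') := by rw [h1]; trivial
    obtain ⟨r, hr, rfl⟩ := this
    exact ⟨⟨r, hr⟩, rfl⟩
  have s2 : Function.Surjective f2 := by
    intro x
    have : x ∈ R.map (MonoidHom.snd X X') := by rw [h2]; trivial
    obtain ⟨r, hr, rfl⟩ := this
    exact ⟨⟨r, hr⟩, rfl⟩
  have b1 : Function.Bijective f1 := s1.bijective_of_nat_card_le c1
  have b2 : Function.Bijective f2 := s2.bijective_of_nat_card_le c2
  refine ⟨(MulEquiv.ofBijective f1 b1).symm.trans (MulEquiv.ofBijective f2 b2), ?_⟩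
  intro r hr
  have : (MulEquiv.ofBijective f1 b1).symm (r.1) = ⟨r, hr⟩ := by
    rw [MulEquiv.symm_apply_eq]
    rfl
  rw [MulEquiv.trans_apply, this]
  rfl

open scoped IsMulCommutative in
/-- If the elements of a finite set `S` have `p`-th power one and commute modulo a central
subgroup `N`, then `S` and `N` lie in a subgroup of order dividing `p ^ |S| * |N|`. -/
theorem exists_subgroup_card_dvd {G : Type*} [Group G] [Finite G] {p : ℕ} (N : Subgroup G)
    (hN : N ≤ center G) (S : Finset G) (hS : ∀ s ∈ S, s ^ p = 1)
    (hc : ∀ s ∈ S, ∀ t ∈ S, ⁅s, t⁆ ∈ N) :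
    ∃ R : Subgroup G, (S : Set G) ⊆ R ∧ N ≤ R ∧ Nat.card R ∣ p ^ S.card * Nat.card N := by
  classical
  have : N.Normal := ⟨fun n hn g => by
    have := Subgroup.mem_center_iff.1 (hN hn) g
    rw [this, mul_inv_cancel_right]; exact hn⟩
  let q := QuotientGroup.mk' N
  let T : Finset (G ⧸ N) := S.image q
  have hcomm : ∀ a ∈ (T : Set (G ⧸ N)), ∀ b ∈ (T : Set (G ⧸ N)), a * b = b * a := by
    intro a ha b hb
    simp only [T, Finset.coe_image, Set.mem_image, Finset.mem_coe] at ha hb
    obtain ⟨s, hs, rfl⟩ := ha
    obtain ⟨t, ht, rfl⟩ := hb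
    have := hc s hs t ht
    rw [← commutatorElement_eq_one_iff_mul_comm, ← map_commutatorElement]
    exact (QuotientGroup.eq_one_iff _).2 this
  let H : Subgroup (G ⧸ N) := closure (T : Set (G ⧸ N))
  have hHc : IsMulCommutative H := isMulCommutative_closure hcomm
  have hexp0 : ∀ h ∈ H, h ^ p = 1 := by
    intro h hh
    induction hh using closure_induction with
    | mem x hx =>
      simp only [T, Finset.coe_image, Set.mem_image, Finset.mem_coe] at hx
      obtain ⟨s, hs, rfl⟩ := hx
      rw [← map_pow, hS s hs, map_one]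
    | one => exact one_pow p
    | mul a b ha hb iha ihb =>
      have hab : Commute a b := by
        have := mul_comm (⟨a, ha⟩ : H) ⟨b, hb⟩
        exact congrArg Subtype.val this
      rw [hab.mul_pow, iha, ihb, one_mul]
    | inv a ha iha => rw [inv_pow, iha, inv_one]
  have hexp : ∀ h : H, h ^ p = 1 := fun h => Subtype.ext (hexp0 h h.2)
  have hdvd : Nat.card H ∣ p ^ Group.rank H := card_dvd_exponent_pow_rank' H hexp
  have hrank : Group.rank H ≤ S.card :=
    (rank_closure_finset_le_card T).trans Finset.card_image_le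
  have hdvd' : Nat.card H ∣ p ^ S.card := hdvd.trans (pow_dvd_pow p hrank)
  refine ⟨H.comap q, ?_, ?_, ?_⟩
  · intro s hs
    refine subset_closure ?_
    simp only [T, Finset.coe_image, Set.mem_image, Finset.mem_coe]
    exact ⟨s, hs, rfl⟩
  · intro n hn
    show q n ∈ H
    have h1 : q n = 1 := (QuotientGroup.eq_one_iff n).2 hn
    rw [h1]
    exact one_mem H
  · have hidx : (H.comap q).index = H.index :=
      index_comap_of_surjective H (QuotientGroup.mk'_surjective N)
    have e1 := Subgroup.card_mul_index (H.comap q)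
    have e2 := Subgroup.card_mul_index H
    have e3 : Nat.card G = Nat.card (G ⧸ N) * Nat.card N :=
      Subgroup.card_eq_card_quotient_mul_card_subgroup N
    have hpos : 0 < H.index := Nat.pos_of_ne_zero (Subgroup.index_ne_zero_of_finite)
    have : Nat.card (H.comap q) = Nat.card H * Nat.card N := by
      apply Nat.eq_of_mul_eq_mul_right hpos
      rw [← hidx] at e2 ⊢
      rw [e1, e3, ← e2]; ring
    rw [this]
    exact Nat.mul_dvd_mul_right hdvd' _

end Cfsg.Agent.Lib.Helper2.Extra
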