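import Mathlib
import Cfsg.Prelude.Def_Transfer
import Cfsg.Agent.Lib.Helper29.Extraspecial
import Cfsg.Agent.Lib.Helper2.Extra1

set_option autoImplicit false

/-!
Extraspecial-like groups of exponent `p`: symplectic generating relations and uniqueness.
-/

namespace Cfsg.Agent.Lib.Helper2.Extra

open Subgroup Cfsg.Agent.Lib.Helper29
open scoped commutatorElement

universe u v

variable {p : ℕ} [hp : Fact p.Prime]

/-- refined inductive step: in a noncommutative `P` with centre of order `p` containing the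
commutator subgroup, for a given generator `z` of the centre there are `x, y` with `[x,y] = z`
and a subgroup `Q` centralizing `x, y`, of index `p²`, with the same properties, such that
`P = ⟨x, y⟩ Q`. -/
theorem step {P : Type u} [Group P] [Finite P]
    (hc : Nat.card (Subgroup.center P) = p) (hle : commutator P ≤ Subgroup.center P)
    (hne : Subgroup.center P ≠ ⊤) (z : P) (hz : z ∈ Subgroup.center P) (hz1 : z ≠ 1) :
    ∃ (x y : P) (Q : Subgroup P), cm x y = z ∧ (∀ q ∈ Q, q * x = x * q ∧ q * y = y * q) ∧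
      Subgroup.center P ≤ Q ∧
      Nat.card P = p ^ 2 * Nat.card Q ∧ Nat.card (Subgroup.center ↥Q) = p ∧
      commutator ↥Q ≤ Subgroup.center ↥Q ∧
      (∀ g : P, ∃ i j : ℕ, g * (x ^ i * y ^ j)⁻¹ ∈ Q) := by
  classical
  -- a noncentral element `x₀` and `y₀` not commuting with it
  obtain ⟨x₀, hx₀⟩ : ∃ x : P, x ∉ Subgroup.center P := by
    by_contra h
    push Not at h
    exact hne ((Subgroup.eq_top_iff' _).2 h)
  obtain ⟨y₀, hy₀⟩ : ∃ y : P, y * x₀ ≠ x₀ * y := by
    by_contra h
    push Not at h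
    exact hx₀ (Subgroup.mem_center_iff.2 h)
  have hc₀ : pairHom hle x₀ y₀ ≠ 1 := by
    intro h
    exact hy₀ ((pairHom_eq_one_iff hle x₀ y₀).1 h)
  obtain ⟨k, hk⟩ := mem_powers_of_prime_card (g' := (⟨z, hz⟩ : ↥(Subgroup.center P))) hc hc₀
  simp only at hk
  -- new pair
  obtain ⟨x, y, hxy⟩ : ∃ x y : P, cm x y = z := by
    refine ⟨y₀ ^ k, x₀, ?_⟩
    rw [cm_pow_left hle]
    have := congrArg Subtype.val hk
    simpa [pairHom_apply] using this
  set c : ↥(Subgroup.center P) := pairHom hle y x with hcdef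
  have hcz : (c : P) = z := by rw [hcdef, pairHom_apply, hxy]
  have hc1 : c ≠ 1 := by
    intro h
    apply hz1
    rw [← hcz, h]; rfl
  have hc2 : pairHom hle x y = c⁻¹ := by
    apply Subtype.ext
    rw [pairHom_apply, hcdef, Subgroup.coe_inv, pairHom_apply, cm_inv_swap]
  have hc2' : c⁻¹ ≠ 1 := by
    intro h; apply hc1; rw [← inv_inv c, h, inv_one]
  have hxx : pairHom hle x x = 1 := by apply Subtype.ext; exact cm_self x
  have hyy : pairHom hle y y = 1 := by apply Subtype.ext; exact cm_self y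
  -- the product homomorphism
  let f : P →* ↥(Subgroup.center P) × ↥(Subgroup.center P) :=
    (pairHom hle y).prod (pairHom hle x)
  have hf : ∀ q, f q = (pairHom hle y q, pairHom hle x q) := fun q => rfl
  have hsurj : Function.Surjective f := by
    rintro ⟨a, b⟩
    obtain ⟨i, hi⟩ := mem_powers_of_prime_card (g' := a) hc hc1
    obtain ⟨j, hj⟩ := mem_powers_of_prime_card (g' := b) hc hc2'
    refine ⟨x ^ i * y ^ j, ?_⟩
    rw [hf, map_mul, map_mul, map_pow, map_pow, map_pow, map_pow, hxx, hyy, hc2]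
    simp only [one_pow, mul_one, one_mul]
    rw [← hcdef]
    simp only at hi hj
    rw [hi, hj]
  have hmemker : ∀ q : P, q ∈ f.ker ↔ q * y = y * q ∧ q * x = x * q := by
    intro q
    rw [MonoidHom.mem_ker, hf, Prod.mk_eq_one, pairHom_eq_one_iff, pairHom_eq_one_iff]
  have hzker : ∀ z : P, z ∈ Subgroup.center P → z ∈ f.ker := by
    intro z hz
    rw [hmemker]
    exact ⟨(Subgroup.mem_center_iff.1 hz y).symm, (Subgroup.mem_center_iff.1 hz x).symm⟩
  have hgen : ∀ g : P, ∃ i j : ℕ, g * (x ^ i * y ^ j)⁻¹ ∈ f.ker := by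
    intro g
    obtain ⟨⟨i, hi⟩, ⟨j, hj⟩⟩ :
        (∃ i : ℕ, c ^ i = pairHom hle y g) ∧ (∃ j : ℕ, c⁻¹ ^ j = pairHom hle x g) :=
      ⟨mem_powers_of_prime_card hc hc1, mem_powers_of_prime_card hc hc2'⟩
    refine ⟨i, j, ?_⟩
    rw [MonoidHom.mem_ker, map_mul, map_inv, mul_inv_eq_one, hf, hf, map_mul, map_mul, map_pow,
      map_pow, map_pow, map_pow, hxx, hyy, hc2]
    simp only [one_pow, mul_one, one_mul]
    rw [← hcdef, hi, hj]
  refine ⟨x, y, f.ker, hxy, ?_, hzker, ?_, ?_, ?_, hgen⟩
  · intro q hq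
    exact ⟨((hmemker q).1 hq).2, ((hmemker q).1 hq).1⟩
  · have h1 : f.ker.index = Nat.card f.range := Subgroup.index_ker f
    have h2 : f.range = ⊤ := MonoidHom.range_eq_top.2 hsurj
    rw [h2, Subgroup.card_top, Nat.card_prod, hc] at h1
    rw [← Subgroup.card_mul_index f.ker, h1]
    ring
  · -- the centre of the kernel is the centre of `P`
    have hcenQ : ∀ w : ↥f.ker, w ∈ Subgroup.center ↥f.ker → (w : P) ∈ Subgroup.center P := by
      intro w hw
      rw [Subgroup.mem_center_iff]
      intro g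
      obtain ⟨i, j, hq'⟩ := hgen g
      have hwx : (w : P) * x = x * w := ((hmemker w).1 w.2).2
      have hwy : (w : P) * y = y * w := ((hmemker w).1 w.2).1
      have hwq : (⟨_, hq'⟩ : ↥f.ker) * w = w * ⟨_, hq'⟩ := Subgroup.mem_center_iff.1 hw _
      have hwq' : (g * (x ^ i * y ^ j)⁻¹) * (w : P) = w * (g * (x ^ i * y ^ j)⁻¹) :=
        congrArg Subtype.val hwq
      have hwxi : (w : P) * x ^ i = x ^ i * w := (Commute.pow_right hwx i)
      have hwyj : (w : P) * y ^ j = y ^ j * w := (Commute.pow_right hwy j)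
      have hwyx : (w : P) * (x ^ i * y ^ j) = (x ^ i * y ^ j) * w := by
        rw [← mul_assoc, hwxi, mul_assoc, hwyj, mul_assoc]
      calc g * (w : P) = (g * (x ^ i * y ^ j)⁻¹) * ((x ^ i * y ^ j) * w) := by group
        _ = (g * (x ^ i * y ^ j)⁻¹) * (w * (x ^ i * y ^ j)) := by rw [hwyx]
        _ = ((g * (x ^ i * y ^ j)⁻¹) * w) * (x ^ i * y ^ j) := by group
        _ = (w * (g * (x ^ i * y ^ j)⁻¹)) * (x ^ i * y ^ j) := by rw [hwq']
        _ = w * g := by group
    let e : ↥(Subgroup.center ↥f.ker) ≃ ↥(Subgroup.center P) :=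
      { toFun := fun w => ⟨(w : ↥f.ker), hcenQ w w.2⟩
        invFun := fun z => ⟨⟨z, hzker z z.2⟩, by
          rw [Subgroup.mem_center_iff]
          intro g
          apply Subtype.ext
          exact Subgroup.mem_center_iff.1 z.2 g⟩
        left_inv := fun w => rfl
        right_inv := fun z => rfl }
    rw [Nat.card_congr e, hc]
  · unfold _root_.commutator
    rw [Subgroup.commutator_le]
    intro a _ b _
    rw [Subgroup.mem_center_iff]
    intro g
    apply Subtype.ext
    exact cm_comm hle (a : P) (b : P) g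


/-- extraspecial-like of exponent `p`: exponent dividing `p`, centre of order `p`
containing the commutator subgroup. -/
def Like (p : ℕ) (P : Type*) [Group P] : Prop :=
  (∀ x : P, x ^ p = 1) ∧ Nat.card (Subgroup.center P) = p ∧ commutator P ≤ Subgroup.center P

theorem cm_eq_comm {P : Type*} [Group P] (a b : P) : cm a b = ⁅a, b⁆ := by
  rw [cm_def, commutatorElement_def]

theorem center_ne_top (n : ℕ) {Y : Type*} [Group Y] [Finite Y]
    (h1 : Nat.card (Subgroup.center Y) = p) (h2 : Nat.card Y = p ^ (2 * (n + 1) + 1)) :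
    Subgroup.center Y ≠ ⊤ := by
  intro h3
  rw [h3, Subgroup.card_top, h2] at h1
  have : p ^ (2 * (n + 1) + 1) = p ^ 1 := by rw [h1, pow_one]
  have := Nat.pow_right_injective hp.1.two_le this
  omega

/-- symplectic generating relation between two extraspecial-like groups of the same order -/
theorem exists_sympl (n : ℕ) : ∀ (X : Type u) (X' : Type v) [Group X] [Group X'] [Finite X]
    [Finite X'], Like p X → Like p X' → Nat.card X = p ^ (2 * n + 1) →
    Nat.card X' = p ^ (2 * n + 1) →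
    ∀ (z : X) (z' : X'), z ∈ Subgroup.center X → z ≠ 1 → z' ∈ Subgroup.center X' → z' ≠ 1 →
    ∃ S : Finset (X × X'), S.card ≤ 2 * n ∧
      (∀ s ∈ S, ∀ t ∈ S, ⁅s, t⁆ ∈ zpowers ((z, z') : X × X')) ∧
      closure (Prod.fst '' (S : Set (X × X')) ∪ {z}) = ⊤ ∧
      closure (Prod.snd '' (S : Set (X × X')) ∪ {z'}) = ⊤ := by
  classical
  induction n with
  | zero =>
    intro X X' _ _ _ _ hX hX' hcX hcX' z z' hz hz1 hz' hz1'
    refine ⟨∅, by simp, by simp, ?_, ?_⟩
    · simp only [Finset.coe_empty, Set.image_empty, Set.empty_union]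
      rw [← zpowers_eq_closure]
      exact zpowers_eq_top_of_prime_card (by simpa using hcX) hz1
    · simp only [Finset.coe_empty, Set.image_empty, Set.empty_union]
      rw [← zpowers_eq_closure]
      exact zpowers_eq_top_of_prime_card (by simpa using hcX') hz1'
  | succ n ih =>
    intro X X' _ _ _ _ hX hX' hcX hcX' z z' hz hz1 hz' hz1'
    have hp1 : 1 < p := hp.1.one_lt
    have hpp : 0 < p := hp.1.pos
    obtain ⟨x, y, Q, hxy, hQc, hZQ, hcard, hcQ, hleQ, hgen⟩ :=
      step hX.2.1 hX.2.2 (center_ne_top n hX.2.1 hcX) z hz hz1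
    obtain ⟨x', y', Q', hxy', hQc', hZQ', hcard', hcQ', hleQ', hgen'⟩ :=
      step hX'.2.1 hX'.2.2 (center_ne_top n hX'.2.1 hcX') z' hz' hz1'
    have hLQ : Like p ↥Q := ⟨fun q => Subtype.ext (hX.1 q), hcQ, hleQ⟩
    have hLQ' : Like p ↥Q' := ⟨fun q => Subtype.ext (hX'.1 q), hcQ', hleQ'⟩
    have hp2 : 0 < p ^ 2 := pow_pos hpp 2
    have hcardQ : Nat.card ↥Q = p ^ (2 * n + 1) := by
      apply Nat.eq_of_mul_eq_mul_left hp2
      rw [← hcard, hcX]; ring
    have hcardQ' : Nat.card ↥Q' = p ^ (2 * n + 1) := by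
      apply Nat.eq_of_mul_eq_mul_left hp2
      rw [← hcard', hcX']; ring
    have hzQ : z ∈ Q := hZQ hz
    have hzQ' : z' ∈ Q' := hZQ' hz'
    obtain ⟨S₀, hS₀card, hS₀c, hS₀1, hS₀2⟩ := ih ↥Q ↥Q' hLQ hLQ' hcardQ hcardQ' ⟨z, hzQ⟩ ⟨z', hzQ'⟩
      (Subgroup.mem_center_iff.2 fun g => Subtype.ext (Subgroup.mem_center_iff.1 hz g))
      (fun h => hz1 (congrArg Subtype.val h))
      (Subgroup.mem_center_iff.2 fun g => Subtype.ext (Subgroup.mem_center_iff.1 hz' g))
      (fun h => hz1' (congrArg Subtype.val h))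
    let ι : ↥Q × ↥Q' →* X × X' := MonoidHom.prodMap Q.subtype Q'.subtype
    let S : Finset (X × X') := insert (x, x') (insert (y, y') (S₀.image ι))
    set N : Subgroup (X × X') := zpowers ((z, z') : X × X') with hN
    -- symmetric relation
    have hsymm : ∀ s t : X × X', ⁅s, t⁆ ∈ N → ⁅t, s⁆ ∈ N := by
      intro s t h
      rw [← commutatorElement_inv]
      exact N.inv_mem h
    have hι : ∀ a ∈ S₀, ⁅((x, x') : X × X'), ι a⁆ = 1 ∧ ⁅((y, y') : X × X'), ι a⁆ = 1 := by
      intro a _
      have h1 := hQc a.1 a.1.2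
      have h2 := hQc' a.2 a.2.2
      constructor
      · rw [commutatorElement_eq_one_iff_mul_comm]
        exact Prod.ext h1.1.symm h2.1.symm
      · rw [commutatorElement_eq_one_iff_mul_comm]
        exact Prod.ext h1.2.symm h2.2.symm
    have hxyN : ⁅((x, x') : X × X'), ((y, y') : X × X')⁆ ∈ N := by
      have : ⁅((x, x') : X × X'), ((y, y') : X × X')⁆ = (z, z') := by
        apply Prod.ext
        · show ⁅x, y⁆ = z
          rw [← cm_eq_comm, hxy]
        · show ⁅x', y'⁆ = z'
          rw [← cm_eq_comm, hxy']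
      rw [this]
      exact mem_zpowers _
    have hιι : ∀ a ∈ S₀, ∀ b ∈ S₀, ⁅ι a, ι b⁆ ∈ N := by
      intro a ha b hb
      have h := hS₀c a ha b hb
      rw [← map_commutatorElement]
      have : (zpowers ((⟨z, hzQ⟩, ⟨z', hzQ'⟩) : ↥Q × ↥Q')).map ι = N := by
        rw [MonoidHom.map_zpowers]
        rfl
      rw [← this]
      exact Subgroup.mem_map_of_mem ι h
    have hmemS : ∀ s, s ∈ S ↔ s = (x, x') ∨ s = (y, y') ∨ ∃ a ∈ S₀, ι a = s := by
      intro s
      simp only [S, Finset.mem_insert, Finset.mem_image]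
    refine ⟨S, ?_, ?_, ?_, ?_⟩
    · calc S.card ≤ (insert (y, y') (S₀.image ι)).card + 1 := Finset.card_insert_le _ _
        _ ≤ ((S₀.image ι).card + 1) + 1 := by
          have := Finset.card_insert_le (y, y') (S₀.image ι)
          omega
        _ ≤ (S₀.card + 1) + 1 := by
          have := Finset.card_image_le (s := S₀) (f := ι)
          omega
        _ ≤ 2 * (n + 1) := by omega
    · intro s hs t ht
      rw [hmemS] at hs ht
      rcases hs with rfl | rfl | ⟨a, ha, rfl⟩ <;> rcases ht with rfl | rfl | ⟨b, hb, rfl⟩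
      · rw [commutatorElement_self]; exact N.one_mem
      · exact hxyN
      · rw [(hι b hb).1]; exact N.one_mem
      · exact hsymm _ _ hxyN
      · rw [commutatorElement_self]; exact N.one_mem
      · rw [(hι b hb).2]; exact N.one_mem
      · apply hsymm; rw [(hι a ha).1]; exact N.one_mem
      · apply hsymm; rw [(hι a ha).2]; exact N.one_mem
      · exact hιι a ha b hb
    · -- generation of X
      set K : Subgroup X := closure (Prod.fst '' (S : Set (X × X')) ∪ {z}) with hK
      have hxK : x ∈ K := subset_closure (Or.inl ⟨(x, x'), by simp [S], rfl⟩)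
      have hyK : y ∈ K := subset_closure (Or.inl ⟨(y, y'), by simp [S], rfl⟩)
      have hQK : Q ≤ K := by
        have h1 : Q = (⊤ : Subgroup ↥Q).map Q.subtype := by
          rw [← MonoidHom.range_eq_map, Subgroup.range_subtype]
        rw [h1, ← hS₀1, MonoidHom.map_closure, closure_le]
        rintro _ ⟨q, hq, rfl⟩
        rcases hq with ⟨a, ha, rfl⟩ | hq
        · refine subset_closure (Or.inl ⟨ι a, ?_, rfl⟩)
          rw [Finset.mem_coe, hmemS]
          exact Or.inr (Or.inr ⟨a, ha, rfl⟩)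
        · rw [Set.mem_singleton_iff] at hq
          subst hq
          exact subset_closure (Or.inr rfl)
      rw [eq_top_iff]
      intro g _
      obtain ⟨i, j, hg⟩ := hgen g
      have h2 : x ^ i * y ^ j ∈ K := K.mul_mem (K.pow_mem hxK i) (K.pow_mem hyK j)
      have := K.mul_mem (hQK hg) h2
      rwa [inv_mul_cancel_right] at this
    · set K : Subgroup X' := closure (Prod.snd '' (S : Set (X × X')) ∪ {z'}) with hK
      have hxK : x' ∈ K := subset_closure (Or.inl ⟨(x, x'), by simp [S], rfl⟩)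
      have hyK : y' ∈ K := subset_closure (Or.inl ⟨(y, y'), by simp [S], rfl⟩)
      have hQK : Q' ≤ K := by
        have h1 : Q' = (⊤ : Subgroup ↥Q').map Q'.subtype := by
          rw [← MonoidHom.range_eq_map, Subgroup.range_subtype]
        rw [h1, ← hS₀2, MonoidHom.map_closure, closure_le]
        rintro _ ⟨q, hq, rfl⟩
        rcases hq with ⟨a, ha, rfl⟩ | hq
        · refine subset_closure (Or.inl ⟨ι a, ?_, rfl⟩)
          rw [Finset.mem_coe, hmemS]
          exact Or.inr (Or.inr ⟨a, ha, rfl⟩)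
        · rw [Set.mem_singleton_iff] at hq
          subst hq
          exact subset_closure (Or.inr rfl)
      rw [eq_top_iff]
      intro g _
      obtain ⟨i, j, hg⟩ := hgen' g
      have h2 : x' ^ i * y' ^ j ∈ K := K.mul_mem (K.pow_mem hxK i) (K.pow_mem hyK j)
      have := K.mul_mem (hQK hg) h2
      rwa [inv_mul_cancel_right] at this


theorem exists_center_ne_one {Y : Type*} [Group Y] (h : Nat.card (Subgroup.center Y) = p) :
    ∃ z : Y, z ∈ Subgroup.center Y ∧ z ≠ 1 := by
  have : Finite (Subgroup.center Y) := Nat.finite_of_card_ne_zero (by rw [h]; exact hp.1.ne_zero)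
  have : Nontrivial (Subgroup.center Y) := by
    rw [← Finite.one_lt_card_iff_nontrivial, h]; exact hp.1.one_lt
  obtain ⟨a, ha⟩ := exists_ne (1 : Subgroup.center Y)
  exact ⟨a, a.2, fun h => ha (Subtype.ext h)⟩

/-- two extraspecial-like groups of exponent `p` of the same order are isomorphic -/
theorem nonempty_mulEquiv_of_like {X : Type u} {X' : Type v} [Group X] [Group X'] [Finite X]
    [Finite X'] (hX : Like p X) (hX' : Like p X') (hc : Nat.card X = Nat.card X') :
    Nonempty (X ≃* X') := by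
  classical
  obtain ⟨n, hn⟩ := card_eq_odd_pow hX.2.1 hX.2.2
  obtain ⟨n', hn'⟩ := card_eq_odd_pow hX'.2.1 hX'.2.2
  have hnn : n = n' := by
    have : p ^ (2 * n + 1) = p ^ (2 * n' + 1) := by rw [← hn, ← hn', hc]
    have := Nat.pow_right_injective hp.1.two_le this
    omega
  subst hnn
  obtain ⟨z, hz, hz1⟩ := exists_center_ne_one hX.2.1
  obtain ⟨z', hz', hz1'⟩ := exists_center_ne_one hX'.2.1
  obtain ⟨S, hScard, hSc, hS1, hS2⟩ := exists_sympl n X X' hX hX' hn hn' z z' hz hz1 hz' hz1'
  have hNc : zpowers ((z, z') : X × X') ≤ Subgroup.center (X × X') := by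
    rw [zpowers_le, Subgroup.mem_center_iff]
    intro g
    exact Prod.ext (Subgroup.mem_center_iff.1 hz g.1) (Subgroup.mem_center_iff.1 hz' g.2)
  have hNcard : Nat.card (zpowers ((z, z') : X × X')) = p := by
    rw [Nat.card_zpowers]
    apply orderOf_eq_prime
    · exact Prod.ext (hX.1 z) (hX'.1 z')
    · intro h
      exact hz1 (congrArg Prod.fst h)
  obtain ⟨R, hSR, hNR, hRcard⟩ := exists_subgroup_card_dvd (p := p) (zpowers ((z, z') : X × X'))
    hNc S (fun s _ => Prod.ext (hX.1 s.1) (hX'.1 s.2)) hSc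
  rw [hNcard] at hRcard
  have hRle : Nat.card R ≤ p ^ (2 * n + 1) := by
    apply Nat.le_of_dvd (pow_pos hp.1.pos _)
    refine hRcard.trans ?_
    rw [pow_succ]
    exact Nat.mul_dvd_mul_right (pow_dvd_pow p hScard) p
  have hzR : ((z, z') : X × X') ∈ R := hNR (mem_zpowers _)
  have h1 : R.map (MonoidHom.fst X X') = ⊤ := by
    rw [eq_top_iff, ← hS1, closure_le]
    rintro a (⟨s, hs, rfl⟩ | ha)
    · exact ⟨s, hSR hs, rfl⟩
    · rw [Set.mem_singleton_iff] at ha
      subst ha
      exact ⟨(a, z'), hzR, rfl⟩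
  have h2 : R.map (MonoidHom.snd X X') = ⊤ := by
    rw [eq_top_iff, ← hS2, closure_le]
    rintro a (⟨s, hs, rfl⟩ | ha)
    · exact ⟨s, hSR hs, rfl⟩
    · rw [Set.mem_singleton_iff] at ha
      subst ha
      exact ⟨(z, a), hzR, rfl⟩
  obtain ⟨e, -⟩ := exists_mulEquiv_of_graph R h1 h2 (by rw [hn]; exact hRle)
    (by rw [hn']; exact hRle)
  exact ⟨e⟩

end Cfsg.Agent.Lib.Helper2.Extra
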