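import Cfsg.Agent.Lib.Helper2.FH_A5S

/-! # Feit–Higman leaf FH-A5E (helper2 for helper6): for even `n` the braid relation forces a root of
unity.  Also the common core used by FH-A5O. -/

set_option autoImplicit false

namespace Cfsg.Agent.Lib.Helper6.FH

open Matrix

/-- Cayley–Hamilton for `2 × 2` matrices -/
theorem a5e_cayley (X : Matrix (Fin 2) (Fin 2) ℂ) :
    X * X = X.trace • X - X.det • (1 : Matrix (Fin 2) (Fin 2) ℂ) := by
  ext i j
  fin_cases i <;> fin_cases j <;>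
    simp [Matrix.mul_apply, Fin.sum_univ_two, Matrix.trace_fin_two, Matrix.det_fin_two] <;> ring

theorem a5e_shift {M : Type*} [Monoid M] (x y : M) (k : ℕ) : x * (y * x) ^ k = (x * y) ^ k * x := by
  induction k with
  | zero => simp
  | succ k ih =>
    rw [pow_succ, ← mul_assoc, ih, pow_succ]
    simp only [mul_assoc]

theorem a5e_altP_two_mul {M : Type*} [Monoid M] (k : ℕ) (x y : M) : altP (2 * k) x y = (x * y) ^ k := by
  induction k with
  | zero => simp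
  | succ k ih =>
    have e : 2 * (k + 1) = 2 * k + 1 + 1 := by ring
    rw [e, altP_succ, altP_succ, ih, pow_succ', mul_assoc]

theorem a5e_altP_two_mul_add_one {M : Type*} [Monoid M] (k : ℕ) (x y : M) :
    altP (2 * k + 1) x y = (x * y) ^ k * x := by
  rw [altP_succ, a5e_altP_two_mul, a5e_shift]

/-- trace and determinant of the first generator in dimension two -/
theorem a5e_trace_det_left {n : ℕ} {u v : ℂ} {a b : Matrix (Fin 2) (Fin 2) ℂ}
    (h : HeckeRep n u v a b) : a.trace = u - 1 ∧ a.det = -u := by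
  have h1 := a5e_cayley a
  rw [h.quadA] at h1
  have h2 : (a.trace - (u - 1)) • a = (a.det + u) • (1 : Matrix (Fin 2) (Fin 2) ℂ) := by
    have : a.trace • a = u • (1 : Matrix (Fin 2) (Fin 2) ℂ) + (u - 1) • a +
        a.det • (1 : Matrix (Fin 2) (Fin 2) ℂ) := by rw [h1]; abel
    rw [sub_smul, this, add_smul]; abel
  have h3 : a.trace - (u - 1) = 0 := by
    by_contra hne
    apply a5s_not_scalar_left h ((a.trace - (u - 1))⁻¹ * (a.det + u))
    rw [mul_smul, ← h2, smul_smul, inv_mul_cancel₀ hne, one_smul]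
  refine ⟨sub_eq_zero.mp h3, ?_⟩
  rw [h3, zero_smul] at h2
  have h4 := congrFun (congrFun h2 0) 0
  simp only [Matrix.zero_apply, Matrix.smul_apply, Matrix.one_apply_eq, smul_eq_mul, mul_one] at h4
  exact eq_neg_of_add_eq_zero_left h4.symm

/-- the HeckeRep structure is symmetric -/
theorem a5e_symm {n m : ℕ} {u v : ℂ} {a b : Matrix (Fin m) (Fin m) ℂ} (h : HeckeRep n u v a b) :
    HeckeRep n v u b a :=
  ⟨h.quadB, h.quadA, h.braid.symm, fun U hb ha => h.simple U ha hb⟩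

/-- the first generator is injective -/
theorem a5e_inj_left {n : ℕ} {u v : ℂ} {a b : Matrix (Fin 2) (Fin 2) ℂ}
    (h : HeckeRep n u v a b) (hu : u ≠ 0) (y : Fin 2 → ℂ) (hy : a *ᵥ y = 0) : y = 0 := by
  have h1 : (a * a) *ᵥ y = u • y + (u - 1) • (a *ᵥ y) := by
    rw [h.quadA, Matrix.add_mulVec, Matrix.smul_mulVec, Matrix.smul_mulVec, Matrix.one_mulVec]
  rw [← Matrix.mulVec_mulVec, hy, Matrix.mulVec_zero, smul_zero, add_zero] at h1
  exact (smul_eq_zero.mp h1.symm).resolve_left hu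

/-- the product of the generators is not a scalar -/
theorem a5e_mul_not_scalar {n : ℕ} {u v : ℂ} {a b : Matrix (Fin 2) (Fin 2) ℂ}
    (h : HeckeRep n u v a b) (hu : u ≠ 0) (z : ℂ) : a * b ≠ z • (1 : Matrix (Fin 2) (Fin 2) ℂ) := by
  intro hab
  obtain ⟨α, x, hx0, hx⟩ := a5s_exists_eigenvector (by norm_num : 0 < 2) a
  have hα : α ≠ 0 := by
    rintro rfl
    rw [zero_smul] at hx
    exact hx0 (a5e_inj_left h hu x hx)
  have h1 : a *ᵥ (b *ᵥ x) = z • x := by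
    rw [Matrix.mulVec_mulVec, hab, Matrix.smul_mulVec, Matrix.one_mulVec]
  have h2 : a *ᵥ (b *ᵥ x - (z / α) • x) = 0 := by
    rw [Matrix.mulVec_sub, Matrix.mulVec_smul, h1, hx, smul_smul, div_mul_cancel₀ z hα, sub_self]
  have h3 := a5e_inj_left h hu _ h2
  exact a5s_no_common_eigenvector h x hx0 α (z / α) hx (sub_eq_zero.mp h3)

/-- powers of a `2 × 2` matrix in terms of the roots of its characteristic polynomial -/
theorem a5e_pow_formula (X : Matrix (Fin 2) (Fin 2) ℂ) (l μ : ℂ) (hs : X.trace = l + μ)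
    (hp : X.det = l * μ) (j : ℕ) :
    (l - μ) • X ^ (j + 1) = (l ^ (j + 1) - μ ^ (j + 1)) • X -
      (l * μ * (l ^ j - μ ^ j)) • (1 : Matrix (Fin 2) (Fin 2) ℂ) := by
  have hXX : X * X = (l + μ) • X - (l * μ) • (1 : Matrix (Fin 2) (Fin 2) ℂ) := by
    rw [a5e_cayley, hs, hp]
  induction j with
  | zero => simp
  | succ j ih =>
    calc (l - μ) • X ^ (j + 1 + 1) = ((l - μ) • X ^ (j + 1)) * X := by
          rw [pow_succ _ (j + 1), smul_mul_assoc]
      _ = ((l ^ (j + 1) - μ ^ (j + 1)) • X -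
            (l * μ * (l ^ j - μ ^ j)) • (1 : Matrix (Fin 2) (Fin 2) ℂ)) * X := by rw [ih]
      _ = (l ^ (j + 1) - μ ^ (j + 1)) • (X * X) - (l * μ * (l ^ j - μ ^ j)) • X := by
          rw [sub_mul, smul_mul_assoc, smul_mul_assoc, one_mul]
      _ = _ := by
          rw [hXX]
          module

/-- powers of `λ + N` with `N² = 0` -/
theorem a5e_pow_nilp (X N : Matrix (Fin 2) (Fin 2) ℂ) (l : ℂ)
    (hX : X = l • (1 : Matrix (Fin 2) (Fin 2) ℂ) + N) (hN : N * N = 0) (j : ℕ) :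
    X ^ (j + 1) = l ^ (j + 1) • (1 : Matrix (Fin 2) (Fin 2) ℂ) + (((j + 1 : ℕ) : ℂ) * l ^ j) • N := by
  induction j with
  | zero => simp [hX]
  | succ j ih =>
    rw [pow_succ _ (j + 1), ih]
    have e : (l ^ (j + 1) • (1 : Matrix (Fin 2) (Fin 2) ℂ) + (((j + 1 : ℕ) : ℂ) * l ^ j) • N) * X =
        (l ^ (j + 1) • (1 : Matrix (Fin 2) (Fin 2) ℂ) + (((j + 1 : ℕ) : ℂ) * l ^ j) • N) *
          (l • (1 : Matrix (Fin 2) (Fin 2) ℂ) + N) := by rw [← hX]
    rw [e]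
    simp only [add_mul, mul_add, smul_mul_assoc, mul_smul_comm, one_mul, mul_one, hN, smul_zero,
      add_zero]
    push_cast
    module

/-- the core: a non-scalar `2 × 2` matrix with nonzero determinant `ρ²` and a scalar power -/
theorem a5e_core (X : Matrix (Fin 2) (Fin 2) ℂ) (hX : ∀ z : ℂ, X ≠ z • (1 : Matrix (Fin 2) (Fin 2) ℂ))
    (ρ : ℂ) (hρ : ρ ≠ 0) (hdet : X.det = ρ ^ 2) (N : ℕ) (hN : 1 ≤ N) (z : ℂ)
    (hz : X ^ N = z • (1 : Matrix (Fin 2) (Fin 2) ℂ)) :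
    ∃ l μ : ℂ, l + μ = X.trace ∧ l * μ = ρ ^ 2 ∧ l ≠ μ ∧ l ^ N = μ ^ N := by
  obtain ⟨s, hs⟩ := IsAlgClosed.exists_pow_nat_eq (X.trace ^ 2 - 4 * ρ ^ 2) (by norm_num : 0 < 2)
  obtain ⟨l, hl⟩ : ∃ l : ℂ, l = (X.trace + s) / 2 := ⟨_, rfl⟩
  obtain ⟨μ, hμ⟩ : ∃ μ : ℂ, μ = (X.trace - s) / 2 := ⟨_, rfl⟩
  have hsum : l + μ = X.trace := by rw [hl, hμ]; ring
  have hprod : l * μ = ρ ^ 2 := by
    rw [hl, hμ]
    have : (X.trace + s) / 2 * ((X.trace - s) / 2) = (X.trace ^ 2 - s ^ 2) / 4 := by ring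
    rw [this, hs]; ring
  obtain ⟨j, rfl⟩ : ∃ j, N = j + 1 := ⟨N - 1, by omega⟩
  have hl0 : l ≠ 0 := by
    rintro rfl
    rw [zero_mul] at hprod
    exact hρ (pow_eq_zero_iff (by norm_num) |>.mp hprod.symm)
  have hne : l ≠ μ := by
    intro hlm
    -- the nilpotent case
    have hNN : (X - l • (1 : Matrix (Fin 2) (Fin 2) ℂ)) * (X - l • (1 : Matrix (Fin 2) (Fin 2) ℂ)) = 0 := by
      have hXX : X * X = (l + μ) • X - (l * μ) • (1 : Matrix (Fin 2) (Fin 2) ℂ) := by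
        rw [a5e_cayley, ← hsum, hdet, ← hprod]
      simp only [sub_mul, mul_sub, smul_mul_assoc, mul_smul_comm, one_mul, mul_one, hXX]
      rw [← hlm]
      module
    have hpow := a5e_pow_nilp X (X - l • (1 : Matrix (Fin 2) (Fin 2) ℂ)) l (by abel) hNN j
    rw [hz] at hpow
    obtain ⟨c, hc⟩ : ∃ c : ℂ, c = ((j + 1 : ℕ) : ℂ) * l ^ j := ⟨_, rfl⟩
    rw [← hc] at hpow
    have hc0 : c ≠ 0 := by
      rw [hc]
      apply mul_ne_zero
      · exact_mod_cast Nat.succ_ne_zero j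
      · exact pow_ne_zero _ hl0
    have h1 : c • (X - l • (1 : Matrix (Fin 2) (Fin 2) ℂ)) =
        (z - l ^ (j + 1)) • (1 : Matrix (Fin 2) (Fin 2) ℂ) := by
      rw [sub_smul, hpow]; abel
    have h2 : (z - l ^ (j + 1)) • (X - l • (1 : Matrix (Fin 2) (Fin 2) ℂ)) = 0 := by
      have := congrArg (fun M => M * (X - l • (1 : Matrix (Fin 2) (Fin 2) ℂ))) h1
      simp only [smul_mul_assoc, hNN, smul_zero, one_mul] at this
      exact this.symm
    have h3 : X - l • (1 : Matrix (Fin 2) (Fin 2) ℂ) = 0 := by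
      rcases smul_eq_zero.mp h2 with h4 | h4
      · rw [h4, zero_smul] at h1
        exact (smul_eq_zero.mp h1).resolve_left hc0
      · exact h4
    exact hX l (sub_eq_zero.mp h3)
  refine ⟨l, μ, hsum, hprod, hne, ?_⟩
  have hf := a5e_pow_formula X l μ hsum.symm (by rw [hdet, hprod]) j
  rw [hz] at hf
  by_contra hpow
  have hd : l ^ (j + 1) - μ ^ (j + 1) ≠ 0 := sub_ne_zero.mpr hpow
  apply hX ((l ^ (j + 1) - μ ^ (j + 1))⁻¹ * ((l - μ) * z + l * μ * (l ^ j - μ ^ j)))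
  have h1 : (l ^ (j + 1) - μ ^ (j + 1)) • X =
      ((l - μ) * z + l * μ * (l ^ j - μ ^ j)) • (1 : Matrix (Fin 2) (Fin 2) ℂ) := by
    rw [add_smul, mul_smul, hf]; abel
  rw [mul_smul, ← h1, smul_smul, inv_mul_cancel₀ hd, one_smul]

/-- from the roots `λ, μ` to the parameter `t = λ / ρ` -/
theorem a5e_param (τ ρ l μ : ℂ) (hρ : ρ ≠ 0) (hsum : l + μ = τ) (hprod : l * μ = ρ ^ 2)
    (hne : l ≠ μ) : (l / ρ) ^ 2 ≠ 1 ∧ τ = ρ * (l / ρ + (l / ρ)⁻¹) ∧ (l / ρ)⁻¹ = μ / ρ := by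
  have hl0 : l ≠ 0 := by
    rintro rfl
    rw [zero_mul] at hprod
    exact hρ (pow_eq_zero_iff (by norm_num) |>.mp hprod.symm)
  have hinv : (l / ρ)⁻¹ = μ / ρ := by
    rw [inv_div, div_eq_div_iff hl0 hρ, ← sq, ← hprod, mul_comm]
  refine ⟨?_, ?_, hinv⟩
  · intro h1
    apply hne
    have h2 : l ^ 2 = ρ ^ 2 := by
      rw [div_pow, div_eq_one_iff_eq (pow_ne_zero 2 hρ)] at h1
      exact h1
    rw [← hprod, sq] at h2
    exact mul_left_cancel₀ hl0 h2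
  · rw [hinv, ← hsum]
    field_simp

/-- FH-A5E -/
theorem exists_root_even {n u v : ℕ} (hn : 2 ≤ n) (heven : Even n) (hu : 1 ≤ u) (hv : 1 ≤ v)
    {a b : Matrix (Fin 2) (Fin 2) ℂ} (h : HeckeRep n (u : ℂ) (v : ℂ) a b) :
    ∃ t : ℂ, t ^ n = 1 ∧ t ^ 2 ≠ 1 ∧ (a * b).trace = ((Real.sqrt (u * v) : ℝ) : ℂ) * (t + t⁻¹) := by
  obtain ⟨k, hk⟩ := heven
  have hk2 : n = 2 * k := by omega
  have hk1 : 1 ≤ k := by omega
  have hu0 : (u : ℂ) ≠ 0 := by
    have : u ≠ 0 := by omega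
    exact_mod_cast this
  have hv0 : (v : ℂ) ≠ 0 := by
    have : v ≠ 0 := by omega
    exact_mod_cast this
  -- the braid relation
  have hbr : (a * b) ^ k = (b * a) ^ k := by
    have := h.braid
    rwa [hk2, a5e_altP_two_mul, a5e_altP_two_mul] at this
  -- `(ab)^k` is central
  have hca : (a * b) ^ k * a = a * (a * b) ^ k := by
    rw [← a5e_shift, hbr]
  have hcb : (a * b) ^ k * b = b * (a * b) ^ k := by
    rw [a5e_shift, hbr]
  obtain ⟨z, hz⟩ := scalar_of_commute h hca hcb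
  -- the determinant
  obtain ⟨ρ, hρdef⟩ : ∃ ρ : ℂ, ρ = ((Real.sqrt (u * v) : ℝ) : ℂ) := ⟨_, rfl⟩
  have huv : (0 : ℝ) < (u : ℝ) * v := by
    have h1 : (0 : ℝ) < u := by exact_mod_cast hu
    have h2 : (0 : ℝ) < v := by exact_mod_cast hv
    positivity
  have hρ2 : ρ ^ 2 = (u : ℂ) * v := by
    rw [hρdef, ← Complex.ofReal_pow, Real.sq_sqrt huv.le]
    push_cast
    ring
  have hρ0 : ρ ≠ 0 := by
    rw [hρdef]
    exact Complex.ofReal_ne_zero.mpr (Real.sqrt_ne_zero'.mpr huv)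
  have hdet : (a * b).det = ρ ^ 2 := by
    rw [Matrix.det_mul, (a5e_trace_det_left h).2, (a5e_trace_det_left (a5e_symm h)).2, hρ2]
    ring
  obtain ⟨l, μ, hsum, hprod, hne, hpow⟩ :=
    a5e_core (a * b) (a5e_mul_not_scalar h hu0) ρ hρ0 hdet k hk1 z hz
  obtain ⟨ht2, hτ, hinv⟩ := a5e_param (a * b).trace ρ l μ hρ0 hsum hprod hne
  have hμ0 : μ ≠ 0 := by
    rintro rfl
    rw [mul_zero] at hprod
    exact hρ0 (pow_eq_zero_iff (by norm_num) |>.mp hprod.symm)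
  refine ⟨l / ρ, ?_, ht2, ?_⟩
  · -- `t ^ n = 1`
    have h1 : (l / ρ) ^ 2 = l / μ := by
      rw [div_pow, ← hprod, sq, mul_div_mul_left _ _ (left_ne_zero_of_mul (hprod ▸ pow_ne_zero 2 hρ0))]
    rw [hk2, pow_mul, h1, div_pow, hpow, div_self (pow_ne_zero _ hμ0)]
  · rw [← hρdef]
    exact hτ

end Cfsg.Agent.Lib.Helper6.FH
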