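import Cfsg.Agent.Lib.Helper2.FH_A5E

/-! # Feit–Higman leaf FH-A5O (helper2 for helper6): for odd `n` (and equal parameters) the braid
relation forces a root of unity. -/

set_option autoImplicit false

namespace Cfsg.Agent.Lib.Helper6.FH

open Matrix

/-- the trace of `a b a` -/
theorem a5o_trace_aba {n : ℕ} {u v : ℂ} {a b : Matrix (Fin 2) (Fin 2) ℂ} (h : HeckeRep n u v a b) :
    (a * b * a).trace = u * (v - 1) + (u - 1) * (a * b).trace := by
  rw [mul_assoc, Matrix.trace_mul_comm, mul_assoc, h.quadA, mul_add, Matrix.trace_add,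
    Matrix.mul_smul, Matrix.mul_smul, mul_one, Matrix.trace_smul, Matrix.trace_smul,
    (a5e_trace_det_left (a5e_symm h)).1, Matrix.trace_mul_comm b a]
  simp [smul_eq_mul]

/-- FH-A5O -/
theorem exists_root_odd {n u : ℕ} (hn : 2 ≤ n) (hodd : Odd n) (hu : 2 ≤ u)
    {a b : Matrix (Fin 2) (Fin 2) ℂ} (h : HeckeRep n (u : ℂ) (u : ℂ) a b) :
    ∃ t : ℂ, t ^ n = 1 ∧ t ^ 2 ≠ 1 ∧ (a * b).trace = (u : ℂ) * (t + t⁻¹) := by
  obtain ⟨k, hk⟩ := hodd
  obtain ⟨j, rfl⟩ : ∃ j, k = j + 1 := ⟨k - 1, by omega⟩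
  have hu0 : (u : ℂ) ≠ 0 := by
    have : u ≠ 0 := by omega
    exact_mod_cast this
  have hu1 : (u : ℂ) - 1 ≠ 0 := by
    have : (u : ℂ) ≠ 1 := by
      have : u ≠ 1 := by omega
      exact_mod_cast this
    exact sub_ne_zero.mpr this
  -- the element `Y`
  obtain ⟨Y, hY⟩ : ∃ Y, Y = (a * b) ^ (j + 1) * a := ⟨_, rfl⟩
  have hY' : Y = (b * a) ^ (j + 1) * b := by
    have := h.braid
    rw [hk, a5e_altP_two_mul_add_one, a5e_altP_two_mul_add_one] at this
    rw [hY, this]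
  have hYb : Y * b = a * Y := by
    calc Y * b = (a * b) ^ (j + 1) * a * b := by rw [hY]
      _ = a * (b * a) ^ (j + 1) * b := by rw [a5e_shift]
      _ = a * Y := by rw [hY', mul_assoc]
  have hYa : Y * a = b * Y := by
    calc Y * a = (b * a) ^ (j + 1) * b * a := by rw [hY']
      _ = b * (a * b) ^ (j + 1) * a := by rw [a5e_shift]
      _ = b * Y := by rw [hY, mul_assoc]
  have hca : (Y * Y) * a = a * (Y * Y) := by
    rw [mul_assoc, hYa, ← mul_assoc, hYb, mul_assoc]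
  have hcb : (Y * Y) * b = b * (Y * Y) := by
    rw [mul_assoc, hYb, ← mul_assoc, hYa, mul_assoc]
  obtain ⟨z, hz⟩ := scalar_of_commute h hca hcb
  have hYY : Y * Y = (a * b) ^ n := by
    calc Y * Y = ((a * b) ^ (j + 1) * a) * ((b * a) ^ (j + 1) * b) := by rw [← hY, ← hY']
      _ = (a * b) ^ (j + 1) * (a * (b * a) ^ (j + 1)) * b := by simp only [mul_assoc]
      _ = (a * b) ^ (j + 1) * ((a * b) ^ (j + 1) * a) * b := by rw [a5e_shift]
      _ = (a * b) ^ (j + 1) * (a * b) ^ (j + 1) * (a * b) := by simp only [mul_assoc]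
      _ = (a * b) ^ n := by
        rw [← pow_add, ← pow_succ, hk]
        congr 1
        ring
  have hdetA := (a5e_trace_det_left h).2
  have hdetB := (a5e_trace_det_left (a5e_symm h)).2
  have hYns : ∀ c : ℂ, Y ≠ c • (1 : Matrix (Fin 2) (Fin 2) ℂ) := by
    intro c hc
    have hdetY : Y.det ≠ 0 := by
      rw [hY, Matrix.det_mul, Matrix.det_pow, Matrix.det_mul, hdetA, hdetB]
      exact mul_ne_zero (pow_ne_zero _ (mul_ne_zero (neg_ne_zero.mpr hu0) (neg_ne_zero.mpr hu0)))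
        (neg_ne_zero.mpr hu0)
    have hc0 : c ≠ 0 := by
      rintro rfl
      rw [zero_smul] at hc
      rw [hc, Matrix.det_zero] at hdetY
      exact hdetY rfl
    have hab : a = b := by
      have h1 := hYb
      rw [hc, smul_mul_assoc, one_mul, mul_smul_comm, mul_one] at h1
      exact (smul_right_injective _ hc0 h1).symm
    obtain ⟨α, x, hx0, hx⟩ := a5s_exists_eigenvector (by norm_num : 0 < 2) a
    have hx' : b *ᵥ x = α • x := by rw [← hab]; exact hx
    exact a5s_no_common_eigenvector h x hx0 α α hx hx'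
  have htrY : Y.trace = 0 := by
    by_contra hne
    have h1 := a5e_cayley Y
    rw [hz] at h1
    apply hYns ((Y.trace)⁻¹ * (z + Y.det))
    have h2 : Y.trace • Y = (z + Y.det) • (1 : Matrix (Fin 2) (Fin 2) ℂ) := by
      rw [add_smul, h1]; abel
    rw [mul_smul, ← h2, smul_smul, inv_mul_cancel₀ hne, one_smul]
  have hdet : (a * b).det = (u : ℂ) ^ 2 := by
    rw [Matrix.det_mul, hdetA, hdetB]; ring
  obtain ⟨l, μ, hsum, hprod, hne, -⟩ :=
    a5e_core (a * b) (a5e_mul_not_scalar h hu0) u hu0 hdet n (by omega) z (by rw [← hYY]; exact hz)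
  -- the trace of `Y`
  have hf := a5e_pow_formula (a * b) l μ hsum.symm (hdet.trans hprod.symm) j
  have hf2 := congrArg (fun M => (M * a).trace) hf
  simp only [smul_mul_assoc, sub_mul, one_mul, Matrix.trace_smul, Matrix.trace_sub,
    smul_eq_mul] at hf2
  rw [← hY, htrY, a5o_trace_aba h, (a5e_trace_det_left h).1, ← hsum, mul_zero] at hf2
  have H : (u : ℂ) * (l ^ (j + 1) - μ ^ (j + 1)) + l ^ (j + 2) - μ ^ (j + 2) = 0 := by
    have : ((u : ℂ) - 1) * ((u : ℂ) * (l ^ (j + 1) - μ ^ (j + 1)) + l ^ (j + 2) - μ ^ (j + 2)) = 0 := by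
      linear_combination -hf2
    exact (mul_eq_zero.mp this).resolve_left hu1
  have hfin : (l ^ n - (u : ℂ) ^ n) * ((u : ℂ) + l) = 0 := by
    rw [hk]
    have e1 : l ^ (j + 1) * μ ^ (j + 1) = (u : ℂ) ^ (2 * j + 2) := by
      rw [← mul_pow, hprod, ← pow_mul]; ring_nf
    have e2 : l ^ (j + 2) * μ ^ (j + 2) = (u : ℂ) ^ (2 * j + 4) := by
      rw [← mul_pow, hprod, ← pow_mul]; ring_nf
    have : (l ^ (2 * (j + 1) + 1) - (u : ℂ) ^ (2 * (j + 1) + 1)) * ((u : ℂ) + l) =
        l ^ (j + 2) * ((u : ℂ) * (l ^ (j + 1) - μ ^ (j + 1)) + l ^ (j + 2) - μ ^ (j + 2)) := by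
      linear_combination ((u : ℂ) * l) * e1 + e2
    rw [this, H, mul_zero]
  have hlu : (u : ℂ) + l ≠ 0 := by
    intro h0
    apply hne
    have hl : l = -(u : ℂ) := by linear_combination h0
    have h1 : (u : ℂ) * (μ + u) = 0 := by
      rw [hl] at hprod
      linear_combination -hprod
    rcases mul_eq_zero.mp h1 with h2 | h2
    · exact absurd h2 hu0
    · rw [hl]; linear_combination -h2
  have hln : l ^ n = (u : ℂ) ^ n := sub_eq_zero.mp ((mul_eq_zero.mp hfin).resolve_right hlu)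
  obtain ⟨ht2, hτ, -⟩ := a5e_param (a * b).trace u l μ hu0 hsum hprod hne
  refine ⟨l / u, ?_, ht2, hτ⟩
  rw [div_pow, hln, div_self (pow_ne_zero _ hu0)]

end Cfsg.Agent.Lib.Helper6.FH
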