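import Cfsg.Agent.Lib.Helper6.FH.ADefs

/-! # Feit–Higman leaf FH-A5S (helper2 for helper6): Schur's lemma for `HeckeRep`, and the absence of
common eigenvectors in dimension two -/

set_option autoImplicit false

namespace Cfsg.Agent.Lib.Helper6.FH

open Matrix

/-- the eigenspace `{x | c x = z x}` as a submodule -/
def a5s_eig {m : ℕ} (c : Matrix (Fin m) (Fin m) ℂ) (z : ℂ) : Submodule ℂ (Fin m → ℂ) where
  carrier := {x | c *ᵥ x = z • x}
  add_mem' := by
    intro x y hx hy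
    show c *ᵥ (x + y) = z • (x + y)
    rw [Matrix.mulVec_add, show c *ᵥ x = z • x from hx, show c *ᵥ y = z • y from hy, smul_add]
  zero_mem' := by
    show c *ᵥ (0 : Fin m → ℂ) = z • (0 : Fin m → ℂ)
    rw [Matrix.mulVec_zero, smul_zero]
  smul_mem' := by
    intro r x hx
    show c *ᵥ (r • x) = z • (r • x)
    rw [Matrix.mulVec_smul, show c *ᵥ x = z • x from hx, smul_comm]

theorem a5s_mem_eig {m : ℕ} (c : Matrix (Fin m) (Fin m) ℂ) (z : ℂ) (x : Fin m → ℂ) :
    x ∈ a5s_eig c z ↔ c *ᵥ x = z • x := Iff.rfl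

/-- a complex square matrix of positive size has an eigenvector -/
theorem a5s_exists_eigenvector {m : ℕ} (hm : 0 < m) (c : Matrix (Fin m) (Fin m) ℂ) :
    ∃ (z : ℂ) (x : Fin m → ℂ), x ≠ 0 ∧ c *ᵥ x = z • x := by
  haveI : Nonempty (Fin m) := ⟨⟨0, hm⟩⟩
  haveI : Nontrivial (Fin m → ℂ) := inferInstance
  obtain ⟨z, hz⟩ := Module.End.exists_eigenvalue (Matrix.toLin' c)
  obtain ⟨x, hx⟩ := hz.exists_hasEigenvector
  refine ⟨z, x, hx.2, ?_⟩
  have := hx.apply_eq_smul
  rwa [Matrix.toLin'_apply] at this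

/-- FH-A5S: Schur's lemma -/
theorem scalar_of_commute {n m : ℕ} {u v : ℂ} {a b : Matrix (Fin m) (Fin m) ℂ} (h : HeckeRep n u v a b)
    {c : Matrix (Fin m) (Fin m) ℂ} (hca : c * a = a * c) (hcb : c * b = b * c) :
    ∃ z : ℂ, c = z • (1 : Matrix (Fin m) (Fin m) ℂ) := by
  rcases Nat.eq_zero_or_pos m with rfl | hm
  · exact ⟨0, by ext i; exact i.elim0⟩
  obtain ⟨z, x, hx0, hx⟩ := a5s_exists_eigenvector hm c
  have hUa : ∀ y ∈ a5s_eig c z, a *ᵥ y ∈ a5s_eig c z := by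
    intro y hy
    rw [a5s_mem_eig] at hy ⊢
    rw [Matrix.mulVec_mulVec, hca, ← Matrix.mulVec_mulVec, hy, Matrix.mulVec_smul]
  have hUb : ∀ y ∈ a5s_eig c z, b *ᵥ y ∈ a5s_eig c z := by
    intro y hy
    rw [a5s_mem_eig] at hy ⊢
    rw [Matrix.mulVec_mulVec, hcb, ← Matrix.mulVec_mulVec, hy, Matrix.mulVec_smul]
  rcases h.simple _ hUa hUb with h0 | h1
  · exfalso
    have : x ∈ a5s_eig c z := hx
    rw [h0, Submodule.mem_bot] at this
    exact hx0 this
  · refine ⟨z, ?_⟩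
    apply Matrix.toLin'.injective
    apply LinearMap.ext
    intro y
    rw [Matrix.toLin'_apply, Matrix.toLin'_apply, Matrix.smul_mulVec, Matrix.one_mulVec]
    have : y ∈ a5s_eig c z := by rw [h1]; exact Submodule.mem_top
    exact this

/-- in dimension two the generators have no common eigenvector -/
theorem a5s_no_common_eigenvector {n : ℕ} {u v : ℂ} {a b : Matrix (Fin 2) (Fin 2) ℂ}
    (h : HeckeRep n u v a b) (x : Fin 2 → ℂ) (hx : x ≠ 0) (α β : ℂ) (ha : a *ᵥ x = α • x)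
    (hb : b *ᵥ x = β • x) : False := by
  have hUa : ∀ y ∈ Submodule.span ℂ ({x} : Set (Fin 2 → ℂ)), a *ᵥ y ∈ Submodule.span ℂ ({x} : Set (Fin 2 → ℂ)) := by
    intro y hy
    obtain ⟨r, rfl⟩ := Submodule.mem_span_singleton.mp hy
    rw [Matrix.mulVec_smul, ha, smul_smul]
    exact Submodule.mem_span_singleton.mpr ⟨_, rfl⟩
  have hUb : ∀ y ∈ Submodule.span ℂ ({x} : Set (Fin 2 → ℂ)), b *ᵥ y ∈ Submodule.span ℂ ({x} : Set (Fin 2 → ℂ)) := by
    intro y hy
    obtain ⟨r, rfl⟩ := Submodule.mem_span_singleton.mp hy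
    rw [Matrix.mulVec_smul, hb, smul_smul]
    exact Submodule.mem_span_singleton.mpr ⟨_, rfl⟩
  rcases h.simple _ hUa hUb with h0 | h1
  · have : x ∈ Submodule.span ℂ ({x} : Set (Fin 2 → ℂ)) := Submodule.mem_span_singleton_self x
    rw [h0, Submodule.mem_bot] at this
    exact hx this
  · have h2 : Module.finrank ℂ (Submodule.span ℂ ({x} : Set (Fin 2 → ℂ))) = 1 := finrank_span_singleton hx
    rw [h1, finrank_top, Module.finrank_fin_fun] at h2
    omega

/-- in dimension two the first generator is not a scalar -/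
theorem a5s_not_scalar_left {n : ℕ} {u v : ℂ} {a b : Matrix (Fin 2) (Fin 2) ℂ}
    (h : HeckeRep n u v a b) (z : ℂ) : a ≠ z • (1 : Matrix (Fin 2) (Fin 2) ℂ) := by
  intro ha
  obtain ⟨β, x, hx0, hx⟩ := a5s_exists_eigenvector (by norm_num : 0 < 2) b
  apply a5s_no_common_eigenvector h x hx0 z β _ hx
  rw [ha, Matrix.smul_mulVec, Matrix.one_mulVec]

/-- in dimension two the second generator is not a scalar -/
theorem a5s_not_scalar_right {n : ℕ} {u v : ℂ} {a b : Matrix (Fin 2) (Fin 2) ℂ}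
    (h : HeckeRep n u v a b) (z : ℂ) : b ≠ z • (1 : Matrix (Fin 2) (Fin 2) ℂ) := by
  intro hb
  obtain ⟨α, x, hx0, hx⟩ := a5s_exists_eigenvector (by norm_num : 0 < 2) a
  apply a5s_no_common_eigenvector h x hx0 α z hx
  rw [hb, Matrix.smul_mulVec, Matrix.one_mulVec]

end Cfsg.Agent.Lib.Helper6.FH
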