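import Cfsg.Agent.Lib.Helper47.FLDefs

set_option autoImplicit false

/-! # FL hive (S2863), leaf GP-ISO -/

namespace Cfsg.Agent.Lib.Helper47.FL

section gp

theorem gpiso_map_cj {X X' : Type*} [Group X] [Group X'] (e : X ≃* X') (g : X)
    (P : Subgroup X) :
    (cj g P).map e.toMonoidHom = cj (e g) (P.map e.toMonoidHom) := by
  ext x
  constructor
  · rintro ⟨y, hy, rfl⟩
    obtain ⟨z, hz, rfl⟩ := mem_cj.mp hy
    refine mem_cj.mpr ⟨e z, Subgroup.mem_map_of_mem _ hz, ?_⟩
    simp
  · intro hx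
    obtain ⟨y, hy, rfl⟩ := mem_cj.mp hx
    obtain ⟨z, hz, rfl⟩ := hy
    refine ⟨g * z * g⁻¹, conj_mem_cj hz, ?_⟩
    simp

theorem gpiso_map_inj {X X' : Type*} [Group X] [Group X'] (e : X ≃* X') {P Q : Subgroup X}
    (h : P.map e.toMonoidHom = Q.map e.toMonoidHom) : P = Q :=
  Subgroup.map_injective e.injective h

theorem gpiso_mem_map {X X' : Type*} [Group X] [Group X'] (e : X ≃* X') {P : Subgroup X}
    {x : X} : e x ∈ P.map e.toMonoidHom ↔ x ∈ P := by
  constructor
  · rintro ⟨y, hy, hyx⟩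
    have : y = x := e.injective hyx
    rwa [← this]
  · intro hx
    exact Subgroup.mem_map_of_mem _ hx

/-- LEAF GP-ISO. Transport along an isomorphism. -/
theorem GoodPair.of_mulEquiv {X X' : Type*} [Group X] [Group X'] (e : X ≃* X') {p : ℕ}
    {P : Subgroup X} (h : GoodPair p (P.map e.toMonoidHom)) : GoodPair p P := by
  constructor
  · intro y hy hy1
    have hey : e y ≠ 1 := by
      intro h1
      apply hy1
      exact e.injective (by rw [h1, map_one])
    obtain ⟨g', hg', y'', hy'', n', hn', hnP⟩ :=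
      h.free (e y) ((gpiso_mem_map e).mpr hy) hey
    obtain ⟨g, rfl⟩ := e.surjective g'
    obtain ⟨y', rfl⟩ := e.surjective y''
    obtain ⟨n, rfl⟩ := e.surjective n'
    rw [← gpiso_map_cj] at hg' hy'' hnP
    rw [← gpiso_map_cj] at hnP
    refine ⟨g, ?_, y', (gpiso_mem_map e).mp hy'', n, ?_, gpiso_map_inj e hnP⟩
    · intro hc
      apply hg'
      rw [hc]
    · have himg : ({e y, e y'} : Set X') = e.toMonoidHom '' ({y, y'} : Set X) := by
        rw [Set.image_pair]
        rfl
      rw [himg, ← MonoidHom.map_closure] at hn'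
      exact (gpiso_mem_map e).mp hn'
  · intro x hx
    have hex : ¬ ∃ k : ℕ, orderOf (e x) = p ^ k := by
      rw [MulEquiv.orderOf_eq]
      exact hx
    obtain ⟨j, hj⟩ := h.fpf (e x) hex
    refine ⟨j, ?_⟩
    rcases hj with ⟨g1', g2', hne, y1', hy1', y2', hy2', h1, h2, hxj⟩ |
      ⟨hp, g', hg', y'', hy'', y''', hy''', hc1, hc2, hxj⟩
    · left
      obtain ⟨g1, rfl⟩ := e.surjective g1'
      obtain ⟨g2, rfl⟩ := e.surjective g2'
      obtain ⟨y1, rfl⟩ := e.surjective y1'
      obtain ⟨y2, rfl⟩ := e.surjective y2'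
      rw [← gpiso_map_cj] at hne hy1'
      rw [← gpiso_map_cj] at hne hy2'
      refine ⟨g1, g2, ?_, y1, (gpiso_mem_map e).mp hy1', y2, (gpiso_mem_map e).mp hy2', ?_, ?_, ?_⟩
      · intro hc
        apply hne
        rw [hc]
      · intro hc
        apply h1
        rw [hc, map_one]
      · intro hc
        apply h2
        rw [hc, map_one]
      · apply e.injective
        rw [map_pow, map_mul]
        exact hxj
    · right
      obtain ⟨g, rfl⟩ := e.surjective g'
      obtain ⟨y, rfl⟩ := e.surjective y''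
      obtain ⟨y', rfl⟩ := e.surjective y'''
      have hmul : e y * e y' * e y = e (y * y' * y) := by
        rw [map_mul, map_mul]
      rw [hmul] at hc1 hc2 hxj
      rw [← gpiso_map_cj] at hg' hy''' hc1 hc2
      rw [← gpiso_map_cj] at hc1 hc2
      refine ⟨hp, g, ?_, y, (gpiso_mem_map e).mp hy'', y', (gpiso_mem_map e).mp hy''',
        gpiso_map_inj e hc1, gpiso_map_inj e hc2, ?_⟩
      · intro hc
        apply hg'
        rw [hc]
      · apply e.injective
        rw [map_pow, map_mul]
        exact hxj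

end gp

end Cfsg.Agent.Lib.Helper47.FL
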