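import Mathlib
import Cfsg.Agent.Lib.Helper83.FpDefs

/-! # Fp hive (S2276, owner helper83): leaf FP-B3a `b3a` (helper2) -/

set_option autoImplicit false

namespace Cfsg.Agent.Lib.Helper83.Fp

open Equiv

/-- the forward arc `x ↦ x + 1` on the interval `[a, a + n)` (last point back to `a`), identity elsewhere -/
def fpb3a_arc {m : ℕ} (a n : ℕ) (h : a + n ≤ m) : Perm (Fin m) where
  toFun x := ⟨if a ≤ x.val ∧ x.val + 1 < a + n then x.val + 1
    else if x.val + 1 = a + n ∧ 0 < n then a else x.val, by
      have := x.isLt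
      split_ifs <;> omega⟩
  invFun x := ⟨if a < x.val ∧ x.val < a + n then x.val - 1
    else if x.val = a ∧ 0 < n then a + n - 1 else x.val, by
      have := x.isLt
      split_ifs <;> omega⟩
  left_inv x := by
    apply Fin.ext
    have := x.isLt
    simp only
    split_ifs <;> omega
  right_inv x := by
    apply Fin.ext
    have := x.isLt
    simp only
    split_ifs <;> omega

theorem fpb3a_arc_val {m : ℕ} (a n : ℕ) (h : a + n ≤ m) (x : Fin m) :
    (fpb3a_arc a n h x).val = if a ≤ x.val ∧ x.val + 1 < a + n then x.val + 1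
      else if x.val + 1 = a + n ∧ 0 < n then a else x.val := rfl

theorem fpb3a_arc_inv_val {m : ℕ} (a n : ℕ) (h : a + n ≤ m) (x : Fin m) :
    ((fpb3a_arc a n h)⁻¹ x).val = if a < x.val ∧ x.val < a + n then x.val - 1
      else if x.val = a ∧ 0 < n then a + n - 1 else x.val := rfl

theorem fpb3a_succ_mod (n k : ℕ) (hk : 0 < k) :
    (n + 1) % k = if n % k + 1 = k then 0 else n % k + 1 := by
  have h1 := Nat.mod_lt n hk
  have h2 := Nat.div_add_mod n k
  split_ifs with h
  · have : n + 1 = k * (n / k + 1) := by rw [Nat.mul_add, mul_one]; omega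
    rw [this, Nat.mul_mod_right]
  · have : n + 1 = k * (n / k) + (n % k + 1) := by omega
    rw [this, Nat.mul_add_mod, Nat.mod_eq_of_lt (by omega)]

/-- powers of the arc -/
theorem fpb3a_arc_pow_val {m : ℕ} (a n : ℕ) (h : a + n ≤ m) (j : ℕ) (x : Fin m) (h1 : a ≤ x.val)
    (h2 : x.val < a + n) : (((fpb3a_arc a n h) ^ j) x).val = a + (x.val - a + j) % n := by
  have hn : 0 < n := by omega
  induction j with
  | zero =>
    rw [pow_zero, Perm.one_apply, add_zero, Nat.mod_eq_of_lt (by omega)]
    omega
  | succ j ih =>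
    rw [pow_succ', Perm.mul_apply, fpb3a_arc_val, ih]
    have hw := Nat.mod_lt (x.val - a + j) hn
    have hs := fpb3a_succ_mod (x.val - a + j) n hn
    rw [show x.val - a + (j + 1) = x.val - a + j + 1 by ring, hs]
    split_ifs <;> omega

theorem fpb3a_arc_pow_outside {m : ℕ} (a n : ℕ) (h : a + n ≤ m) (j : ℕ) (x : Fin m)
    (h1 : x.val < a ∨ a + n ≤ x.val) : ((fpb3a_arc a n h) ^ j) x = x := by
  apply Perm.pow_apply_eq_self_of_apply_eq_self
  apply Fin.ext
  rw [fpb3a_arc_val]
  split_ifs <;> omega

theorem fpb3a_add_mod_ne (u j k : ℕ) (hu : u < k) (hj : 0 < j) (hjk : j < k) : (u + j) % k ≠ u := by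
  rcases Nat.lt_or_ge (u + j) k with h | h
  · rw [Nat.mod_eq_of_lt h]; omega
  · rw [Nat.mod_eq_sub_mod h, Nat.mod_eq_of_lt (by omega)]; omega

/-- the cycle type of a permutation all of whose non-trivial orbits have exact period `k` -/
theorem fpb3a_cycleType_of_period {α : Type*} [Fintype α] [DecidableEq α] (σ : Perm α) (k : ℕ)
    (hk : 2 ≤ k) (S : Finset α) (h1 : ∀ x ∈ S, (σ ^ k) x = x)
    (h2 : ∀ x ∈ S, ∀ j, 0 < j → j < k → (σ ^ j) x ≠ x) (h3 : ∀ x, x ∉ S → σ x = x) :
    σ.cycleType = Multiset.replicate (S.card / k) k := by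
  have hpow : σ ^ k = 1 := by
    ext x
    by_cases hx : x ∈ S
    · rw [h1 x hx, Perm.one_apply]
    · rw [Perm.pow_apply_eq_self_of_apply_eq_self (h3 x hx), Perm.one_apply]
  have hsupp : σ.support = S := by
    ext x
    rw [Perm.mem_support]
    constructor
    · intro hx
      by_contra hxS
      exact hx (h3 x hxS)
    · intro hx
      have := h2 x hx 1 (by omega) (by omega)
      rwa [pow_one] at this
  have hall : ∀ n ∈ σ.cycleType, n = k := by
    intro n hn
    have hdvd : n ∣ k := (Perm.dvd_of_mem_cycleType hn).trans (orderOf_dvd_of_pow_eq_one hpow)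
    have hn1 : 1 < n := Perm.one_lt_of_mem_cycleType hn
    by_contra hne
    have hlt : n < k := lt_of_le_of_ne (Nat.le_of_dvd (by omega) hdvd) hne
    obtain ⟨c, τ, hστ, hdisj, hc, hcard⟩ := Perm.mem_cycleType_iff.mp hn
    obtain ⟨x, hx⟩ := hc.nonempty_support
    have hxS : x ∈ S := by
      rw [← hsupp, hστ, hdisj.support_mul]
      exact Finset.mem_union_left _ hx
    have hτx : τ x = x := by
      rcases hdisj x with h | h
      · exact absurd h (Perm.mem_support.mp hx)
      · exact h
    have hcn : c ^ n = 1 := by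
      rw [← hcard, ← hc.orderOf]
      exact pow_orderOf_eq_one c
    have : (σ ^ n) x = x := by
      rw [hστ, hdisj.commute.mul_pow, Perm.mul_apply, Perm.pow_apply_eq_self_of_apply_eq_self hτx, hcn,
        Perm.one_apply]
    exact h2 x hxS n (by omega) hlt this
  have hrep : σ.cycleType = Multiset.replicate (Multiset.card σ.cycleType) k :=
    Multiset.eq_replicate_card.mpr hall
  have hsum : σ.cycleType.sum = S.card := by rw [Perm.sum_cycleType, hsupp]
  rw [hrep, Multiset.sum_replicate, smul_eq_mul] at hsum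
  rw [hrep]
  congr 1
  rw [← hsum, Nat.mul_div_cancel _ (by omega)]

/-- the number of points of an interval of `Fin m` -/
theorem fpb3a_card_interval {m : ℕ} (a n : ℕ) (h : a + n ≤ m) :
    (Finset.univ.filter (fun x : Fin m => a ≤ x.val ∧ x.val < a + n)).card = n := by
  have : (Finset.univ.filter (fun x : Fin m => a ≤ x.val ∧ x.val < a + n)).map Fin.valEmbedding =
      Finset.Ico a (a + n) := by
    ext y
    simp only [Finset.mem_map, Finset.mem_filter, Finset.mem_univ, true_and, Fin.valEmbedding_apply,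
      Finset.mem_Ico]
    constructor
    · rintro ⟨x, hx, rfl⟩
      exact hx
    · intro hy
      exact ⟨⟨y, by omega⟩, hy, rfl⟩
  rw [← Finset.card_map Fin.valEmbedding, this, Nat.card_Ico]
  omega

/-- the cycle type of a power of an arc -/
theorem fpb3a_cycleType_arc_pow {m : ℕ} (a n : ℕ) (h : a + n ≤ m) (s k : ℕ) (hk : 2 ≤ k)
    (hsk : s * k = n) (hs : 0 < s) :
    ((fpb3a_arc a n h) ^ s).cycleType = Multiset.replicate s k := by
  have hn : 0 < n := by rw [← hsk]; positivity
  have key := fpb3a_cycleType_of_period ((fpb3a_arc a n h) ^ s) k hk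
    (Finset.univ.filter (fun x : Fin m => a ≤ x.val ∧ x.val < a + n)) ?_ ?_ ?_
  · rw [key, fpb3a_card_interval a n h, ← hsk, Nat.mul_div_cancel _ (by omega)]
  · intro x hx
    simp only [Finset.mem_filter, Finset.mem_univ, true_and] at hx
    apply Fin.ext
    rw [← pow_mul, fpb3a_arc_pow_val a n h _ x hx.1 hx.2, hsk, Nat.add_mod_right,
      Nat.mod_eq_of_lt (by omega)]
    omega
  · intro x hx j hj hjk hfix
    simp only [Finset.mem_filter, Finset.mem_univ, true_and] at hx
    have := congrArg Fin.val hfix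
    rw [← pow_mul, fpb3a_arc_pow_val a n h _ x hx.1 hx.2] at this
    have hlt : s * j < n := by rw [← hsk]; exact Nat.mul_lt_mul_of_pos_left hjk hs
    have hpos : 0 < s * j := Nat.mul_pos hs hj
    have := fpb3a_add_mod_ne (x.val - a) (s * j) n (by omega) hpos hlt
    omega
  · intro x hx
    simp only [Finset.mem_filter, Finset.mem_univ, true_and, not_and, not_lt] at hx
    apply fpb3a_arc_pow_outside
    by_cases h1 : a ≤ x.val
    · exact Or.inr (hx h1)
    · exact Or.inl (by omega)

theorem fpb3a_cycleType_arc {m : ℕ} (a k : ℕ) (h : a + k ≤ m) (hk : 2 ≤ k) :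
    (fpb3a_arc a k h).cycleType = {k} := by
  have := fpb3a_cycleType_arc_pow a k h 1 k hk (one_mul k) one_pos
  rw [pow_one] at this
  rw [this, Multiset.replicate_one]

/-- forward arcs on consecutive intervals realising a multiset of cycle lengths -/
theorem fpb3a_fwd {m : ℕ} (t : Multiset ℕ) : (∀ x ∈ t, 3 ≤ x) → ∀ a : ℕ, a + t.sum ≤ m →
    ∃ e : Perm (Fin m), e.cycleType = t ∧
      (∀ x : Fin m, (x.val < a ∨ a + t.sum ≤ x.val) → e x = x) ∧
      (∀ x : Fin m, a ≤ x.val → x.val < a + t.sum →
        a ≤ (e x).val ∧ (e x).val < a + t.sum ∧ (e x).val + 1 ≠ x.val) := by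
  induction t using Multiset.induction_on with
  | empty =>
    intro _ a _
    refine ⟨1, Perm.cycleType_one, fun x _ => rfl, ?_⟩
    intro x h1 h2
    rw [Multiset.sum_zero] at h2
    omega
  | cons k t₀ ih =>
    intro h3 a ha
    rw [Multiset.sum_cons] at ha
    have hk : 3 ≤ k := h3 k (Multiset.mem_cons_self k t₀)
    obtain ⟨e₀, hct, hout, hin⟩ := ih (fun x hx => h3 x (Multiset.mem_cons_of_mem hx)) (a + k) (by omega)
    have hak : a + k ≤ m := by omega
    have hdisj : Perm.Disjoint (fpb3a_arc a k hak) e₀ := by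
      intro x
      by_cases hx : x.val < a + k
      · exact Or.inr (hout x (Or.inl hx))
      · left
        apply Fin.ext
        rw [fpb3a_arc_val]
        split_ifs <;> omega
    refine ⟨fpb3a_arc a k hak * e₀, ?_, ?_, ?_⟩
    · rw [Perm.Disjoint.cycleType_mul hdisj, fpb3a_cycleType_arc a k hak (by omega), hct, Multiset.singleton_add]
    · intro x hx
      rw [Multiset.sum_cons] at hx
      rw [Perm.mul_apply, hout x (by omega)]
      apply Fin.ext
      rw [fpb3a_arc_val]
      split_ifs <;> omega
    · intro x h1 h2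
      rw [Multiset.sum_cons] at h2 ⊢
      rw [Perm.mul_apply]
      by_cases hx : x.val < a + k
      · rw [hout x (Or.inl hx), fpb3a_arc_val]
        split_ifs <;> omega
      · obtain ⟨g1, g2, g3⟩ := hin x (by omega) (by omega)
        have : (fpb3a_arc a k hak (e₀ x)).val = (e₀ x).val := by
          rw [fpb3a_arc_val]
          split_ifs <;> omega
        rw [this]
        omega

theorem fpb3a_finRotate_val (m : ℕ) (y : Fin m) :
    (finRotate m y).val = if y.val + 1 = m then 0 else y.val + 1 := by
  cases m with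
  | zero => exact y.elim0
  | succ n =>
    rw [coe_finRotate]
    by_cases h : y = Fin.last n
    · rw [if_pos h, if_pos]
      rw [h, Fin.val_last]
    · rw [if_neg h, if_neg]
      intro h'
      apply h
      apply Fin.ext
      rw [Fin.val_last]
      omega

/-- FP-B3a -/
theorem b3a : B3aStmt := by
  intro p hp hp3 m l μ t hμ ht hPP hlt hsum
  -- arithmetic facts
  obtain ⟨i0, hi0, hl⟩ := hPP l (Multiset.mem_add.mpr (Or.inl (Multiset.mem_replicate.mpr ⟨by omega, rfl⟩)))
  have htPP : ∀ x ∈ t, ∃ i : ℕ, 1 ≤ i ∧ x = p ^ i := fun x hx => hPP x (Multiset.mem_add.mpr (Or.inr hx))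
  have ht3 : ∀ x ∈ t, 3 ≤ x := by
    intro x hx
    obtain ⟨i, hi, rfl⟩ := htPP x hx
    calc 3 ≤ p := hp3
      _ = p ^ 1 := (pow_one p).symm
      _ ≤ p ^ i := Nat.pow_le_pow_right (by omega) hi
  have hl3 : 3 ≤ l := by
    rw [hl]
    calc 3 ≤ p := hp3
      _ = p ^ 1 := (pow_one p).symm
      _ ≤ p ^ i0 := Nat.pow_le_pow_right (by omega) hi0
  -- l' = l / p
  have hlp : l = p * (l / p) := by
    rw [hl]
    obtain ⟨j, rfl⟩ : ∃ j, i0 = j + 1 := ⟨i0 - 1, by omega⟩
    rw [pow_succ, Nat.mul_div_cancel _ (by omega : 0 < p), mul_comm]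
  have hl'pos : 0 < l / p := by
    rcases Nat.eq_zero_or_pos (l / p) with h | h
    · rw [h, mul_zero] at hlp; omega
    · exact h
  have hdvd : ∀ x ∈ t, x ∣ l / p := by
    intro x hx
    obtain ⟨i, hi, rfl⟩ := htPP x hx
    have hlt' := hlt _ hx
    rw [hl] at hlt'
    have hii : i < i0 := (Nat.pow_lt_pow_iff_right (by omega : 1 < p)).mp hlt'
    obtain ⟨j, rfl⟩ : ∃ j, i0 = j + 1 := ⟨i0 - 1, by omega⟩
    have : l / p = p ^ j := by
      rw [hl, pow_succ, Nat.mul_div_cancel _ (by omega : 0 < p)]
    rw [this]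
    exact Nat.pow_dvd_pow p (by omega)
  obtain ⟨t', ht'⟩ := Multiset.exists_mem_of_ne_zero ht
  have ht'3 := ht3 t' ht'
  have hcons : t' ::ₘ t.erase t' = t := Multiset.cons_erase ht'
  have hsumt : t.sum = t' + (t.erase t').sum := by
    rw [← hcons, Multiset.sum_cons, hcons]
  rw [Multiset.sum_add, Multiset.sum_replicate, smul_eq_mul] at hsum
  set L := μ * l with hLdef
  have hLμ : μ + 1 < L := by rw [hLdef]; nlinarith
  have hLm : 0 + L ≤ m := by omega
  have hbk : L + t' ≤ m := by omega
  have hpdvd : p ∣ t' := by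
    obtain ⟨i, hi, rfl⟩ := htPP t' ht'
    exact dvd_pow_self p (by omega)
  -- the permutations
  obtain ⟨e, hect, heout, hein⟩ := fpb3a_fwd (m := m) (t.erase t')
    (fun x hx => ht3 x (Multiset.mem_of_mem_erase hx)) (L + t') (by omega)
  set d1 : Perm (Fin m) := (fpb3a_arc 0 L hLm) ^ μ with hd1
  set bk : Perm (Fin m) := (fpb3a_arc L t' hbk)⁻¹ with hbkdef
  have hd1val : ∀ (j : ℕ) (x : Fin m), x.val < L → ((d1 ^ j) x).val = (x.val + μ * j) % L := by
    intro j x hx
    rw [hd1, ← pow_mul, fpb3a_arc_pow_val 0 L hLm _ x (by omega) (by omega)]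
    simp
  have hd1out : ∀ (j : ℕ) (x : Fin m), L ≤ x.val → (d1 ^ j) x = x := by
    intro j x hx
    rw [hd1, ← pow_mul]
    exact fpb3a_arc_pow_outside 0 L hLm _ x (Or.inr (by omega))
  have hbkval : ∀ x : Fin m, (bk x).val = if L < x.val ∧ x.val < L + t' then x.val - 1
      else if x.val = L ∧ 0 < t' then L + t' - 1 else x.val := fun x => fpb3a_arc_inv_val L t' hbk x
  have hbkout : ∀ x : Fin m, (x.val < L ∨ L + t' ≤ x.val) → bk x = x := by
    intro x hx
    apply Fin.ext
    rw [hbkval]
    split_ifs <;> omega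
  have hdisj2 : Perm.Disjoint bk e := by
    intro x
    by_cases hx : x.val < L + t'
    · exact Or.inr (heout x (Or.inl hx))
    · exact Or.inl (hbkout x (Or.inr (by omega)))
  have hbe_low : ∀ x : Fin m, x.val < L → (bk * e) x = x := by
    intro x hx
    rw [Perm.mul_apply, heout x (Or.inl (by omega)), hbkout x (Or.inl hx)]
  have hdisj1 : Perm.Disjoint d1 (bk * e) := by
    intro x
    by_cases hx : x.val < L
    · exact Or.inr (hbe_low x hx)
    · have := hd1out 1 x (by omega)
      rw [pow_one] at this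
      exact Or.inl this
  have hbkct : bk.cycleType = {t'} := by
    rw [hbkdef, Perm.cycleType_inv, fpb3a_cycleType_arc L t' hbk (by omega)]
  have hbect : (bk * e).cycleType = t := by
    rw [Perm.Disjoint.cycleType_mul hdisj2, hbkct, hect, Multiset.singleton_add, hcons]
  have hd1ct : d1.cycleType = Multiset.replicate μ l :=
    fpb3a_cycleType_arc_pow 0 L hLm μ l (by omega) rfl (by omega)
  refine ⟨d1 * (bk * e), ?_, ?_, ?_⟩
  · rw [Perm.Disjoint.cycleType_mul hdisj1, hd1ct, hbect]
  · -- FixOK
    unfold FixOK FixCard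
    have hset : (Finset.univ.filter fun x : Fin m => (finRotate m * (d1 * (bk * e))) x = x) =
        Finset.univ.filter (fun x : Fin m => L + 1 ≤ x.val ∧ x.val < L + 1 + (t' - 1)) := by
      ext x
      simp only [Finset.mem_filter, Finset.mem_univ, true_and]
      rw [Perm.mul_apply, Perm.mul_apply, Perm.mul_apply]
      have hxm := x.isLt
      rw [Fin.ext_iff, fpb3a_finRotate_val]
      by_cases hx1 : x.val < L
      · -- region 1
        rw [heout x (Or.inl (by omega)), hbkout x (Or.inl hx1)]
        have hv := hd1val 1 x hx1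
        rw [pow_one, mul_one] at hv
        rw [hv]
        have hmod : (x.val + μ) % L < L := Nat.mod_lt _ (by omega)
        rcases Nat.lt_or_ge (x.val + μ) L with h | h
        · rw [Nat.mod_eq_of_lt h]
          split_ifs <;> omega
        · have : (x.val + μ) % L = x.val + μ - L := by
            rw [Nat.mod_eq_sub_mod h, Nat.mod_eq_of_lt (by omega)]
          rw [this]
          split_ifs <;> omega
      · by_cases hx2 : x.val < L + t'
        · -- region 2
          rw [heout x (Or.inl hx2)]
          have hb := hbkval x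
          have hge : L ≤ (bk x).val := by
            rw [hb]; split_ifs <;> omega
          have hd := hd1out 1 (bk x) hge
          rw [pow_one] at hd
          rw [hd, hb]
          split_ifs <;> omega
        · by_cases hx3 : x.val < L + t' + (t.erase t').sum
          · -- region 3
            obtain ⟨g1, g2, g3⟩ := hein x (by omega) hx3
            rw [hbkout (e x) (Or.inr g1)]
            have hd := hd1out 1 (e x) (by omega)
            rw [pow_one] at hd
            rw [hd]
            split_ifs <;> omega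
          · -- region 4
            rw [heout x (Or.inr (by omega)), hbkout x (Or.inr (by omega))]
            have hd := hd1out 1 x (by omega)
            rw [pow_one] at hd
            rw [hd]
            split_ifs <;> omega
    rw [hset, fpb3a_card_interval (L + 1) (t' - 1) (by omega)]
    intro hdiv
    have h1 : p ∣ t' - (t' - 1) := Nat.dvd_sub hpdvd hdiv
    have h2 : t' - (t' - 1) = 1 := by omega
    rw [h2] at h1
    have := Nat.le_of_dvd one_pos h1
    omega
  · -- the rotation
    refine ⟨(d1 * (bk * e)) ^ (l / p), ?_, μ * (l / p), L, ?_, ?_, ?_, ?_, ?_⟩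
    · apply Subgroup.pow_mem
      apply Subgroup.subset_closure
      simp
    · exact Nat.mul_pos (by omega) hl'pos
    · rw [hLdef]
      apply Nat.mul_lt_mul_of_pos_left _ (by omega)
      exact Nat.div_lt_self (by omega) (by omega)
    · omega
    · intro h
      have : L = p * (μ * (l / p)) := by
        rw [hLdef]
        conv_lhs => rw [hlp]
        ring
      rw [this] at h
      have hr : 0 < μ * (l / p) := Nat.mul_pos (by omega) hl'pos
      nlinarith
    · intro x
      have hone : (bk * e) ^ (l / p) = 1 := by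
        apply orderOf_dvd_iff_pow_eq_one.mp
        rw [← Perm.lcm_cycleType, hbect]
        exact Multiset.lcm_dvd.mpr hdvd
      rw [hdisj1.commute.mul_pow, hone, mul_one]
      by_cases hx : x.val < L
      · rw [if_pos hx, hd1val _ x hx]
      · rw [if_neg hx, hd1out _ x (by omega)]

end Cfsg.Agent.Lib.Helper83.Fp
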