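import Cfsg.Agent.Lib.Helper2.G2iRel

/-! # G2i mini-hive (S2177): leaves G2I-C6 `conj6` and G2I-INV `rad_inv` (helper2, owner) -/

set_option autoImplicit false

namespace Cfsg.Agent.Lib.Helper2.G2i

open Cfsg Cfsg.Lie Cfsg.Agent.Lib.Helper36 Cfsg.Agent.Lib.Helper20.G2c

variable (F : Type*) [Field F]

/-- `x_9(p) (x_10(q) x_11(r)) = T(p,q,r)` -/
theorem c6x_T (p q r : F) : xg F 9 p * (xg F 10 q * xg F 11 r) = T F p q r := by
  unfold T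
  rw [mul_assoc]

/-- `x_10(p) x_11(q) = T(0,p,q)` -/
theorem c6x_T1011 (p q : F) : xg F 10 p * xg F 11 q = T F 0 p q := by
  unfold T
  rw [ufact_zero, one_mul]

/-- G2I-C6 -/
theorem conj6 [CharP F 2] (τ s s' c d e : F) : ∃ c' d' e' : F,
    xg F 6 τ * (xg F 7 s * xg F 8 s' * T F c d e) * (xg F 6 τ)⁻¹ =
      xg F 7 s * xg F 8 (s' + s * τ) * T F c' d' e' := by
  refine ⟨s ^ 2 * τ + c, s ^ 3 * τ + d,
    s ^ 3 * τ ^ 2 + s' * (s ^ 2 * τ) + e + τ * (s ^ 3 * τ + d), ?_⟩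
  rw [xg_inv]
  calc xg F 6 τ * (xg F 7 s * xg F 8 s' * T F c d e) * xg F 6 τ
      = (xg F 6 τ * xg F 7 s) * xg F 8 s' * T F c d e * xg F 6 τ := by simp only [mul_assoc]
    _ = (xg F 7 s * xg F 6 τ * (xg F 8 (s * τ) *
          (xg F 9 (s ^ 2 * τ) * (xg F 10 (s ^ 3 * τ) * xg F 11 (s ^ 3 * τ ^ 2))))) *
          xg F 8 s' * T F c d e * xg F 6 τ := by rw [rel76]
    _ = xg F 7 s * xg F 6 τ * (xg F 8 (s * τ) * (T F (s ^ 2 * τ) (s ^ 3 * τ) (s ^ 3 * τ ^ 2) * xg F 8 s') *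
          T F c d e) * xg F 6 τ := by rw [c6x_T]; simp only [mul_assoc]
    _ = xg F 7 s * xg F 6 τ * (xg F 8 (s * τ) *
          (xg F 8 s' * T F (s ^ 2 * τ) (s ^ 3 * τ) (s ^ 3 * τ ^ 2 + s' * (s ^ 2 * τ))) *
          T F c d e) * xg F 6 τ := by rw [T_x8]
    _ = xg F 7 s * xg F 6 τ * ((xg F 8 (s * τ) * xg F 8 s') *
          (T F (s ^ 2 * τ) (s ^ 3 * τ) (s ^ 3 * τ ^ 2 + s' * (s ^ 2 * τ)) * T F c d e)) * xg F 6 τ := by
        simp only [mul_assoc]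
    _ = xg F 7 s * xg F 6 τ * (xg F 8 (s' + s * τ) *
          T F (s ^ 2 * τ + c) (s ^ 3 * τ + d) (s ^ 3 * τ ^ 2 + s' * (s ^ 2 * τ) + e)) * xg F 6 τ := by
        rw [← ufact_add, ufact_T_mul, add_comm (s * τ) s']
    _ = xg F 7 s * xg F 6 τ * xg F 8 (s' + s * τ) *
          (T F (s ^ 2 * τ + c) (s ^ 3 * τ + d) (s ^ 3 * τ ^ 2 + s' * (s ^ 2 * τ) + e) * xg F 6 τ) := by
        simp only [mul_assoc]
    _ = xg F 7 s * xg F 6 τ * xg F 8 (s' + s * τ) *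
          (xg F 6 τ * T F (s ^ 2 * τ + c) (s ^ 3 * τ + d)
            (s ^ 3 * τ ^ 2 + s' * (s ^ 2 * τ) + e + τ * (s ^ 3 * τ + d))) := by rw [T_x6]
    _ = xg F 7 s * (xg F 6 τ * xg F 8 (s' + s * τ)) * xg F 6 τ *
          T F (s ^ 2 * τ + c) (s ^ 3 * τ + d)
            (s ^ 3 * τ ^ 2 + s' * (s ^ 2 * τ) + e + τ * (s ^ 3 * τ + d)) := by simp only [mul_assoc]
    _ = xg F 7 s * (xg F 8 (s' + s * τ) * xg F 6 τ) * xg F 6 τ *
          T F (s ^ 2 * τ + c) (s ^ 3 * τ + d)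
            (s ^ 3 * τ ^ 2 + s' * (s ^ 2 * τ) + e + τ * (s ^ 3 * τ + d)) := by rw [(comm68 F τ _).eq]
    _ = xg F 7 s * xg F 8 (s' + s * τ) * (xg F 6 τ * xg F 6 τ) *
          T F (s ^ 2 * τ + c) (s ^ 3 * τ + d)
            (s ^ 3 * τ ^ 2 + s' * (s ^ 2 * τ) + e + τ * (s ^ 3 * τ + d)) := by simp only [mul_assoc]
    _ = xg F 7 s * xg F 8 (s' + s * τ) *
          T F (s ^ 2 * τ + c) (s ^ 3 * τ + d)
            (s ^ 3 * τ ^ 2 + s' * (s ^ 2 * τ) + e + τ * (s ^ 3 * τ + d)) := by rw [xg_mul_self, mul_one]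

/-- G2I-INV -/
theorem rad_inv [CharP F 2] (s s' c d e : F) : ∃ c' d' e' : F,
    (xg F 7 s * xg F 8 s' * T F c d e)⁻¹ = xg F 7 s * xg F 8 s' * T F c' d' e' := by
  refine ⟨0 + c, s ^ 2 * s' + (d + s * c), s * s' ^ 2 + (e + s' * c), ?_⟩
  rw [mul_inv_rev, mul_inv_rev, xg_inv, xg_inv, T_inv]
  calc T F c d e * (xg F 8 s' * xg F 7 s)
      = (T F c d e * xg F 8 s') * xg F 7 s := by rw [mul_assoc]
    _ = (xg F 8 s' * T F c d (e + s' * c)) * xg F 7 s := by rw [T_x8]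
    _ = xg F 8 s' * (T F c d (e + s' * c) * xg F 7 s) := by rw [mul_assoc]
    _ = xg F 8 s' * (xg F 7 s * T F c (d + s * c) (e + s' * c)) := by rw [T_x7]
    _ = (xg F 8 s' * xg F 7 s) * T F c (d + s * c) (e + s' * c) := by rw [mul_assoc]
    _ = (xg F 7 s * xg F 8 s' * (xg F 10 (s ^ 2 * s') * xg F 11 (s * s' ^ 2))) *
          T F c (d + s * c) (e + s' * c) := by rw [rel78]
    _ = xg F 7 s * xg F 8 s' * (T F 0 (s ^ 2 * s') (s * s' ^ 2) * T F c (d + s * c) (e + s' * c)) := by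
        rw [c6x_T1011]; simp only [mul_assoc]
    _ = xg F 7 s * xg F 8 s' * T F (0 + c) (s ^ 2 * s' + (d + s * c)) (s * s' ^ 2 + (e + s' * c)) := by
        rw [ufact_T_mul]

end Cfsg.Agent.Lib.Helper2.G2i
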