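import Cfsg.Agent.Lib.Helper2.G2iRel

/-! # G2i mini-hive (S2177): leaf G2I-C7 `conj7` (helper2, owner) -/

set_option autoImplicit false

namespace Cfsg.Agent.Lib.Helper2.G2i

open Cfsg Cfsg.Lie Cfsg.Agent.Lib.Helper36 Cfsg.Agent.Lib.Helper20.G2c

variable (F : Type*) [Field F]

/-- `x_11(p) x_10(q) = T(0,q,p)` -/
theorem c7x_T1011 (p q : F) : xg F 11 p * xg F 10 q = T F 0 q p := by
  unfold T
  rw [ufact_zero, one_mul, (comm10_11 F q p).eq]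

/-- `x_9(p) x_10(q) = T(p,q,0)` -/
theorem c7x_T910 (p q : F) : xg F 9 p * xg F 10 q = T F p q 0 := by
  unfold T
  rw [ufact_zero, mul_one]

/-- conjugating `x_8(a) T` by `x_7(σ)` -/
theorem c7x_step [CharP F 2] (σ a c d e : F) : ∃ c' d' e' : F,
    xg F 7 σ * (xg F 8 a * T F c d e) * xg F 7 σ = xg F 8 a * T F c' d' e' := by
  refine ⟨0 + c, a * σ ^ 2 + d + σ * (0 + c), a ^ 2 * σ + e, ?_⟩
  calc xg F 7 σ * (xg F 8 a * T F c d e) * xg F 7 σ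
      = (xg F 7 σ * xg F 8 a) * T F c d e * xg F 7 σ := by simp only [mul_assoc]
    _ = (xg F 8 a * xg F 7 σ * (xg F 11 (a ^ 2 * σ) * xg F 10 (a * σ ^ 2))) * T F c d e * xg F 7 σ := by
        rw [rel87]
    _ = xg F 8 a * xg F 7 σ * (T F 0 (a * σ ^ 2) (a ^ 2 * σ) * T F c d e) * xg F 7 σ := by
        rw [c7x_T1011]; simp only [mul_assoc]
    _ = xg F 8 a * xg F 7 σ * (T F (0 + c) (a * σ ^ 2 + d) (a ^ 2 * σ + e) * xg F 7 σ) := by
        rw [ufact_T_mul]; simp only [mul_assoc]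
    _ = xg F 8 a * xg F 7 σ * (xg F 7 σ * T F (0 + c) (a * σ ^ 2 + d + σ * (0 + c)) (a ^ 2 * σ + e)) := by
        rw [T_x7]
    _ = xg F 8 a * (xg F 7 σ * xg F 7 σ) * T F (0 + c) (a * σ ^ 2 + d + σ * (0 + c)) (a ^ 2 * σ + e) := by
        simp only [mul_assoc]
    _ = xg F 8 a * T F (0 + c) (a * σ ^ 2 + d + σ * (0 + c)) (a ^ 2 * σ + e) := by
        rw [xg_mul_self, mul_one]

/-- G2I-C7 -/
theorem conj7 [CharP F 2] (σ t s' c d e : F) : ∃ c' d' e' : F,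
    xg F 7 σ * (xg F 6 t * (xg F 8 s' * T F c d e)) * (xg F 7 σ)⁻¹ =
      xg F 6 t * (xg F 8 (s' + t * σ) * T F c' d' e') := by
  obtain ⟨c', d', e', h⟩ := c7x_step F σ (s' + t * σ) (t * σ ^ 2 + c) (t * σ ^ 3 + d) (0 + s' * (t * σ ^ 2) + e)
  refine ⟨c', d', e', ?_⟩
  rw [xg_inv, ← h]
  calc xg F 7 σ * (xg F 6 t * (xg F 8 s' * T F c d e)) * xg F 7 σ
      = (xg F 7 σ * xg F 6 t) * (xg F 8 s' * T F c d e) * xg F 7 σ := by simp only [mul_assoc]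
    _ = (xg F 6 t * xg F 7 σ * (xg F 8 (t * σ) * (xg F 9 (t * σ ^ 2) * xg F 10 (t * σ ^ 3)))) *
          (xg F 8 s' * T F c d e) * xg F 7 σ := by rw [rel67]
    _ = xg F 6 t * xg F 7 σ * (xg F 8 (t * σ) * (T F (t * σ ^ 2) (t * σ ^ 3) 0 * xg F 8 s') * T F c d e) *
          xg F 7 σ := by rw [c7x_T910]; simp only [mul_assoc]
    _ = xg F 6 t * xg F 7 σ * (xg F 8 (t * σ) * (xg F 8 s' * T F (t * σ ^ 2) (t * σ ^ 3) (0 + s' * (t * σ ^ 2))) *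
          T F c d e) * xg F 7 σ := by rw [T_x8]
    _ = xg F 6 t * xg F 7 σ * ((xg F 8 (t * σ) * xg F 8 s') *
          (T F (t * σ ^ 2) (t * σ ^ 3) (0 + s' * (t * σ ^ 2)) * T F c d e)) * xg F 7 σ := by
        simp only [mul_assoc]
    _ = xg F 6 t * xg F 7 σ * (xg F 8 (s' + t * σ) *
          T F (t * σ ^ 2 + c) (t * σ ^ 3 + d) (0 + s' * (t * σ ^ 2) + e)) * xg F 7 σ := by
        rw [← ufact_add, ufact_T_mul, add_comm (t * σ) s']
    _ = xg F 6 t * (xg F 7 σ * (xg F 8 (s' + t * σ) *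
          T F (t * σ ^ 2 + c) (t * σ ^ 3 + d) (0 + s' * (t * σ ^ 2) + e)) * xg F 7 σ) := by
        simp only [mul_assoc]

end Cfsg.Agent.Lib.Helper2.G2i
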