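import Cfsg.Agent.Lib.Helper2.G2iRel
import Cfsg.Agent.Lib.Helper91.G2iK8

/-! # G2i mini-hive (S2177): leaf G2I-K7 `kill7` (helper2, owner) -/

set_option autoImplicit false

namespace Cfsg.Agent.Lib.Helper2.G2i

open Cfsg Cfsg.Lie Cfsg.Agent.Lib.Helper36 Cfsg.Agent.Lib.Helper20.G2c

variable (F : Type*) [Field F]

/-- conjugation of `x_7(s) T(0,d,e)` by `x_9(ρ)` -/
theorem k7x_conj9 [CharP F 2] (s d e ρ : F) :
    xg F 9 ρ * (xg F 7 s * T F 0 d e) * (xg F 9 ρ)⁻¹ = xg F 7 s * T F 0 (s * ρ + d) e := by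
  rw [xg_inv]
  calc xg F 9 ρ * (xg F 7 s * T F 0 d e) * xg F 9 ρ
      = (xg F 9 ρ * xg F 7 s) * T F 0 d e * xg F 9 ρ := by simp only [mul_assoc]
    _ = (xg F 7 s * xg F 9 ρ * xg F 10 (s * ρ)) * T F 0 d e * xg F 9 ρ := by rw [rel79]
    _ = xg F 7 s * (T F ρ 0 0 * T F 0 (s * ρ) 0 * T F 0 d e * T F ρ 0 0) := by
        rw [← ufact_T9, ← ufact_T10]; simp only [mul_assoc]
    _ = xg F 7 s * T F 0 (s * ρ + d) e := by
        rw [ufact_T_mul, ufact_T_mul, ufact_T_mul]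
        congr 2 <;> simp [CharTwo.add_self_eq_zero]

/-- conjugation of `x_7(s) T(0,d,e)` by `x_8(σ)` -/
theorem k7x_conj8 [CharP F 2] (s d e σ : F) :
    xg F 8 σ * (xg F 7 s * T F 0 d e) * (xg F 8 σ)⁻¹ =
      xg F 7 s * T F 0 (s ^ 2 * σ + d) (s * σ ^ 2 + e) := by
  rw [xg_inv]
  calc xg F 8 σ * (xg F 7 s * T F 0 d e) * xg F 8 σ
      = (xg F 8 σ * xg F 7 s) * T F 0 d e * xg F 8 σ := by simp only [mul_assoc]
    _ = (xg F 7 s * xg F 8 σ * (xg F 10 (s ^ 2 * σ) * xg F 11 (s * σ ^ 2))) * T F 0 d e * xg F 8 σ := by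
        rw [rel78]
    _ = xg F 7 s * xg F 8 σ * (T F 0 (s ^ 2 * σ) (s * σ ^ 2) * T F 0 d e * xg F 8 σ) := by
        have h : xg F 10 (s ^ 2 * σ) * xg F 11 (s * σ ^ 2) = T F 0 (s ^ 2 * σ) (s * σ ^ 2) := by
          unfold T
          rw [ufact_zero, one_mul]
        rw [h]; simp only [mul_assoc]
    _ = xg F 7 s * xg F 8 σ * (xg F 8 σ * T F 0 (s ^ 2 * σ + d) (s * σ ^ 2 + e)) := by
        rw [ufact_T_mul, T_x8, add_zero, mul_zero, add_zero]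
    _ = xg F 7 s * (xg F 8 σ * xg F 8 σ) * T F 0 (s ^ 2 * σ + d) (s * σ ^ 2 + e) := by
        simp only [mul_assoc]
    _ = xg F 7 s * T F 0 (s ^ 2 * σ + d) (s * σ ^ 2 + e) := by rw [xg_mul_self, mul_one]

/-- G2I-K7 -/
theorem kill7 [Fintype F] [CharP F 2] (s d e : F) (hs : s ≠ 0) :
    ∃ h ∈ chevG2.posUnipotent F, h * (xg F 7 s * T F 0 d e) * h⁻¹ = xg F 7 s := by
  obtain ⟨σ, hσ⟩ := k8_exists_sqrt F (e / s)
  refine ⟨xg F 9 ((s ^ 2 * σ + d) / s) * xg F 8 σ, ?_, ?_⟩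
  · exact mul_mem (xGL_mem_pos chevG2 hG2 F 9 (by decide) _) (xGL_mem_pos chevG2 hG2 F 8 (by decide) _)
  · have e1 : s * σ ^ 2 + e = 0 := by
      rw [hσ, mul_div_cancel₀ _ hs]
      exact CharTwo.add_self_eq_zero e
    have e2 : s * ((s ^ 2 * σ + d) / s) + (s ^ 2 * σ + d) = 0 := by
      rw [mul_div_cancel₀ _ hs]
      exact CharTwo.add_self_eq_zero _
    calc xg F 9 ((s ^ 2 * σ + d) / s) * xg F 8 σ * (xg F 7 s * T F 0 d e) *
          (xg F 9 ((s ^ 2 * σ + d) / s) * xg F 8 σ)⁻¹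
        = xg F 9 ((s ^ 2 * σ + d) / s) * (xg F 8 σ * (xg F 7 s * T F 0 d e) * (xg F 8 σ)⁻¹) *
            (xg F 9 ((s ^ 2 * σ + d) / s))⁻¹ := by group
      _ = xg F 7 s := by
          rw [k7x_conj8, e1, k7x_conj9, e2, T_zero3, mul_one]

end Cfsg.Agent.Lib.Helper2.G2i
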