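import Cfsg.Agent.Lib.Helper2.G2iRel
import Cfsg.Agent.Lib.Helper20.G2cMain
import Cfsg.Agent.S0308
import Cfsg.Agent.S1045
import Cfsg.Agent.S1025
import Cfsg.Agent.Lib.Helper36.G2iSYL
import Cfsg.Agent.Lib.Helper55.G2iNF
import Cfsg.Agent.Lib.Helper54.G2iUNIQ
import Cfsg.Agent.Lib.Helper54.G2iN9
import Cfsg.Agent.Lib.Helper2.G2iC6
import Cfsg.Agent.Lib.Helper2.G2iC7
import Cfsg.Agent.Lib.Helper2.G2iK7
import Cfsg.Agent.Lib.Helper91.G2iK8
import Cfsg.Agent.Lib.Helper85.G2iKT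
import Cfsg.Agent.Lib.Helper61.G2iK6
import Cfsg.Agent.Lib.Helper90.G2iRS
import Cfsg.Agent.Lib.Helper90.G2iRL

/-! # G2i mini-hive (S2177): assembly (helper2)

Involutions of `G₂(F)`, `F` finite of characteristic 2: every involution is conjugate to `x_9(1)` (short root) or
`x_11(1)` (long root), and these two are not conjugate.  Leaves by helper36 (SYL), helper55 (NF), helper54 (UNIQ, N9),
helper2 (C6, INV, C7, K7), helper91 (K8), helper85 (KT), helper61 (K6), helper90 (RS, RL). -/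

set_option autoImplicit false

namespace Cfsg.Agent.Lib.Helper2.G2i

open Cfsg Cfsg.Lie Cfsg.Agent.Lib.Helper36 Cfsg.Agent.Lib.Helper20.G2c

variable (F : Type*) [Field F]

/-! ## Assembly (helper2) -/

/-- conjugacy inside the Chevalley group -/
def Cj (g g' : GL chevG2.Idx F) : Prop := ∃ h ∈ chevG2.group F, h * g * h⁻¹ = g'

variable {F}

theorem Cj.trans {a b c : GL chevG2.Idx F} (h1 : Cj F a b) (h2 : Cj F b c) : Cj F a c := by
  obtain ⟨h, hh, rfl⟩ := h1
  obtain ⟨k, hk, rfl⟩ := h2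
  exact ⟨k * h, mul_mem hk hh, by group⟩

theorem Cj.of_pos {a b : GL chevG2.Idx F} (h : ∃ u ∈ chevG2.posUnipotent F, u * a * u⁻¹ = b) : Cj F a b := by
  obtain ⟨u, hu, e⟩ := h
  exact ⟨u, posUnipotent_le_group chevG2 hG2 F hu, e⟩

theorem Cj.mul_self {a b : GL chevG2.Idx F} (h : Cj F a b) (ha : a * a = 1) : b * b = 1 := by
  obtain ⟨k, -, rfl⟩ := h
  calc k * a * k⁻¹ * (k * a * k⁻¹) = k * (a * a) * k⁻¹ := by group
    _ = 1 := by rw [ha]; group

variable (F)

/-- every involution of `U` is conjugate to `x_9(1)` or `x_11(1)` -/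
theorem pos_invol [Fintype F] [CharP F 2] (u : GL chevG2.Idx F) (hu : u ∈ chevG2.posUnipotent F)
    (h2 : u * u = 1) (h1 : u ≠ 1) : Cj F u (xg F 9 1) ∨ Cj F u (xg F 11 1) := by
  obtain ⟨t, s, s', c, d, e, rfl⟩ := pos_normal_form F u hu
  -- `s t = 0`
  have hst : s * t = 0 := by
    obtain ⟨c₁, d₁, e₁, h6⟩ := conj6 F t s s' c d e
    obtain ⟨c₂, d₂, e₂, hinv⟩ := rad_inv F s s' c d e
    have h3 : xg F 6 t * (xg F 7 s * xg F 8 s' * T F c d e) * (xg F 6 t)⁻¹ =
        (xg F 7 s * xg F 8 s' * T F c d e)⁻¹ := by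
      rw [xg_inv, eq_inv_iff_mul_eq_one]
      calc xg F 6 t * (xg F 7 s * xg F 8 s' * T F c d e) * xg F 6 t * (xg F 7 s * xg F 8 s' * T F c d e)
          = (xg F 6 t * (xg F 7 s * xg F 8 s' * T F c d e)) *
              (xg F 6 t * (xg F 7 s * xg F 8 s' * T F c d e)) := by simp only [mul_assoc]
        _ = 1 := h2
    rw [h6, hinv] at h3
    have h4 := (rad_form_inj F _ _ _ _ _ _ _ _ _ _ h3).2
    exact add_eq_left.1 h4
  by_cases ht : t = 0
  · subst ht
    rw [ufact_zero, one_mul] at h1 h2 ⊢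
    by_cases hs : s = 0
    · subst hs
      rw [ufact_zero, one_mul] at h1 h2 ⊢
      by_cases hs' : s' = 0
      · subst hs'
        rw [ufact_zero, one_mul] at h1 h2 ⊢
        by_cases hc : c = 0
        · subst hc
          by_cases hd : d = 0
          · subst hd
            have he : e ≠ 0 := by
              rintro rfl
              exact h1 (T_zero3 F)
            right
            rw [← ufact_T11]
            exact long_root_conj F 11 (Or.inr (Or.inr rfl)) e he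
          · right
            exact (Cj.of_pos ((killT F 0 d e).2 hd)).trans (long_root_conj F 10 (Or.inr (Or.inl rfl)) d hd)
        · left
          exact (Cj.of_pos ((killT F c d e).1 hc)).trans (short_root_conj F 9 (Or.inr (Or.inr rfl)) c hc)
      · have hc : c = 0 := (mul_eq_zero.1 (sq8 F s' c d e h2)).resolve_left hs'
        subst hc
        left
        exact (Cj.of_pos (kill8 F s' d e hs')).trans (short_root_conj F 8 (Or.inr (Or.inl rfl)) s' hs')
    · obtain ⟨c₁, d₁, e₁, h6⟩ := conj6 F (s' / s) s s' c d e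
      have e0 : s' + s * (s' / s) = 0 := by
        rw [mul_div_cancel₀ _ hs]
        exact CharTwo.add_self_eq_zero s'
      rw [e0, ufact_zero, mul_one] at h6
      have cj1 : Cj F (xg F 7 s * xg F 8 s' * T F c d e) (xg F 7 s * T F c₁ d₁ e₁) :=
        ⟨xg F 6 (s' / s), xGL_mem_group chevG2 hG2 F 6 _, h6⟩
      have hc : c₁ = 0 := (mul_eq_zero.1 (sq7 F s c₁ d₁ e₁ (cj1.mul_self h2))).resolve_left hs
      subst hc
      left
      exact cj1.trans ((Cj.of_pos (kill7 F s d₁ e₁ hs)).trans (short_root_conj F 7 (Or.inl rfl) s hs))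
  · have hs : s = 0 := (mul_eq_zero.1 hst).resolve_right ht
    subst hs
    rw [ufact_zero, one_mul] at h1 h2 ⊢
    obtain ⟨c₁, d₁, e₁, h7⟩ := conj7 F (s' / t) t s' c d e
    have e0 : s' + t * (s' / t) = 0 := by
      rw [mul_div_cancel₀ _ ht]
      exact CharTwo.add_self_eq_zero s'
    rw [e0, ufact_zero, one_mul] at h7
    have cj1 : Cj F (xg F 6 t * (xg F 8 s' * T F c d e)) (xg F 6 t * T F c₁ d₁ e₁) :=
      ⟨xg F 7 (s' / t), xGL_mem_group chevG2 hG2 F 7 _, h7⟩
    have hd : d₁ = 0 := (mul_eq_zero.1 (sq6 F t c₁ d₁ e₁ (cj1.mul_self h2))).resolve_left ht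
    subst hd
    by_cases hc : c₁ = 0
    · right
      exact cj1.trans (Cj.trans ((kill6 F t c₁ e₁ ht).1 hc) (long_root_conj F 6 (Or.inl rfl) t ht))
    · left
      exact cj1.trans (Cj.trans ((kill6 F t c₁ e₁ ht).2 hc) (short_root_conj F 9 (Or.inr (Or.inr rfl)) c₁ hc))

/-- the `B`-orbit of `T c d e` -/
theorem borel_conj_T' (y : GL chevG2.Idx F) (hy : y ∈ chevG2.borelSubgroup F) (c d e : F) :
    ∃ k : F, k ≠ 0 ∧ ∃ d' e' : F, y * T F c d e * y⁻¹ = T F (k * c) d' e' := by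
  obtain ⟨u, hu, h, hh, rfl⟩ := (mem_borel_iff chevG2 hG2 F y).1 hy
  obtain ⟨χ, hχ, ek⟩ := exists_character_of_mem_diagonal chevG2 hG2 F h hh
  have h9 := diag_conj_xGL chevG2 hG2 F h χ hχ ek 9 (by decide) c
  have h10 := diag_conj_xGL chevG2 hG2 F h χ hχ ek 10 (by decide) d
  have h11 := diag_conj_xGL chevG2 hG2 F h χ hχ ek 11 (by decide) e
  have hT : h * T F c d e * h⁻¹ = T F ((χ 9 : F) * c) ((χ 10 : F) * d) ((χ 11 : F) * e) := by
    unfold T xg
    rw [← h9, ← h10, ← h11]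
    group
  obtain ⟨d', e', hde⟩ := pos_conj_T F u hu ((χ 9 : F) * c) ((χ 10 : F) * d) ((χ 11 : F) * e)
  refine ⟨(χ 9 : F), Units.ne_zero _, d', e', ?_⟩
  rw [← hde, ← hT]
  group

/-- the short and the long root involution are not conjugate -/
theorem not_conj : ¬ Cj F (xg F 9 1) (xg F 11 1) := by
  rintro ⟨g, hg, hc⟩
  have h45 : ∀ i < chevG2.rank, H45 chevG2 F i := fun i hi => Cfsg.Agent.S1045.result chevG2 hG2 i hi
  obtain ⟨P, hB, hN, -⟩ := exists_bnPair chevG2 hG2 F h45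
  obtain ⟨n, hn, hgn⟩ := Cfsg.Agent.S0308.result P ⟨g, hg⟩
  rw [hN, Subgroup.mem_subgroupOf] at hn
  rw [DoubleCoset.mem_doubleCoset] at hgn
  obtain ⟨x, hx, y, hy, e⟩ := hgn
  rw [SetLike.mem_coe, hB, Subgroup.mem_subgroupOf] at hx hy
  have e' : g = (x : GL chevG2.Idx F) * (n : GL chevG2.Idx F) * (y : GL chevG2.Idx F) :=
    congrArg Subtype.val e
  obtain ⟨k, hk, d, e₁, hy1⟩ := borel_conj_T' F _ hy 1 0 0
  obtain ⟨k', -, d', e₁', hx1⟩ := borel_conj_T' F _ (inv_mem hx) 0 0 1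
  rw [inv_inv, ← ufact_T11] at hx1
  rw [← ufact_T9] at hy1
  have hn1 : (n : GL chevG2.Idx F) * T F (k * 1) d e₁ * (n : GL chevG2.Idx F)⁻¹ = T F (k' * 0) d' e₁' := by
    rw [← hy1, ← hx1, ← hc, e']
    group
  exact monomial_keep9 F _ hn _ _ _ _ _ _ (by rw [mul_one]; exact hk) hn1 (mul_zero k')

/-- root elements `x_r(1)` are involutions of the group -/
theorem root_order [CharP F 2] (r : ℕ) (hr : r < chevG2.nroots) :
    xg F r 1 ∈ chevG2.group F ∧ orderOf (xg F r 1) = 2 := by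
  refine ⟨xGL_mem_group chevG2 hG2 F r 1, ?_⟩
  have : Fact (Nat.Prime 2) := ⟨Nat.prime_two⟩
  apply orderOf_eq_prime
  · rw [pow_two, xg_mul_self]
  · intro h
    rw [← ufact_zero F r] at h
    exact one_ne_zero (xGL_injective' chevG2 hG2 F r hr 1 0 h)

end Cfsg.Agent.Lib.Helper2.G2i
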