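import Cfsg.Agent.Lib.Helper72.G2cUFACT
import Cfsg.Agent.Lib.Helper20.G2cTINJ
import Cfsg.Agent.Lib.Helper20.G2cUORB

/-! # G2i mini-hive (S2177, owner helper2): the relations of `U` and `X_4` in `G₂(F)`, characteristic 2

Root numbering of `chevG2` (`neg r = 11 - r`): `6 = b` (long simple), `7 = a` (short simple), `8 = a+b`, `9 = 2a+b`,
`10 = 3a+b`, `11 = 3a+2b`, `4 = -a`.  `xg F r c = x_r(c)`, `T F c d e = x_9(c) x_10(d) x_11(e)` are helper20's
(`Cfsg.Agent.Lib.Helper20.G2c`).  All relations are exact in characteristic 2 (every surviving constant is odd). -/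

set_option autoImplicit false

namespace Cfsg.Agent.Lib.Helper2.G2i

open Cfsg Cfsg.Lie Cfsg.Agent.Lib.Helper36 Cfsg.Agent.Lib.Helper20.G2c

variable (F : Type*) [Field F]

/-- the commutator formula (S1025) inside `GL` -/
theorem rel_comm (r s : ℕ) (hr : r < chevG2.nroots) (hs : s < chevG2.nroots) (h1 : s ≠ r)
    (h2 : s ≠ chevG2.neg r) (t u : F) :
    xg F s u * xg F r t = xg F r t * xg F s u * wordGL chevG2 hG2 F (chevG2.commWord F r s t u) := by
  apply Units.ext
  simp only [Units.val_mul, xGL_coe, wordGL_coe]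
  exact Cfsg.Agent.S1025.result (F := F) chevG2 hG2 r s hr hs h1 h2 t u

section char2
variable [CharP F 2]

theorem int_odd_cast (k : ℤ) (hk : k % 2 = 1) : ((k : ℤ) : F) = 1 := by
  have h : k = 2 * (k / 2) + 1 := by omega
  rw [h]
  push_cast
  rw [CharTwo.two_eq_zero, zero_mul, zero_add]

theorem int_even_cast (k : ℤ) (hk : k % 2 = 0) : ((k : ℤ) : F) = 0 := by
  have h : k = 2 * (k / 2) := by omega
  rw [h]
  push_cast
  rw [CharTwo.two_eq_zero, zero_mul]

/-- root elements are involutions (or trivial) -/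
theorem xg_mul_self (r : ℕ) (c : F) : xg F r c * xg F r c = 1 := by
  rw [← ufact_add, CharTwo.add_self_eq_zero, ufact_zero]

theorem xg_inv (r : ℕ) (c : F) : (xg F r c)⁻¹ = xg F r c := by
  rw [ufact_inv, CharTwo.neg_eq]

theorem T_mul_self (c d e : F) : T F c d e * T F c d e = 1 := by
  rw [ufact_T_mul, CharTwo.add_self_eq_zero, CharTwo.add_self_eq_zero, CharTwo.add_self_eq_zero]
  unfold T
  rw [ufact_zero, ufact_zero, ufact_zero, one_mul, one_mul]

theorem T_inv (c d e : F) : (T F c d e)⁻¹ = T F c d e :=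
  inv_eq_of_mul_eq_one_left (T_mul_self F c d e)

/-- `x_6(u) x_7(t) = x_7(t) x_6(u) x_8(tu) x_9(t²u) x_10(t³u) x_11(t³u²)` -/
theorem rel76 (t u : F) : xg F 6 u * xg F 7 t =
    xg F 7 t * xg F 6 u * (xg F 8 (t * u) * (xg F 9 (t ^ 2 * u) * (xg F 10 (t ^ 3 * u) * xg F 11 (t ^ 3 * u ^ 2)))) := by
  rw [rel_comm F 7 6 (by decide) (by decide) (by decide) (by decide) t u]
  have hterms : chevG2.commTerms 7 6 = [(8, -1, 1, 1), (9, 1, 2, 1), (10, 1, 3, 1), (11, 1, 3, 2)] := by decide
  unfold ChevalleyDatum.commWord wordGL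
  rw [hterms]
  simp only [List.map_cons, List.map_nil, List.prod_cons, List.prod_nil, mul_one, CharTwo.neg_eq]
  rw [int_odd_cast F (-1) (by decide), int_odd_cast F 1 (by decide)]
  simp only [one_mul, pow_one]

/-- `x_7(u) x_6(t) = x_6(t) x_7(u) x_8(tu) x_9(tu²) x_10(tu³)` -/
theorem rel67 (t u : F) : xg F 7 u * xg F 6 t =
    xg F 6 t * xg F 7 u * (xg F 8 (t * u) * (xg F 9 (t * u ^ 2) * xg F 10 (t * u ^ 3))) := by
  rw [rel_comm F 6 7 (by decide) (by decide) (by decide) (by decide) t u]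
  have hterms : chevG2.commTerms 6 7 = [(8, 1, 1, 1), (9, 1, 1, 2), (10, -1, 1, 3), (11, -2, 2, 3)] := by decide
  unfold ChevalleyDatum.commWord wordGL
  rw [hterms]
  simp only [List.map_cons, List.map_nil, List.prod_cons, List.prod_nil, mul_one, CharTwo.neg_eq]
  rw [int_odd_cast F (-1) (by decide), int_odd_cast F 1 (by decide), int_even_cast F (-2) (by decide)]
  simp only [one_mul, pow_one, zero_mul]
  rw [xGL_zero, mul_one]

/-- `x_8(u) x_7(t) = x_7(t) x_8(u) x_10(t²u) x_11(tu²)` -/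
theorem rel78 (t u : F) : xg F 8 u * xg F 7 t =
    xg F 7 t * xg F 8 u * (xg F 10 (t ^ 2 * u) * xg F 11 (t * u ^ 2)) := by
  rw [rel_comm F 7 8 (by decide) (by decide) (by decide) (by decide) t u]
  have hterms : chevG2.commTerms 7 8 = [(9, -2, 1, 1), (10, -3, 2, 1), (11, 3, 1, 2)] := by decide
  unfold ChevalleyDatum.commWord wordGL
  rw [hterms]
  simp only [List.map_cons, List.map_nil, List.prod_cons, List.prod_nil, mul_one, CharTwo.neg_eq]
  rw [int_odd_cast F (-3) (by decide), int_odd_cast F 3 (by decide), int_even_cast F (-2) (by decide)]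
  simp only [one_mul, pow_one, zero_mul]
  rw [xGL_zero, one_mul]

/-- `x_7(u) x_8(t) = x_8(t) x_7(u) x_11(t²u) x_10(tu²)` -/
theorem rel87 (t u : F) : xg F 7 u * xg F 8 t =
    xg F 8 t * xg F 7 u * (xg F 11 (t ^ 2 * u) * xg F 10 (t * u ^ 2)) := by
  rw [rel_comm F 8 7 (by decide) (by decide) (by decide) (by decide) t u]
  have hterms : chevG2.commTerms 8 7 = [(9, 2, 1, 1), (11, 3, 2, 1), (10, -3, 1, 2)] := by decide
  unfold ChevalleyDatum.commWord wordGL
  rw [hterms]
  simp only [List.map_cons, List.map_nil, List.prod_cons, List.prod_nil, mul_one, CharTwo.neg_eq]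
  rw [int_odd_cast F (-3) (by decide), int_odd_cast F 3 (by decide), int_even_cast F 2 (by decide)]
  simp only [one_mul, pow_one, zero_mul]
  rw [xGL_zero, one_mul]

/-- `x_9(u) x_7(t) = x_7(t) x_9(u) x_10(tu)` -/
theorem rel79 (t u : F) : xg F 9 u * xg F 7 t = xg F 7 t * xg F 9 u * xg F 10 (t * u) := by
  rw [ufact_comm1 F 7 9 10 3 1 1 (by decide) (by decide) (by decide) (by decide) (by decide) t u,
    int_odd_cast F 3 (by decide), CharTwo.neg_eq, one_mul, pow_one, pow_one]

/-- `x_7(u) x_9(t) = x_9(t) x_7(u) x_10(tu)` -/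
theorem rel97 (t u : F) : xg F 7 u * xg F 9 t = xg F 9 t * xg F 7 u * xg F 10 (t * u) := by
  rw [ufact_comm1 F 9 7 10 (-3) 1 1 (by decide) (by decide) (by decide) (by decide) (by decide) t u,
    int_odd_cast F (-3) (by decide), CharTwo.neg_eq, one_mul, pow_one, pow_one]

/-- `x_9(u) x_8(t) = x_8(t) x_9(u) x_11(tu)` -/
theorem rel89 (t u : F) : xg F 9 u * xg F 8 t = xg F 8 t * xg F 9 u * xg F 11 (t * u) := by
  rw [ufact_comm1 F 8 9 11 3 1 1 (by decide) (by decide) (by decide) (by decide) (by decide) t u,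
    int_odd_cast F 3 (by decide), CharTwo.neg_eq, one_mul, pow_one, pow_one]

/-- `x_8(u) x_9(t) = x_9(t) x_8(u) x_11(tu)` -/
theorem rel98 (t u : F) : xg F 8 u * xg F 9 t = xg F 9 t * xg F 8 u * xg F 11 (t * u) := by
  rw [ufact_comm1 F 9 8 11 (-3) 1 1 (by decide) (by decide) (by decide) (by decide) (by decide) t u,
    int_odd_cast F (-3) (by decide), CharTwo.neg_eq, one_mul, pow_one, pow_one]

/-- `x_10(u) x_6(t) = x_6(t) x_10(u) x_11(tu)` -/
theorem rel6_10 (t u : F) : xg F 10 u * xg F 6 t = xg F 6 t * xg F 10 u * xg F 11 (t * u) := by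
  rw [ufact_comm1 F 6 10 11 1 1 1 (by decide) (by decide) (by decide) (by decide) (by decide) t u,
    int_odd_cast F 1 (by decide), CharTwo.neg_eq, one_mul, pow_one, pow_one]

/-- `x_6(u) x_10(t) = x_10(t) x_6(u) x_11(tu)` -/
theorem rel10_6 (t u : F) : xg F 6 u * xg F 10 t = xg F 10 t * xg F 6 u * xg F 11 (t * u) := by
  rw [ufact_comm1 F 10 6 11 (-1) 1 1 (by decide) (by decide) (by decide) (by decide) (by decide) t u,
    int_odd_cast F (-1) (by decide), CharTwo.neg_eq, one_mul, pow_one, pow_one]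

/-- `x_9(u) x_4(t) = x_4(t) x_9(u) x_6(t²u) x_11(tu²)` -/
theorem rel49 (t u : F) : xg F 9 u * xg F 4 t =
    xg F 4 t * xg F 9 u * (xg F 6 (t ^ 2 * u) * xg F 11 (t * u ^ 2)) := by
  rw [rel_comm F 4 9 (by decide) (by decide) (by decide) (by decide) t u]
  have hterms : chevG2.commTerms 4 9 = [(8, -2, 1, 1), (6, 3, 2, 1), (11, -3, 1, 2)] := by decide
  unfold ChevalleyDatum.commWord wordGL
  rw [hterms]
  simp only [List.map_cons, List.map_nil, List.prod_cons, List.prod_nil, mul_one, CharTwo.neg_eq]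
  rw [int_odd_cast F (-3) (by decide), int_odd_cast F 3 (by decide), int_even_cast F (-2) (by decide)]
  simp only [one_mul, pow_one, zero_mul]
  rw [xGL_zero, one_mul]

/-- `x_4(u) x_9(t) = x_9(t) x_4(u) x_11(t²u) x_6(tu²)` -/
theorem rel94 (t u : F) : xg F 4 u * xg F 9 t =
    xg F 9 t * xg F 4 u * (xg F 11 (t ^ 2 * u) * xg F 6 (t * u ^ 2)) := by
  rw [rel_comm F 9 4 (by decide) (by decide) (by decide) (by decide) t u]
  have hterms : chevG2.commTerms 9 4 = [(8, 2, 1, 1), (11, -3, 2, 1), (6, 3, 1, 2)] := by decide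
  unfold ChevalleyDatum.commWord wordGL
  rw [hterms]
  simp only [List.map_cons, List.map_nil, List.prod_cons, List.prod_nil, mul_one, CharTwo.neg_eq]
  rw [int_odd_cast F (-3) (by decide), int_odd_cast F 3 (by decide), int_even_cast F 2 (by decide)]
  simp only [one_mul, pow_one, zero_mul]
  rw [xGL_zero, one_mul]

end char2

/-! ### commuting pairs (any characteristic) -/

theorem comm68 (a b : F) : Commute (xg F 6 a) (xg F 8 b) :=
  ufact_commute F 8 6 (by decide) (by decide) (by decide) (by decide) (by decide) b a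
theorem comm69 (a b : F) : Commute (xg F 6 a) (xg F 9 b) :=
  ufact_commute F 9 6 (by decide) (by decide) (by decide) (by decide) (by decide) b a
theorem comm6_11 (a b : F) : Commute (xg F 6 a) (xg F 11 b) :=
  ufact_commute F 11 6 (by decide) (by decide) (by decide) (by decide) (by decide) b a
theorem comm7_10 (a b : F) : Commute (xg F 7 a) (xg F 10 b) :=
  ufact_commute F 10 7 (by decide) (by decide) (by decide) (by decide) (by decide) b a
theorem comm7_11 (a b : F) : Commute (xg F 7 a) (xg F 11 b) :=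
  ufact_commute F 11 7 (by decide) (by decide) (by decide) (by decide) (by decide) b a
theorem comm8_10 (a b : F) : Commute (xg F 8 a) (xg F 10 b) :=
  ufact_commute F 10 8 (by decide) (by decide) (by decide) (by decide) (by decide) b a
theorem comm8_11 (a b : F) : Commute (xg F 8 a) (xg F 11 b) :=
  ufact_commute F 11 8 (by decide) (by decide) (by decide) (by decide) (by decide) b a
theorem comm9_10 (a b : F) : Commute (xg F 9 a) (xg F 10 b) :=
  ufact_commute F 10 9 (by decide) (by decide) (by decide) (by decide) (by decide) b a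
theorem comm9_11 (a b : F) : Commute (xg F 9 a) (xg F 11 b) :=
  ufact_commute F 11 9 (by decide) (by decide) (by decide) (by decide) (by decide) b a
theorem comm10_11 (a b : F) : Commute (xg F 10 a) (xg F 11 b) :=
  ufact_commute F 11 10 (by decide) (by decide) (by decide) (by decide) (by decide) b a
theorem comm46 (a b : F) : Commute (xg F 4 a) (xg F 6 b) :=
  ufact_commute F 6 4 (by decide) (by decide) (by decide) (by decide) (by decide) b a
theorem comm4_11 (a b : F) : Commute (xg F 4 a) (xg F 11 b) :=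
  ufact_commute F 11 4 (by decide) (by decide) (by decide) (by decide) (by decide) b a
theorem comm_self (r : ℕ) (a b : F) : Commute (xg F r a) (xg F r b) := by
  show xg F r a * xg F r b = xg F r b * xg F r a
  rw [← ufact_add, ← ufact_add, add_comm]

/-! ### `X_6`, `X_7`, `X_8` acting on `V = X_9 X_10 X_11` (characteristic 2) -/

theorem T_zero3 : T F 0 0 0 = 1 := by
  unfold T
  rw [ufact_zero, ufact_zero, ufact_zero, one_mul, one_mul]

section char2b
variable [CharP F 2]

/-- `T(c,d,e) x_7(s) = x_7(s) T(c, d + sc, e)` -/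
theorem T_x7 (c d e s : F) : T F c d e * xg F 7 s = xg F 7 s * T F c (d + s * c) e := by
  unfold T
  calc xg F 9 c * xg F 10 d * xg F 11 e * xg F 7 s
      = xg F 9 c * xg F 10 d * (xg F 11 e * xg F 7 s) := by rw [mul_assoc]
    _ = xg F 9 c * xg F 10 d * (xg F 7 s * xg F 11 e) := by rw [(comm7_11 F s e).eq]
    _ = xg F 9 c * (xg F 10 d * xg F 7 s) * xg F 11 e := by simp only [mul_assoc]
    _ = xg F 9 c * (xg F 7 s * xg F 10 d) * xg F 11 e := by rw [(comm7_10 F s d).eq]
    _ = (xg F 9 c * xg F 7 s) * xg F 10 d * xg F 11 e := by simp only [mul_assoc]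
    _ = (xg F 7 s * xg F 9 c * xg F 10 (s * c)) * xg F 10 d * xg F 11 e := by rw [rel79]
    _ = xg F 7 s * (xg F 9 c * (xg F 10 (s * c) * xg F 10 d) * xg F 11 e) := by simp only [mul_assoc]
    _ = xg F 7 s * (xg F 9 c * xg F 10 (d + s * c) * xg F 11 e) := by rw [← ufact_add, add_comm]

/-- `T(c,d,e) x_8(s) = x_8(s) T(c, d, e + sc)` -/
theorem T_x8 (c d e s : F) : T F c d e * xg F 8 s = xg F 8 s * T F c d (e + s * c) := by
  unfold T
  calc xg F 9 c * xg F 10 d * xg F 11 e * xg F 8 s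
      = xg F 9 c * xg F 10 d * (xg F 11 e * xg F 8 s) := by rw [mul_assoc]
    _ = xg F 9 c * xg F 10 d * (xg F 8 s * xg F 11 e) := by rw [(comm8_11 F s e).eq]
    _ = xg F 9 c * (xg F 10 d * xg F 8 s) * xg F 11 e := by simp only [mul_assoc]
    _ = xg F 9 c * (xg F 8 s * xg F 10 d) * xg F 11 e := by rw [(comm8_10 F s d).eq]
    _ = (xg F 9 c * xg F 8 s) * xg F 10 d * xg F 11 e := by simp only [mul_assoc]
    _ = (xg F 8 s * xg F 9 c * xg F 11 (s * c)) * xg F 10 d * xg F 11 e := by rw [rel89]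
    _ = xg F 8 s * (xg F 9 c * (xg F 11 (s * c) * xg F 10 d) * xg F 11 e) := by simp only [mul_assoc]
    _ = xg F 8 s * (xg F 9 c * (xg F 10 d * xg F 11 (s * c)) * xg F 11 e) := by rw [(comm10_11 F d (s * c)).eq]
    _ = xg F 8 s * (xg F 9 c * xg F 10 d * (xg F 11 (s * c) * xg F 11 e)) := by simp only [mul_assoc]
    _ = xg F 8 s * (xg F 9 c * xg F 10 d * xg F 11 (e + s * c)) := by rw [← ufact_add, add_comm]

/-- `T(c,d,e) x_6(t) = x_6(t) T(c, d, e + td)` -/
theorem T_x6 (c d e t : F) : T F c d e * xg F 6 t = xg F 6 t * T F c d (e + t * d) := by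
  unfold T
  calc xg F 9 c * xg F 10 d * xg F 11 e * xg F 6 t
      = xg F 9 c * xg F 10 d * (xg F 11 e * xg F 6 t) := by rw [mul_assoc]
    _ = xg F 9 c * xg F 10 d * (xg F 6 t * xg F 11 e) := by rw [(comm6_11 F t e).eq]
    _ = xg F 9 c * (xg F 10 d * xg F 6 t) * xg F 11 e := by simp only [mul_assoc]
    _ = xg F 9 c * (xg F 6 t * xg F 10 d * xg F 11 (t * d)) * xg F 11 e := by rw [rel6_10]
    _ = (xg F 9 c * xg F 6 t) * xg F 10 d * (xg F 11 (t * d) * xg F 11 e) := by simp only [mul_assoc]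
    _ = (xg F 6 t * xg F 9 c) * xg F 10 d * (xg F 11 (t * d) * xg F 11 e) := by rw [(comm69 F t c).eq]
    _ = xg F 6 t * (xg F 9 c * xg F 10 d * xg F 11 (e + t * d)) := by
        rw [← ufact_add, add_comm]; simp only [mul_assoc]

/-- `(x_7(s) T(c,d,e))² = 1` forces `sc = 0` -/
theorem sq7 (s c d e : F) (h : (xg F 7 s * T F c d e) * (xg F 7 s * T F c d e) = 1) : s * c = 0 := by
  have e1 : (xg F 7 s * T F c d e) * (xg F 7 s * T F c d e) = T F 0 (s * c) 0 := by
    calc (xg F 7 s * T F c d e) * (xg F 7 s * T F c d e)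
        = xg F 7 s * (T F c d e * xg F 7 s) * T F c d e := by simp only [mul_assoc]
      _ = xg F 7 s * (xg F 7 s * T F c (d + s * c) e) * T F c d e := by rw [T_x7]
      _ = (xg F 7 s * xg F 7 s) * (T F c (d + s * c) e * T F c d e) := by simp only [mul_assoc]
      _ = T F 0 (s * c) 0 := by
          rw [xg_mul_self, one_mul, ufact_T_mul, CharTwo.add_self_eq_zero, CharTwo.add_self_eq_zero,
            add_right_comm, CharTwo.add_self_eq_zero, zero_add]
  rw [e1, ← T_zero3 F] at h
  exact (T_inj F _ _ _ _ _ _ h).2.1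

/-- `(x_8(s) T(c,d,e))² = 1` forces `sc = 0` -/
theorem sq8 (s c d e : F) (h : (xg F 8 s * T F c d e) * (xg F 8 s * T F c d e) = 1) : s * c = 0 := by
  have e1 : (xg F 8 s * T F c d e) * (xg F 8 s * T F c d e) = T F 0 0 (s * c) := by
    calc (xg F 8 s * T F c d e) * (xg F 8 s * T F c d e)
        = xg F 8 s * (T F c d e * xg F 8 s) * T F c d e := by simp only [mul_assoc]
      _ = xg F 8 s * (xg F 8 s * T F c d (e + s * c)) * T F c d e := by rw [T_x8]
      _ = (xg F 8 s * xg F 8 s) * (T F c d (e + s * c) * T F c d e) := by simp only [mul_assoc]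
      _ = T F 0 0 (s * c) := by
          rw [xg_mul_self, one_mul, ufact_T_mul, CharTwo.add_self_eq_zero, CharTwo.add_self_eq_zero,
            add_right_comm, CharTwo.add_self_eq_zero, zero_add]
  rw [e1, ← T_zero3 F] at h
  exact (T_inj F _ _ _ _ _ _ h).2.2

/-- `(x_6(t) T(c,d,e))² = 1` forces `td = 0` -/
theorem sq6 (t c d e : F) (h : (xg F 6 t * T F c d e) * (xg F 6 t * T F c d e) = 1) : t * d = 0 := by
  have e1 : (xg F 6 t * T F c d e) * (xg F 6 t * T F c d e) = T F 0 0 (t * d) := by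
    calc (xg F 6 t * T F c d e) * (xg F 6 t * T F c d e)
        = xg F 6 t * (T F c d e * xg F 6 t) * T F c d e := by simp only [mul_assoc]
      _ = xg F 6 t * (xg F 6 t * T F c d (e + t * d)) * T F c d e := by rw [T_x6]
      _ = (xg F 6 t * xg F 6 t) * (T F c d (e + t * d) * T F c d e) := by simp only [mul_assoc]
      _ = T F 0 0 (t * d) := by
          rw [xg_mul_self, one_mul, ufact_T_mul, CharTwo.add_self_eq_zero, CharTwo.add_self_eq_zero,
            add_right_comm, CharTwo.add_self_eq_zero, zero_add]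
  rw [e1, ← T_zero3 F] at h
  exact (T_inj F _ _ _ _ _ _ h).2.2

end char2b

end Cfsg.Agent.Lib.Helper2.G2i
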