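import Cfsg.Agent.Lib.Helper20.G2cDefs

/-! # G2o hive (S4278, architect helper2; paper proof helper13): definitions

`G₂(F)`, `F` finite of odd order: all involutions are conjugate.  `xg F r c = x_r(c)`, `hG2` are helper20's
(`Cfsg.Agent.Lib.Helper20.G2c`).  Root numbering of `chevG2` (`neg r = 11 - r`): `6 = b` (long, `simple 1`),
`7 = a` (short, `simple 0`), `8 = a+b`, `9 = 2a+b`, `10 = 3a+b`, `11 = 3a+2b`. -/

set_option autoImplicit false

namespace Cfsg.Agent.Lib.Helper2.G2o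

open Cfsg Cfsg.Lie Cfsg.Agent.Lib.Helper36 Cfsg.Agent.Lib.Helper20.G2c

variable (F : Type*) [Field F]

/-- `n` acts on the root subgroups through the map `π` of the roots:
`n x_r(t) n⁻¹ = x_{π r}(c_r t)` with `c_r ≠ 0`, for every root `r` -/
def Acts (n : GL chevG2.Idx F) (π : ℕ → ℕ) : Prop :=
  ∀ r < chevG2.nroots, ∃ c : F, c ≠ 0 ∧ ∀ t : F, n * xg F r t * n⁻¹ = xg F (π r) (c * t)

end Cfsg.Agent.Lib.Helper2.G2o
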