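import Cfsg.Agent.Lib.Helper2.G2oDefs
import Cfsg.Agent.Lib.Helper13.InvN
import Cfsg.Agent.Lib.Helper13.G2oGen
import Cfsg.Agent.Lib.Helper54.G2oCLS
import Cfsg.Agent.Lib.Helper33.G2oPID
import Cfsg.Agent.Lib.Helper55.G2oF2S
import Cfsg.Agent.Lib.Helper79.G2oREDID
import Cfsg.Agent.Lib.Helper91.G2oW0S
import Cfsg.Agent.Lib.Helper61.G2oW0N
import Cfsg.Agent.Lib.Helper90.G2oH2
import Cfsg.Agent.Lib.Helper24.G2oNSQ

/-! # G2o hive (S4278): assembly (helper2)

`G₂(F)`, `F` finite of odd order: every involution is conjugate to `h_a(-1)`.  Paper proof by helper13 (Bruhat normal form of an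
involution, involutions of `N`, `SL₂`-reductions).  Generic lemmas INV-N, RED, GZTR: helper13.  Leaves: helper54 (CLS), helper33 (PID),
helper55 (F2S), helper79 (REDID), helper91 (W0S), helper61 (W0N), helper90 (H2), helper24 (NSQ). -/

set_option autoImplicit false

namespace Cfsg.Agent.Lib.Helper2.G2o

open Cfsg Cfsg.Lie Cfsg.Agent.Lib.Helper36 Cfsg.Agent.Lib.Helper20.G2c

variable (F : Type*) [Field F]

/-! ## Assembly (helper2) -/

open Cfsg.Agent.Lib.Helper13.InvN Cfsg.Agent.Lib.Helper13.G2o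

/-- being conjugate, inside the group, to an element of `H` -/
def ToH (n : GL chevG2.Idx F) : Prop := ∃ g ∈ chevG2.group F, g * n * g⁻¹ ∈ chevG2.diagonalSubgroup F

variable {F}

theorem ToH.of_conj {n n' : GL chevG2.Idx F} (g : GL chevG2.Idx F) (hg : g ∈ chevG2.group F)
    (e : g * n * g⁻¹ = n') (h : ToH F n') : ToH F n := by
  obtain ⟨k, hk, hk'⟩ := h
  refine ⟨k * g, mul_mem hk hg, ?_⟩
  have : k * g * n * (k * g)⁻¹ = k * (g * n * g⁻¹) * k⁻¹ := by group
  rw [this, e]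
  exact hk'

theorem conj_mul_self {n : GL chevG2.Idx F} (g : GL chevG2.Idx F) (hnn : n * n = 1) :
    (g * n * g⁻¹) * (g * n * g⁻¹) = 1 := by
  calc (g * n * g⁻¹) * (g * n * g⁻¹) = g * (n * n) * g⁻¹ := by group
    _ = 1 := by rw [hnn]; group

variable (F)

theorem hn_mem (r : ℕ) (hr : r < chevG2.nroots) (e : F) (he : e ≠ 0) (n : GL chevG2.Idx F)
    (hn : n ∈ chevG2.monomialSubgroup F) :
    hGL chevG2 hG2 F r e * nGL chevG2 hG2 F r 1 * n ∈ chevG2.monomialSubgroup F :=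
  mul_mem (mul_mem (diagonal_le_monomial chevG2 F (hGL_mem_diag chevG2 hG2 F r hr e he))
    (nGL_mem_mono chevG2 hG2 F r hr)) hn

/-- type `s_a` or `s_b` -/
theorem typeS_toH (h2F : (2 : F) ≠ 0) (i : ℕ) (hi : i < 2) (n : GL chevG2.Idx F)
    (hn : n ∈ chevG2.monomialSubgroup F) (hnn : n * n = 1) (h : Acts F n (chevG2.reflectRoot i)) : ToH F n := by
  have hr : chevG2.simple i < chevG2.nroots := by
    interval_cases i <;> decide
  obtain ⟨y, hy, hsw⟩ := f2s F i hi n hn hnn h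
  obtain ⟨g, hg, e⟩ := red chevG2 hG2 F (chevG2.simple i) hr n hnn y hy h2F hsw
  refine ToH.of_conj g hg e ⟨1, one_mem _, ?_⟩
  rw [one_mul, inv_one, mul_one]
  exact pid F _ (hn_mem F _ hr y⁻¹ (inv_ne_zero hy) n hn) (redid F i hi n h y⁻¹ (inv_ne_zero hy))

/-- type `w₀` with `c_7` a square -/
theorem w0_sq_toH (h2F : (2 : F) ≠ 0) (n : GL chevG2.Idx F) (hn : n ∈ chevG2.monomialSubgroup F) (hnn : n * n = 1)
    (h : Acts F n chevG2.neg) (y : F) (hy : y ≠ 0)
    (hsw : ∀ s : F, n * xg F 7 s * n⁻¹ = xg F 4 (y ^ 2 * s)) : ToH F n := by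
  obtain ⟨g, hg, e⟩ := red chevG2 hG2 F 7 (by decide) n hnn y hy h2F hsw
  have hn'' := hn_mem F 7 (by decide) y⁻¹ (inv_ne_zero hy) n hn
  obtain ⟨m, hm, hacts⟩ := w0s F n h y⁻¹ (inv_ne_zero hy)
  refine ToH.of_conj g hg e ?_
  refine ToH.of_conj m (monomial_le_group chevG2 hG2 F hm) rfl ?_
  refine typeS_toH F h2F 1 (by decide) _ (mul_mem (mul_mem hm hn'') (inv_mem hm)) ?_ hacts
  rw [← e]
  exact conj_mul_self m (conj_mul_self g hnn)

/-- every involution of `N` is conjugate into `H` -/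
theorem monomial_invol_toH [Fintype F] (hodd : Odd (Fintype.card F)) (n : GL chevG2.Idx F)
    (hn : n ∈ chevG2.monomialSubgroup F) (hnn : n * n = 1) : ToH F n := by
  obtain ⟨h2F, d, hd, hdsq⟩ := nsq F hodd
  obtain ⟨m, hm, hcases⟩ := cls F n hn hnn
  have hmG := monomial_le_group chevG2 hG2 F hm
  have hn' : m * n * m⁻¹ ∈ chevG2.monomialSubgroup F := mul_mem (mul_mem hm hn) (inv_mem hm)
  have hnn' : (m * n * m⁻¹) * (m * n * m⁻¹) = 1 := conj_mul_self m hnn
  refine ToH.of_conj m hmG rfl ?_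
  rcases hcases with h | h | h | h
  · exact ⟨1, one_mem _, by rw [one_mul, inv_one, mul_one]; exact pid F _ hn' h⟩
  · exact typeS_toH F h2F 0 (by decide) _ hn' hnn' h
  · exact typeS_toH F h2F 1 (by decide) _ hn' hnn' h
  · -- type `w₀`
    generalize m * n * m⁻¹ = n' at hn' hnn' h
    obtain ⟨c, hc, hsw⟩ := h 7 (by decide)
    have e4 : chevG2.neg 7 = 4 := by decide
    rw [e4] at hsw
    by_cases hsq : IsSquare c
    · obtain ⟨y, rfl⟩ := hsq
      have hy : y ≠ 0 := fun e => hc (by rw [e, mul_zero])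
      exact w0_sq_toH F h2F n' hn' hnn' h y hy (fun s => by rw [hsw s, pow_two])
    · obtain ⟨c6, hc6, hsw6⟩ := h 6 (by decide)
      obtain ⟨g, hg, e⟩ := gztr chevG2 hG2 F h2F 6 (by decide) n' hnn' c6 hc6 hsw6 d hd
      obtain ⟨hacts, k, hk, hk7⟩ := w0n F n' h d hd
      obtain ⟨y, hy, ey⟩ := hdsq c hc hsq k hk
      refine ToH.of_conj g hg e ?_
      refine w0_sq_toH F h2F _ (mul_mem (diagonal_le_monomial chevG2 F (hGL_mem_diag chevG2 hG2 F 6 (by decide) d hd)) hn')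
        ?_ hacts y hy (fun s => by rw [hk7 c hsw s, ey])
      rw [← e]
      exact conj_mul_self g hnn'

/-- every involution of the group is conjugate to `h_a(-1)` -/
theorem invol_conj [Fintype F] (hodd : Odd (Fintype.card F)) (t : GL chevG2.Idx F) (ht : t ∈ chevG2.group F)
    (htt : t * t = 1) (ht1 : t ≠ 1) :
    ∃ g ∈ chevG2.group F, g * t * g⁻¹ = hGL chevG2 hG2 F 7 (-1) := by
  obtain ⟨u, hu, n, hn, hnn, rfl⟩ := invn_main chevG2 hG2 F hodd t ht htt
  have huG := posUnipotent_le_group chevG2 hG2 F hu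
  obtain ⟨g, hg, hgH⟩ := monomial_invol_toH F hodd n hn hnn
  have hn1 : n ≠ 1 := by
    rintro rfl
    apply ht1
    group
  have h1 : g * n * g⁻¹ ≠ 1 := by
    intro e
    apply hn1
    calc n = g⁻¹ * (g * n * g⁻¹) * g := by group
      _ = 1 := by rw [e]; group
  obtain ⟨k, hk, ek⟩ := h2conj F (nsq F hodd).1 _ hgH (conj_mul_self g hnn) h1
  refine ⟨k * g * u⁻¹, mul_mem (mul_mem hk hg) (inv_mem huG), ?_⟩
  rw [← ek]
  group

end Cfsg.Agent.Lib.Helper2.G2o
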