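import Cfsg.Agent.Lib.Helper36.G2zBase
import Cfsg.Agent.Lib.Helper54.G2oCLS
import Cfsg.Agent.Lib.Helper33.G2oPID

/-! # G2z hive (S4279, architect helper37): piece Z3 (helper2)

`t₀ = h_6(-1)`, `K = L₁ ⊔ L₂` (`L₁ = ⟨X_6, X_5⟩`, `L₂ = ⟨X_9, X_2⟩`), `H` the diagonal subgroup of `G₂(F)`, `2 ≠ 0`.
An element `n` of the monomial subgroup `N` commuting with `t₀` lies in `K ⊔ H`.

`n` acts on the root subgroups through one of the 12 tables of `W(G₂)` (`cls_orbit`); commuting with `t₀` forces the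
table to preserve the parity of `⟨r, 6^∨⟩`, which leaves 4 tables (`1, s_6, s_9, w₀`, by `decide`); multiplying by
`n_6(1) ∈ L₁` and by a conjugate `n_9(±1) ∈ L₂` one reaches the trivial table, and then `pid` gives `H`. -/

set_option autoImplicit false

namespace Cfsg.Agent.Lib.Helper36

open Cfsg Cfsg.Lie Cfsg.Agent.Lib.Helper18 Cfsg.Agent.Lib.Helper20.G2c Cfsg.Agent.Lib.Helper2.G2o

variable {F : Type*} [Field F]

/-- the table of `s_6` -/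
def g2zT6 : List ℕ := [1, 0, 2, 4, 3, 6, 5, 8, 7, 9, 11, 10]
/-- the table of `s_9` -/
def g2zT9 : List ℕ := [10, 11, 9, 7, 8, 5, 6, 3, 4, 2, 0, 1]
/-- the table of `w₀` -/
def g2zT0 : List ℕ := [11, 10, 9, 8, 7, 6, 5, 4, 3, 2, 1, 0]
/-- the trivial table -/
def g2zT1 : List ℕ := [0, 1, 2, 3, 4, 5, 6, 7, 8, 9, 10, 11]

/-- the tables preserving the parity of `⟨r, 6^∨⟩` -/
theorem g2z_cn_tab : ∀ T ∈ clsW,
    (∀ r ∈ List.range 12, gc chevG2 6 (T.getD r 0) % 2 = gc chevG2 6 r % 2) →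
      T = g2zT1 ∨ T = g2zT6 ∨ T = g2zT9 ∨ T = g2zT0 := by decide

theorem g2z_cn_nroots : chevG2.nroots = 12 := by decide

theorem g2z_cn_neg_one_zpow (h2 : (2 : F) ≠ 0) (a b : ℤ) (h : (-1 : F) ^ a = (-1 : F) ^ b) : a % 2 = b % 2 := by
  have hne : (1 : F) ≠ -1 := by
    intro e
    apply h2
    have : (2 : F) = 1 + 1 := by norm_num
    rw [this]
    nth_rewrite 1 [e]
    ring
  rcases Int.even_or_odd a with ha | ha <;> rcases Int.even_or_odd b with hb | hb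
  · rw [Int.even_iff.1 ha, Int.even_iff.1 hb]
  · rw [ha.neg_one_zpow, hb.neg_one_zpow] at h
    exact absurd h hne
  · rw [ha.neg_one_zpow, hb.neg_one_zpow] at h
    exact absurd h.symm hne
  · rw [Int.odd_iff.1 ha, Int.odd_iff.1 hb]

/-- an element of `N` commuting with `t₀` acts through a table preserving the parity of `⟨r, 6^∨⟩` -/
theorem g2z_cn_parity (h2 : (2 : F) ≠ 0) (n : GL chevG2.Idx F) (π : ℕ → ℕ) (hπ : ∀ r < 12, π r < 12)
    (hA : Acts F n π)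
    (hc : hGL chevG2 g2z_hG2 F 6 (-1) * n = n * hGL chevG2 g2z_hG2 F 6 (-1)) (r : ℕ) (hr : r < 12) :
    gc chevG2 6 (π r) % 2 = gc chevG2 6 r % 2 := by
  have hne : (-1 : F) ≠ 0 := neg_ne_zero.mpr one_ne_zero
  have hr' : r < chevG2.nroots := by rw [g2z_cn_nroots]; exact hr
  have hπr : π r < chevG2.nroots := by rw [g2z_cn_nroots]; exact hπ r hr
  have h6 : 6 < chevG2.nroots := by rw [g2z_cn_nroots]; norm_num
  obtain ⟨c, hc0, hact⟩ := hA r hr'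
  set t0 := hGL chevG2 g2z_hG2 F 6 (-1) with ht0
  have hc' : n⁻¹ * t0⁻¹ = t0⁻¹ * n⁻¹ := by
    rw [← mul_inv_rev, ← mul_inv_rev, hc]
  have e1 : t0 * (n * xGL chevG2 g2z_hG2 F r 1 * n⁻¹) * t0⁻¹ =
      n * (t0 * xGL chevG2 g2z_hG2 F r 1 * t0⁻¹) * n⁻¹ := by
    calc t0 * (n * xGL chevG2 g2z_hG2 F r 1 * n⁻¹) * t0⁻¹
        = (t0 * n) * xGL chevG2 g2z_hG2 F r 1 * (n⁻¹ * t0⁻¹) := by group
      _ = (n * t0) * xGL chevG2 g2z_hG2 F r 1 * (t0⁻¹ * n⁻¹) := by rw [hc, hc']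
      _ = n * (t0 * xGL chevG2 g2z_hG2 F r 1 * t0⁻¹) * n⁻¹ := by group
  have hact' : ∀ t : F, n * xGL chevG2 g2z_hG2 F r t * n⁻¹ = xGL chevG2 g2z_hG2 F (π r) (c * t) := hact
  rw [hact' 1, hGL_conj_xGL chevG2 g2z_hG2 F 6 (π r) h6 hπr (-1) hne,
    hGL_conj_xGL chevG2 g2z_hG2 F 6 r h6 hr' (-1) hne, hact'] at e1
  have e2 := xGL_injective' chevG2 g2z_hG2 F (π r) hπr _ _ e1
  have e3 : (-1 : F) ^ gc chevG2 6 (π r) = (-1 : F) ^ gc chevG2 6 r := by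
    have : c * (-1 : F) ^ gc chevG2 6 (π r) = c * (-1 : F) ^ gc chevG2 6 r := by
      rw [mul_one, mul_one] at e2
      rw [mul_comm c, e2]
    exact mul_left_cancel₀ hc0 this
  exact g2z_cn_neg_one_zpow h2 _ _ e3

/-- `K ⊔ H` -/
abbrev g2zKH (F : Type*) [Field F] : Subgroup (GL chevG2.Idx F) :=
  (g2zL1 F ⊔ g2zL2 F) ⊔ chevG2.diagonalSubgroup F

theorem g2z_cn_xmem (r : ℕ) (t : F) : xGL chevG2 g2z_hG2 F r t ∈ chevG2.rootSubgroup F r :=
  Subgroup.subset_closure ⟨t, xGL_coe chevG2 g2z_hG2 F r t⟩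

/-- trivial table: `n ∈ H` -/
theorem g2z_cn_base (n : GL chevG2.Idx F) (hn : n ∈ chevG2.monomialSubgroup F) (π : ℕ → ℕ) (hA : Acts F n π)
    (hπ : ∀ r < 12, π r = r) : n ∈ g2zKH F := by
  have hid : Acts F n id := cls_acts_congr hA (fun r hr => by rw [g2z_cn_nroots] at hr; exact hπ r hr)
  exact (le_sup_right : _ ≤ g2zKH F) (pid F n hn hid)

/-- general step: divide by an element `m` of `N ∩ (K ⊔ H)` -/
theorem g2z_cn_step (n m : GL chevG2.Idx F) (hm : m ∈ g2zKH F) (h : n * m⁻¹ ∈ g2zKH F) : n ∈ g2zKH F := by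
  have := mul_mem h hm
  rwa [inv_mul_cancel_right] at this

/-- `n_6(1)` -/
theorem g2z_cn_m6_mem : nWordGL chevG2 g2z_hG2 F [1] ∈ g2zKH F := by
  have e : nWordGL chevG2 g2z_hG2 F [1] = nGL chevG2 g2z_hG2 F 6 1 := by
    simp [nWordGL]
    rfl
  rw [e, nGL_eq]
  refine (le_sup_left : _ ≤ g2zKH F) ((le_sup_left : g2zL1 F ≤ _) ?_)
  unfold g2zL1
  have h6 : ∀ t : F, xGL chevG2 g2z_hG2 F 6 t ∈ chevG2.rootSubgroup F 6 ⊔ chevG2.rootSubgroup F 5 :=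
    fun t => (le_sup_left : chevG2.rootSubgroup F 6 ≤ _) (g2z_cn_xmem 6 t)
  have h5 : ∀ t : F, xGL chevG2 g2z_hG2 F (chevG2.neg 6) t ∈ chevG2.rootSubgroup F 6 ⊔ chevG2.rootSubgroup F 5 := by
    intro t
    rw [g2z_neg6]
    exact (le_sup_right : chevG2.rootSubgroup F 5 ≤ _) (g2z_cn_xmem 5 t)
  exact mul_mem (mul_mem (h6 _) (h5 _)) (h6 _)

/-- the conjugate `n_9(±1)` of `n_7(1)` -/
def g2zM9 (F : Type*) [Field F] : GL chevG2.Idx F :=
  nWordGL chevG2 g2z_hG2 F [0, 1] * nWordGL chevG2 g2z_hG2 F [0] * (nWordGL chevG2 g2z_hG2 F [0, 1])⁻¹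

theorem g2z_cn_rank : chevG2.rank = 2 := by decide

theorem g2z_cn_w01 : ∀ i ∈ [0, 1], i < chevG2.rank := by
  rw [g2z_cn_rank]; decide

theorem g2z_cn_w0 : ∀ i ∈ [0], i < chevG2.rank := by
  rw [g2z_cn_rank]; decide

theorem g2z_cn_w1 : ∀ i ∈ [1], i < chevG2.rank := by
  rw [g2z_cn_rank]; decide

theorem g2z_cn_m9_mono : g2zM9 F ∈ chevG2.monomialSubgroup F :=
  mul_mem (mul_mem (nWordGL_mem chevG2 g2z_hG2 F _ g2z_cn_w01) (nWordGL_mem chevG2 g2z_hG2 F _ g2z_cn_w0))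
    (inv_mem (nWordGL_mem chevG2 g2z_hG2 F _ g2z_cn_w01))

theorem g2z_cn_m9_mem : g2zM9 F ∈ g2zKH F := by
  have h7 : (7 : ℕ) < chevG2.nroots := by rw [g2z_cn_nroots]; norm_num
  obtain ⟨ε, hε, hcj⟩ := nWordGL_conj_n chevG2 g2z_hG2 F [0, 1] g2z_cn_w01 7 h7
  have e0 : nWordGL chevG2 g2z_hG2 F [0] = nGL chevG2 g2z_hG2 F 7 1 := by
    simp [nWordGL]
    rfl
  have e9 : wRoot chevG2 [0, 1] 7 = 9 := by decide
  unfold g2zM9
  rw [e0, hcj 1, e9, nGL_eq]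
  refine (le_sup_left : _ ≤ g2zKH F) ((le_sup_right : g2zL2 F ≤ _) ?_)
  unfold g2zL2
  have h9 : ∀ t : F, xGL chevG2 g2z_hG2 F 9 t ∈ chevG2.rootSubgroup F 9 ⊔ chevG2.rootSubgroup F 2 :=
    fun t => (le_sup_left : chevG2.rootSubgroup F 9 ≤ _) (g2z_cn_xmem 9 t)
  have h2' : ∀ t : F, xGL chevG2 g2z_hG2 F (chevG2.neg 9) t ∈ chevG2.rootSubgroup F 9 ⊔ chevG2.rootSubgroup F 2 := by
    intro t
    rw [g2z_neg9]
    exact (le_sup_right : chevG2.rootSubgroup F 2 ≤ _) (g2z_cn_xmem 2 t)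
  exact mul_mem (mul_mem (h9 _) (h2' _)) (h9 _)

/-- `(n_6(1))⁻¹` acts through `s_6` -/
theorem g2z_cn_m6_acts : Acts F (nWordGL chevG2 g2z_hG2 F [1])⁻¹ (wRoot chevG2 [1]) := by
  refine cls_acts_inv (cls_acts_word F [1] g2z_cn_w1) ?_
  rw [g2z_cn_nroots]
  decide

/-- the map through which `n_9(±1)` acts -/
def g2zP9 : ℕ → ℕ := (wRoot chevG2 [0, 1] ∘ wRoot chevG2 [0]) ∘ wRoot chevG2 [1, 0]

theorem g2z_cn_m9_acts0 : Acts F (g2zM9 F) g2zP9 := by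
  have hinv : Acts F (nWordGL chevG2 g2z_hG2 F [0, 1])⁻¹ (wRoot chevG2 [1, 0]) := by
    refine cls_acts_inv (cls_acts_word F [0, 1] g2z_cn_w01) ?_
    rw [g2z_cn_nroots]
    decide
  have h1 : Acts F (nWordGL chevG2 g2z_hG2 F [0, 1] * nWordGL chevG2 g2z_hG2 F [0])
      (wRoot chevG2 [0, 1] ∘ wRoot chevG2 [0]) := by
    refine cls_acts_mul (cls_acts_word F [0, 1] g2z_cn_w01) (cls_acts_word F [0] g2z_cn_w0) ?_
    rw [g2z_cn_nroots]
    decide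
  refine cls_acts_mul h1 hinv ?_
  rw [g2z_cn_nroots]
  decide

theorem g2z_cn_m9_acts : Acts F (g2zM9 F)⁻¹ g2zP9 := by
  refine cls_acts_inv g2z_cn_m9_acts0 ?_
  rw [g2z_cn_nroots]
  unfold g2zP9
  decide

/-- table `s_6` -/
theorem g2z_cn_case6 (n : GL chevG2.Idx F) (hn : n ∈ chevG2.monomialSubgroup F) (π : ℕ → ℕ) (hA : Acts F n π)
    (hπ : ∀ r < 12, π r = g2zT6.getD r 0) : n ∈ g2zKH F := by
  refine g2z_cn_step n _ g2z_cn_m6_mem ?_
  refine g2z_cn_base _ (mul_mem hn (inv_mem (nWordGL_mem chevG2 g2z_hG2 F _ g2z_cn_w1))) _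
    (cls_acts_mul hA g2z_cn_m6_acts (by rw [g2z_cn_nroots]; decide)) ?_
  intro r hr
  show π (wRoot chevG2 [1] r) = r
  have hlt : wRoot chevG2 [1] r < 12 := by
    revert r; decide
  rw [hπ _ hlt]
  revert r; decide

/-- table `s_9` -/
theorem g2z_cn_case9 (n : GL chevG2.Idx F) (hn : n ∈ chevG2.monomialSubgroup F) (π : ℕ → ℕ) (hA : Acts F n π)
    (hπ : ∀ r < 12, π r = g2zT9.getD r 0) : n ∈ g2zKH F := by
  refine g2z_cn_step n _ g2z_cn_m9_mem ?_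
  refine g2z_cn_base _ (mul_mem hn (inv_mem g2z_cn_m9_mono)) _
    (cls_acts_mul hA g2z_cn_m9_acts (by rw [g2z_cn_nroots]; unfold g2zP9; decide)) ?_
  intro r hr
  show π (g2zP9 r) = r
  have hlt : g2zP9 r < 12 := by
    revert r; unfold g2zP9; decide
  rw [hπ _ hlt]
  revert r; unfold g2zP9; decide

/-- table `w₀` -/
theorem g2z_cn_case0 (n : GL chevG2.Idx F) (hn : n ∈ chevG2.monomialSubgroup F) (π : ℕ → ℕ) (hA : Acts F n π)
    (hπ : ∀ r < 12, π r = g2zT0.getD r 0) : n ∈ g2zKH F := by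
  refine g2z_cn_step n _ g2z_cn_m9_mem ?_
  refine g2z_cn_case6 _ (mul_mem hn (inv_mem g2z_cn_m9_mono)) _
    (cls_acts_mul hA g2z_cn_m9_acts (by rw [g2z_cn_nroots]; unfold g2zP9; decide)) ?_
  intro r hr
  show π (g2zP9 r) = g2zT6.getD r 0
  have hlt : g2zP9 r < 12 := by
    revert r; unfold g2zP9; decide
  rw [hπ _ hlt]
  revert r; unfold g2zP9; decide

/-- **G2z Z3**: an element of `N` commuting with `t₀ = h_6(-1)` lies in `(L₁ ⊔ L₂) ⊔ H` -/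
theorem g2z_cent_mono (h2 : (2 : F) ≠ 0) (n : GL chevG2.Idx F) (hn : n ∈ chevG2.monomialSubgroup F)
    (hc : hGL chevG2 g2z_hG2 F 6 (-1) * n = n * hGL chevG2 g2z_hG2 F 6 (-1)) :
    n ∈ (g2zL1 F ⊔ g2zL2 F) ⊔ chevG2.diagonalSubgroup F := by
  obtain ⟨l, hl, hact⟩ := exists_word_conj chevG2 g2z_hG2 F n hn
  have hA : Acts F n (wRoot chevG2 l) := hact
  have hlt : ∀ r < 12, wRoot chevG2 l r < 12 := by
    intro r hr
    have := wRoot_lt chevG2 g2z_hG2 l hl r (by rw [g2z_cn_nroots]; exact hr)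
    rwa [g2z_cn_nroots] at this
  have hO := cls_orbit l hl
  have hpar : ∀ r ∈ List.range 12,
      gc chevG2 6 (((List.range 12).map (wRoot chevG2 l)).getD r 0) % 2 = gc chevG2 6 r % 2 := by
    intro r hr
    rw [List.mem_range] at hr
    rw [cls_getD _ r hr]
    exact g2z_cn_parity h2 n _ hlt hA hc r hr
  have hget : ∀ r < 12, wRoot chevG2 l r = ((List.range 12).map (wRoot chevG2 l)).getD r 0 :=
    fun r hr => (cls_getD _ r hr).symm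
  rcases g2z_cn_tab _ hO hpar with h | h | h | h
  · refine g2z_cn_base n hn _ hA (fun r hr => ?_)
    rw [hget r hr, h]
    revert r; decide
  · exact g2z_cn_case6 n hn _ hA (fun r hr => by rw [hget r hr, h])
  · exact g2z_cn_case9 n hn _ hA (fun r hr => by rw [hget r hr, h])
  · exact g2z_cn_case0 n hn _ hA (fun r hr => by rw [hget r hr, h])

end Cfsg.Agent.Lib.Helper36
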