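import Mathlib

set_option autoImplicit false

/-!
Two combinatorial tools for the Hall–Wielandt transfer computation:
* products over a finite set carrying a free "`p`-cycle" structure;
* the Engel sum: if `[w, z; p-1] = 1` then `∑_{i<p} ℓ(z⁻ⁱ w zⁱ) = 0` for `ℓ : D → F_p` additive.
-/

namespace Cfsg.Agent.Lib.Helper2.HW

open Finset

/-- If `σ` permutes `s` in free orbits of length `p` and the product of `f` over each orbit is `1`,
then the product of `f` over `s` is `1`. -/
theorem prod_eq_one_of_free_iterate {X A : Type*} [DecidableEq X] [CommMonoid A] (p : ℕ)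
    (hp : 0 < p) (σ : X → X) (f : X → A) : ∀ (n : ℕ) (s : Finset X), s.card = n →
    (∀ x ∈ s, σ x ∈ s) → (∀ x ∈ s, σ^[p] x = x) →
    (∀ x ∈ s, ∀ i, 0 < i → i < p → σ^[i] x ≠ x) →
    (∀ x ∈ s, ∏ i ∈ Finset.range p, f (σ^[i] x) = 1) → ∏ x ∈ s, f x = 1 := by
  intro n
  induction n using Nat.strong_induction_on with
  | _ n ih =>
    intro s hn hinv hper hfree hprod
    rcases s.eq_empty_or_nonempty with rfl | ⟨x, hx⟩
    · simp
    · set o : Finset X := (Finset.range p).image (fun i => σ^[i] x) with ho
      have hiter : ∀ i, σ^[i] x ∈ s := by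
        intro i
        induction i with
        | zero => exact hx
        | succ i ih' => rw [Function.iterate_succ_apply']; exact hinv _ ih'
      have hos : o ⊆ s := by
        intro y hy
        rw [ho, Finset.mem_image] at hy
        obtain ⟨i, -, rfl⟩ := hy
        exact hiter i
      have hinj : Set.InjOn (fun i => σ^[i] x) (Finset.range p : Set ℕ) := by
        have key : ∀ i j, i < j → j < p → σ^[i] x ≠ σ^[j] x := by
          intro i j hij hjp h
          have h2 : σ^[p - j + i] x = x := by
            rw [Function.iterate_add_apply, h, ← Function.iterate_add_apply]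
            have : p - j + j = p := by omega
            rw [this]
            exact hper x hx
          exact hfree x hx (p - j + i) (by omega) (by omega) h2
        intro i hi j hj h
        simp only [Finset.coe_range, Set.mem_Iio] at hi hj
        rcases lt_trichotomy i j with hij | hij | hij
        · exact absurd h (key i j hij hj)
        · exact hij
        · exact absurd h.symm (key j i hij hi)
      have hprodo : ∏ y ∈ o, f y = 1 := by
        rw [ho, Finset.prod_image hinj]
        exact hprod x hx
      have hxo : x ∈ o := by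
        rw [ho, Finset.mem_image]
        exact ⟨0, Finset.mem_range.2 hp, rfl⟩
      have hcard : (s \ o).card < n := by
        rw [← hn]
        apply Finset.card_lt_card
        refine ⟨Finset.sdiff_subset, ?_⟩
        intro h
        have := h hx
        rw [Finset.mem_sdiff] at this
        exact this.2 hxo
      have hinv' : ∀ y ∈ s \ o, σ y ∈ s \ o := by
        intro y hy
        rw [Finset.mem_sdiff] at hy ⊢
        refine ⟨hinv y hy.1, ?_⟩
        intro hσ
        apply hy.2
        rw [ho, Finset.mem_image] at hσ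
        obtain ⟨i, hi, hiy⟩ := hσ
        rw [Finset.mem_range] at hi
        have hy' : y = σ^[p - 1] (σ y) := by
          rw [← Function.iterate_succ_apply]
          have : (p - 1).succ = p := by omega
          rw [this]
          exact (hper y hy.1).symm
        rw [hy', ← hiy, ← Function.iterate_add_apply, ho, Finset.mem_image]
        rcases Nat.eq_zero_or_pos i with h0 | hpos
        · refine ⟨p - 1, Finset.mem_range.2 (by omega), ?_⟩
          rw [h0, add_zero]
        · refine ⟨i - 1, Finset.mem_range.2 (by omega), ?_⟩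
          have : p - 1 + i = (i - 1) + p := by omega
          rw [this, Function.iterate_add_apply, hper x hx]
      have hrest : ∏ y ∈ s \ o, f y = 1 :=
        ih (s \ o).card hcard (s \ o) rfl hinv'
          (fun y hy => hper y (Finset.mem_sdiff.1 hy).1)
          (fun y hy => hfree y (Finset.mem_sdiff.1 hy).1)
          (fun y hy => hprod y (Finset.mem_sdiff.1 hy).1)
      rw [← Finset.prod_sdiff hos, hrest, hprodo, one_mul]

section engel

variable {p : ℕ} [hp : Fact p.Prime]

theorem choose_pred_prime_zmod (k : ℕ) (hk : k ≤ p - 1) :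
    (((p - 1).choose k : ℕ) : ZMod p) = (-1) ^ k := by
  induction k with
  | zero => simp
  | succ k ih =>
    have h1 : (p - 1).choose k + (p - 1).choose (k + 1) = p.choose (k + 1) := by
      have h2 : p = (p - 1) + 1 := by have := hp.1.pos; omega
      conv_rhs => rw [h2]
      rw [Nat.choose_succ_succ]
    have h3 : ((p.choose (k + 1) : ℕ) : ZMod p) = 0 := by
      rw [ZMod.natCast_eq_zero_iff]
      exact hp.1.dvd_choose_self (by omega) (by have := hp.1.pos; omega)
    have h4 : (((p - 1).choose k : ℕ) : ZMod p) + (((p - 1).choose (k + 1) : ℕ) : ZMod p) = 0 := by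
      rw [← Nat.cast_add, h1, h3]
    rw [ih (by omega)] at h4
    rw [pow_succ]
    linear_combination h4

theorem neg_one_pow_pred_prime_zmod : ((-1 : ZMod p)) ^ (p - 1) = 1 := by
  rcases hp.1.eq_two_or_odd' with h2 | hodd
  · have : ∀ q : ℕ, q = 2 → ((-1 : ZMod q)) ^ (q - 1) = 1 := by
      intro q hq
      subst hq
      decide
    exact this p h2
  · have : Even (p - 1) := by
      obtain ⟨m, hm⟩ := hodd
      exact ⟨m, by omega⟩
    exact this.neg_one_pow

open fwdDiff in
/-- If the `(p-1)`-st forward difference of `L : ℕ → ZMod p` vanishes at `0`, then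
`∑_{k<p} L k = 0`. -/
theorem sum_range_eq_zero_of_fwdDiff (L : ℕ → ZMod p) (h : (Δ_[1])^[p - 1] L 0 = 0) :
    ∑ k ∈ Finset.range p, L k = 0 := by
  rw [fwdDiff_iter_eq_sum_shift] at h
  have hp1 : p - 1 + 1 = p := by have := hp.1.pos; omega
  rw [hp1] at h
  rw [← h]
  apply Finset.sum_congr rfl
  intro k hk
  rw [Finset.mem_range] at hk
  have hk' : k ≤ p - 1 := by omega
  rw [zsmul_eq_mul]
  have hc : (((-1 : ℤ) ^ (p - 1 - k) * ((p - 1).choose k : ℤ) : ℤ) : ZMod p) = 1 := by
    push_cast
    rw [choose_pred_prime_zmod k hk', ← pow_add]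
    have : p - 1 - k + k = p - 1 := by omega
    rw [this]
    exact neg_one_pow_pred_prime_zmod
  rw [hc, one_mul]
  simp

/-- **Engel sum.** Let `τ` be an endomorphism of the group `D` and `Λ : D → F_p` a homomorphism.
If the iterated "commutator" `y ↦ y⁻¹ τ(y)` kills `w` after `p - 1` steps, then the product of
`Λ` over `w, τ w, …, τ^{p-1} w` is trivial. -/
theorem engel_prod_eq_one {D : Type*} [Group D] (τ : D →* D)
    (Λ : D →* Multiplicative (ZMod p)) (w : D)
    (hw : (fun y => y⁻¹ * τ y)^[p - 1] w = 1) :
    ∏ i ∈ Finset.range p, Λ (τ^[i] w) = 1 := by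
  set T : D → D := fun y => y⁻¹ * τ y with hT
  let ℓ : D → ZMod p := fun d => Multiplicative.toAdd (Λ d)
  have ℓ_mul : ∀ a b, ℓ (a * b) = ℓ a + ℓ b := by
    intro a b; simp only [ℓ, map_mul, toAdd_mul]
  have ℓ_inv : ∀ a, ℓ a⁻¹ = - ℓ a := by
    intro a; simp only [ℓ, map_inv, toAdd_inv]
  have ℓ_one : ℓ 1 = 0 := by simp only [ℓ, map_one, toAdd_one]
  let L : ℕ → ℕ → ZMod p := fun j k => ℓ (τ^[k] (T^[j] w))
  have hstep : ∀ j, L (j + 1) = fwdDiff 1 (L j) := by
    intro j
    funext k
    simp only [L, fwdDiff]
    rw [Function.iterate_succ_apply' T, hT]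
    simp only
    rw [iterate_map_mul, iterate_map_inv, ℓ_mul, ℓ_inv,
      ← Function.iterate_succ_apply]
    ring
  have hL : ∀ j, L j = (fwdDiff 1)^[j] (L 0) := by
    intro j
    induction j with
    | zero => rfl
    | succ j ih => rw [hstep, ih, Function.iterate_succ_apply']
  have h0 : (fwdDiff 1)^[p - 1] (L 0) 0 = 0 := by
    rw [← hL]
    simp only [L, Function.iterate_zero, id_eq]
    rw [hw, ℓ_one]
  have hsum := sum_range_eq_zero_of_fwdDiff (L 0) h0
  have : ∏ i ∈ Finset.range p, Λ (τ^[i] w) =
      Multiplicative.ofAdd (∑ i ∈ Finset.range p, L 0 i) := by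
    rw [ofAdd_sum]
    apply Finset.prod_congr rfl
    intro i _
    simp only [L, ℓ, Function.iterate_zero, id_eq, ofAdd_toAdd]
  rw [this, hsum, ofAdd_zero]

end engel

end Cfsg.Agent.Lib.Helper2.HW
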