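import Cfsg.Agent.Lib.Helper70.Grun
import Cfsg.Agent.Lib.Helper2.PResidual
import Cfsg.Agent.Lib.Helper2.PGroup

set_option autoImplicit false

/-!
Homomorphisms into the cyclic group `Multiplicative (ZMod p)` of prime order.
-/

namespace Cfsg.Agent.Lib.Helper2

open Cfsg.Agent.Lib.Helper70

section basic

variable {p : ℕ} [hp : Fact p.Prime]

theorem card_Fp : Nat.card (Multiplicative (ZMod p)) = p := by
  rw [Nat.card_eq_fintype_card, Fintype.card_multiplicative, ZMod.card]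

theorem pow_p_eq_one_Fp (f : Multiplicative (ZMod p)) : f ^ p = 1 := by
  have := pow_card_eq_one' (x := f)
  rwa [card_Fp] at this

theorem hom_pow_p_eq_one {X : Type*} [Group X] (l : X →* Multiplicative (ZMod p)) : l ^ p = 1 := by
  ext x
  simp only [MonoidHom.pow_apply, MonoidHom.one_apply]
  rw [pow_p_eq_one_Fp]

theorem orderOf_Fp {u : Multiplicative (ZMod p)} (hu : u ≠ 1) : orderOf u = p :=
  orderOf_eq_prime (pow_p_eq_one_Fp u) hu

theorem exists_zpow_eq_Fp {u : Multiplicative (ZMod p)} (hu : u ≠ 1) (f : Multiplicative (ZMod p)) :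
    ∃ k : ℤ, u ^ k = f := by
  have h := zpowers_eq_top_of_prime_card (G := Multiplicative (ZMod p)) card_Fp hu
  have hf : f ∈ Subgroup.zpowers u := by rw [h]; exact Subgroup.mem_top f
  exact Subgroup.mem_zpowers_iff.mp hf

theorem exists_pow_eq_Fp {u : Multiplicative (ZMod p)} (hu : u ≠ 1) (f : Multiplicative (ZMod p)) :
    ∃ k : ℕ, u ^ k = f := by
  obtain ⟨k, hk⟩ := exists_zpow_eq_Fp hu f
  refine ⟨(k % (p : ℤ)).toNat, ?_⟩
  have hpos : (0 : ℤ) < p := by exact_mod_cast hp.out.pos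
  have h1 : ((k % (p : ℤ)).toNat : ℤ) = k % p := Int.toNat_of_nonneg (Int.emod_nonneg _ hpos.ne')
  rw [← zpow_natCast, h1, ← hk, zpow_eq_zpow_iff_modEq, orderOf_Fp hu]
  exact Int.mod_modEq k p

/-- A power of a nontrivial element by an exponent prime to `p` is nontrivial. -/
theorem pow_ne_one_Fp {u : Multiplicative (ZMod p)} (hu : u ≠ 1) {n : ℕ} (hn : Nat.Coprime n p) :
    u ^ n ≠ 1 := by
  intro h
  have h1 : orderOf u ∣ n := orderOf_dvd_of_pow_eq_one h
  rw [orderOf_Fp hu] at h1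
  have : p ∣ Nat.gcd n p := Nat.dvd_gcd h1 dvd_rfl
  rw [hn] at this
  exact hp.out.one_lt.ne' (Nat.dvd_one.mp this)

/-- A homomorphism into a group of order `p` kills `O^p`. -/
theorem pResidual_le_ker {G : Type*} [Group G] (l : G →* Multiplicative (ZMod p)) :
    Cfsg.pResidual p G ≤ l.ker := by
  unfold Cfsg.pResidual
  rw [Subgroup.closure_le]
  intro g hg
  have hg' : Nat.Coprime (orderOf g) p := hg
  show l g = 1
  by_contra hne
  have h1 : (l g) ^ orderOf g = 1 := by rw [← map_pow, pow_orderOf_eq_one, map_one]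
  exact pow_ne_one_Fp hne hg' h1

end basic

section extend

variable {p : ℕ} [hp : Fact p.Prime] {X : Type*} [Group X] {Z : Type*} [CommGroup Z]

/-- Extension of a homomorphism from a normal subgroup of index `p` (the kernel of `π`) to the
whole group, given invariance under an element `x` outside and a prescribed compatible value at `x`. -/
theorem extend_hom (π : X →* Multiplicative (ZMod p)) (x : X) (hx : π x ≠ 1) (ν : π.ker →* Z)
    (hinv : ∀ a : X, a ∈ π.ker → gr_ext ν (x * a * x⁻¹) = gr_ext ν a) (z : Z)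
    (hz : z ^ p = gr_ext ν (x ^ p)) :
    ∃ θ : X →* Z, (∀ a : π.ker, θ a = ν a) ∧ θ x = z := by
  have hker_conj : ∀ (g a : X), a ∈ π.ker → g * a * g⁻¹ ∈ π.ker := by
    intro g a ha
    exact (inferInstance : π.ker.Normal).conj_mem a ha g
  -- invariance under all integer powers of x
  let S : Subgroup X :=
    { carrier := {g | ∀ a : X, a ∈ π.ker → gr_ext ν (g * a * g⁻¹) = gr_ext ν a}
      one_mem' := by intro a _; simp
      mul_mem' := by
        intro g₁ g₂ h₁ h₂ a ha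
        have e : g₁ * g₂ * a * (g₁ * g₂)⁻¹ = g₁ * (g₂ * a * g₂⁻¹) * g₁⁻¹ := by group
        rw [e, h₁ _ (hker_conj g₂ a ha), h₂ a ha]
      inv_mem' := by
        intro g h a ha
        have h1 := h (g⁻¹ * a * g⁻¹⁻¹) (hker_conj g⁻¹ a ha)
        have e : g * (g⁻¹ * a * g⁻¹⁻¹) * g⁻¹ = a := by group
        rw [e] at h1
        exact h1.symm }
  have hxS : x ∈ S := hinv
  have hinvz : ∀ (j : ℤ) (a : X), a ∈ π.ker → gr_ext ν (x ^ j * a * (x ^ j)⁻¹) = gr_ext ν a :=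
    fun j => S.zpow_mem hxS j
  have hxp : x ^ p ∈ π.ker := by
    rw [MonoidHom.mem_ker, map_pow, pow_p_eq_one_Fp]
  have hxpz : ∀ j : ℤ, x ^ ((p : ℤ) * j) ∈ π.ker := by
    intro j
    rw [zpow_mul, zpow_natCast]
    exact π.ker.zpow_mem hxp j
  have hν_xpz : ∀ j : ℤ, gr_ext ν (x ^ ((p : ℤ) * j)) = z ^ ((p : ℤ) * j) := by
    intro j
    rw [zpow_mul, zpow_natCast, zpow_mul, zpow_natCast, hz]
    rw [gr_ext_mk ν _ hxp, gr_ext_mk ν _ (π.ker.zpow_mem hxp j), ← map_zpow]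
    rfl
  have hord : orderOf (π x) = p := orderOf_Fp hx
  -- the candidate value, for a given exponent
  let val : X → ℤ → Z := fun h k => gr_ext ν (h * x ^ (-k)) * z ^ k
  have hmem : ∀ (h : X) (k : ℤ), (π x) ^ k = π h → h * x ^ (-k) ∈ π.ker := by
    intro h k hk
    rw [MonoidHom.mem_ker, map_mul, map_zpow, zpow_neg, ← hk, mul_inv_cancel]
  have hwd : ∀ (h : X) (k k' : ℤ), (π x) ^ k = π h → (π x) ^ k' = π h → val h k = val h k' := by
    intro h k k' hk hk'
    have hmod : k' ≡ k [ZMOD (p : ℤ)] := by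
      rw [← hord, ← zpow_eq_zpow_iff_modEq, hk, hk']
    obtain ⟨j, hj⟩ : ∃ j : ℤ, k' = k + p * j := by
      have := (Int.modEq_iff_dvd.mp hmod.symm)
      obtain ⟨j, hj⟩ := this
      exact ⟨j, by linarith⟩
    show gr_ext ν (h * x ^ (-k)) * z ^ k = gr_ext ν (h * x ^ (-k')) * z ^ k'
    have e1 : h * x ^ (-k') = (h * x ^ (-k)) * x ^ ((p : ℤ) * (-j)) := by
      rw [hj, mul_assoc, ← zpow_add]
      congr 2
      ring
    rw [e1, gr_ext_mul ν _ _ (hmem h k hk) (hxpz (-j)), hν_xpz, hj, zpow_add, mul_neg, zpow_neg]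
    rw [mul_assoc]
    congr 1
    rw [zpow_neg, mul_comm (z ^ k), ← mul_assoc, inv_mul_cancel, one_mul]
  have hex : ∀ h : X, ∃ k : ℤ, (π x) ^ k = π h := fun h => exists_zpow_eq_Fp hx (π h)
  let kf : X → ℤ := fun h => Classical.choose (hex h)
  have hkf : ∀ h, (π x) ^ (kf h) = π h := fun h => Classical.choose_spec (hex h)
  have hmul : ∀ h₁ h₂ : X, val (h₁ * h₂) (kf (h₁ * h₂)) = val h₁ (kf h₁) * val h₂ (kf h₂) := by
    intro h₁ h₂
    have hk12 : (π x) ^ (kf h₁ + kf h₂) = π (h₁ * h₂) := by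
      rw [zpow_add, hkf, hkf, map_mul]
    rw [hwd (h₁ * h₂) _ _ (hkf _) hk12]
    show gr_ext ν (h₁ * h₂ * x ^ (-(kf h₁ + kf h₂))) * z ^ (kf h₁ + kf h₂) =
      (gr_ext ν (h₁ * x ^ (-kf h₁)) * z ^ kf h₁) * (gr_ext ν (h₂ * x ^ (-kf h₂)) * z ^ kf h₂)
    have e : h₁ * h₂ * x ^ (-(kf h₁ + kf h₂)) =
        (h₁ * x ^ (-kf h₁)) * (x ^ (kf h₁) * (h₂ * x ^ (-kf h₂)) * (x ^ (kf h₁))⁻¹) := by
      rw [neg_add, zpow_add, zpow_neg, zpow_neg]
      group
    rw [e, gr_ext_mul ν _ _ (hmem h₁ _ (hkf h₁)) (hker_conj _ _ (hmem h₂ _ (hkf h₂))),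
      hinvz _ _ (hmem h₂ _ (hkf h₂)), zpow_add]
    rw [mul_mul_mul_comm]
  refine ⟨MonoidHom.mk' (fun h => val h (kf h)) hmul, ?_, ?_⟩
  · intro a
    show val (a : X) (kf a) = ν a
    have h0 : (π x) ^ (0 : ℤ) = π a := by
      rw [zpow_zero]; exact (MonoidHom.mem_ker.mp a.2).symm
    rw [hwd (a : X) _ 0 (hkf _) h0]
    show gr_ext ν ((a : X) * x ^ (-(0 : ℤ))) * z ^ (0 : ℤ) = ν a
    rw [neg_zero, zpow_zero, zpow_zero, mul_one, mul_one, gr_ext_coe]
  · show val x (kf x) = z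
    have h1 : (π x) ^ (1 : ℤ) = π x := zpow_one _
    rw [hwd x _ 1 (hkf _) h1]
    show gr_ext ν (x * x ^ (-(1 : ℤ))) * z ^ (1 : ℤ) = z
    rw [zpow_neg, zpow_one, zpow_one, mul_inv_cancel, gr_ext_mk ν 1 (Subgroup.one_mem _)]
    have : (⟨1, Subgroup.one_mem _⟩ : π.ker) = 1 := rfl
    rw [this, map_one, one_mul]

end extend

end Cfsg.Agent.Lib.Helper2
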