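import Mathlib
import Cfsg.Agent.Lib.Helper2.HW1
import Cfsg.Agent.Lib.Helper2.HomFp

set_option autoImplicit false

/-!
Transfer evaluation by fixed points (general part of the Hall–Wielandt argument).
-/

namespace Cfsg.Agent.Lib.Helper2.HW

open Finset MulAction

variable {G : Type*} [Group G] {A : Type*} [CommGroup A] {H : Subgroup G}

/-- Extension of a homomorphism on `H` by `1` outside `H`. -/
noncomputable def extH (μ : H →* A) : G → A := by
  classical
  exact fun g => if h : g ∈ H then μ ⟨g, h⟩ else 1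

theorem extH_of_mem (μ : H →* A) {g : G} (h : g ∈ H) : extH μ g = μ ⟨g, h⟩ := by
  unfold extH
  rw [dif_pos h]

theorem extH_mul (μ : H →* A) {a b : G} (ha : a ∈ H) (hb : b ∈ H) :
    extH μ (a * b) = extH μ a * extH μ b := by
  rw [extH_of_mem μ ha, extH_of_mem μ hb, extH_of_mem μ (H.mul_mem ha hb), ← map_mul]
  rfl

theorem extH_one (μ : H →* A) : extH μ 1 = 1 := by
  rw [extH_of_mem μ H.one_mem]
  exact map_one μ

theorem extH_pow (μ : H →* A) {a : G} (ha : a ∈ H) (n : ℕ) :
    extH μ (a ^ n) = extH μ a ^ n := by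
  rw [extH_of_mem μ ha, extH_of_mem μ (H.pow_mem ha n), ← map_pow]
  rfl

theorem extH_conj (μ : H →* A) {a h : G} (ha : a ∈ H) (hh : h ∈ H) :
    extH μ (h⁻¹ * a * h) = extH μ a := by
  rw [extH_mul μ (H.mul_mem (H.inv_mem hh) ha) hh, extH_mul μ (H.inv_mem hh) ha,
    extH_of_mem μ hh, extH_of_mem μ (H.inv_mem hh), extH_of_mem μ ha]
  have : (⟨h⁻¹, H.inv_mem hh⟩ : H) = (⟨h, hh⟩ : H)⁻¹ := rfl
  rw [this, map_inv, mul_comm, ← mul_assoc, mul_inv_cancel, one_mul]

theorem smul_mk_eq_iff (g x : G) : g • (x : G ⧸ H) = (x : G ⧸ H) ↔ x⁻¹ * g * x ∈ H := by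
  rw [MulAction.Quotient.smul_mk, eq_comm, QuotientGroup.eq, smul_eq_mul, ← mul_assoc]

theorem smul_eq_iff_out (g : G) (y : G ⧸ H) : g • y = y ↔ y.out⁻¹ * g * y.out ∈ H := by
  conv_lhs => rw [← QuotientGroup.out_eq' y]
  exact smul_mk_eq_iff g y.out

/-- The value `extH μ (x⁻¹ u x)` only depends on the coset `xH`. -/
theorem extH_conj_out (μ : H →* A) (u x : G) (hx : x⁻¹ * u * x ∈ H) :
    extH μ ((x : G ⧸ H).out⁻¹ * u * (x : G ⧸ H).out) = extH μ (x⁻¹ * u * x) := by
  obtain ⟨h, hh⟩ : ∃ h : H, (x : G ⧸ H).out = x * h := by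
    have := QuotientGroup.mk_out_eq_mul H x
    obtain ⟨h, hh⟩ := this
    exact ⟨h, hh⟩
  rw [hh]
  have : (x * (h : G))⁻¹ * u * (x * h) = (h : G)⁻¹ * (x⁻¹ * u * x) * h := by group
  rw [this]
  exact extH_conj μ hx h.2


/-- **Stage A**: if `μ` kills all `G`-conjugates (lying in `H`) of the proper powers `u ^ n`,
`1 < n ∣ |u|`, then the transfer of `u` is the product over the cosets fixed by `u`. -/
theorem transfer_eq_prod_fixed [Finite G] [Fintype (G ⧸ H)] (μ : H →* A) (u : G)
    [DecidablePred (fun y : G ⧸ H => u • y = y)]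
    (hinv : ∀ n, 1 < n → n ∣ orderOf u → ∀ x : G, x⁻¹ * u ^ n * x ∈ H →
      extH μ (x⁻¹ * u ^ n * x) = 1) :
    MonoidHom.transfer μ u =
      ∏ y ∈ (Finset.univ.filter (fun y : G ⧸ H => u • y = y)),
        extH μ (y.out⁻¹ * u * y.out) := by
  haveI : Fintype (Quotient (orbitRel (Subgroup.zpowers u) (G ⧸ H))) := Fintype.ofFinite _
  haveI : DecidablePred (fun q : Quotient (orbitRel (Subgroup.zpowers u) (G ⧸ H)) =>
    Function.minimalPeriod (u • ·) q.out = 1) := Classical.decPred _
  rw [MonoidHom.transfer_eq_prod_quotient_orbitRel_zpowers_quot μ u]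
  -- rewrite terms with extH
  have hterm : ∀ q : Quotient (orbitRel (Subgroup.zpowers u) (G ⧸ H)),
      μ ⟨q.out.out⁻¹ * u ^ Function.minimalPeriod (u • ·) q.out * q.out.out,
        QuotientGroup.out_conj_pow_minimalPeriod_mem H u q.out⟩ =
      extH μ (q.out.out⁻¹ * u ^ Function.minimalPeriod (u • ·) q.out * q.out.out) := by
    intro q
    rw [extH_of_mem]
  simp_rw [hterm]
  -- periods divide the order of u
  have hdvd : ∀ y : G ⧸ H, Function.minimalPeriod (u • ·) y ∣ orderOf u := by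
    intro y
    apply Function.IsPeriodicPt.minimalPeriod_dvd
    show (u • ·)^[orderOf u] y = y
    rw [smul_iterate_apply, pow_orderOf_eq_one, one_smul]
  have hpos : ∀ y : G ⧸ H, 0 < Function.minimalPeriod (u • ·) y := by
    intro y
    exact Nat.pos_of_dvd_of_pos (hdvd y) (orderOf_pos u)
  have hone : ∀ q : Quotient (orbitRel (Subgroup.zpowers u) (G ⧸ H)),
      Function.minimalPeriod (u • ·) q.out ≠ 1 →
      extH μ (q.out.out⁻¹ * u ^ Function.minimalPeriod (u • ·) q.out * q.out.out) = 1 := by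
    intro q hq
    apply hinv _ _ (hdvd q.out)
    · exact QuotientGroup.out_conj_pow_minimalPeriod_mem H u q.out
    · have := hpos q.out
      omega
  rw [← Finset.prod_filter_of_ne (p := fun q : Quotient (orbitRel (Subgroup.zpowers u) (G ⧸ H)) =>
    Function.minimalPeriod (u • ·) q.out = 1)]
  swap
  · intro q _ hq
    by_contra h
    exact hq (hone q h)
  -- bijection with fixed cosets
  have hfix_of : ∀ q : Quotient (orbitRel (Subgroup.zpowers u) (G ⧸ H)),
      Function.minimalPeriod (u • ·) q.out = 1 → u • q.out = q.out := by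
    intro q hq
    exact Function.minimalPeriod_eq_one_iff_isFixedPt.1 hq
  have hout : ∀ y : G ⧸ H, u • y = y →
      (Quotient.mk'' y : Quotient (orbitRel (Subgroup.zpowers u) (G ⧸ H))).out = y := by
    intro y hy
    have h1 : (orbitRel (Subgroup.zpowers u) (G ⧸ H)).r
        (Quotient.mk'' y : Quotient (orbitRel (Subgroup.zpowers u) (G ⧸ H))).out y :=
      Quotient.exact' (Quotient.out_eq' _)
    rw [orbitRel_apply, MulAction.mem_orbit_iff] at h1
    obtain ⟨⟨g, hg⟩, hgy⟩ := h1
    obtain ⟨k, rfl⟩ := Subgroup.mem_zpowers_iff.1 hg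
    have hk : (u ^ k) • y = y := by
      have : ∀ n : ℕ, u ^ n • y = y := by
        intro n
        induction n with
        | zero => simp
        | succ n ih => rw [pow_succ, mul_smul, hy, ih]
      rcases Int.eq_nat_or_neg k with ⟨n, rfl | rfl⟩
      · rw [zpow_natCast]; exact this n
      · rw [zpow_neg, zpow_natCast, inv_smul_eq_iff, this n]
    rw [← hgy]
    exact hk
  refine Finset.prod_bij' (fun q _ => q.out) (fun y _ => Quotient.mk'' y) ?_ ?_ ?_ ?_ ?_
  · intro q hq
    rw [Finset.mem_filter] at hq ⊢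
    exact ⟨Finset.mem_univ _, hfix_of q hq.2⟩
  · intro y hy
    rw [Finset.mem_filter] at hy ⊢
    refine ⟨Finset.mem_univ _, ?_⟩
    rw [hout y hy.2]
    exact Function.minimalPeriod_eq_one_iff_isFixedPt.2 hy.2
  · intro q _
    exact Quotient.out_eq' q
  · intro y hy
    rw [Finset.mem_filter] at hy
    exact hout y hy.2
  · intro q hq
    rw [Finset.mem_filter] at hq
    rw [hq.2, pow_one]

end Cfsg.Agent.Lib.Helper2.HW
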