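import Mathlib
import Cfsg.Prelude.Def_Transfer
import Cfsg.Agent.Lib.Helper2.HW2
import Cfsg.Agent.Lib.Helper33.SylowSub

set_option autoImplicit false

/-!
Weak closure lemmas for the Hall–Wielandt theorem.
-/

namespace Cfsg.Agent.Lib.Helper2.HW

open Cfsg.Agent.Lib.Helper33

variable {G : Type*} [Group G] [Finite G] {p : ℕ} [hp : Fact p.Prime]

/-- A Sylow subgroup normalizes its weakly closed subgroups. -/
theorem wc_le_normalizer (P : Sylow p G) (Q : Subgroup G)
    (hQ : Cfsg.IsWeaklyClosed Q (P : Subgroup G)) :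
    (P : Subgroup G) ≤ Subgroup.normalizer (Q : Set G) := by
  intro g hg
  rw [← cj_eq_self_iff]
  apply hQ.2
  intro x hx
  change x ∈ cj g Q at hx
  rw [mem_cj] at hx
  have h1 : g⁻¹ * x * g ∈ (P : Subgroup G) := hQ.1 hx
  have h2 : x = g * (g⁻¹ * x * g) * g⁻¹ := by group
  rw [h2]
  exact (P : Subgroup G).mul_mem ((P : Subgroup G).mul_mem hg h1) ((P : Subgroup G).inv_mem hg)

/-- If a conjugate of the weakly closed `Q` normalizes `Q`, the conjugating element normalizes
`Q`. -/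
theorem mem_normalizer_of_wc (P : Sylow p G) (Q : Subgroup G)
    (hQ : Cfsg.IsWeaklyClosed Q (P : Subgroup G)) (x : G)
    (hx : cj x Q ≤ Subgroup.normalizer (Q : Set G)) : x ∈ Subgroup.normalizer (Q : Set G) := by
  have hQp : IsPGroup p Q := P.2.to_le hQ.1
  have hQ'p : IsPGroup p (cj x Q) := isPGroup_cj hQp
  have hR : IsPGroup p (cj x Q ⊔ Q : Subgroup G) := IsPGroup.to_sup_of_normal_right' hQ'p hQp hx
  obtain ⟨c, -, hc⟩ := sylow_sub (K := ⊤) (P := (P : Subgroup G)) (H := (cj x Q ⊔ Q : Subgroup G))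
    le_top P.2 (by rw [Subgroup.relIndex_top_right]; exact P.not_dvd_index) le_top hR
  have h1 : cj c Q = Q := by
    apply hQ.2
    show cj c Q ≤ _
    exact (cj_mono le_sup_right).trans hc
  have h2 : cj (c * x) Q = Q := by
    apply hQ.2
    show cj (c * x) Q ≤ _
    rw [cj_mul]
    exact (cj_mono le_sup_left).trans hc
  rw [cj_mul] at h2
  have h3 : cj x Q = Q := by
    apply cj_injective c
    rw [h2, h1]
  exact cj_eq_self_iff.mp h3

/-- Normalizer growth producing an element of `Q` of order `p` modulo `D`. -/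
theorem exists_normalizing (P : Sylow p G) (Q : Subgroup G)
    (hQ : Cfsg.IsWeaklyClosed Q (P : Subgroup G)) (D : Subgroup G) (hD : D ≤ (P : Subgroup G))
    (hQD : ¬ Q ≤ D) :
    ∃ z ∈ Q, z ∈ Subgroup.normalizer (D : Set G) ∧ z ∉ D ∧ z ^ p ∈ D := by
  have hDN : D ≤ Subgroup.normalizer (Q : Set G) := hD.trans (wc_le_normalizer P Q hQ)
  have hS : IsPGroup p (D ⊔ Q : Subgroup G) := P.2.to_le (sup_le hD hQ.1)
  have hlt : D < D ⊔ Q := by
    refine lt_of_le_of_ne le_sup_left ?_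
    intro h
    apply hQD
    rw [h]
    exact le_sup_right
  have hgrow := normalizer_growth hS hlt
  obtain ⟨s, hs, hsD⟩ := SetLike.exists_of_lt hgrow
  have hs1 : s ∈ D ⊔ Q := hs.1
  have hs2 : s ∈ Subgroup.normalizer (D : Set G) := hs.2
  rw [← SetLike.mem_coe, Subgroup.coe_mul_of_left_le_normalizer_right D Q hDN] at hs1
  obtain ⟨d, hd, z, hz, rfl⟩ := hs1
  have hd' : d ∈ D := hd
  have hz' : z ∈ Q := hz
  have hzN : z ∈ Subgroup.normalizer (D : Set G) := by
    have : z = d⁻¹ * (d * z) := by group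
    rw [this]
    exact Subgroup.mul_mem _ (Subgroup.inv_mem _ (Subgroup.le_normalizer hd')) hs2
  have hzD : z ∉ D := fun h => hsD (D.mul_mem hd' h)
  -- choose the right power
  have hex : ∃ k : ℕ, z ^ (p ^ k) ∈ D := by
    obtain ⟨k, hk⟩ := (P.2.to_le hQ.1) ⟨z, hz'⟩
    refine ⟨k, ?_⟩
    have : z ^ (p ^ k) = 1 := congrArg Subtype.val hk
    rw [this]
    exact D.one_mem
  classical
  let k := Nat.find hex
  have hk : z ^ (p ^ k) ∈ D := Nat.find_spec hex
  have hk0 : k ≠ 0 := by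
    intro h0
    rw [h0, pow_zero, pow_one] at hk
    exact hzD hk
  obtain ⟨m, hm⟩ : ∃ m, k = m + 1 := ⟨k - 1, by omega⟩
  refine ⟨z ^ (p ^ m), Q.pow_mem hz' _, Subgroup.pow_mem _ hzN _, ?_, ?_⟩
  · intro h
    have : k ≤ m := Nat.find_min' hex h
    omega
  · rw [← pow_mul, ← pow_succ, ← hm]
    exact hk

end Cfsg.Agent.Lib.Helper2.HW
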