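import Mathlib
import Cfsg.Prelude.Def_Transfer
import Cfsg.Agent.Lib.Helper2.HW3

set_option autoImplicit false

/-!
Stage B of the Hall–Wielandt computation: the fixed cosets other than the base coset contribute
trivially.
-/

namespace Cfsg.Agent.Lib.Helper2.HW

open Cfsg.Agent.Lib.Helper33 MulAction

variable {G : Type*} [Group G] [Finite G] {p : ℕ} [hp : Fact p.Prime]

/-- the stabilizer in `P` of a coset -/
def Dy (P : Sylow p G) {H : Subgroup G} (y : G ⧸ H) : Subgroup G :=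
  stabilizer G y ⊓ (P : Subgroup G)

theorem Dy_le (P : Sylow p G) {H : Subgroup G} (y : G ⧸ H) : Dy P y ≤ (P : Subgroup G) :=
  inf_le_right

theorem mem_Dy (P : Sylow p G) {H : Subgroup G} (y : G ⧸ H) (g : G) :
    g ∈ Dy P y ↔ g • y = y ∧ g ∈ (P : Subgroup G) := by
  unfold Dy
  rw [Subgroup.mem_inf, mem_stabilizer_iff]

theorem Dy_smul (P : Sylow p G) {H : Subgroup G} (y : G ⧸ H) (g : G)
    (hgP : g ∈ (P : Subgroup G)) (hgN : g ∈ Subgroup.normalizer (Dy P y : Set G)) :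
    Dy P (g • y) = Dy P y := by
  have h1 : stabilizer G (g • y) = cj g (stabilizer G y) :=
    stabilizer_smul_eq_stabilizer_map_conj g y
  unfold Dy at hgN ⊢
  rw [h1]
  have h2 : cj g (P : Subgroup G) = (P : Subgroup G) := cj_eq_self_of_mem hgP
  conv_lhs => rw [← h2]
  rw [← cj_inf]
  exact cj_eq_self_iff.mpr hgN

/-- choice of a normalizing element of `Q` outside `D` with `p`-th power in `D` -/
noncomputable def Zc (p : ℕ) (Q D : Subgroup G) : G := by
  classical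
  exact if h : ∃ z ∈ Q, z ∈ Subgroup.normalizer (D : Set G) ∧ z ∉ D ∧ z ^ p ∈ D then h.choose else 1

theorem Zc_spec (Q D : Subgroup G)
    (h : ∃ z ∈ Q, z ∈ Subgroup.normalizer (D : Set G) ∧ z ∉ D ∧ z ^ p ∈ D) :
    Zc p Q D ∈ Q ∧ Zc p Q D ∈ Subgroup.normalizer (D : Set G) ∧ Zc p Q D ∉ D ∧
      Zc p Q D ^ p ∈ D := by
  unfold Zc
  rw [dif_pos h]
  exact h.choose_spec

section main

variable (P : Sylow p G) (Q : Subgroup G) (hQ : Cfsg.IsWeaklyClosed Q (P : Subgroup G))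

include hQ in
theorem not_le_Dy (y : G ⧸ Subgroup.normalizer (Q : Set G))
    (hy : y ≠ ((1 : G) : G ⧸ Subgroup.normalizer (Q : Set G))) : ¬ Q ≤ Dy P y := by
  intro hle
  apply hy
  have hx : cj y.out⁻¹ Q ≤ Subgroup.normalizer (Q : Set G) := by
    intro b hb
    rw [mem_cj, inv_inv] at hb
    have h1 : y.out * b * y.out⁻¹ ∈ Dy P y := hle hb
    have h2 := ((mem_Dy P y _).1 h1).1
    rw [smul_eq_iff_out] at h2
    have : y.out⁻¹ * (y.out * b * y.out⁻¹) * y.out = b := by group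
    rwa [this] at h2
  have h3 := mem_normalizer_of_wc P Q hQ _ hx
  have h4 : y.out ∈ Subgroup.normalizer (Q : Set G) := by
    have := Subgroup.inv_mem _ h3
    rwa [inv_inv] at this
  rw [← QuotientGroup.out_eq' y]
  rw [QuotientGroup.eq]
  rw [mul_one]
  exact Subgroup.inv_mem _ h4

include hQ in
theorem Zc_Dy_spec (y : G ⧸ Subgroup.normalizer (Q : Set G))
    (hy : y ≠ ((1 : G) : G ⧸ Subgroup.normalizer (Q : Set G))) :
    Zc p Q (Dy P y) ∈ Q ∧ Zc p Q (Dy P y) ∈ Subgroup.normalizer (Dy P y : Set G) ∧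
      Zc p Q (Dy P y) ∉ Dy P y ∧ Zc p Q (Dy P y) ^ p ∈ Dy P y :=
  Zc_spec Q (Dy P y) (exists_normalizing P Q hQ (Dy P y) (Dy_le P y) (not_le_Dy P Q hQ y hy))

/-- the permutation `σ` of the cosets -/
noncomputable def sig (y : G ⧸ Subgroup.normalizer (Q : Set G)) :
    G ⧸ Subgroup.normalizer (Q : Set G) :=
  Zc p Q (Dy P y) • y

include hQ in
theorem sig_iterate (y : G ⧸ Subgroup.normalizer (Q : Set G))
    (hy : y ≠ ((1 : G) : G ⧸ Subgroup.normalizer (Q : Set G))) (i : ℕ) :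
    (sig P Q)^[i] y = Zc p Q (Dy P y) ^ i • y ∧ Dy P ((sig P Q)^[i] y) = Dy P y := by
  obtain ⟨hzQ, hzN, -, -⟩ := Zc_Dy_spec P Q hQ y hy
  induction i with
  | zero => simp
  | succ i ih =>
    rw [Function.iterate_succ_apply']
    have h1 : sig P Q ((sig P Q)^[i] y) = Zc p Q (Dy P y) ^ (i + 1) • y := by
      have h0 : sig P Q ((sig P Q)^[i] y) =
          Zc p Q (Dy P ((sig P Q)^[i] y)) • ((sig P Q)^[i] y) := rfl
      rw [h0, ih.2, ih.1, pow_succ', mul_smul]
    refine ⟨h1, ?_⟩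
    rw [h1]
    exact Dy_smul P y _ ((P : Subgroup G).pow_mem (hQ.1 hzQ) _) (Subgroup.pow_mem _ hzN _)

end main

end Cfsg.Agent.Lib.Helper2.HW
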