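import Mathlib
import Cfsg.Prelude.Def_Transfer
import Cfsg.Agent.Lib.Helper2.HW4

set_option autoImplicit false

/-!
Stage B of the Hall–Wielandt computation (main statement).
-/

namespace Cfsg.Agent.Lib.Helper2.HW

open Cfsg.Agent.Lib.Helper33 MulAction

variable {G : Type*} [Group G] [Finite G] {p : ℕ} [hp : Fact p.Prime]

theorem mem_of_pow_mem_of_coprime {D : Subgroup G} {z : G} {i : ℕ} (hi : Nat.Coprime i p)
    (h1 : z ^ i ∈ D) (h2 : z ^ p ∈ D) : z ∈ D := by
  have h := Nat.isCoprime_iff_coprime.2 hi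
  obtain ⟨a, b, hab⟩ := h
  have : z = (z ^ i) ^ a * (z ^ p) ^ b := by
    rw [← zpow_natCast z i, ← zpow_natCast z p, ← zpow_mul, ← zpow_mul, ← zpow_add]
    have : (i : ℤ) * a + (p : ℤ) * b = 1 := by linarith
    rw [this, zpow_one]
  rw [this]
  exact D.mul_mem (D.zpow_mem h1 a) (D.zpow_mem h2 b)

variable (P : Sylow p G) (Q : Subgroup G) (hQ : Cfsg.IsWeaklyClosed Q (P : Subgroup G))

include hQ in
theorem prod_fixed_eq
    (hEngel : ∀ u ∈ (P : Subgroup G), ∀ z ∈ Q, (fun y : G => y⁻¹ * z⁻¹ * y * z)^[p - 1] u = 1)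
    (μ : Subgroup.normalizer (Q : Set G) →* Multiplicative (ZMod p)) (u : G)
    (hu : u ∈ (P : Subgroup G))
    [Fintype (G ⧸ Subgroup.normalizer (Q : Set G))]
    [DecidablePred fun y : G ⧸ Subgroup.normalizer (Q : Set G) => u • y = y] :
    ∏ y ∈ Finset.univ.filter (fun y : G ⧸ Subgroup.normalizer (Q : Set G) => u • y = y),
      extH μ (y.out⁻¹ * u * y.out) = extH μ u := by
  classical
  have hPH : (P : Subgroup G) ≤ Subgroup.normalizer (Q : Set G) := wc_le_normalizer P Q hQ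
  set q₀ : G ⧸ Subgroup.normalizer (Q : Set G) := ((1 : G) : G ⧸ Subgroup.normalizer (Q : Set G))
    with hq₀def
  have hq₀ : ∀ g ∈ Subgroup.normalizer (Q : Set G), g • q₀ = q₀ := by
    intro g hg
    rw [hq₀def, smul_mk_eq_iff]
    simpa using hg
  set F := Finset.univ.filter (fun y : G ⧸ Subgroup.normalizer (Q : Set G) => u • y = y) with hF
  have hq₀F : q₀ ∈ F := by
    rw [hF, Finset.mem_filter]
    exact ⟨Finset.mem_univ _, hq₀ u (hPH hu)⟩
  rw [← Finset.mul_prod_erase F _ hq₀F]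
  have hfq₀ : extH μ (q₀.out⁻¹ * u * q₀.out) = extH μ u := by
    have := extH_conj_out μ u 1 (by simpa using hPH hu)
    rw [this]
    simp
  rw [hfq₀]
  suffices h : ∏ y ∈ F.erase q₀, extH μ (y.out⁻¹ * u * y.out) = 1 by rw [h, mul_one]
  apply prod_eq_one_of_free_iterate p hp.1.pos (sig P Q) _ _ (F.erase q₀) rfl
  · -- invariance
    intro y hy
    rw [Finset.mem_erase, hF, Finset.mem_filter] at hy ⊢
    obtain ⟨hy0, -, hyu⟩ := hy
    obtain ⟨hzQ, hzN, hzD, hzp⟩ := Zc_Dy_spec P Q hQ y hy0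
    have hzP := hQ.1 hzQ
    have huD : u ∈ Dy P y := (mem_Dy P y u).2 ⟨hyu, hu⟩
    refine ⟨?_, Finset.mem_univ _, ?_⟩
    · intro h
      apply hy0
      have h1 : y = (Zc p Q (Dy P y))⁻¹ • q₀ := by
        rw [← h]
        show y = (Zc p Q (Dy P y))⁻¹ • (Zc p Q (Dy P y) • y)
        rw [inv_smul_smul]
      rw [h1]
      exact hq₀ _ (hPH ((P : Subgroup G).inv_mem hzP))
    · show u • (Zc p Q (Dy P y) • y) = Zc p Q (Dy P y) • y
      have h1 : (Zc p Q (Dy P y))⁻¹ * u * Zc p Q (Dy P y) ∈ Dy P y :=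
        (Subgroup.mem_normalizer_iff''.1 hzN u).1 huD
      have h2 := ((mem_Dy P y _).1 h1).1
      have h3 : u * Zc p Q (Dy P y) =
          Zc p Q (Dy P y) * ((Zc p Q (Dy P y))⁻¹ * u * Zc p Q (Dy P y)) := by group
      rw [← mul_smul, h3, mul_smul, h2]
  · -- period
    intro y hy
    rw [Finset.mem_erase] at hy
    obtain ⟨hy0, -⟩ := hy
    obtain ⟨hzQ, hzN, hzD, hzp⟩ := Zc_Dy_spec P Q hQ y hy0
    rw [(sig_iterate P Q hQ y hy0 p).1]
    exact ((mem_Dy P y _).1 hzp).1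
  · -- freeness
    intro y hy i hi0 hip h
    rw [Finset.mem_erase] at hy
    obtain ⟨hy0, -⟩ := hy
    obtain ⟨hzQ, hzN, hzD, hzp⟩ := Zc_Dy_spec P Q hQ y hy0
    rw [(sig_iterate P Q hQ y hy0 i).1] at h
    have h1 : Zc p Q (Dy P y) ^ i ∈ Dy P y :=
      (mem_Dy P y _).2 ⟨h, (P : Subgroup G).pow_mem (hQ.1 hzQ) i⟩
    have hcop : Nat.Coprime i p := by
      rw [Nat.coprime_comm, Nat.Prime.coprime_iff_not_dvd hp.1]
      intro hdvd
      have := Nat.le_of_dvd hi0 hdvd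
      omega
    exact hzD (mem_of_pow_mem_of_coprime hcop h1 hzp)
  · -- orbit products
    intro y hy
    rw [Finset.mem_erase, hF, Finset.mem_filter] at hy
    obtain ⟨hy0, -, hyu⟩ := hy
    obtain ⟨hzQ, hzN, hzD, hzp⟩ := Zc_Dy_spec P Q hQ y hy0
    have hzP := hQ.1 hzQ
    have huD : u ∈ Dy P y := (mem_Dy P y u).2 ⟨hyu, hu⟩
    set z := Zc p Q (Dy P y) with hz
    set x := y.out with hx
    have hyx : ((x : G) : G ⧸ Subgroup.normalizer (Q : Set G)) = y := QuotientGroup.out_eq' y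
    -- the endomorphism τ of D and the hom Λ
    let τ : ↥(Dy P y) →* ↥(Dy P y) := MonoidHom.mk'
      (fun d => ⟨z⁻¹ * (d : G) * z, (Subgroup.mem_normalizer_iff''.1 hzN d).1 d.2⟩)
      (fun a b => by
        apply Subtype.ext
        show z⁻¹ * ((a : G) * (b : G)) * z = (z⁻¹ * (a : G) * z) * (z⁻¹ * (b : G) * z)
        group)
    have hDH : ∀ d : ↥(Dy P y), x⁻¹ * (d : G) * x ∈ Subgroup.normalizer (Q : Set G) := by
      intro d
      have := ((mem_Dy P y _).1 d.2).1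
      rwa [smul_eq_iff_out] at this
    let Λ : ↥(Dy P y) →* Multiplicative (ZMod p) := MonoidHom.mk'
      (fun d => μ ⟨x⁻¹ * (d : G) * x, hDH d⟩)
      (fun a b => by
        rw [← map_mul]
        congr 1
        apply Subtype.ext
        show x⁻¹ * ((a : G) * (b : G)) * x = (x⁻¹ * (a : G) * x) * (x⁻¹ * (b : G) * x)
        group)
    let w : ↥(Dy P y) := ⟨u, huD⟩
    have hτi : ∀ i : ℕ, ((τ^[i] w : ↥(Dy P y)) : G) = (z ^ i)⁻¹ * u * z ^ i := by
      intro i
      induction i with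
      | zero => simp [w]
      | succ i ih =>
        rw [Function.iterate_succ_apply']
        show z⁻¹ * ((τ^[i] w : ↥(Dy P y)) : G) * z = _
        rw [ih, pow_succ]
        group
    have hEng : (fun d : ↥(Dy P y) => d⁻¹ * τ d)^[p - 1] w = 1 := by
      have hcoe : ∀ j : ℕ, (((fun d : ↥(Dy P y) => d⁻¹ * τ d)^[j] w : ↥(Dy P y)) : G) =
          (fun y : G => y⁻¹ * z⁻¹ * y * z)^[j] u := by
        intro j
        induction j with
        | zero => rfl
        | succ j ih =>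
          rw [Function.iterate_succ_apply', Function.iterate_succ_apply']
          rw [← ih]
          show ((_ : ↥(Dy P y)) : G)⁻¹ * (z⁻¹ * ((_ : ↥(Dy P y)) : G) * z) = _
          group
      apply Subtype.ext
      rw [hcoe]
      exact hEngel u hu z hzQ
    have hprod := engel_prod_eq_one τ Λ w hEng
    rw [← hprod]
    apply Finset.prod_congr rfl
    intro i _
    rw [(sig_iterate P Q hQ y hy0 i).1]
    have h1 : z ^ i • y = ((z ^ i * x : G) : G ⧸ Subgroup.normalizer (Q : Set G)) := by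
      rw [← hyx, MulAction.Quotient.smul_mk, smul_eq_mul]
    have hmem : (z ^ i * x)⁻¹ * u * (z ^ i * x) ∈ Subgroup.normalizer (Q : Set G) := by
      have := hDH (τ^[i] w)
      rw [hτi] at this
      have e : (z ^ i * x)⁻¹ * u * (z ^ i * x) = x⁻¹ * ((z ^ i)⁻¹ * u * z ^ i) * x := by group
      rw [e]
      exact this
    rw [h1, extH_conj_out μ u (z ^ i * x) hmem, extH_of_mem μ hmem]
    show μ _ = μ ⟨x⁻¹ * ((τ^[i] w : ↥(Dy P y)) : G) * x, hDH _⟩
    congr 1
    apply Subtype.ext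
    show (z ^ i * x)⁻¹ * u * (z ^ i * x) = x⁻¹ * ((τ^[i] w : ↥(Dy P y)) : G) * x
    rw [hτi]
    group

end Cfsg.Agent.Lib.Helper2.HW
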