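import Cfsg.Agent.Lib.Helper2.PResidual
import Mathlib.GroupTheory.Focal

set_option autoImplicit false

namespace Cfsg.Agent.Lib.Helper2

variable {G : Type*} [Group G]

open scoped commutatorElement

/-- A Sylow `p`-subgroup together with `O^p(G)` generates `G`. -/
theorem sylow_sup_pResidual [Finite G] {p : ℕ} [hp : Fact p.Prime] (P : Sylow p G) :
    (P : Subgroup G) ⊔ Cfsg.pResidual p G = ⊤ := by
  have := pResidual_normal (G := G) p
  rw [← Subgroup.index_eq_one]
  have hQ := isPGroup_quotient_pResidual (G := G) p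
  obtain ⟨e, he⟩ := IsPGroup.iff_card.mp hQ
  have hidx : (Cfsg.pResidual p G).index = p ^ e := by
    rw [Subgroup.index_eq_card]; exact he
  have hdvd1 : ((P : Subgroup G) ⊔ Cfsg.pResidual p G).index ∣ (P : Subgroup G).index :=
    Subgroup.index_dvd_of_le le_sup_left
  have hdvd2 : ((P : Subgroup G) ⊔ Cfsg.pResidual p G).index ∣ p ^ e :=
    hidx ▸ Subgroup.index_dvd_of_le le_sup_right
  have hnd : ¬ p ∣ (P : Subgroup G).index := P.not_dvd_index
  obtain ⟨j, -, hj⟩ := (Nat.dvd_prime_pow hp.out).mp hdvd2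
  by_cases hj0 : j = 0
  · rw [hj, hj0, pow_zero]
  · exfalso
    apply hnd
    rw [hj] at hdvd1
    exact (dvd_pow_self p hj0).trans hdvd1

/-- If a Sylow `p`-subgroup is abelian then `G / O^p(G)` is abelian, i.e. `G' ≤ O^p(G)`. -/
theorem commutator_le_pResidual_of_sylow_comm [Finite G] {p : ℕ} [hp : Fact p.Prime]
    (P : Sylow p G) (hP : IsMulCommutative (P : Subgroup G)) :
    commutator G ≤ Cfsg.pResidual p G := by
  have hN := pResidual_normal (G := G) p
  rw [commutator_def, Subgroup.commutator_le]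
  intro g₁ _ g₂ _
  have hdec : ∀ g : G, ∃ t ∈ (P : Subgroup G), ∃ c ∈ Cfsg.pResidual p G, g = t * c := by
    intro g
    have hg : g ∈ (P : Subgroup G) ⊔ Cfsg.pResidual p G := by
      rw [sylow_sup_pResidual]; exact Subgroup.mem_top g
    rw [← SetLike.mem_coe, Subgroup.mul_normal] at hg
    obtain ⟨t, ht, c, hc, rfl⟩ := hg
    exact ⟨t, ht, c, hc, rfl⟩
  obtain ⟨t₁, ht₁, c₁, hc₁, rfl⟩ := hdec g₁
  obtain ⟨t₂, ht₂, c₂, hc₂, rfl⟩ := hdec g₂
  rw [← QuotientGroup.eq_one_iff, commutatorElement_def]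
  have e1 : ((t₁ * c₁ : G) : G ⧸ Cfsg.pResidual p G) = (t₁ : G ⧸ Cfsg.pResidual p G) := by
    rw [QuotientGroup.mk_mul, (QuotientGroup.eq_one_iff c₁).mpr hc₁, mul_one]
  have e2 : ((t₂ * c₂ : G) : G ⧸ Cfsg.pResidual p G) = (t₂ : G ⧸ Cfsg.pResidual p G) := by
    rw [QuotientGroup.mk_mul, (QuotientGroup.eq_one_iff c₂).mpr hc₂, mul_one]
  have hcomm : t₁ * t₂ = t₂ * t₁ :=
    congrArg Subtype.val (hP.is_comm.comm (⟨t₁, ht₁⟩ : (P : Subgroup G)) ⟨t₂, ht₂⟩)
  simp only [QuotientGroup.mk_mul, QuotientGroup.mk_inv, e1, e2]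
  rw [← QuotientGroup.mk_mul, hcomm, QuotientGroup.mk_mul]
  group

/-- `P ∩ O^p(G)` lies in the focal subgroup of `P`. -/
theorem sylow_inf_pResidual_le_focalSubgroup [Finite G] {p : ℕ} [hp : Fact p.Prime]
    (P : Sylow p G) :
    (P : Subgroup G) ⊓ Cfsg.pResidual p G ≤ (P : Subgroup G).focalSubgroup := by
  have hK : IsPGroup p (G ⧸ (P : Subgroup G).transferFocal.ker) :=
    (P.2.to_quotient (P : Subgroup G).focalSubgroupOf).of_equiv
      (Subgroup.transferFocal.quotientKerMulEquivQuotientFocalSubroupOf P).symm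
  have h1 : Cfsg.pResidual p G ≤ (P : Subgroup G).transferFocal.ker :=
    pResidual_le_of_isPGroup_quotient _ hK
  rw [← Subgroup.ker_transferFocal_inf_eq_focalSubgroup P, inf_comm]
  exact inf_le_inf_right _ h1

end Cfsg.Agent.Lib.Helper2
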