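import Cfsg.Agent.Lib.Helper2.Tate3

set_option autoImplicit false

/-!
Tate's theorem: if `P ≤ H ≤ G` with `P` a Sylow `p`-subgroup of `G` and every homomorphism
`H → ℤ/p` extends to `G`, then `P ∩ O^p(G) ≤ O^p(H)`.
-/

namespace Cfsg.Agent.Lib.Helper2

universe u

section

variable {p : ℕ} [hp : Fact p.Prime]

/-- The subgroup generated by the `p'`-elements of `G` lying in `H`. -/
def opIn (p : ℕ) {G : Type*} [Group G] (H : Subgroup G) : Subgroup G :=
  Subgroup.closure {g | g ∈ H ∧ Nat.Coprime (orderOf g) p}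

theorem map_pResidual_subtype {G : Type*} [Group G] (H : Subgroup G) :
    (Cfsg.pResidual p H).map H.subtype = opIn p H := by
  unfold Cfsg.pResidual opIn
  rw [MonoidHom.map_closure]
  congr 1
  ext g
  constructor
  · rintro ⟨h, hh, rfl⟩
    refine ⟨h.2, ?_⟩
    have : Nat.Coprime (orderOf h) p := hh
    rwa [← Subgroup.orderOf_coe] at this
  · rintro ⟨hgH, hg⟩
    refine ⟨⟨g, hgH⟩, ?_, rfl⟩
    show Nat.Coprime (orderOf (⟨g, hgH⟩ : H)) p
    rw [← Subgroup.orderOf_coe]
    exact hg

theorem tate_aux (n : ℕ) : ∀ (G : Type u) [Group G] [Finite G], Nat.card G ≤ n →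
    ∀ (H : Subgroup G) (P : Sylow p G), (P : Subgroup G) ≤ H → ExtFp p H →
    (P : Subgroup G) ⊓ Cfsg.pResidual p G ≤ opIn p H := by
  induction n with
  | zero =>
    intro G _ _ hcard
    have : 0 < Nat.card G := Nat.card_pos
    omega
  | succ n ih =>
    intro G _ _ hcard H P hPH hExt
    by_cases hπ : ∃ π : G →* Multiplicative (ZMod p), π ≠ 1
    · obtain ⟨π, hπ⟩ := hπ
      have hMlt : Nat.card π.ker ≤ n := by
        have h1 : Nat.card π.ker ≤ Nat.card G := Subgroup.card_le_card_group _
        have h2 : Nat.card π.ker ≠ Nat.card G := by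
          intro heq
          have htop : π.ker = ⊤ := Subgroup.eq_top_of_card_eq _ heq
          apply hπ
          ext g
          have : g ∈ π.ker := by rw [htop]; exact Subgroup.mem_top g
          exact this
        omega
      let P' : Sylow p π.ker := Cfsg.Agent.Lib.Helper72.sylowInfNormal π.ker P
      have hP'coe : (P' : Subgroup π.ker) = ((P : Subgroup G) ⊓ π.ker).subgroupOf π.ker :=
        Cfsg.Agent.Lib.Helper72.coe_sylowInfNormal π.ker P
      have hP'H : (P' : Subgroup π.ker) ≤ H.subgroupOf π.ker := by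
        rw [hP'coe]
        intro m hm
        rw [Subgroup.mem_subgroupOf] at hm ⊢
        exact hPH (Subgroup.mem_inf.mp hm).1
      have hExt' : ExtFp p (H.subgroupOf π.ker) := extFp_ker π hπ H P hPH hExt
      have hIH := ih π.ker hMlt (H.subgroupOf π.ker) P' hP'H hExt'
      intro g hg
      obtain ⟨hgP, hgR⟩ := Subgroup.mem_inf.mp hg
      have hgM : g ∈ π.ker := pResidual_le_ker π hgR
      have h1 : (⟨g, hgM⟩ : π.ker) ∈ (P' : Subgroup π.ker) := by
        rw [hP'coe, Subgroup.mem_subgroupOf]
        exact Subgroup.mem_inf.mpr ⟨hgP, hgM⟩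
      have h2 : (⟨g, hgM⟩ : π.ker) ∈ Cfsg.pResidual p π.ker := by
        have h3 := pResidual_le_map_pResidual (p := p) π.ker
          (fun g hg => pResidual_le_ker π (mem_pResidual_of_coprime hg)) hgR
        obtain ⟨y, hy, hyg⟩ := h3
        have : y = ⟨g, hgM⟩ := Subtype.ext hyg
        rwa [← this]
      have h4 : (⟨g, hgM⟩ : π.ker) ∈ opIn p (H.subgroupOf π.ker) :=
        hIH (Subgroup.mem_inf.mpr ⟨h1, h2⟩)
      have h5 : (opIn p (H.subgroupOf π.ker)).map π.ker.subtype ≤ opIn p H := by
        unfold opIn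
        rw [MonoidHom.map_closure, Subgroup.closure_le]
        rintro _ ⟨m, ⟨hmH, hmo⟩, rfl⟩
        apply Subgroup.subset_closure
        refine ⟨Subgroup.mem_subgroupOf.mp hmH, ?_⟩
        show Nat.Coprime (orderOf ((m : π.ker) : G)) p
        rw [Subgroup.orderOf_coe]
        exact hmo
      exact h5 ⟨⟨g, hgM⟩, h4, rfl⟩
    · push Not at hπ
      -- every hom from H to F_p is trivial
      have hH : ∀ μ : H →* Multiplicative (ZMod p), μ = 1 := by
        intro μ
        obtain ⟨l, hl⟩ := hExt μ
        ext h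
        rw [← hl h, hπ l]
        rfl
      have hN := pResidual_normal (G := H) p
      have htop : Cfsg.pResidual p H = ⊤ := by
        by_contra hne
        have hQ : IsPGroup p (H ⧸ Cfsg.pResidual p H) := isPGroup_quotient_pResidual p
        haveI : Nontrivial (H ⧸ Cfsg.pResidual p H) := by
          rw [QuotientGroup.nontrivial_iff]
          exact hne
        obtain ⟨l₀, hl₀⟩ := exists_hom_ne_one_of_isPGroup hQ
        apply hl₀
        apply QuotientGroup.monoidHom_ext
        exact (hH _).trans (hH _).symm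
      rw [← map_pResidual_subtype, htop, ← MonoidHom.range_eq_map, Subgroup.range_subtype]
      exact inf_le_left.trans hPH

/-- **Tate's theorem.** -/
theorem tate {G : Type u} [Group G] [Finite G] (H : Subgroup G) (P : Sylow p G)
    (hPH : (P : Subgroup G) ≤ H) (hExt : ExtFp p H) :
    (P : Subgroup G) ⊓ Cfsg.pResidual p G ≤ (Cfsg.pResidual p H).map H.subtype := by
  rw [map_pResidual_subtype]
  exact tate_aux (Nat.card G) G le_rfl H P hPH hExt

end

end Cfsg.Agent.Lib.Helper2
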