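import Mathlib
import Cfsg.Prelude.Def_Transfer
import Cfsg.Prelude.Def_BaumannBlocks
import Cfsg.Agent.Lib.Helper2.HW5
import Cfsg.Agent.Lib.Helper2.Tate4
import Cfsg.Agent.Lib.Helper2.PResidual2

set_option autoImplicit false

/-!
The Hall–Wielandt theorem: if `Q` is weakly closed in the Sylow `p`-subgroup `P` and satisfies the
`(p-1)`-Engel condition against `P`, then `N_G(Q)` controls `p`-transfer.
-/

namespace Cfsg.Agent.Lib.Helper2.HW

open Cfsg.Agent.Lib.Helper33 Cfsg.Agent.Lib.Helper2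

variable {G : Type*} [Group G] [Finite G] {p : ℕ} [hp : Fact p.Prime]

theorem not_dvd_relIndex_of_sylow_le (P : Sylow p G) (H : Subgroup G)
    (hPH : (P : Subgroup G) ≤ H) : ¬ p ∣ (P : Subgroup G).relIndex H := by
  intro h
  apply P.not_dvd_index
  rw [← Subgroup.relIndex_mul_index hPH]
  exact h.mul_right _

section main

variable (P : Sylow p G) (Q : Subgroup G) (hQ : Cfsg.IsWeaklyClosed Q (P : Subgroup G))
  (hEngel : ∀ u ∈ (P : Subgroup G), ∀ z ∈ Q, (fun y : G => y⁻¹ * z⁻¹ * y * z)^[p - 1] u = 1)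

include hQ hEngel in
/-- **Stage C**: the transfer into `N_G(Q)` followed by `μ` restricts to `μ` on `P`. -/
theorem transfer_eq_extH : ∀ n : ℕ, ∀ u ∈ (P : Subgroup G), orderOf u = n →
    ∀ μ : Subgroup.normalizer (Q : Set G) →* Multiplicative (ZMod p),
      MonoidHom.transfer μ u = extH μ u := by
  intro n
  induction n using Nat.strong_induction_on with
  | _ n ih =>
    intro u hu hun μ
    classical
    haveI : Fintype (G ⧸ Subgroup.normalizer (Q : Set G)) := Fintype.ofFinite _
    have hPH : (P : Subgroup G) ≤ Subgroup.normalizer (Q : Set G) := wc_le_normalizer P Q hQ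
    have huH : u ∈ Subgroup.normalizer (Q : Set G) := hPH hu
    obtain ⟨k, hk⟩ := (IsPGroup.iff_orderOf.1 P.2) ⟨u, hu⟩
    rw [Subgroup.orderOf_mk] at hk
    rw [transfer_eq_prod_fixed μ u, prod_fixed_eq P Q hQ hEngel μ u hu]
    intro m hm hmd x hx
    set v := u ^ m with hv
    have hvP : v ∈ (P : Subgroup G) := (P : Subgroup G).pow_mem hu m
    have hm0 : m ≠ 0 := by omega
    have hov : orderOf v = orderOf u / m := orderOf_pow_of_dvd hm0 hmd
    have hovlt : orderOf v < n := by
      rw [hov, ← hun]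
      exact Nat.div_lt_self (orderOf_pos u) hm
    set g := x⁻¹ * v * x with hg
    have hog : orderOf g = orderOf v := by
      have := Cfsg.Agent.Lib.Helper2.orderOf_conj_eq x⁻¹ v
      rwa [inv_inv] at this
    obtain ⟨kv, hkv⟩ := (IsPGroup.iff_orderOf.1 P.2) ⟨v, hvP⟩
    rw [Subgroup.orderOf_mk] at hkv
    have hgp : IsPGroup p (Subgroup.zpowers g) := by
      apply IsPGroup.of_card (n := kv)
      rw [Nat.card_zpowers, hog, hkv]
    obtain ⟨c, hcH, hc⟩ := sylow_sub (K := Subgroup.normalizer (Q : Set G)) (P := (P : Subgroup G))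
      (H := Subgroup.zpowers g) hPH P.2 (not_dvd_relIndex_of_sylow_le P _ hPH)
      (by rw [Subgroup.zpowers_le]; exact hx) hgp
    have hwP : c * g * c⁻¹ ∈ (P : Subgroup G) := hc (conj_mem_cj (Subgroup.mem_zpowers g))
    have how : orderOf (c * g * c⁻¹) = orderOf v := by
      rw [Cfsg.Agent.Lib.Helper2.orderOf_conj_eq, hog]
    have ih1 := ih _ hovlt (c * g * c⁻¹) hwP how μ
    have ih2 := ih _ hovlt v hvP rfl μ
    have htr : MonoidHom.transfer μ (c * g * c⁻¹) = MonoidHom.transfer μ v := by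
      rw [hg]
      simp only [map_mul, map_inv]
      rw [mul_comm (MonoidHom.transfer μ c), mul_assoc, mul_assoc, mul_inv_cancel, mul_one,
        mul_comm, mul_inv_cancel_left]
    have h1 : extH μ (c * g * c⁻¹) = extH μ g := by
      have := extH_conj μ hx (Subgroup.inv_mem _ hcH)
      rwa [inv_inv] at this
    have h2 : extH μ v = 1 := by
      rw [hv, extH_pow μ huH]
      have hpm : p ∣ m := by
        rw [hk] at hmd
        obtain ⟨j, -, rfl⟩ := (Nat.dvd_prime_pow hp.1).1 hmd
        rcases j with _ | j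
        · simp at hm
        · exact dvd_pow_self p (Nat.succ_ne_zero j)
      obtain ⟨m', rfl⟩ := hpm
      rw [pow_mul, pow_p_eq_one_Fp, one_pow]
    rw [← h1, ← ih1, htr, ih2, h2]

include hQ hEngel in
theorem extFp_normalizer : ExtFp p (Subgroup.normalizer (Q : Set G)) := by
  intro μ
  have hPH : (P : Subgroup G) ≤ Subgroup.normalizer (Q : Set G) := wc_le_normalizer P Q hQ
  refine ⟨MonoidHom.transfer μ, ?_⟩
  let PV : Sylow p (Subgroup.normalizer (Q : Set G)) := P.subtype hPH
  have hPVcoe : (PV : Subgroup (Subgroup.normalizer (Q : Set G))) =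
      (P : Subgroup G).subgroupOf (Subgroup.normalizer (Q : Set G)) := Sylow.coe_subtype _ _
  let d : Subgroup.normalizer (Q : Set G) →* Multiplicative (ZMod p) :=
    ((MonoidHom.transfer μ).comp (Subgroup.normalizer (Q : Set G)).subtype) * μ⁻¹
  have hd : ∀ v : Subgroup.normalizer (Q : Set G), d v = 1 := by
    intro v
    apply hom_eq_one_of_sylow PV (1 : Subgroup.normalizer (Q : Set G) →* Multiplicative (ZMod p))
      d _ v rfl
    intro g hg _
    have hgP : (g : G) ∈ (P : Subgroup G) := Subgroup.mem_subgroupOf.mp (hPVcoe.le hg)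
    show MonoidHom.transfer μ (g : G) * (μ g)⁻¹ = 1
    rw [transfer_eq_extH P Q hQ hEngel _ (g : G) hgP rfl μ, extH_of_mem μ g.2, mul_inv_cancel]
  intro v
  have := hd v
  exact mul_inv_eq_one.mp this

end main

/-- If `H` contains a Sylow `p`-subgroup and every hom `H → F_p` extends to `G`, then
`O^p(H) = O^p(G) ∩ H`. -/
theorem pResidualOf_eq_of_extFp (P : Sylow p G) (H : Subgroup G) (hPH : (P : Subgroup G) ≤ H)
    (hExt : ExtFp p H) : Cfsg.pResidualOf p H = Cfsg.pResidual p G ⊓ H := by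
  unfold Cfsg.pResidualOf
  have hle : (Cfsg.pResidual p H).map H.subtype ≤ Cfsg.pResidual p G ⊓ H := by
    rw [map_pResidual_subtype]
    apply le_inf
    · unfold opIn Cfsg.pResidual
      apply Subgroup.closure_mono
      rintro g ⟨-, hg⟩
      exact hg
    · unfold opIn
      rw [Subgroup.closure_le]
      rintro g ⟨hg, -⟩
      exact hg
  apply le_antisymm hle
  intro k hk
  obtain ⟨hkG, hkH⟩ := Subgroup.mem_inf.mp hk
  have htate := tate H P hPH hExt
  let PV : Sylow p H := P.subtype hPH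
  have hPVcoe : (PV : Subgroup H) = (P : Subgroup G).subgroupOf H := Sylow.coe_subtype _ _
  haveI := pResidual_normal (G := H) p
  have hk' : (⟨k, hkH⟩ : H) ∈ (PV : Subgroup H) ⊔ Cfsg.pResidual p H := by
    rw [sylow_sup_pResidual]; exact Subgroup.mem_top _
  rw [← SetLike.mem_coe, Subgroup.mul_normal] at hk'
  obtain ⟨t, ht, c, hc, htc⟩ := hk'
  have htP : (t : G) ∈ (P : Subgroup G) := Subgroup.mem_subgroupOf.mp (hPVcoe.le ht)
  have hcL : (c : G) ∈ (Cfsg.pResidual p H).map H.subtype := Subgroup.mem_map_of_mem _ hc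
  have hcG : (c : G) ∈ Cfsg.pResidual p G := (Subgroup.mem_inf.mp (hle hcL)).1
  have hktc : k = (t : G) * (c : G) := by
    have := congrArg Subtype.val htc
    simpa using this.symm
  have htG : (t : G) ∈ Cfsg.pResidual p G := by
    have : (t : G) = k * (c : G)⁻¹ := by rw [hktc]; group
    rw [this]
    exact Subgroup.mul_mem _ hkG (Subgroup.inv_mem _ hcG)
  have htL : (t : G) ∈ (Cfsg.pResidual p H).map H.subtype :=
    htate (Subgroup.mem_inf.mpr ⟨htP, htG⟩)
  rw [hktc]
  exact Subgroup.mul_mem _ htL hcL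

/-- **Hall–Wielandt.** -/
theorem hall_wielandt (P : Sylow p G) (Q : Subgroup G)
    (hQ : Cfsg.IsWeaklyClosed Q (P : Subgroup G))
    (hEngel : ∀ u ∈ (P : Subgroup G), ∀ z ∈ Q, (fun y : G => y⁻¹ * z⁻¹ * y * z)^[p - 1] u = 1) :
    Cfsg.pResidualOf p (Subgroup.normalizer (Q : Set G)) =
      Cfsg.pResidual p G ⊓ Subgroup.normalizer (Q : Set G) :=
  pResidualOf_eq_of_extFp P _ (wc_le_normalizer P Q hQ) (extFp_normalizer P Q hQ hEngel)

end Cfsg.Agent.Lib.Helper2.HW
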