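import Cfsg.Agent.Lib.Helper2.HomFp

set_option autoImplicit false

namespace Cfsg.Agent.Lib.Helper2

section

variable {p : ℕ} [hp : Fact p.Prime]

/-- A normal subgroup of index `p` is the kernel of a homomorphism onto the group of order `p`. -/
theorem exists_hom_ker_eq {X : Type*} [Group X] (N : Subgroup X) [N.Normal] (hN : N.index = p) :
    ∃ l : X →* Multiplicative (ZMod p), l.ker = N := by
  have hc : Nat.card (X ⧸ N) = p := by rw [← Subgroup.index_eq_card]; exact hN
  let e : X ⧸ N ≃* Multiplicative (ZMod p) := mulEquivOfPrimeCardEq hc card_Fp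
  refine ⟨e.toMonoidHom.comp (QuotientGroup.mk' N), ?_⟩
  ext x
  rw [MonoidHom.mem_ker]
  show e (QuotientGroup.mk' N x) = 1 ↔ x ∈ N
  rw [e.map_eq_one_iff]
  exact QuotientGroup.eq_one_iff x

/-- A nontrivial finite `p`-group has a nontrivial homomorphism to the group of order `p`. -/
theorem exists_hom_ne_one_of_isPGroup {X : Type*} [Group X] [Finite X] [Nontrivial X]
    (hX : IsPGroup p X) : ∃ l : X →* Multiplicative (ZMod p), l ≠ 1 := by
  rcases eq_top_or_exists_le_coatom (⊥ : Subgroup X) with h | ⟨M, hM, -⟩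
  · exact absurd h bot_ne_top
  · haveI := coatom_normal hX M hM
    have hc := coatom_card_quotient hX M hM
    have hidx : M.index = p := by rw [Subgroup.index_eq_card]; exact hc
    obtain ⟨l, hl⟩ := exists_hom_ker_eq M hidx
    refine ⟨l, ?_⟩
    intro h1
    rw [h1, MonoidHom.ker_one] at hl
    exact hM.1 hl.symm

/-- The reduction map from the cyclic group of order `p²` to the cyclic group of order `p`. -/
noncomputable def redSq (p : ℕ) [Fact p.Prime] :
    Multiplicative (ZMod (p ^ 2)) →* Multiplicative (ZMod p) :=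
  AddMonoidHom.toMultiplicative
    (ZMod.castHom (dvd_pow_self p two_ne_zero) (ZMod p)).toAddMonoidHom

instance neZero_sq : NeZero (p ^ 2) := ⟨pow_ne_zero 2 hp.out.ne_zero⟩

theorem redSq_eq_one_iff (w : Multiplicative (ZMod (p ^ 2))) :
    redSq p w = 1 ↔ p ∣ (Multiplicative.toAdd w).val := by
  have h1 : redSq p w = Multiplicative.ofAdd
      ((ZMod.castHom (dvd_pow_self p two_ne_zero) (ZMod p)) (Multiplicative.toAdd w)) := rfl
  rw [h1, ZMod.castHom_apply, ← ZMod.natCast_val, ← ZMod.natCast_eq_zero_iff]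
  exact Iff.rfl

theorem exists_pow_eq_of_redSq_eq_one (w : Multiplicative (ZMod (p ^ 2))) (hw : redSq p w = 1) :
    ∃ z : Multiplicative (ZMod (p ^ 2)), z ^ p = w := by
  rw [redSq_eq_one_iff] at hw
  obtain ⟨b, hb⟩ := hw
  refine ⟨Multiplicative.ofAdd ((b : ℕ) : ZMod (p ^ 2)), ?_⟩
  rw [← ofAdd_nsmul]
  apply Multiplicative.toAdd.injective
  show p • ((b : ℕ) : ZMod (p ^ 2)) = Multiplicative.toAdd w
  rw [← ZMod.natCast_zmod_val (Multiplicative.toAdd w), hb]
  simp

theorem pow_ne_one_of_redSq_ne_one (w : Multiplicative (ZMod (p ^ 2))) (hw : redSq p w ≠ 1) :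
    w ^ p ≠ 1 := by
  intro h
  apply hw
  rw [redSq_eq_one_iff]
  have h1 : p • (Multiplicative.toAdd w) = 0 := by
    have := congrArg Multiplicative.toAdd h
    simpa using this
  rw [← ZMod.natCast_zmod_val (Multiplicative.toAdd w)] at h1
  have h2 : ((p * (Multiplicative.toAdd w).val : ℕ) : ZMod (p ^ 2)) = 0 := by
    rw [← h1]; simp
  rw [ZMod.natCast_eq_zero_iff] at h2
  have h3 : p * p ∣ p * (Multiplicative.toAdd w).val := (pow_two p) ▸ h2
  exact (Nat.mul_dvd_mul_iff_left hp.out.pos).mp h3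

theorem card_ker_redSq : Nat.card (redSq p).ker = p := by
  have hsurj : Function.Surjective (redSq p) := by
    intro y
    obtain ⟨a, ha⟩ := ZMod.castHom_surjective (dvd_pow_self p two_ne_zero) (Multiplicative.toAdd y)
    exact ⟨Multiplicative.ofAdd a, by
      show Multiplicative.ofAdd ((ZMod.castHom (dvd_pow_self p two_ne_zero) (ZMod p)) a) = y
      rw [ha]; rfl⟩
  have h1 : (redSq p).ker.index = Nat.card (redSq p).range := Subgroup.index_ker _
  have h2 : (redSq p).range = ⊤ := MonoidHom.range_eq_top.mpr hsurj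
  rw [h2, Subgroup.card_top, card_Fp] at h1
  have h3 := Subgroup.card_mul_index (redSq p).ker
  rw [h1] at h3
  have h4 : Nat.card (Multiplicative (ZMod (p ^ 2))) = p ^ 2 := by
    rw [Nat.card_eq_fintype_card, Fintype.card_multiplicative, ZMod.card]
  rw [h4] at h3
  have h5 : Nat.card (redSq p).ker * p = p * p := h3.trans (pow_two p)
  exact Nat.eq_of_mul_eq_mul_right hp.out.pos h5

end

end Cfsg.Agent.Lib.Helper2
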