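import Mathlib

/-! # Hs hive (S2536), the tail (steps N4 + N5) of leaf HS-NUM -/

set_option autoImplicit false

namespace Cfsg.Agent.Lib.Helper15.Hs

/-- three-term binomial identity for `m = 2b+1`, `b = c+3` -/
theorem numtail_id3 (c : ℕ) :
    Nat.choose (2 * (c + 3) + 1) (c + 3) * ((c + 3) * (c + 2) * (c + 1))
      = (2 * c + 5) * ((2 * c + 7) * (2 * c + 6) * Nat.choose (2 * c + 4) c) := by
  have h1 := Nat.add_one_mul_choose_eq (2 * c + 6) (c + 2)
  have h2 := Nat.add_one_mul_choose_eq (2 * c + 5) (c + 1)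
  have h3 := Nat.add_one_mul_choose_eq (2 * c + 4) c
  have e7 : 2 * (c + 3) + 1 = 2 * c + 6 + 1 := by ring
  rw [e7]
  calc (2 * c + 6 + 1).choose (c + 3) * ((c + 3) * (c + 2) * (c + 1))
      = ((2 * c + 6 + 1).choose (c + 2 + 1) * (c + 2 + 1)) * ((c + 2) * (c + 1)) := by ring
    _ = ((2 * c + 6 + 1) * (2 * c + 6).choose (c + 2)) * ((c + 2) * (c + 1)) := by rw [← h1]
    _ = (2 * c + 6 + 1) * (((2 * c + 5 + 1).choose (c + 1 + 1) * (c + 1 + 1)) * (c + 1)) := by ring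
    _ = (2 * c + 6 + 1) * (((2 * c + 5 + 1) * (2 * c + 5).choose (c + 1)) * (c + 1)) := by
        rw [← h2]
    _ = (2 * c + 6 + 1) * (2 * c + 5 + 1) * ((2 * c + 4 + 1).choose (c + 1) * (c + 1)) := by ring
    _ = (2 * c + 6 + 1) * (2 * c + 5 + 1) * ((2 * c + 4 + 1) * (2 * c + 4).choose c) := by
        rw [← h3]
    _ = (2 * c + 5) * ((2 * c + 7) * (2 * c + 6) * Nat.choose (2 * c + 4) c) := by ring

/-- five-term binomial identity for `m = 2b+1`, `b = e+5` -/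
theorem numtail_id5 (e : ℕ) :
    Nat.choose (2 * (e + 5) + 1) (e + 5) * ((e + 5) * (e + 4) * (e + 3) * (e + 2) * (e + 1))
      = (2 * e + 7) * ((2 * e + 11) * (2 * e + 10) * (2 * e + 9) * (2 * e + 8)
          * Nat.choose (2 * e + 6) e) := by
  have h1 := Nat.add_one_mul_choose_eq (2 * e + 10) (e + 4)
  have h2 := Nat.add_one_mul_choose_eq (2 * e + 9) (e + 3)
  have h3 := Nat.add_one_mul_choose_eq (2 * e + 8) (e + 2)
  have h4 := Nat.add_one_mul_choose_eq (2 * e + 7) (e + 1)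
  have h5 := Nat.add_one_mul_choose_eq (2 * e + 6) e
  have e11 : 2 * (e + 5) + 1 = 2 * e + 10 + 1 := by ring
  rw [e11]
  calc (2 * e + 10 + 1).choose (e + 5) * ((e + 5) * (e + 4) * (e + 3) * (e + 2) * (e + 1))
      = ((2 * e + 10 + 1).choose (e + 4 + 1) * (e + 4 + 1))
          * ((e + 4) * (e + 3) * (e + 2) * (e + 1)) := by ring
    _ = ((2 * e + 10 + 1) * (2 * e + 10).choose (e + 4))
          * ((e + 4) * (e + 3) * (e + 2) * (e + 1)) := by rw [← h1]
    _ = (2 * e + 10 + 1) * (((2 * e + 9 + 1).choose (e + 3 + 1) * (e + 3 + 1))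
          * ((e + 3) * (e + 2) * (e + 1))) := by ring
    _ = (2 * e + 10 + 1) * (((2 * e + 9 + 1) * (2 * e + 9).choose (e + 3))
          * ((e + 3) * (e + 2) * (e + 1))) := by rw [← h2]
    _ = (2 * e + 10 + 1) * (2 * e + 9 + 1) * (((2 * e + 8 + 1).choose (e + 2 + 1) * (e + 2 + 1))
          * ((e + 2) * (e + 1))) := by ring
    _ = (2 * e + 10 + 1) * (2 * e + 9 + 1) * (((2 * e + 8 + 1) * (2 * e + 8).choose (e + 2))
          * ((e + 2) * (e + 1))) := by rw [← h3]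
    _ = (2 * e + 10 + 1) * (2 * e + 9 + 1) * (2 * e + 8 + 1)
          * (((2 * e + 7 + 1).choose (e + 1 + 1) * (e + 1 + 1)) * (e + 1)) := by ring
    _ = (2 * e + 10 + 1) * (2 * e + 9 + 1) * (2 * e + 8 + 1)
          * (((2 * e + 7 + 1) * (2 * e + 7).choose (e + 1)) * (e + 1)) := by rw [← h4]
    _ = (2 * e + 10 + 1) * (2 * e + 9 + 1) * (2 * e + 8 + 1) * (2 * e + 7 + 1)
          * ((2 * e + 6 + 1).choose (e + 1) * (e + 1)) := by ring
    _ = (2 * e + 10 + 1) * (2 * e + 9 + 1) * (2 * e + 8 + 1) * (2 * e + 7 + 1)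
          * ((2 * e + 6 + 1) * (2 * e + 6).choose e) := by rw [← h5]
    _ = (2 * e + 7) * ((2 * e + 11) * (2 * e + 10) * (2 * e + 9) * (2 * e + 8)
          * Nat.choose (2 * e + 6) e) := by ring

/-- an odd number `n` that is not prime: every prime factor `p` satisfies `3 p ≤ n` -/
theorem numtail_factor {n : ℕ} (hodd : Odd n) (hnp : ¬ n.Prime) {p : ℕ} (hp : p.Prime)
    (hpd : p ∣ n) : 3 * p ≤ n := by
  obtain ⟨k, hk⟩ := hpd
  have hk1 : k ≠ 1 := by
    rintro rfl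
    apply hnp
    rw [hk, mul_one]
    exact hp
  have hk0 : k ≠ 0 := by
    rintro rfl
    rw [mul_zero] at hk
    rw [hk] at hodd
    exact (Nat.not_odd_iff_even.mpr (Nat.even_iff.mpr rfl)) hodd
  have hk2 : k ≠ 2 := by
    rintro rfl
    rw [hk] at hodd
    exact (Nat.not_odd_iff_even.mpr (even_two.mul_left p)) hodd
  have h3 : 3 ≤ k := by omega
  calc 3 * p = p * 3 := by ring
    _ ≤ p * k := Nat.mul_le_mul_left p h3
    _ = n := hk.symm

/-- HS-NUM tail (steps N4 + N5 of the plan) -/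
theorem numtail (b : ℕ) (hb : 3 ≤ b) (hodd : Odd b) (ha1 : (b + 2).Prime)
    (hcop : ∀ p : ℕ, p.Prime → p ≤ b + 1 → ¬ p ∣ Nat.choose (2 * b + 1) b) : b = 3 := by
  obtain ⟨c, rfl⟩ : ∃ c, b = c + 3 := ⟨b - 3, by omega⟩
  -- N4 : 2b - 1 = 2c + 5 is prime
  have hn4 : (2 * c + 5).Prime := by
    by_contra hnp
    have hoddn : Odd (2 * c + 5) := ⟨c + 2, by ring⟩
    have hco : Nat.Coprime (2 * c + 5) (Nat.choose (2 * (c + 3) + 1) (c + 3)) := by
      apply Nat.coprime_of_dvd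
      intro p hp hpd hpC
      have h3p := numtail_factor hoddn hnp hp hpd
      exact hcop p hp (by omega) hpC
    have hdvd : (2 * c + 5) ∣ (c + 3) * (c + 2) * (c + 1) := by
      have hid := numtail_id3 c
      have h : (2 * c + 5) ∣ Nat.choose (2 * (c + 3) + 1) (c + 3) * ((c + 3) * (c + 2) * (c + 1)) := by
        rw [hid]
        exact Dvd.intro _ rfl
      exact hco.dvd_of_dvd_mul_left h
    have h3 : (2 * c + 5) ∣ 3 := by
      have e : 8 * ((c + 3) * (c + 2) * (c + 1)) = (2 * c + 5) * (4 * c ^ 2 + 14 * c + 9) + 3 := by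
        ring
      have h8 : (2 * c + 5) ∣ 8 * ((c + 3) * (c + 2) * (c + 1)) := Dvd.dvd.mul_left hdvd 8
      rw [e] at h8
      exact (Nat.dvd_add_right (Dvd.intro _ rfl)).mp h8
    have := Nat.le_of_dvd (by norm_num) h3
    omega
  -- 3 ∣ c
  have h3c : c % 3 = 0 := by
    have hcases : c % 3 = 0 ∨ c % 3 = 1 ∨ c % 3 = 2 := by omega
    rcases hcases with h | h | h
    · exact h
    · exfalso
      have hd : 3 ∣ c + 3 + 2 := by omega
      have := (Nat.prime_dvd_prime_iff_eq Nat.prime_three ha1).mp hd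
      omega
    · exfalso
      have hd : 3 ∣ 2 * c + 5 := by omega
      have := (Nat.prime_dvd_prime_iff_eq Nat.prime_three hn4).mp hd
      omega
  by_cases hc0 : c = 0
  · rw [hc0]
  exfalso
  -- c even (b odd), 3 ∣ c, c ≠ 0 → c ≥ 6
  have hceven : c % 2 = 0 := by
    obtain ⟨k, hk⟩ := hodd
    omega
  obtain ⟨e, rfl⟩ : ∃ e, c = e + 2 := ⟨c - 2, by omega⟩
  have he4 : 4 ≤ e := by omega
  -- n = 2b - 3 = 2e + 7, divisible by 3, ≥ 15, not prime
  have hb5 : e + 2 + 3 = e + 5 := by ring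
  rw [hb5] at hcop
  have hoddn : Odd (2 * e + 7) := ⟨e + 3, by ring⟩
  have hnp : ¬ (2 * e + 7).Prime := by
    intro hpr
    have hd : 3 ∣ 2 * e + 7 := by omega
    have := (Nat.prime_dvd_prime_iff_eq Nat.prime_three hpr).mp hd
    omega
  have hco : Nat.Coprime (2 * e + 7) (Nat.choose (2 * (e + 5) + 1) (e + 5)) := by
    apply Nat.coprime_of_dvd
    intro p hp hpd hpC
    have h3p := numtail_factor hoddn hnp hp hpd
    exact hcop p hp (by omega) hpC
  have hdvd : (2 * e + 7) ∣ (e + 5) * (e + 4) * (e + 3) * (e + 2) * (e + 1) := by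
    have hid := numtail_id5 e
    have h : (2 * e + 7) ∣ Nat.choose (2 * (e + 5) + 1) (e + 5)
        * ((e + 5) * (e + 4) * (e + 3) * (e + 2) * (e + 1)) := by
      rw [hid]
      exact Dvd.intro _ rfl
    exact hco.dvd_of_dvd_mul_left h
  have h45 : (2 * e + 7) ∣ 45 := by
    have hz : ((2 * e + 7 : ℕ) : ℤ) ∣ (45 : ℤ) := by
      have h32 : ((2 * e + 7 : ℕ) : ℤ) ∣
          (((e + 5) * (e + 4) * (e + 3) * (e + 2) * (e + 1) : ℕ) : ℤ) :=
        Int.natCast_dvd_natCast.mpr hdvd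
      have hy : ((2 * e + 7 : ℕ) : ℤ) ∣ ((2 * e + 7 : ℕ) : ℤ)
          * (((2 * e + 7 : ℕ) : ℤ) ^ 4 - 5 * ((2 * e + 7 : ℕ) : ℤ) ^ 3
            - 10 * ((2 * e + 7 : ℕ) : ℤ) ^ 2 + 50 * ((2 * e + 7 : ℕ) : ℤ) + 9) :=
        Dvd.intro _ rfl
      have e45 : (45 : ℤ) = ((2 * e + 7 : ℕ) : ℤ)
          * (((2 * e + 7 : ℕ) : ℤ) ^ 4 - 5 * ((2 * e + 7 : ℕ) : ℤ) ^ 3
            - 10 * ((2 * e + 7 : ℕ) : ℤ) ^ 2 + 50 * ((2 * e + 7 : ℕ) : ℤ) + 9)
          - 32 * (((e + 5) * (e + 4) * (e + 3) * (e + 2) * (e + 1) : ℕ) : ℤ) := by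
        push_cast
        ring
      rw [e45]
      exact dvd_sub hy (Dvd.dvd.mul_left h32 32)
    exact_mod_cast hz
  obtain ⟨k, hk⟩ := h45
  have hk3 : k ≤ 3 := by
    by_contra hlt
    rw [not_le] at hlt
    have : (2 * e + 7) * 4 ≤ (2 * e + 7) * k := Nat.mul_le_mul_left _ hlt
    omega
  have hk0 : k ≠ 0 := by
    rintro rfl
    omega
  have hk2 : k ≠ 2 := by
    rintro rfl
    omega
  have hkk : k = 1 ∨ k = 3 := by omega
  rcases hkk with rfl | rfl
  · -- 2e+7 = 45, e = 19, b = 24 even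
    have he : e = 19 := by omega
    subst he
    obtain ⟨k, hk⟩ := hodd
    omega
  · -- 2e+7 = 15, e = 4, b = 9
    have he : e = 4 := by omega
    subst he
    apply hcop 2 Nat.prime_two (by norm_num)
    norm_num [Nat.choose]

end Cfsg.Agent.Lib.Helper15.Hs
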