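import Cfsg.Agent.Lib.Helper2.Uq3

set_option autoImplicit false

/-! Involution graphs, part 1: a graph lemma (common neighbours give diameter two) and
criteria for an element of `PSL(2,F)` to have odd order. -/

namespace Cfsg.Agent.Lib.Helper2.Ig

open Matrix Cfsg.Agent.Lib.Helper2.SL2 Cfsg.Agent.Lib.Helper2.Dk Cfsg.Agent.Lib.Helper2.Uq

section graph

variable {V : Type*} (Γ : SimpleGraph V)

/-- a graph in which any two distinct vertices are adjacent or have a common neighbour, and which
has two distinct non-adjacent vertices, is connected of diameter two -/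
theorem connected_and_diam_eq_two [Nonempty V]
    (h1 : ∀ u v : V, u ≠ v → Γ.Adj u v ∨ ∃ w, Γ.Adj u w ∧ Γ.Adj w v)
    (h2 : ∃ u v : V, u ≠ v ∧ ¬ Γ.Adj u v) : Γ.Connected ∧ Γ.diam = 2 := by
  have hle : ∀ u v : V, Γ.edist u v ≤ 2 := by
    intro u v
    by_cases huv : u = v
    · subst huv; simp
    · rcases h1 u v huv with h | ⟨w, hw1, hw2⟩
      · calc Γ.edist u v ≤ 1 := by
              have : Γ.edist u v = 1 := SimpleGraph.edist_eq_one_iff_adj.mpr h
              rw [this]
          _ ≤ 2 := by norm_num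
      · let p : Γ.Walk u v := SimpleGraph.Walk.cons hw1 (SimpleGraph.Walk.cons hw2 SimpleGraph.Walk.nil)
        have : Γ.edist u v ≤ p.length := SimpleGraph.edist_le p
        simpa [p] using this
  have hed : Γ.ediam ≤ 2 := SimpleGraph.ediam_le_of_edist_le hle
  have hne : Γ.ediam ≠ ⊤ := by
    intro h
    rw [h] at hed
    exact absurd hed (by simp)
  have hconn : Γ.Connected := SimpleGraph.connected_of_ediam_ne_top hne
  refine ⟨hconn, ?_⟩
  obtain ⟨u, v, huv, hadj⟩ := h2
  have h2le : 2 ≤ Γ.edist u v := by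
    have h0 : Γ.edist u v ≠ 0 := by
      rw [ne_eq, SimpleGraph.edist_eq_zero_iff]; exact huv
    have h1' : Γ.edist u v ≠ 1 := by
      rw [ne_eq, SimpleGraph.edist_eq_one_iff_adj]; exact hadj
    by_contra hlt
    rw [not_le] at hlt
    have : Γ.edist u v < 2 := hlt
    have h3 : Γ.edist u v ≤ 1 := by
      have := ENat.lt_add_one_iff (m := Γ.edist u v) (n := 1) (by simp)
      rw [show (1 : ℕ∞) + 1 = 2 by norm_num] at this
      exact this.mp hlt
    rcases lt_or_eq_of_le h3 with h4 | h4
    · have : Γ.edist u v = 0 := by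
        have := ENat.lt_one_iff_eq_zero.mp h4
        exact this
      exact h0 this
    · exact h1' h4
  have hed2 : Γ.ediam = 2 := le_antisymm hed (le_trans h2le SimpleGraph.edist_le_ediam)
  unfold SimpleGraph.diam
  rw [hed2]
  rfl

end graph

section orders

variable {F : Type*} [Field F]

local notation "SL2" => Matrix.SpecialLinearGroup (Fin 2) F
local notation "PSL2" => Matrix.ProjectiveSpecialLinearGroup (Fin 2) F

theorem odd_orderOf_of_pow {G : Type*} [Group G] (x : G) (n : ℕ) (hn : Odd n) (h : x ^ n = 1) :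
    Odd (orderOf x) :=
  Odd.of_dvd_nat hn (orderOf_dvd_of_pow_eq_one h)

/-- two elements of `SL(2,F)` have the same image in `PSL(2,F)` iff they agree up to sign -/
theorem mk_eq_mk_iff (A C : SL2) :
    (QuotientGroup.mk A : PSL2) = QuotientGroup.mk C ↔ (C = A ∨ C = -A) := by
  rw [QuotientGroup.eq, mem_center_iff_one_or_neg_one]
  constructor
  · rintro (h | h)
    · left
      have : A * (A⁻¹ * C) = A * 1 := by rw [h]
      simpa using this
    · right
      have : A * (A⁻¹ * C) = A * (-1) := by rw [h]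
      simpa using this
  · rintro (h | h)
    · left; rw [h]; simp
    · right; rw [h]; simp

/-- elements of trace `±2` have odd order in `PSL(2,F)` in odd characteristic -/
theorem odd_of_trace_two (p : ℕ) [Fact p.Prime] [CharP F p] (hp : p ≠ 2) (M : SL2)
    (htr : M 0 0 + M 1 1 = 2 ∨ M 0 0 + M 1 1 = -2) :
    Odd (orderOf (QuotientGroup.mk M : PSL2)) := by
  have hodd : Odd p := (Fact.out : p.Prime).odd_of_ne_two hp
  apply odd_orderOf_of_pow _ p hodd
  rw [mk_pow_eq_one_iff]
  rcases htr with h | h
  · left; exact pow_char_eq_one p M h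
  · right
    have h1 : (-M) ^ p = 1 := by
      apply pow_char_eq_one p
      rw [neg00, neg11]; linear_combination (-1 : F) * h
    rw [Odd.neg_pow hodd] at h1
    have : M ^ p = -(-(M ^ p)) := by simp
    rw [this, h1]

/-- diagonal element of `SL(2,F)` -/
def dg (a b : F) (h : a * b = 1) : SL2 :=
  ⟨!![a, 0; 0, b], by rw [Matrix.det_fin_two_of]; linear_combination h⟩

@[simp] theorem dg00 (a b : F) (h : a * b = 1) : (dg a b h) 0 0 = a := rfl
@[simp] theorem dg01 (a b : F) (h : a * b = 1) : (dg a b h) 0 1 = 0 := rfl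
@[simp] theorem dg10 (a b : F) (h : a * b = 1) : (dg a b h) 1 0 = 0 := rfl
@[simp] theorem dg11 (a b : F) (h : a * b = 1) : (dg a b h) 1 1 = b := rfl

theorem dg_pow (a b : F) (h : a * b = 1) (n : ℕ) :
    (dg a b h) ^ n = dg (a ^ n) (b ^ n) (by rw [← mul_pow, h, one_pow]) := by
  induction n with
  | zero => apply ext2 <;> simp
  | succ n ih =>
    rw [pow_succ, ih]
    apply ext2 <;> simp [mul00, mul01, mul10, mul11, pow_succ]

/-- split semisimple elements have odd order in `PSL(2,q)` when `q ≡ 3 (mod 4)` -/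
theorem odd_of_split [Fintype F] (hq : Fintype.card F % 4 = 3) (M : SL2) (ρ : F) (hρ : ρ ≠ 0)
    (h : (M 0 0 + M 1 1) ^ 2 - 4 = ρ ^ 2) :
    Odd (orderOf (QuotientGroup.mk M : PSL2)) := by
  have h2 : (2 : F) ≠ 0 := by
    intro h20
    have hc : ringChar F = 2 := by
      have : ringChar F ∣ 2 := by
        rw [← CharP.cast_eq_zero_iff F (ringChar F) 2]; exact_mod_cast h20
      rcases (Nat.dvd_prime Nat.prime_two).mp this with h1 | h1
      · exfalso
        haveI := CharP.char_is_prime F (ringChar F)
        exact (CharP.char_is_prime F (ringChar F)).one_lt.ne' h1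
      · exact h1
    have := FiniteField.even_card_of_char_two hc
    omega
  set τ := M 0 0 + M 1 1 with hτ
  set n := (Fintype.card F - 1) / 2 with hn
  have hnodd : Odd n := by
    rw [Nat.odd_iff]; omega
  have hcard : 2 * n + 1 = Fintype.card F := by omega
  have hlm : (τ + ρ) / 2 * ((τ - ρ) / 2) = 1 := by
    field_simp
    linear_combination h
  have hl0 : (τ + ρ) / 2 ≠ 0 := left_ne_zero_of_mul_eq_one hlm
  have hMns : NonScalar M := by
    by_contra hns
    unfold Cfsg.Agent.Lib.Helper2.Uq.NonScalar at hns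
    simp only [not_or, not_not] at hns
    obtain ⟨h01, h10, h00⟩ := hns
    have hd := det2 M
    rw [h01, h10, ← h00] at hd
    have : τ ^ 2 - 4 = 0 := by
      rw [hτ, ← h00]; linear_combination 4 * hd
    rw [this] at h
    exact hρ (pow_eq_zero_iff (by norm_num) |>.mp h.symm)
  have hDns : NonScalar (dg _ _ hlm) := by
    right; right
    simp only [dg00, dg11]
    intro heq
    apply hρ
    field_simp at heq
    have h3 : 2 * ρ = 0 := by linear_combination heq
    rcases mul_eq_zero.mp h3 with h4 | h4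
    · exact absurd h4 h2
    · exact h4
  have htr : M 0 0 + M 1 1 = (dg _ _ hlm) 0 0 + (dg _ _ hlm) 1 1 := by
    simp only [dg00, dg11]; rw [← hτ]; field_simp; ring
  have hpow : ((τ + ρ) / 2) ^ n = 1 ∨ ((τ + ρ) / 2) ^ n = -1 := by
    have h1 : ((τ + ρ) / 2) ^ (Fintype.card F - 1) = 1 :=
      FiniteField.pow_card_sub_one_eq_one _ hl0
    have h3 : Fintype.card F - 1 = n * 2 := by omega
    rw [h3, pow_mul] at h1
    have : (((τ + ρ) / 2) ^ n - 1) * (((τ + ρ) / 2) ^ n + 1) = 0 := by
      linear_combination h1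
    rcases mul_eq_zero.mp this with h4 | h4
    · left; linear_combination h4
    · right; linear_combination h4
  apply odd_orderOf_of_pow _ n hnodd
  rw [mk_pow_eq_one_iff]
  have hmu : ((τ - ρ) / 2) ^ n * ((τ + ρ) / 2) ^ n = 1 := by
    rw [← mul_pow, mul_comm, hlm, one_pow]
  rcases hpow with h5 | h5
  · left
    rw [pow_eq_one_iff_of_trace_eq hMns hDns htr, dg_pow]
    rw [h5, mul_one] at hmu
    apply ext2 <;> simp [h5, hmu]
  · right
    rw [pow_eq_neg_one_iff_of_trace_eq hMns hDns htr, dg_pow]
    have hmu' : ((τ - ρ) / 2) ^ n = -1 := by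
      rw [h5] at hmu; linear_combination (-1 : F) * hmu
    apply ext2 <;> simp [h5, hmu']

end orders

end Cfsg.Agent.Lib.Helper2.Ig
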