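import Cfsg.Agent.Lib.Helper2.Ig1

set_option autoImplicit false

/-! Involution graphs, part 2: characteristic two order lemma and the reduction of the graph
statement to a statement about one fixed involution. -/

namespace Cfsg.Agent.Lib.Helper2.Ig

open Matrix Cfsg.Agent.Lib.Helper2.SL2 Cfsg.Agent.Lib.Helper2.Dk Cfsg.Agent.Lib.Helper2.Uq

section chartwo

variable {F : Type*} [Field F]

local notation "SL2" => Matrix.SpecialLinearGroup (Fin 2) F
local notation "PSL2" => Matrix.ProjectiveSpecialLinearGroup (Fin 2) F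

/-- in characteristic two, an element of nonzero trace has odd order -/
theorem odd_orderOf_of_trace_ne_zero [Finite F] [CharP F 2] (M : SL2)
    (htr : M 0 0 + M 1 1 ≠ 0) : Odd (orderOf M) := by
  have h20 : (2 : F) = 0 := by exact_mod_cast CharP.cast_eq_zero F 2
  by_contra hodd
  rw [Nat.not_odd_iff_even] at hodd
  obtain ⟨k, hk⟩ := hodd
  have hpos : 0 < orderOf M := orderOf_pos M
  have hk0 : k ≠ 0 := by rintro rfl; omega
  obtain ⟨j, rfl⟩ : ∃ j, k = j + 1 := ⟨k - 1, by omega⟩
  set N := M ^ (j + 1) with hN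
  have hN2 : N * N = 1 := by
    rw [hN, ← pow_add, ← hk]; exact pow_orderOf_eq_one M
  have hN1 : N ≠ 1 := by
    intro h
    have := orderOf_dvd_of_pow_eq_one h
    have := Nat.le_of_dvd (by omega) this
    omega
  obtain ⟨e00, e01, e10, e11⟩ := pow_entries_luc M j
  rw [← hN] at e00 e01 e10 e11
  set τ := M 0 0 + M 1 1 with hτ
  set u := luc τ (j + 1) with hu
  set v := luc τ j with hv
  have hd := det2 N
  have m00 := mul00 N N
  have m01 := mul01 N N
  have m10 := mul10 N N
  have m11 := mul11 N N
  rw [hN2] at m00 m01 m10 m11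
  rw [one00] at m00
  rw [one01] at m01
  rw [one10] at m10
  rw [one11] at m11
  -- trace of N is zero
  have ht0 : N 0 0 + N 1 1 = 0 := by
    by_contra hne
    have a00 : N 0 0 * (N 0 0 + N 1 1) = 0 := by
      linear_combination (-1 : F) * m00 + hd + h20
    have a11 : N 1 1 * (N 0 0 + N 1 1) = 0 := by
      linear_combination (-1 : F) * m11 + hd + h20
    have a01 : N 0 1 * (N 0 0 + N 1 1) = 0 := by linear_combination (-1 : F) * m01
    have a10 : N 1 0 * (N 0 0 + N 1 1) = 0 := by linear_combination (-1 : F) * m10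
    have b00 := (mul_eq_zero.mp a00).resolve_right hne
    have b11 := (mul_eq_zero.mp a11).resolve_right hne
    have b01 := (mul_eq_zero.mp a01).resolve_right hne
    rw [b00, b11, b01] at hd
    simp at hd
  have hu0 : u = 0 := by
    have : u * τ = 0 := by
      rw [e00, e11] at ht0
      linear_combination ht0 + v * h20
    exact (mul_eq_zero.mp this).resolve_right htr
  rw [hu0] at e00 e01 e10 e11
  have hv1 : v = 1 := by
    have h1 : v * v = 1 := by
      rw [e00, e01, e10, e11] at hd
      linear_combination hd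
    have : (v - 1) * (v - 1) = 0 := by linear_combination h1 - v * h20 + h20
    have := mul_self_eq_zero.mp this
    linear_combination this
  apply hN1
  apply ext2
  · rw [e00, one00, hv1]; linear_combination (-1 : F) * h20
  · rw [e01, one01]; ring
  · rw [e10, one10]; ring
  · rw [e11, one11, hv1]; linear_combination (-1 : F) * h20

theorem odd_of_trace_ne_zero [Finite F] [CharP F 2] (M : SL2)
    (htr : M 0 0 + M 1 1 ≠ 0) : Odd (orderOf (QuotientGroup.mk M : PSL2)) := by
  have h1 := odd_orderOf_of_trace_ne_zero M htr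
  have h2 : orderOf (QuotientGroup.mk M : PSL2) ∣ orderOf M :=
    orderOf_map_dvd (QuotientGroup.mk' (Subgroup.center SL2)) M
  exact Odd.of_dvd_nat h1 h2

end chartwo

section reduction

variable {G : Type*} [Group G]

/-- the graph statement follows from the corresponding statement about one involution -/
theorem graph_main (t t0 : G) (hc : IsConj t t0)
    (H1 : ∀ y : G, IsConj t0 y → y ≠ t0 → Odd (orderOf (t0 * y)) ∨
      ∃ z, IsConj t0 z ∧ z ≠ t0 ∧ z ≠ y ∧ Odd (orderOf (t0 * z)) ∧ Odd (orderOf (z * y)))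
    (H2 : ∃ y : G, IsConj t0 y ∧ y ≠ t0 ∧ ¬ Odd (orderOf (t0 * y)) ∧ ¬ Odd (orderOf (y * t0))) :
    (SimpleGraph.fromRel fun x y : {x : G // IsConj t x} => Odd (orderOf (x.1 * y.1))).Connected ∧
    (SimpleGraph.fromRel fun x y : {x : G // IsConj t x} => Odd (orderOf (x.1 * y.1))).diam = 2 := by
  haveI : Nonempty {x : G // IsConj t x} := ⟨⟨t, IsConj.refl t⟩⟩
  have hconj : ∀ (g a b : G), orderOf ((g * a * g⁻¹) * (g * b * g⁻¹)) = orderOf (a * b) := by
    intro g a b
    have : (g * a * g⁻¹) * (g * b * g⁻¹) = g * (a * b) * g⁻¹ := by group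
    rw [this]
    exact (SemiconjBy.orderOf_eq g (show SemiconjBy g (a * b) (g * (a * b) * g⁻¹) by
      unfold SemiconjBy; group)).symm
  apply connected_and_diam_eq_two
  · rintro ⟨u, hu⟩ ⟨v, hv⟩ huv
    have hu0 : IsConj t0 u := (hc.symm).trans hu
    have hv0 : IsConj t0 v := (hc.symm).trans hv
    obtain ⟨g, hg⟩ := isConj_iff.mp hu0
    -- v' = g⁻¹ v g
    have hv' : IsConj t0 (g⁻¹ * v * g) := by
      refine hv0.trans ?_
      rw [isConj_iff]
      exact ⟨g⁻¹, by simp⟩
    have hne : g⁻¹ * v * g ≠ t0 := by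
      intro h
      apply huv
      apply Subtype.ext
      show u = v
      rw [← hg, ← h]; group
    rcases H1 _ hv' hne with h | ⟨z, hz, hz0, hzv, ho1, ho2⟩
    · left
      rw [SimpleGraph.fromRel_adj]
      refine ⟨huv, Or.inl ?_⟩
      show Odd (orderOf (u * v))
      have : u * v = (g * t0 * g⁻¹) * (g * (g⁻¹ * v * g) * g⁻¹) := by rw [hg]; group
      rw [this, hconj]; exact h
    · right
      have hzc : IsConj t (g * z * g⁻¹) := by
        refine hc.trans (hz.trans ?_)
        rw [isConj_iff]; exact ⟨g, rfl⟩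
      refine ⟨⟨g * z * g⁻¹, hzc⟩, ?_, ?_⟩
      · rw [SimpleGraph.fromRel_adj]
        refine ⟨?_, Or.inl ?_⟩
        · intro h
          apply hz0
          have h' : u = g * z * g⁻¹ := congrArg Subtype.val h
          rw [← hg] at h'
          have : g⁻¹ * (g * t0 * g⁻¹) * g = g⁻¹ * (g * z * g⁻¹) * g := by rw [h']
          simpa [mul_assoc] using this.symm
        · show Odd (orderOf (u * (g * z * g⁻¹)))
          rw [← hg, hconj]; exact ho1
      · rw [SimpleGraph.fromRel_adj]
        refine ⟨?_, Or.inl ?_⟩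
        · intro h
          apply hzv
          have h' : g * z * g⁻¹ = v := congrArg Subtype.val h
          rw [← h']; group
        · show Odd (orderOf ((g * z * g⁻¹) * v))
          have : (g * z * g⁻¹) * v = (g * z * g⁻¹) * (g * (g⁻¹ * v * g) * g⁻¹) := by group
          rw [this, hconj]; exact ho2
  · obtain ⟨y, hy, hy0, hn1, hn2⟩ := H2
    refine ⟨⟨t0, hc⟩, ⟨y, hc.trans hy⟩, ?_, ?_⟩
    · intro h
      exact hy0 (congrArg Subtype.val h).symm
    · rw [SimpleGraph.fromRel_adj]
      rintro ⟨-, h | h⟩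
      · exact hn1 h
      · exact hn2 h

end reduction

end Cfsg.Agent.Lib.Helper2.Ig
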