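import Cfsg.Agent.Lib.Helper2.Ig2

set_option autoImplicit false

/-! Involution graphs, part 3: `PSL(2,F)` in characteristic two. -/

namespace Cfsg.Agent.Lib.Helper2.Ig

open Matrix Cfsg.Agent.Lib.Helper2.SL2 Cfsg.Agent.Lib.Helper2.Dk Cfsg.Agent.Lib.Helper2.Uq

variable {F : Type*} [Field F]

local notation "SL2" => Matrix.SpecialLinearGroup (Fin 2) F
local notation "PSL2" => Matrix.ProjectiveSpecialLinearGroup (Fin 2) F

theorem dg_conj_tt (a b : F) (h : a * b = 1) (c : F) :
    dg a b h * tt c * (dg a b h)⁻¹ = tt (a ^ 2 * c) := by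
  apply ext2 <;>
    simp only [mul00, mul01, mul10, mul11, inv00, inv01, inv10, inv11, tt00, tt01, tt10, tt11,
      dg00, dg01, dg10, dg11]
  · linear_combination h
  · ring
  · ring
  · linear_combination h

theorem neg_one_eq_one_of_char_two [CharP F 2] : (-1 : SL2) = 1 := by
  have h20 : (2 : F) = 0 := by exact_mod_cast CharP.cast_eq_zero F 2
  apply ext2 <;> simp only [neg00, neg01, neg10, neg11, one00, one01, one10, one11]
  · linear_combination (-1 : F) * h20
  · ring
  · ring
  · linear_combination (-1 : F) * h20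

theorem mk_eq_mk_iff_of_char_two [CharP F 2] (A C : SL2) :
    (QuotientGroup.mk A : PSL2) = QuotientGroup.mk C ↔ C = A := by
  rw [mk_eq_mk_iff]
  constructor
  · rintro (h | h)
    · exact h
    · rw [h]
      have : -A = (-1 : SL2) * A := by simp
      rw [this, neg_one_eq_one_of_char_two, one_mul]
  · intro h; exact Or.inl h

theorem isConj_mk_tt [Finite F] [CharP F 2] (c : F) (hc : c ≠ 0) :
    IsConj (QuotientGroup.mk (tt (1 : F)) : PSL2) (QuotientGroup.mk (tt c)) := by
  have hF : ringChar F = 2 := ringChar.eq F 2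
  obtain ⟨d, hd⟩ := FiniteField.isSquare_of_char_two hF c
  have hd0 : d ≠ 0 := by rintro rfl; apply hc; rw [hd]; ring
  rw [isConj_iff]
  refine ⟨QuotientGroup.mk (dg d d⁻¹ (mul_inv_cancel₀ hd0)), ?_⟩
  rw [← QuotientGroup.mk_inv, ← QuotientGroup.mk_mul, ← QuotientGroup.mk_mul, dg_conj_tt]
  congr 2
  rw [hd]; ring

theorem isConj_mk_tt_of_orderOf_two [Finite F] [CharP F 2] (t : PSL2) (ht : orderOf t = 2) :
    IsConj t (QuotientGroup.mk (tt (1 : F)) : PSL2) := by
  haveI : Fact (Nat.Prime 2) := ⟨Nat.prime_two⟩
  obtain ⟨X, rfl⟩ := QuotientGroup.mk_surjective t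
  have h1 : (QuotientGroup.mk X : PSL2) ^ 2 = 1 := by
    have := pow_orderOf_eq_one (QuotientGroup.mk X : PSL2)
    rwa [ht] at this
  have hne : (QuotientGroup.mk X : PSL2) ≠ 1 := by
    intro h; rw [h, orderOf_one] at ht; omega
  have hX2 : X ^ (2 ^ 1) = 1 := by
    rw [pow_one]
    rcases (mk_pow_eq_one_iff X 2).mp h1 with h | h
    · exact h
    · rw [h, neg_one_eq_one_of_char_two]
  have hX1 : X ≠ 1 := by
    rintro rfl; apply hne; rfl
  obtain ⟨u, c, hc, hu⟩ := exists_conj_eq_tt 2 X hX1 1 hX2
  have h3 : IsConj (QuotientGroup.mk X : PSL2) (QuotientGroup.mk (tt c)) := by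
    rw [isConj_iff]
    refine ⟨QuotientGroup.mk u, ?_⟩
    rw [← QuotientGroup.mk_inv, ← QuotientGroup.mk_mul, ← QuotientGroup.mk_mul, hu]
  exact h3.trans (isConj_mk_tt c hc).symm

/-- the characteristic two case -/
theorem char_two_case [Fintype F] [CharP F 2] (hF : 4 ≤ Fintype.card F) (t : PSL2)
    (ht : orderOf t = 2) :
    (SimpleGraph.fromRel fun x y : {x : PSL2 // IsConj t x} =>
        Odd (orderOf (x.1 * y.1))).Connected ∧
    (SimpleGraph.fromRel fun x y : {x : PSL2 // IsConj t x} =>
        Odd (orderOf (x.1 * y.1))).diam = 2 := by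
  have h20 : (2 : F) = 0 := by exact_mod_cast CharP.cast_eq_zero F 2
  apply graph_main t (QuotientGroup.mk (tt (1 : F))) (isConj_mk_tt_of_orderOf_two t ht)
  · -- H1
    intro y hy hy0
    obtain ⟨gq, hg⟩ := isConj_iff.mp hy
    obtain ⟨g, rfl⟩ := QuotientGroup.mk_surjective gq
    rw [← QuotientGroup.mk_inv, ← QuotientGroup.mk_mul, ← QuotientGroup.mk_mul] at hg
    subst hg
    by_cases hr : g 1 0 = 0
    · -- y = tt (p^2)
      right
      have hd := det2 g
      rw [hr, mul_zero, sub_zero] at hd
      have hY : g * tt 1 * g⁻¹ = tt (g 0 0 ^ 2) := by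
        apply ext2 <;>
          simp only [mul00, mul01, mul10, mul11, inv00, inv01, inv10, inv11, tt00, tt01, tt10,
            tt11, hr]
        · linear_combination hd
        · ring
        · ring
        · linear_combination hd
      rw [hY] at hy0 ⊢
      have hp1 : g 0 0 ^ 2 ≠ 1 := by
        intro h; apply hy0; rw [h]
      have hp0 : g 0 0 ^ 2 ≠ 0 := by
        intro h
        have : g 0 0 = 0 := pow_eq_zero_iff (by norm_num) |>.mp h
        rw [this, zero_mul] at hd
        exact zero_ne_one hd
      refine ⟨QuotientGroup.mk (ss (1 : F)), ?_, ?_, ?_, ?_, ?_⟩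
      · rw [isConj_iff]
        refine ⟨QuotientGroup.mk (wInv⁻¹ : SL2), ?_⟩
        rw [← QuotientGroup.mk_inv, ← QuotientGroup.mk_mul, ← QuotientGroup.mk_mul]
        congr 1
        have h1 := wInv_conj_ss (1 : F)
        have h2 : tt (-1 : F) = tt 1 := by
          congr 1; linear_combination (-1 : F) * h20
        rw [h2] at h1
        rw [← h1]; group
      · rw [ne_eq, mk_eq_mk_iff_of_char_two]
        intro h
        have := (entries_of_eq h).2.1
        rw [tt01, ss01] at this
        exact one_ne_zero this
      · rw [ne_eq, mk_eq_mk_iff_of_char_two]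
        intro h
        have := (entries_of_eq h).2.1
        rw [tt01, ss01] at this
        exact hp0 this
      · rw [← QuotientGroup.mk_mul]
        apply odd_of_trace_ne_zero
        simp only [mul00, mul11, tt00, tt01, tt10, tt11, ss00, ss01, ss10, ss11]
        intro h
        apply one_ne_zero (α := F)
        linear_combination h - h20
      · rw [← QuotientGroup.mk_mul]
        apply odd_of_trace_ne_zero
        simp only [mul00, mul11, tt00, tt01, tt10, tt11, ss00, ss01, ss10, ss11]
        intro h
        apply hp0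
        linear_combination h - h20
    · left
      rw [← QuotientGroup.mk_mul]
      apply odd_of_trace_ne_zero
      simp only [mul00, mul01, mul10, mul11, inv00, inv01, inv10, inv11, tt00, tt01, tt10, tt11]
      intro h
      apply hr
      have hd := det2 g
      have : g 1 0 ^ 2 = 0 := by linear_combination (-1 : F) * h + 2 * hd + h20
      exact pow_eq_zero_iff (by norm_num) |>.mp this
  · -- H2
    obtain ⟨s, hs0, hs1⟩ : ∃ s : F, s ≠ 0 ∧ s ≠ 1 := by
      by_contra hcon
      push Not at hcon
      have : Fintype.card F ≤ 2 := by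
        classical
        have hsub : (Finset.univ : Finset F) ⊆ {0, 1} := by
          intro x _
          by_cases hx : x = 0
          · simp [hx]
          · simp [hcon x hx]
        calc Fintype.card F = (Finset.univ : Finset F).card := rfl
          _ ≤ ({0, 1} : Finset F).card := Finset.card_le_card hsub
          _ ≤ 2 := Finset.card_insert_le _ _ |>.trans (by simp)
      omega
    refine ⟨QuotientGroup.mk (tt s), isConj_mk_tt s hs0, ?_, ?_, ?_⟩
    · rw [ne_eq, mk_eq_mk_iff_of_char_two]
      intro h
      exact hs1 (tt_injective h).symm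
    · rw [← QuotientGroup.mk_mul, ← tt_add]
      have h2 : orderOf (QuotientGroup.mk (tt (1 + s)) : PSL2) = 2 := by
        apply orderOf_eq_prime
        · rw [← QuotientGroup.mk_pow, tt_pow]
          have : ((2 : ℕ) : F) * (1 + s) = 0 := by push_cast; linear_combination (1 + s) * h20
          rw [this, tt_zero]; rfl
        · rw [show (1 : PSL2) = QuotientGroup.mk (1 : SL2) from rfl, ne_eq,
            mk_eq_mk_iff_of_char_two]
          intro h
          rw [eq_comm, tt_eq_one_iff] at h
          apply hs1
          linear_combination h - h20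
      rw [h2]; decide
    · rw [← QuotientGroup.mk_mul, ← tt_add]
      have h2 : orderOf (QuotientGroup.mk (tt (s + 1)) : PSL2) = 2 := by
        apply orderOf_eq_prime
        · rw [← QuotientGroup.mk_pow, tt_pow]
          have : ((2 : ℕ) : F) * (s + 1) = 0 := by push_cast; linear_combination (s + 1) * h20
          rw [this, tt_zero]; rfl
        · rw [show (1 : PSL2) = QuotientGroup.mk (1 : SL2) from rfl, ne_eq,
            mk_eq_mk_iff_of_char_two]
          intro h
          rw [eq_comm, tt_eq_one_iff] at h
          apply hs1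
          linear_combination h - h20
      rw [h2]; decide

end Cfsg.Agent.Lib.Helper2.Ig
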