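import Cfsg.Agent.Lib.Helper2.Ig2
import Cfsg.Agent.Lib.Helper14.SL2Order4

set_option autoImplicit false

/-! Involution graphs, part 4: involutions of `PSL(2,F)` in odd characteristic, and the case
`q ≡ 1 (mod 4)`. -/

namespace Cfsg.Agent.Lib.Helper2.Ig

open Matrix Cfsg.Agent.Lib.Helper2.SL2 Cfsg.Agent.Lib.Helper2.Dk Cfsg.Agent.Lib.Helper2.Uq
open Cfsg.Agent.Lib.Helper53 Cfsg.Agent.Lib.Helper14.SL2Order4

variable {F : Type*} [Field F]

local notation "SL2" => Matrix.SpecialLinearGroup (Fin 2) F
local notation "PSL2" => Matrix.ProjectiveSpecialLinearGroup (Fin 2) F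

/-- traceless element of `SL(2,F)` -/
def mkT (x y z : F) (h : x ^ 2 + y * z = -1) : SL2 :=
  ⟨!![x, y; z, -x], by rw [Matrix.det_fin_two_of]; linear_combination (-1 : F) * h⟩

@[simp] theorem mkT00 (x y z : F) (h : x ^ 2 + y * z = -1) : (mkT x y z h) 0 0 = x := rfl
@[simp] theorem mkT01 (x y z : F) (h : x ^ 2 + y * z = -1) : (mkT x y z h) 0 1 = y := rfl
@[simp] theorem mkT10 (x y z : F) (h : x ^ 2 + y * z = -1) : (mkT x y z h) 1 0 = z := rfl
@[simp] theorem mkT11 (x y z : F) (h : x ^ 2 + y * z = -1) : (mkT x y z h) 1 1 = -x := rfl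

theorem sl2w00 : (sl2w F) 0 0 = 0 := rfl
theorem sl2w01 : (sl2w F) 0 1 = -1 := rfl
theorem sl2w10 : (sl2w F) 1 0 = 1 := rfl
theorem sl2w11 : (sl2w F) 1 1 = 0 := rfl

theorem sq_eq_neg_one_of_trace_zero (C : SL2) (h : C 0 0 + C 1 1 = 0) : C * C = -1 := by
  have hd := det2 C
  have h11 : C 1 1 = - C 0 0 := by linear_combination h
  apply ext2 <;> simp only [mul00, mul01, mul10, mul11, neg00, neg01, neg10, neg11, one00, one01,
    one10, one11]
  · rw [h11] at hd; linear_combination (-1 : F) * hd
  · rw [h11]; ring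
  · rw [h11]; ring
  · rw [h11] at hd ⊢; linear_combination (-1 : F) * hd

theorem trace_zero_of_sq_eq_neg_one (h2 : (2 : F) ≠ 0) (B : SL2) (h : B * B = -1) :
    B 0 0 + B 1 1 = 0 := by
  have hd := det2 B
  have m00 := mul00 B B
  have m01 := mul01 B B
  have m10 := mul10 B B
  have m11 := mul11 B B
  rw [h] at m00 m01 m10 m11
  rw [neg00, one00] at m00
  rw [neg01, one01] at m01
  rw [neg10, one10] at m10
  rw [neg11, one11] at m11
  by_contra hne
  have a00 : B 0 0 * (B 0 0 + B 1 1) = 0 := by linear_combination (-1 : F) * m00 + hd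
  have a11 : B 1 1 * (B 0 0 + B 1 1) = 0 := by linear_combination (-1 : F) * m11 + hd
  have a01 : B 0 1 * (B 0 0 + B 1 1) = 0 := by linear_combination (-1 : F) * m01
  have b00 := (mul_eq_zero.mp a00).resolve_right hne
  have b11 := (mul_eq_zero.mp a11).resolve_right hne
  have b01 := (mul_eq_zero.mp a01).resolve_right hne
  rw [b00, b11, b01] at hd
  simp at hd

theorem orderOf_mk_eq_two (h2 : (2 : F) ≠ 0) (C : SL2) (h : C * C = -1) :
    orderOf (QuotientGroup.mk C : PSL2) = 2 := by
  apply orderOf_eq_prime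
  · rw [mk_pow_eq_one_iff]; right; rw [pow_two, h]
  · rw [show (1 : PSL2) = QuotientGroup.mk (1 : SL2) from rfl, ne_eq, mk_eq_mk_iff]
    rintro (h1 | h1)
    · subst h1
      rw [one_mul] at h
      exact Cfsg.Agent.Lib.Helper2.SL2.neg_one_ne_one h2 h.symm
    · have hC : C = -1 := by rw [h1]; simp
      subst hC
      rw [neg_mul_neg, one_mul] at h
      exact Cfsg.Agent.Lib.Helper2.SL2.neg_one_ne_one h2 h.symm

theorem not_odd_of_trace_zero (h2 : (2 : F) ≠ 0) (M : SL2) (h : M 0 0 + M 1 1 = 0) :
    ¬ Odd (orderOf (QuotientGroup.mk M : PSL2)) := by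
  rw [orderOf_mk_eq_two h2 M (sq_eq_neg_one_of_trace_zero M h)]
  decide

section finite

variable [Fintype F]

theorem exists_rep_of_orderOf_two (hF : Odd (Fintype.card F)) (y : PSL2) (hy : orderOf y = 2) :
    ∃ B : SL2, y = QuotientGroup.mk B ∧ B * B = -1 := by
  obtain ⟨g, hg⟩ := exists_conj_w_of_orderOf_two hF y hy
  refine ⟨g * sl2w F * g⁻¹, hg, ?_⟩
  have : g * sl2w F * g⁻¹ * (g * sl2w F * g⁻¹) = g * (sl2w F * sl2w F) * g⁻¹ := by group
  rw [this, sl2w_sq]
  simp

theorem orderOf_eq_two_of_isConj {G : Type*} [Group G] {a b : G} (h : IsConj a b)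
    (ha : orderOf a = 2) : orderOf b = 2 := by
  obtain ⟨g, hg⟩ := isConj_iff.mp h
  rw [← hg]
  rw [← ha]
  exact (SemiconjBy.orderOf_eq g (show SemiconjBy g a (g * a * g⁻¹) by
      unfold SemiconjBy; group)).symm

/-- the case `q ≡ 1 (mod 4)` -/
theorem case_one_mod_four (hq : Fintype.card F % 4 = 1) (t : PSL2)
    (ht : orderOf t = 2) :
    (SimpleGraph.fromRel fun x y : {x : PSL2 // IsConj t x} =>
        Odd (orderOf (x.1 * y.1))).Connected ∧
    (SimpleGraph.fromRel fun x y : {x : PSL2 // IsConj t x} =>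
        Odd (orderOf (x.1 * y.1))).diam = 2 := by
  have hF : Odd (Fintype.card F) := by rw [Nat.odd_iff]; omega
  have h2 : (2 : F) ≠ 0 := two_ne_zero_of_odd_card_field hF
  obtain ⟨i, hi⟩ : IsSquare (-1 : F) := by
    rw [FiniteField.isSquare_neg_one_iff]; omega
  have hi2 : i ^ 2 = -1 := by rw [pow_two, ← hi]
  have hi0 : i ≠ 0 := by
    rintro rfl
    norm_num at hi2
  obtain ⟨p, hchar⟩ := CharP.exists F
  haveI := hchar
  haveI : Fact p.Prime := ⟨CharP.char_is_prime F p⟩
  have hp : p ≠ 2 := by
    rintro rfl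
    apply h2
    exact_mod_cast CharP.cast_eq_zero F 2
  have hdi : i * -i = 1 := by linear_combination (-1 : F) * hi2
  set dI : SL2 := dg i (-i) hdi with hdI
  have hdI2 : dI * dI = -1 := by
    apply sq_eq_neg_one_of_trace_zero
    simp [hdI]
  have ht0 : orderOf (QuotientGroup.mk dI : PSL2) = 2 := orderOf_mk_eq_two h2 dI hdI2
  apply graph_main t (QuotientGroup.mk dI) (part3 hF t _ ht ht0)
  · -- H1
    intro y hy hy0
    have hyo : orderOf y = 2 := orderOf_eq_two_of_isConj hy ht0
    obtain ⟨B, rfl, hB⟩ := exists_rep_of_orderOf_two hF y hyo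
    have htrB := trace_zero_of_sq_eq_neg_one h2 B hB
    have hB11 : B 1 1 = - B 0 0 := by linear_combination htrB
    have hdB := det2 B
    rw [hB11] at hdB
    by_cases hc : B 1 0 = 0
    · left
      rw [← QuotientGroup.mk_mul]
      apply odd_of_trace_two p hp
      simp only [mul00, mul11, hdI, dg00, dg01, dg10, dg11, hB11]
      rw [hc] at hdB
      have ha : (B 0 0 - i) * (B 0 0 + i) = 0 := by linear_combination (-1 : F) * hdB - hi2
      rcases mul_eq_zero.mp ha with h | h
      · right
        have : B 0 0 = i := by linear_combination h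
        rw [this]; linear_combination 2 * hi2
      · left
        have : B 0 0 = -i := by linear_combination h
        rw [this]; linear_combination (-2 : F) * hi2
    · right
      obtain ⟨ε, hε, hεne⟩ : ∃ ε : F, (ε = 1 ∨ ε = -1) ∧ ε - B 0 0 * i ≠ 0 := by
        by_cases ha : 1 - B 0 0 * i = 0
        · refine ⟨-1, Or.inr rfl, ?_⟩
          intro h
          apply h2
          linear_combination ha - h
        · exact ⟨1, Or.inl rfl, ha⟩
      set t' : F := 2 * (ε - B 0 0 * i) / B 1 0 with ht'
      have ht'0 : t' ≠ 0 := by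
        rw [ht']
        exact div_ne_zero (mul_ne_zero h2 hεne) hc
      have hCd : i ^ 2 + t' * 0 = -1 := by rw [mul_zero, add_zero, hi2]
      set C : SL2 := mkT i t' 0 hCd with hC
      have hC2 : C * C = -1 := by
        apply sq_eq_neg_one_of_trace_zero
        simp [hC]
      refine ⟨QuotientGroup.mk C, part3 hF _ _ ht0 (orderOf_mk_eq_two h2 C hC2), ?_, ?_, ?_, ?_⟩
      · rw [ne_eq, eq_comm, mk_eq_mk_iff]
        rintro (h | h)
        · have := (entries_of_eq h).2.1
          rw [hC, hdI] at this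
          simp only [mkT01, dg01] at this
          exact ht'0 this
        · have := (entries_of_eq h).2.1
          rw [hC, hdI] at this
          simp only [mkT01, neg01, dg01, neg_zero] at this
          exact ht'0 this
      · rw [ne_eq, eq_comm, mk_eq_mk_iff]
        rintro (h | h)
        · have := (entries_of_eq h).2.2.1
          rw [hC] at this
          simp only [mkT10] at this
          exact hc this.symm
        · have := (entries_of_eq h).2.2.1
          rw [hC] at this
          simp only [mkT10, neg10] at this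
          apply hc
          exact neg_eq_zero.mp this.symm
      · rw [← QuotientGroup.mk_mul]
        apply odd_of_trace_two p hp
        right
        simp only [mul00, mul11, hdI, hC, dg00, dg01, dg10, dg11, mkT00, mkT01, mkT10, mkT11]
        linear_combination 2 * hi2
      · rw [← QuotientGroup.mk_mul]
        apply odd_of_trace_two p hp
        simp only [mul00, mul11, hC, mkT00, mkT01, mkT10, mkT11, hB11]
        have key : i * B 0 0 + t' * B 1 0 + (0 * B 0 1 + -i * -B 0 0) = 2 * ε := by
          rw [ht']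
          field_simp
          ring
        rw [key]
        rcases hε with h | h
        · left; rw [h]; ring
        · right; rw [h]; ring
  · -- H2
    have hw2 : orderOf (QuotientGroup.mk (sl2w F) : PSL2) = 2 :=
      orderOf_mk_eq_two h2 _ (sl2w_sq F)
    refine ⟨QuotientGroup.mk (sl2w F), part3 hF _ _ ht0 hw2, ?_, ?_, ?_⟩
    · rw [ne_eq, eq_comm, mk_eq_mk_iff]
      rintro (h | h)
      · have := (entries_of_eq h).2.1
        rw [hdI] at this
        simp [sl2w] at this
      · have := (entries_of_eq h).2.1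
        rw [hdI] at this
        simp [sl2w] at this
    · rw [← QuotientGroup.mk_mul]
      apply not_odd_of_trace_zero h2
      rw [mul00, mul11, hdI, dg00, dg01, dg10, dg11, sl2w00, sl2w11]
      ring
    · rw [← QuotientGroup.mk_mul]
      apply not_odd_of_trace_zero h2
      rw [mul00, mul11, hdI, dg00, dg01, dg10, dg11, sl2w00, sl2w11]
      ring

end finite

end Cfsg.Agent.Lib.Helper2.Ig
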