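import Mathlib

set_option autoImplicit false

/-! Involution graphs, part 5a: squares in a finite field with `q ≡ 3 (mod 4)`. -/

namespace Cfsg.Agent.Lib.Helper2.Ig

variable {F : Type*} [Field F] [Fintype F]

theorem not_isSquare_neg_one (hq : Fintype.card F % 4 = 3) : ¬ IsSquare (-1 : F) := by
  rw [FiniteField.isSquare_neg_one_iff]; omega

/-- product of two non-squares is a square -/
theorem isSquare_mul_of_not_of_not {a b : F} (ha : ¬ IsSquare a) (hb : ¬ IsSquare b) :
    IsSquare (a * b) := by
  classical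
  have ha0 : a ≠ 0 := by rintro rfl; exact ha IsSquare.zero
  have hb0 : b ≠ 0 := by rintro rfl; exact hb IsSquare.zero
  rw [← quadraticChar_one_iff_isSquare (mul_ne_zero ha0 hb0), map_mul,
    quadraticChar_neg_one_iff_not_isSquare.mpr ha, quadraticChar_neg_one_iff_not_isSquare.mpr hb]
  norm_num

theorem isSquare_neg_of_not (hq : Fintype.card F % 4 = 3) {a : F} (ha : ¬ IsSquare a) :
    IsSquare (-a) := by
  have := isSquare_mul_of_not_of_not (not_isSquare_neg_one hq) ha
  rwa [neg_one_mul] at this

theorem not_isSquare_neg_of_isSquare (hq : Fintype.card F % 4 = 3) {a : F} (ha0 : a ≠ 0)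
    (ha : IsSquare a) : ¬ IsSquare (-a) := by
  intro h
  apply not_isSquare_neg_one hq
  have : (-1 : F) = -a / a := by field_simp
  rw [this]
  exact h.div ha

/-- cancel a nonzero square factor -/
theorem isSquare_of_mul_left {a b : F} (ha0 : a ≠ 0) (ha : IsSquare a) (hab : IsSquare (a * b)) :
    IsSquare b := by
  have : b = a * b / a := by field_simp
  rw [this]
  exact hab.div ha

theorem sq_add_sq_eq_zero (hq : Fintype.card F % 4 = 3) (a e : F) (h : a ^ 2 + e ^ 2 = 0) :
    a = 0 ∧ e = 0 := by
  have he : e = 0 := by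
    by_contra he
    apply not_isSquare_neg_one hq
    refine ⟨a / e, ?_⟩
    field_simp
    linear_combination (-1 : F) * h
  subst he
  refine ⟨?_, rfl⟩
  have : a ^ 2 = 0 := by linear_combination h
  exact pow_eq_zero_iff (by norm_num) |>.mp this

/-- `P ℓ j = j² - 2 ℓ j + 1` -/
def PP (l j : F) : F := j ^ 2 - 2 * l * j + 1

theorem PP_ne_zero (l : F) (hn : ¬ IsSquare (l ^ 2 - 1)) (j : F) : PP l j ≠ 0 := by
  intro h
  apply hn
  refine ⟨j - l, ?_⟩
  unfold PP at h
  linear_combination (-1 : F) * h

/-- the key existence statement: some pair `j₁, j₂` with `j₁ j₂` a square and `P(j₁) P(j₂)` a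
non-square -/
theorem exists_pair (hq : Fintype.card F % 4 = 3) (hF : 4 ≤ Fintype.card F) (l : F)
    (hn : ¬ IsSquare (l ^ 2 - 1)) :
    ∃ j1 j2 : F, j1 ≠ 0 ∧ j2 ≠ 0 ∧ IsSquare (j1 * j2) ∧ ¬ IsSquare (PP l j1 * PP l j2) := by
  by_contra hcon
  push Not at hcon
  have hP := PP_ne_zero l hn
  have h1m : IsSquare (PP l 1 * PP l (-1)) := by
    obtain ⟨s, hs⟩ := isSquare_neg_of_not hq hn
    refine ⟨2 * s, ?_⟩
    unfold PP
    linear_combination 4 * hs
  have hm0 : (-1 : F) ≠ 0 := neg_ne_zero.mpr one_ne_zero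
  have key : ∀ j : F, j ≠ 0 → IsSquare (PP l 1 * PP l j) := by
    intro j hj
    by_cases hsq : IsSquare j
    · apply hcon 1 j one_ne_zero hj
      rwa [one_mul]
    · have h1 : IsSquare ((-1) * j) := by
        rw [neg_one_mul]; exact isSquare_neg_of_not hq hsq
      have h2 := hcon (-1) j hm0 hj h1
      have h3 := h1m.mul h2
      apply isSquare_of_mul_left (a := PP l (-1) * PP l (-1)) (mul_ne_zero (hP _) (hP _))
        ⟨PP l (-1), rfl⟩
      have : PP l (-1) * PP l (-1) * (PP l 1 * PP l j) =
          PP l 1 * PP l (-1) * (PP l (-1) * PP l j) := by ring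
      rwa [this]
  by_cases h1 : IsSquare (PP l 1)
  · -- all values are squares
    have hall : ∀ j : F, j ≠ 0 → IsSquare (PP l j) := fun j hj =>
      isSquare_of_mul_left (hP 1) h1 (key j hj)
    have hS : ∀ u : F, IsSquare (u ^ 2 - (l ^ 2 - 1)) := by
      intro u
      by_cases hu : u + l = 0
      · refine ⟨1, ?_⟩
        have : u = -l := by linear_combination hu
        rw [this]; ring
      · have := hall (u + l) hu
        unfold PP at this
        have h4 : (u + l) ^ 2 - 2 * l * (u + l) + 1 = u ^ 2 - (l ^ 2 - 1) := by ring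
        rwa [h4] at this
    have hind : ∀ t : ℕ, IsSquare (-(t : F) * (l ^ 2 - 1)) := by
      intro t
      induction t with
      | zero => simp
      | succ t ih =>
        obtain ⟨s, hs⟩ := ih
        have := hS s
        have h5 : s ^ 2 - (l ^ 2 - 1) = -((t + 1 : ℕ) : F) * (l ^ 2 - 1) := by
          push_cast
          linear_combination (-1 : F) * hs
        rwa [h5] at this
    have hcard : ((Fintype.card F - 1 : ℕ) : F) = -1 := by
      rw [Nat.cast_sub (by omega), FiniteField.cast_card_eq_zero]
      simp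
    have := hind (Fintype.card F - 1)
    rw [hcard] at this
    apply hn
    simpa using this
  · -- no value is a square
    have hall : ∀ j : F, j ≠ 0 → ¬ IsSquare (PP l j) := by
      intro j hj hsq
      apply h1
      apply isSquare_of_mul_left (hP j) hsq
      rw [mul_comm]
      exact key j hj
    classical
    obtain ⟨e, he⟩ : ∃ e : F, e ∉ ({0, 1 - l, -1 - l} : Finset F) := by
      by_contra hcon2
      push Not at hcon2
      have hsub : (Finset.univ : Finset F) ⊆ ({0, 1 - l, -1 - l} : Finset F) := fun x _ => hcon2 x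
      have h6 := Finset.card_le_card hsub
      rw [Finset.card_univ] at h6
      have h7 : ({0, 1 - l, -1 - l} : Finset F).card ≤ 3 := Finset.card_le_three
      omega
    simp only [Finset.mem_insert, Finset.mem_singleton, not_or] at he
    obtain ⟨he0, he1, he2⟩ := he
    have h20 : (2 : F) ≠ 0 := by
      intro h20
      apply not_isSquare_neg_one hq
      refine ⟨1, ?_⟩
      linear_combination (-1 : F) * h20
    set n0 := l ^ 2 - 1 with hn0
    set u := (e + n0 / e) / 2 with hu
    set v := (e - n0 / e) / 2 with hv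
    have hj : u + l ≠ 0 := by
      intro h
      rw [hu] at h
      field_simp at h
      have h8 : (e + l - 1) * (e + l + 1) = 0 := by
        rw [hn0] at h
        linear_combination h
      rcases mul_eq_zero.mp h8 with h9 | h9
      · apply he1; linear_combination h9
      · apply he2; linear_combination h9
    apply hall (u + l) hj
    refine ⟨v, ?_⟩
    unfold PP
    rw [hu, hv]
    field_simp
    rw [hn0]
    ring

/-- the parameters of the common neighbour -/
theorem exists_params (hq : Fintype.card F % 4 = 3) (hF : 4 ≤ Fintype.card F) (l : F)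
    (hn : ¬ IsSquare (l ^ 2 - 1)) :
    ∃ L L' m m' σ : F, L ^ 2 - 1 = m ^ 2 ∧ L' ^ 2 - 1 = m' ^ 2 ∧ m ≠ 0 ∧ m' ≠ 0 ∧
      σ ^ 2 = (l ^ 2 - 1) * (L ^ 2 - 1) - (l * L - L') ^ 2 := by
  obtain ⟨j1, j2, hj1, hj2, ⟨k, hk⟩, hns⟩ := exists_pair hq hF l hn
  have h20 : (2 : F) ≠ 0 := by
    intro h20
    apply not_isSquare_neg_one hq
    refine ⟨1, ?_⟩
    linear_combination (-1 : F) * h20
  have hk0 : k ≠ 0 := by
    rintro rfl
    rw [mul_zero] at hk
    exact (mul_ne_zero hj1 hj2) hk
  have hne : j1 ≠ j2 := by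
    rintro rfl
    exact hns ⟨PP l j1, rfl⟩
  have hne1 : j1 * j2 ≠ 1 := by
    intro h
    apply hns
    refine ⟨PP l j1 / j1, ?_⟩
    have : j2 = 1 / j1 := by field_simp; linear_combination h
    rw [this]
    unfold PP
    field_simp
    ring
  obtain ⟨τ, hτ⟩ := isSquare_neg_of_not hq hns
  have hj1' : j1 = k * k / j2 := by field_simp; rw [hk]; ring
  refine ⟨(k + 1 / k) / 2, (k / j2 + j2 / k) / 2, (k - 1 / k) / 2, (k / j2 - j2 / k) / 2,
    τ / (2 * k), ?_, ?_, ?_, ?_, ?_⟩
  · field_simp; ring
  · field_simp; ring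
  · intro h
    apply hne1
    field_simp at h
    rw [hk]
    linear_combination h
  · intro h
    apply hne
    field_simp at h
    have h1 : j1 * j2 = j2 * j2 := by rw [hk]; linear_combination h
    exact mul_right_cancel₀ hj2 h1
  · rw [div_pow, pow_two τ, ← hτ, hj1']
    unfold PP
    field_simp
    ring

end Cfsg.Agent.Lib.Helper2.Ig
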