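import Cfsg.Agent.Lib.Helper2.Ig4
import Cfsg.Agent.Lib.Helper2.Ig5a

set_option autoImplicit false

/-! Involution graphs, part 5b: the case `q ≡ 3 (mod 4)`. -/

namespace Cfsg.Agent.Lib.Helper2.Ig

open Matrix Cfsg.Agent.Lib.Helper2.SL2 Cfsg.Agent.Lib.Helper2.Dk Cfsg.Agent.Lib.Helper2.Uq
open Cfsg.Agent.Lib.Helper53 Cfsg.Agent.Lib.Helper14.SL2Order4

variable {F : Type*} [Field F]

local notation "SL2" => Matrix.SpecialLinearGroup (Fin 2) F
local notation "PSL2" => Matrix.ProjectiveSpecialLinearGroup (Fin 2) F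

theorem nb_det (a e n0 r0 σ L : F) (hn0 : n0 ≠ 0) (hae : a ^ 2 + e ^ 2 = n0)
    (hσ : σ ^ 2 = n0 * (L ^ 2 - 1) - r0 ^ 2) :
    ((r0 * a - σ * e) / n0) ^ 2 + ((r0 * e + σ * a) / n0 - L) * ((r0 * e + σ * a) / n0 + L)
      = -1 := by
  field_simp
  linear_combination (r0 ^ 2 + σ ^ 2) * hae + n0 * hσ

theorem nb_dot (a e n0 r0 σ : F) (hn0 : n0 ≠ 0) (hae : a ^ 2 + e ^ 2 = n0) :
    a * ((r0 * a - σ * e) / n0) + e * ((r0 * e + σ * a) / n0) = r0 := by
  field_simp
  linear_combination r0 * hae

/-- the common neighbour, as a matrix -/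
theorem exists_neighbour (h2 : (2 : F) ≠ 0) (B : SL2) (hB11 : B 1 1 = - B 0 0) (L L' σ : F)
    (hn0 : ((B 1 0 - B 0 1) / 2) ^ 2 - 1 ≠ 0)
    (hσ : σ ^ 2 = (((B 1 0 - B 0 1) / 2) ^ 2 - 1) * (L ^ 2 - 1)
      - ((B 1 0 - B 0 1) / 2 * L - L') ^ 2) :
    ∃ C : SL2, C 0 0 + C 1 1 = 0 ∧ (sl2w F * C) 0 0 + (sl2w F * C) 1 1 = -2 * L ∧
      (C * B) 0 0 + (C * B) 1 1 = -2 * L' := by
  have hd := det2 B
  rw [hB11] at hd
  set a := B 0 0 with ha
  set b := B 0 1 with hb
  set c := B 1 0 with hc
  set l := (c - b) / 2 with hl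
  set e := (b + c) / 2 with he
  set n0 := l ^ 2 - 1 with hn0'
  set r0 := l * L - L' with hr0
  have hbe : b = e - l := by rw [he, hl]; field_simp; ring
  have hce : c = e + l := by rw [he, hl]; field_simp; ring
  have hae : a ^ 2 + e ^ 2 = n0 := by
    rw [hn0']
    rw [hbe, hce] at hd
    linear_combination (-1 : F) * hd
  have hdet := nb_det a e n0 r0 σ L hn0 hae hσ
  have hdot := nb_dot a e n0 r0 σ hn0 hae
  refine ⟨mkT _ _ _ hdet, ?_, ?_, ?_⟩
  · simp only [mkT00, mkT11]; ring
  · simp only [mul00, mul11, mkT00, mkT01, mkT10, mkT11, sl2w00, sl2w01, sl2w10, sl2w11]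
    ring
  · simp only [mul00, mul11, mkT00, mkT01, mkT10, mkT11, hB11]
    rw [← ha, ← hb, ← hc, hbe, hce]
    linear_combination 2 * hdot

section finite

variable [Fintype F]

/-- the case `q ≡ 3 (mod 4)` -/
theorem case_three_mod_four (hq : Fintype.card F % 4 = 3) (hF4 : 4 ≤ Fintype.card F) (t : PSL2)
    (ht : orderOf t = 2) :
    (SimpleGraph.fromRel fun x y : {x : PSL2 // IsConj t x} =>
        Odd (orderOf (x.1 * y.1))).Connected ∧
    (SimpleGraph.fromRel fun x y : {x : PSL2 // IsConj t x} =>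
        Odd (orderOf (x.1 * y.1))).diam = 2 := by
  have hF : Odd (Fintype.card F) := by rw [Nat.odd_iff]; omega
  have h2 : (2 : F) ≠ 0 := two_ne_zero_of_odd_card_field hF
  have hw2 : orderOf (QuotientGroup.mk (sl2w F) : PSL2) = 2 :=
    orderOf_mk_eq_two h2 _ (sl2w_sq F)
  apply graph_main t (QuotientGroup.mk (sl2w F)) (part3 hF t _ ht hw2)
  · -- H1
    intro y hy hy0
    have hyo : orderOf y = 2 := orderOf_eq_two_of_isConj hy hw2
    obtain ⟨B, rfl, hB⟩ := exists_rep_of_orderOf_two hF y hyo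
    have htrB := trace_zero_of_sq_eq_neg_one h2 B hB
    have hB11 : B 1 1 = - B 0 0 := by linear_combination htrB
    have hdB := det2 B
    rw [hB11] at hdB
    have htrwB : (sl2w F * B) 0 0 + (sl2w F * B) 1 1 = -2 * ((B 1 0 - B 0 1) / 2) := by
      simp only [mul00, mul11, sl2w00, sl2w01, sl2w10, sl2w11]
      field_simp
      ring
    by_cases hsq : IsSquare (((B 1 0 - B 0 1) / 2) ^ 2 - 1)
    · obtain ⟨ρ, hρ⟩ := hsq
      by_cases hρ0 : ρ = 0
      · exfalso
        rw [hρ0, mul_zero] at hρ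
        have hae : (B 0 0) ^ 2 + ((B 0 1 + B 1 0) / 2) ^ 2 = 0 := by
          field_simp
          field_simp at hρ
          linear_combination hρ - 4 * hdB
        obtain ⟨ha0, he0⟩ := sq_add_sq_eq_zero hq _ _ hae
        have hbc : B 0 1 = - B 1 0 := by
          field_simp at he0
          linear_combination he0
        rw [hbc] at hρ
        have hc1 : (B 1 0 - 1) * (B 1 0 + 1) = 0 := by
          have h3 : (B 1 0 - - B 1 0) / 2 = B 1 0 := by field_simp; ring
          rw [h3] at hρ
          linear_combination hρ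
        apply hy0
        rw [mk_eq_mk_iff]
        rcases mul_eq_zero.mp hc1 with h | h
        · left
          have hc : B 1 0 = 1 := by linear_combination h
          apply ext2 <;> simp [sl2w00, sl2w01, sl2w10, sl2w11, ha0, hbc, hc, hB11]
        · right
          have hc : B 1 0 = -1 := by linear_combination h
          apply ext2 <;> simp [sl2w00, sl2w01, sl2w10, sl2w11, ha0, hbc, hc, hB11]
      · left
        rw [← QuotientGroup.mk_mul]
        apply odd_of_split hq _ (2 * ρ) (mul_ne_zero h2 hρ0)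
        rw [htrwB]
        linear_combination 4 * hρ
    · right
      obtain ⟨L, L', m, m', σ, hLm, hLm', hm, hm', hσ⟩ := exists_params hq hF4 _ hsq
      have hn0 : ((B 1 0 - B 0 1) / 2) ^ 2 - 1 ≠ 0 := by
        intro h
        rw [h] at hsq
        exact hsq IsSquare.zero
      obtain ⟨C, hC0, hCw, hCB⟩ := exists_neighbour h2 B hB11 L L' σ hn0 hσ
      have hC2 : C * C = -1 := sq_eq_neg_one_of_trace_zero C hC0
      have hm2 : (2 * m) ^ 2 ≠ 0 := pow_ne_zero 2 (mul_ne_zero h2 hm)
      have hm2' : (2 * m') ^ 2 ≠ 0 := pow_ne_zero 2 (mul_ne_zero h2 hm')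
      have hsplit1 : ((sl2w F * C) 0 0 + (sl2w F * C) 1 1) ^ 2 - 4 = (2 * m) ^ 2 := by
        rw [hCw]; linear_combination 4 * hLm
      have hsplit2 : ((C * B) 0 0 + (C * B) 1 1) ^ 2 - 4 = (2 * m') ^ 2 := by
        rw [hCB]; linear_combination 4 * hLm'
      refine ⟨QuotientGroup.mk C, part3 hF _ _ hw2 (orderOf_mk_eq_two h2 C hC2), ?_, ?_, ?_, ?_⟩
      · rw [ne_eq, eq_comm, mk_eq_mk_iff]
        rintro (h | h)
        · apply hm2
          rw [← hsplit1, h, sl2w_sq]
          simp only [neg00, neg11, one00, one11]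
          ring
        · apply hm2
          rw [← hsplit1, h, mul_neg, sl2w_sq, neg_neg]
          simp only [one00, one11]
          ring
      · rw [ne_eq, mk_eq_mk_iff]
        rintro (h | h)
        · apply hm2'
          rw [← hsplit2, h, hC2]
          simp only [neg00, neg11, one00, one11]
          ring
        · apply hm2'
          rw [← hsplit2, h, mul_neg, hC2, neg_neg]
          simp only [one00, one11]
          ring
      · rw [← QuotientGroup.mk_mul]
        exact odd_of_split hq _ (2 * m) (mul_ne_zero h2 hm) hsplit1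
      · rw [← QuotientGroup.mk_mul]
        exact odd_of_split hq _ (2 * m') (mul_ne_zero h2 hm') hsplit2
  · -- H2
    obtain ⟨a, b, hab⟩ := exists_sq_add_sq_of_odd_card hF (-1 : F)
    have hd : a ^ 2 + b * b = -1 := by linear_combination hab
    refine ⟨QuotientGroup.mk (mkT a b b hd), part3 hF _ _ hw2 (orderOf_mk_eq_two h2 _
      (sq_eq_neg_one_of_trace_zero _ (by simp))), ?_, ?_, ?_⟩
    · rw [ne_eq, eq_comm, mk_eq_mk_iff]
      rintro (h | h)
      · have h01 := (entries_of_eq h).2.1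
        have h10 := (entries_of_eq h).2.2.1
        simp only [mkT01, mkT10, sl2w01, sl2w10] at h01 h10
        apply h2
        linear_combination h01 - h10
      · have h01 := (entries_of_eq h).2.1
        have h10 := (entries_of_eq h).2.2.1
        simp only [mkT01, mkT10, neg01, neg10, sl2w01, sl2w10] at h01 h10
        apply h2
        linear_combination h10 - h01
    · rw [← QuotientGroup.mk_mul]
      apply not_odd_of_trace_zero h2
      simp only [mul00, mul11, mkT00, mkT01, mkT10, mkT11, sl2w00, sl2w01, sl2w10, sl2w11]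
      ring
    · rw [← QuotientGroup.mk_mul]
      apply not_odd_of_trace_zero h2
      simp only [mul00, mul11, mkT00, mkT01, mkT10, mkT11, sl2w00, sl2w01, sl2w10, sl2w11]
      ring

end finite

end Cfsg.Agent.Lib.Helper2.Ig
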