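import Mathlib
import Cfsg.Statements.S1305

/-! # S1305 "Mc hive" (helper22), leaf MC7: the diagonal case is impossible (rank count).
Self-contained (Mathlib + Prelude only): the injectivity of `x ↦ x x^a` on `J` (from `|J| ≤ |K|`)
replaces the three-subgroups argument of MC7b. -/

set_option autoImplicit false
open Cfsg Subgroup

namespace Cfsg.Agent.Lib.Helper2.McSeven

universe u

variable {G : Type u} [Group G]

theorem mc7_comm_of_comm {A : Subgroup G} (h : IsMulCommutative ↥A) {x y : G} (hx : x ∈ A)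
    (hy : y ∈ A) : x * y = y * x :=
  congrArg Subtype.val (h.is_comm.comm ⟨x, hx⟩ ⟨y, hy⟩)

theorem mc7_conj_mem (a : G) (J : Subgroup G) {x : G} (hx : x ∈ J) :
    a * x * a⁻¹ ∈ J.map (MulAut.conj a).toMonoidHom :=
  Subgroup.mem_map.mpr ⟨x, hx, by simp [MulAut.conj_apply]⟩

theorem mc7_exists_of_mem_conj (a : G) (J : Subgroup G) {y : G}
    (hy : y ∈ J.map (MulAut.conj a).toMonoidHom) : ∃ x ∈ J, y = a * x * a⁻¹ := by
  obtain ⟨x, hx, rfl⟩ := Subgroup.mem_map.mp hy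
  exact ⟨x, hx, by simp [MulAut.conj_apply]⟩

/-- `x ↦ x x^a` is multiplicative on `J` when `J` and `J^a` commute. -/
theorem mc7_psi_mul (a : G) (J : Subgroup G)
    (hcomm : ∀ x ∈ J, ∀ y ∈ J.map (MulAut.conj a).toMonoidHom, x * y = y * x)
    {x y : G} (hx : x ∈ J) (hy : y ∈ J) :
    (x * y) * (a * (x * y) * a⁻¹) = (x * (a * x * a⁻¹)) * (y * (a * y * a⁻¹)) := by
  have h1 := hcomm y hy (a * x * a⁻¹) (mc7_conj_mem a J hx)
  calc (x * y) * (a * (x * y) * a⁻¹) = x * (y * (a * x * a⁻¹)) * (a * y * a⁻¹) := by group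
    _ = x * ((a * x * a⁻¹) * y) * (a * y * a⁻¹) := by rw [h1]
    _ = (x * (a * x * a⁻¹)) * (y * (a * y * a⁻¹)) := by group

/-- `x ↦ x x^a` is injective on `J` when it maps onto `K` and `|J| ≤ |K|`. -/
theorem mc7_psi_inj [Finite G] (a : G) (K J : Subgroup G)
    (hdiag : ∀ k, k ∈ K ↔ ∃ x ∈ J, k = x * (a * x * a⁻¹))
    (hcard : Nat.card J ≤ Nat.card K) :
    ∀ x ∈ J, ∀ y ∈ J, x * (a * x * a⁻¹) = y * (a * y * a⁻¹) → x = y := by
  intro x hx y hy hxy
  let f : ↥J → ↥K := fun z => ⟨z.1 * (a * z.1 * a⁻¹), (hdiag _).mpr ⟨z.1, z.2, rfl⟩⟩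
  have hsurj : Function.Surjective f := by
    rintro ⟨k, hk⟩
    obtain ⟨z, hz, rfl⟩ := (hdiag k).mp hk
    exact ⟨⟨z, hz⟩, rfl⟩
  have hbij := hsurj.bijective_of_nat_card_le hcard
  have h1 : f ⟨x, hx⟩ = f ⟨y, hy⟩ := Subtype.ext hxy
  exact congrArg Subtype.val (hbij.1 h1)

/-- two elements carrying `J` onto the same subgroup differ by an element mapping `J` into `J`. -/
theorem mc7_conj_into (J Ja : Subgroup G) (β β2 : G)
    (h1 : J.map (MulAut.conj β).toMonoidHom = Ja) (h2 : J.map (MulAut.conj β2).toMonoidHom = Ja)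
    {x : G} (hx : x ∈ J) : (β2⁻¹ * β) * x * (β2⁻¹ * β)⁻¹ ∈ J := by
  have h3 : β * x * β⁻¹ ∈ Ja := by
    rw [← h1]; exact mc7_conj_mem β J hx
  rw [← h2] at h3
  obtain ⟨x', hx', hxe⟩ := mc7_exists_of_mem_conj β2 J h3
  have h4 : (β2⁻¹ * β) * x * (β2⁻¹ * β)⁻¹ = x' := by
    calc (β2⁻¹ * β) * x * (β2⁻¹ * β)⁻¹ = β2⁻¹ * (β * x * β⁻¹) * β2 := by group
      _ = β2⁻¹ * (β2 * x' * β2⁻¹) * β2 := by rw [hxe]
      _ = x' := by group
  rw [h4]; exact hx'

theorem mc7_mem_normalizer (J Ja : Subgroup G) (β β2 : G)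
    (h1 : J.map (MulAut.conj β).toMonoidHom = Ja) (h2 : J.map (MulAut.conj β2).toMonoidHom = Ja) :
    β2⁻¹ * β ∈ normalizer (J : Set G) := by
  rw [Subgroup.mem_normalizer_iff]
  intro x
  constructor
  · intro hx
    exact mc7_conj_into J Ja β β2 h1 h2 hx
  · intro hx
    have h5 := mc7_conj_into J Ja β2 β h2 h1 hx
    have h6 : (β⁻¹ * β2) * ((β2⁻¹ * β) * x * (β2⁻¹ * β)⁻¹) * (β⁻¹ * β2)⁻¹ = x := by group
    rw [h6] at h5
    exact h5


/-- `|B| ≤ 2 |B ⊓ N(J)|` when every element of `B` carries `J` to `J` or to `Ja`. -/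
theorem mc7_index_two [Finite G] (J Ja B : Subgroup G)
    (hperm : ∀ β ∈ B, J.map (MulAut.conj β).toMonoidHom = J ∨
      J.map (MulAut.conj β).toMonoidHom = Ja) :
    Nat.card ↥B ≤ 2 * Nat.card ↥(B ⊓ normalizer (J : Set G)) := by
  classical
  by_cases hex : ∃ β2 ∈ B, β2 ∉ normalizer (J : Set G)
  · obtain ⟨β2, hβ2, hβ2n⟩ := hex
    have hnotJ : ∀ β ∈ B, β ∉ normalizer (J : Set G) →
        J.map (MulAut.conj β).toMonoidHom = Ja := by
      intro β hβ hn
      rcases hperm β hβ with h | h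
      · exfalso
        apply hn
        rw [Subgroup.mem_normalizer_iff_map_conj_eq]
        rw [MulEquiv.toMonoidHom_eq_coe] at h
        exact h
      · exact h
    have h2 := hnotJ β2 hβ2 hβ2n
    let f : ↥B → ↥(B ⊓ normalizer (J : Set G)) × Bool := fun β =>
      if h : (β : G) ∈ normalizer (J : Set G) then (⟨β.1, ⟨β.2, h⟩⟩, false)
      else (⟨β2⁻¹ * β.1, ⟨B.mul_mem (B.inv_mem hβ2) β.2,
        mc7_mem_normalizer J Ja β.1 β2 (hnotJ β.1 β.2 h) h2⟩⟩, true)
    have hf : Function.Injective f := by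
      intro β β' hff
      by_cases h : (β : G) ∈ normalizer (J : Set G) <;>
        by_cases h' : (β' : G) ∈ normalizer (J : Set G)
      · simp only [f, dif_pos h, dif_pos h', Prod.mk.injEq, and_true] at hff
        have h9 : (β : G) = β' :=
          congrArg (fun z : ↥(B ⊓ normalizer (J : Set G)) => (z : G)) hff
        exact Subtype.ext h9
      · simp only [f, dif_pos h, dif_neg h', Prod.mk.injEq] at hff
        exact absurd hff.2 (by simp)
      · simp only [f, dif_neg h, dif_pos h', Prod.mk.injEq] at hff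
        exact absurd hff.2 (by simp)
      · simp only [f, dif_neg h, dif_neg h', Prod.mk.injEq, and_true] at hff
        have h9 : β2⁻¹ * (β : G) = β2⁻¹ * β' :=
          congrArg (fun z : ↥(B ⊓ normalizer (J : Set G)) => (z : G)) hff
        exact Subtype.ext (mul_left_cancel h9)
    have h3 := Nat.card_le_card_of_injective f hf
    rw [Nat.card_prod, Nat.card_eq_fintype_card (α := Bool), Fintype.card_bool] at h3
    omega
  · push Not at hex
    have hle : B ≤ B ⊓ normalizer (J : Set G) := fun β hβ => ⟨hβ, hex β hβ⟩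
    have := Subgroup.card_le_of_le hle
    omega

/-- the iso `J ≃* K`, `x ↦ x x^a`, transports elementary abelian subgroups of `K` into `J^a`. -/
theorem mc7_transport [Finite G] (a : G) (K J : Subgroup G)
    (hcomm : ∀ x ∈ J, ∀ y ∈ J.map (MulAut.conj a).toMonoidHom, x * y = y * x)
    (hdiag : ∀ k, k ∈ K ↔ ∃ x ∈ J, k = x * (a * x * a⁻¹))
    (hcard : Nat.card J ≤ Nat.card K)
    (A0 : Subgroup ↥K) (hA0c : IsMulCommutative ↥A0) (hA0e : ∀ x ∈ A0, x ^ 2 = 1) :
    ∃ A' : Subgroup G, A' ≤ J.map (MulAut.conj a).toMonoidHom ∧ IsMulCommutative ↥A' ∧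
      (∀ y ∈ A', y * y = 1) ∧ Nat.card ↥A' = Nat.card ↥A0 := by
  classical
  let ψ : ↥J →* ↥K :=
    MonoidHom.mk' (fun z => ⟨z.1 * (a * z.1 * a⁻¹), (hdiag _).mpr ⟨z.1, z.2, rfl⟩⟩)
      (fun x y => Subtype.ext (mc7_psi_mul a J hcomm x.2 y.2))
  have hsurj : Function.Surjective ψ := by
    rintro ⟨k, hk⟩
    obtain ⟨z, hz, rfl⟩ := (hdiag k).mp hk
    exact ⟨⟨z, hz⟩, rfl⟩
  have hbij : Function.Bijective ψ := hsurj.bijective_of_nat_card_le hcard
  let e : ↥J ≃* ↥K := MulEquiv.ofBijective ψ hbij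
  let φ : ↥K →* G := ((MulAut.conj a).toMonoidHom.comp J.subtype).comp e.symm.toMonoidHom
  have hφ : ∀ k, φ k = a * ((e.symm k : ↥J) : G) * a⁻¹ := fun k => by
    simp [φ, MulAut.conj_apply]
  have hφinj : Function.Injective φ := by
    intro k k' h
    rw [hφ, hφ] at h
    have h1 : ((e.symm k : ↥J) : G) = ((e.symm k' : ↥J) : G) := by
      calc ((e.symm k : ↥J) : G) = a⁻¹ * (a * ((e.symm k : ↥J) : G) * a⁻¹) * a := by group
        _ = a⁻¹ * (a * ((e.symm k' : ↥J) : G) * a⁻¹) * a := by rw [h]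
        _ = ((e.symm k' : ↥J) : G) := by group
    exact e.symm.injective (Subtype.ext h1)
  refine ⟨A0.map φ, ?_, ?_, ?_, ?_⟩
  · rintro y ⟨k, hk, rfl⟩
    rw [hφ]
    exact mc7_conj_mem a J (e.symm k).2
  · have := hA0c
    infer_instance
  · rintro y ⟨k, hk, rfl⟩
    have := hA0e k hk
    rw [← map_mul, ← pow_two, this, map_one]
  · exact Subgroup.card_map_of_injective hφinj

/-- the internal direct product of two commuting elementary abelian subgroups meeting
trivially. -/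
theorem mc7_prod [Finite G] (B0 A' : Subgroup G)
    (hB0c : ∀ β ∈ B0, ∀ β' ∈ B0, β * β' = β' * β) (hA'c : ∀ y ∈ A', ∀ y' ∈ A', y * y' = y' * y)
    (hB0e : ∀ β ∈ B0, β * β = 1) (hA'e : ∀ y ∈ A', y * y = 1)
    (hcross : ∀ β ∈ B0, ∀ y ∈ A', β * y = y * β)
    (hcap : ∀ w ∈ B0, w ∈ A' → w = 1) :
    ∃ E : Subgroup G, IsMulCommutative ↥E ∧ (∀ g ∈ E, g ^ 2 = 1) ∧
      (∀ g ∈ E, ∃ β ∈ B0, ∃ y ∈ A', g = β * y) ∧
      Nat.card ↥B0 * Nat.card ↥A' ≤ Nat.card ↥E := by
  classical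
  let E : Subgroup G :=
    { carrier := {g | ∃ β ∈ B0, ∃ y ∈ A', g = β * y}
      one_mem' := ⟨1, B0.one_mem, 1, A'.one_mem, by simp⟩
      mul_mem' := by
        rintro _ _ ⟨β, hβ, y, hy, rfl⟩ ⟨β', hβ', y', hy', rfl⟩
        refine ⟨β * β', B0.mul_mem hβ hβ', y * y', A'.mul_mem hy hy', ?_⟩
        have h := hcross β' hβ' y hy
        calc β * y * (β' * y') = β * (y * β') * y' := by group
          _ = β * (β' * y) * y' := by rw [h]
          _ = β * β' * (y * y') := by group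
      inv_mem' := by
        rintro _ ⟨β, hβ, y, hy, rfl⟩
        refine ⟨β⁻¹, B0.inv_mem hβ, y⁻¹, A'.inv_mem hy, ?_⟩
        have h := hcross β⁻¹ (B0.inv_mem hβ) y⁻¹ (A'.inv_mem hy)
        calc (β * y)⁻¹ = y⁻¹ * β⁻¹ := by group
          _ = β⁻¹ * y⁻¹ := h.symm }
  have hEmem : ∀ g, g ∈ E ↔ ∃ β ∈ B0, ∃ y ∈ A', g = β * y := fun g => Iff.rfl
  refine ⟨E, ⟨⟨fun g g' => ?_⟩⟩, ?_, fun g hg => (hEmem g).mp hg, ?_⟩
  · obtain ⟨β, hβ, y, hy, hg⟩ := (hEmem _).mp g.2
    obtain ⟨β', hβ', y', hy', hg'⟩ := (hEmem _).mp g'.2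
    apply Subtype.ext
    show (g : G) * (g' : G) = (g' : G) * (g : G)
    rw [hg, hg']
    have h1 := hcross β' hβ' y hy
    have h2 := hcross β hβ y' hy'
    have h3 := hB0c β hβ β' hβ'
    have h4 := hA'c y hy y' hy'
    calc β * y * (β' * y') = β * (y * β') * y' := by group
      _ = β * (β' * y) * y' := by rw [h1]
      _ = (β * β') * (y * y') := by group
      _ = (β' * β) * (y' * y) := by rw [h3, h4]
      _ = β' * (β * y') * y := by group
      _ = β' * (y' * β) * y := by rw [h2]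
      _ = β' * y' * (β * y) := by group
  · intro g hg
    obtain ⟨β, hβ, y, hy, rfl⟩ := (hEmem _).mp hg
    have h1 := hcross β hβ y hy
    calc (β * y) ^ 2 = β * (y * β) * y := by rw [pow_two]; group
      _ = β * (β * y) * y := by rw [h1]
      _ = (β * β) * (y * y) := by group
      _ = 1 := by rw [hB0e β hβ, hA'e y hy, one_mul]
  · let f : ↥B0 × ↥A' → ↥E := fun p => ⟨p.1.1 * p.2.1, (hEmem _).mpr ⟨p.1.1, p.1.2, p.2.1, p.2.2, rfl⟩⟩
    have hf : Function.Injective f := by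
      rintro ⟨⟨β, hβ⟩, ⟨y, hy⟩⟩ ⟨⟨β', hβ'⟩, ⟨y', hy'⟩⟩ h
      have h0 : β * y = β' * y' := congrArg Subtype.val h
      have h1 : β'⁻¹ * β = y' * y⁻¹ := by
        calc β'⁻¹ * β = β'⁻¹ * (β * y) * y⁻¹ := by group
          _ = β'⁻¹ * (β' * y') * y⁻¹ := by rw [h0]
          _ = y' * y⁻¹ := by group
      have h2 : β'⁻¹ * β = 1 :=
        hcap _ (B0.mul_mem (B0.inv_mem hβ') hβ) (h1 ▸ A'.mul_mem hy' (A'.inv_mem hy))
      have h3 : β = β' := by
        calc β = β' * (β'⁻¹ * β) := by group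
          _ = β' := by rw [h2, mul_one]
      have h4 : y = y' := by
        subst h3
        exact mul_left_cancel h0
      subst h3; subst h4; rfl
    have h5 := Nat.card_le_card_of_injective f hf
    rwa [Nat.card_prod] at h5

end Cfsg.Agent.Lib.Helper2.McSeven

namespace Cfsg.Agent.Lib.Helper22.Mc

open Cfsg.Agent.Lib.Helper2.McSeven

universe u

/-- MC7. The diagonal case is impossible. -/
theorem mc7 {G : Type u} [Group G] [Finite G] (a b : G) (ha : orderOf a = 2) (hab : a * b = b * a)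
    (K J : Subgroup G) (hJq : IsQuasisimple ↥J) (hJa : J.map (MulAut.conj a).toMonoidHom ≠ J)
    (hcomm : ∀ x ∈ J, ∀ y ∈ J.map (MulAut.conj a).toMonoidHom, x * y = y * x)
    (hdiag : ∀ k, k ∈ K ↔ ∃ x ∈ J, k = x * (a * x * a⁻¹))
    (hcard : Nat.card J ≤ Nat.card K)
    (hJb : J ≤ centralizer ({b} : Set G))
    (hrk : ¬ PRankLE 2 1 ↥K)
    (B : Subgroup G) (hBle : B ≤ centralizer ({a} : Set G) ⊓ centralizer (K : Set G))
    (hBel : IsElementaryAbelian 2 B)
    (hBmax : ∀ B' : Subgroup G, B' ≤ centralizer ({a} : Set G) ⊓ centralizer (K : Set G) →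
      IsElementaryAbelian 2 B' → Nat.card ↥B' ≤ Nat.card ↥B)
    (hbB : b ∈ B)
    (hperm : ∀ β ∈ B, J.map (MulAut.conj β).toMonoidHom = J ∨
      J.map (MulAut.conj β).toMonoidHom = J.map (MulAut.conj a).toMonoidHom)
    (htransfer : ∀ k : ℕ,
      PRankLE 2 k ↥(centralizer ({a} : Set G) ⊓ centralizer (K : Set G)) →
      PRankLE 2 k ↥(centralizer ({b} : Set G) ⊓ centralizer (J : Set G))) :
    False := by
  classical
  have ha2 : a * a = 1 := by rw [← pow_two, ← ha, pow_orderOf_eq_one]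
  have hinj := mc7_psi_inj a K J hdiag hcard
  -- elements of `B`
  have hBa : ∀ β ∈ B, β * a = a * β := fun β hβ =>
    Subgroup.mem_centralizer_singleton_iff.mp (hBle hβ).1
  have hBai : ∀ β ∈ B, β * a⁻¹ = a⁻¹ * β := fun β hβ => by
    have h := hBa β hβ
    calc β * a⁻¹ = a⁻¹ * (a * β) * a⁻¹ := by group
      _ = a⁻¹ * (β * a) * a⁻¹ := by rw [h]
      _ = a⁻¹ * β := by group
  have hBK : ∀ β ∈ B, ∀ k ∈ K, k * β = β * k := fun β hβ k hk =>
    (Subgroup.mem_centralizer_iff.mp (hBle hβ).2) k hk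
  have hBsq : ∀ β ∈ B, β * β = 1 := fun β hβ => by
    have := hBel.2 β hβ; rwa [pow_two] at this
  set B0 : Subgroup G := B ⊓ normalizer (J : Set G) with hB0
  have hidx : Nat.card ↥B ≤ 2 * Nat.card ↥B0 :=
    mc7_index_two J (J.map (MulAut.conj a).toMonoidHom) B hperm
  -- `B0` centralizes `J`
  have hB0J : ∀ β ∈ B0, ∀ x ∈ J, β * x = x * β := by
    intro β hβ x hx
    have hβB : β ∈ B := hβ.1
    have hxJ : β * x * β⁻¹ ∈ J := (Subgroup.mem_normalizer_iff.mp hβ.2 x).mp hx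
    have hk : x * (a * x * a⁻¹) ∈ K := (hdiag _).mpr ⟨x, hx, rfl⟩
    have h1 := hBK β hβB _ hk
    have h2 : (β * x * β⁻¹) * (a * (β * x * β⁻¹) * a⁻¹) = x * (a * x * a⁻¹) := by
      have e1 : a * β = β * a := (hBa β hβB).symm
      have e2 : β⁻¹ * a⁻¹ = a⁻¹ * β⁻¹ := by
        have := hBa β hβB
        calc β⁻¹ * a⁻¹ = (a * β)⁻¹ := by group
          _ = (β * a)⁻¹ := by rw [this]
          _ = a⁻¹ * β⁻¹ := by group
      calc (β * x * β⁻¹) * (a * (β * x * β⁻¹) * a⁻¹)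
          = β * x * β⁻¹ * ((a * β) * x * (β⁻¹ * a⁻¹)) := by group
        _ = β * x * β⁻¹ * ((β * a) * x * (a⁻¹ * β⁻¹)) := by rw [e1, e2]
        _ = β * (x * (a * x * a⁻¹)) * β⁻¹ := by group
        _ = (x * (a * x * a⁻¹)) * β * β⁻¹ := by rw [← h1]
        _ = x * (a * x * a⁻¹) := by group
    have h3 := hinj _ hxJ _ hx h2
    calc β * x = (β * x * β⁻¹) * β := by group
      _ = x * β := by rw [h3]
  -- `B0` centralizes `J^a`
  have hB0Ja : ∀ β ∈ B0, ∀ y ∈ J.map (MulAut.conj a).toMonoidHom, β * y = y * β := by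
    intro β hβ y hy
    obtain ⟨x, hx, rfl⟩ := mc7_exists_of_mem_conj a J hy
    have h1 := hB0J β hβ x hx
    have h2 := hBa β hβ.1
    have h3 := hBai β hβ.1
    calc β * (a * x * a⁻¹) = (β * a) * x * a⁻¹ := by group
      _ = (a * β) * x * a⁻¹ := by rw [h2]
      _ = a * (β * x) * a⁻¹ := by group
      _ = a * (x * β) * a⁻¹ := by rw [h1]
      _ = a * x * (β * a⁻¹) := by group
      _ = a * x * (a⁻¹ * β) := by rw [h3]
      _ = a * x * a⁻¹ * β := by group
  -- `B0 ∩ J^a = 1`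
  have hB0cap : ∀ w ∈ B0, w ∈ J.map (MulAut.conj a).toMonoidHom → w = 1 := by
    intro w hw hwJa
    obtain ⟨x, hx, hwx⟩ := mc7_exists_of_mem_conj a J hwJa
    have h1 := hBa w hw.1
    have hxw : x = w := by
      calc x = a⁻¹ * (a * x * a⁻¹) * a := by group
        _ = a⁻¹ * w * a := by rw [← hwx]
        _ = a⁻¹ * (w * a) := by group
        _ = a⁻¹ * (a * w) := by rw [h1]
        _ = w := by group
    have hwJ : w ∈ J := hxw ▸ hx
    have h2 : w * (a * w * a⁻¹) = 1 * (a * 1 * a⁻¹) := by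
      have : a * w * a⁻¹ = w := by
        calc a * w * a⁻¹ = (a * w) * a⁻¹ := by group
          _ = (w * a) * a⁻¹ := by rw [h1]
          _ = w := by group
      rw [this, hBsq w hw.1]; group
    exact hinj w hwJ 1 J.one_mem h2
  -- an elementary abelian subgroup of `K` of order > 2
  have hrk' : ∃ A0 : Subgroup ↥K, IsMulCommutative ↥A0 ∧ (∀ x ∈ A0, x ^ 2 = 1) ∧
      2 ^ 1 < Nat.card ↥A0 := by
    unfold PRankLE at hrk
    push Not at hrk
    exact hrk
  obtain ⟨A0, hA0c, hA0e, hA0card⟩ := hrk'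
  obtain ⟨A', hA'Ja, hA'c, hA'e, hA'card⟩ :=
    mc7_transport a K J hcomm hdiag hcard A0 hA0c hA0e
  have hB0c : ∀ β ∈ B0, ∀ β' ∈ B0, β * β' = β' * β := fun β hβ β' hβ' =>
    mc7_comm_of_comm hBel.1 hβ.1 hβ'.1
  have hA'cc : ∀ y ∈ A', ∀ y' ∈ A', y * y' = y' * y := fun y hy y' hy' =>
    mc7_comm_of_comm hA'c hy hy'
  obtain ⟨E, hEc, hEe, hEmem, hEcard⟩ := mc7_prod B0 A' hB0c hA'cc
    (fun β hβ => hBsq β hβ.1) hA'e (fun β hβ y hy => hB0Ja β hβ y (hA'Ja hy))
    (fun w hw hwA => hB0cap w hw (hA'Ja hwA))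
  -- `E ≤ C(b) ⊓ C(J)`
  have hEle : E ≤ centralizer ({b} : Set G) ⊓ centralizer (J : Set G) := by
    intro g hg
    obtain ⟨β, hβ, y, hy, rfl⟩ := hEmem g hg
    obtain ⟨x, hx, rfl⟩ := mc7_exists_of_mem_conj a J (hA'Ja hy)
    have hβb : b * β = β * b := mc7_comm_of_comm hBel.1 hbB hβ.1
    have hxb : b * x = x * b := by
      have := Subgroup.mem_centralizer_singleton_iff.mp (hJb hx)
      first | exact this | exact this.symm
    have hbai : b * a⁻¹ = a⁻¹ * b := by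
      calc b * a⁻¹ = a⁻¹ * (a * b) * a⁻¹ := by group
        _ = a⁻¹ * (b * a) * a⁻¹ := by rw [hab]
        _ = a⁻¹ * b := by group
    have hyb : b * (a * x * a⁻¹) = (a * x * a⁻¹) * b := by
      calc b * (a * x * a⁻¹) = (b * a) * x * a⁻¹ := by group
        _ = (a * b) * x * a⁻¹ := by rw [hab]
        _ = a * (b * x) * a⁻¹ := by group
        _ = a * (x * b) * a⁻¹ := by rw [hxb]
        _ = a * x * (b * a⁻¹) := by group
        _ = a * x * (a⁻¹ * b) := by rw [hbai]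
        _ = a * x * a⁻¹ * b := by group
    refine Subgroup.mem_inf.mpr ⟨?_, ?_⟩
    · rw [Subgroup.mem_centralizer_iff]
      intro h hh
      rw [Set.mem_singleton_iff] at hh
      subst hh
      calc h * (β * (a * x * a⁻¹)) = (h * β) * (a * x * a⁻¹) := by group
        _ = (β * h) * (a * x * a⁻¹) := by rw [hβb]
        _ = β * (h * (a * x * a⁻¹)) := by group
        _ = β * ((a * x * a⁻¹) * h) := by rw [hyb]
        _ = β * (a * x * a⁻¹) * h := by group
    · rw [Subgroup.mem_centralizer_iff]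
      intro h hh
      have h1 := hB0J β hβ h hh
      have h2 := hcomm h hh (a * x * a⁻¹) (mc7_conj_mem a J hx)
      calc h * (β * (a * x * a⁻¹)) = (h * β) * (a * x * a⁻¹) := by group
        _ = (β * h) * (a * x * a⁻¹) := by rw [h1]
        _ = β * (h * (a * x * a⁻¹)) := by group
        _ = β * ((a * x * a⁻¹) * h) := by rw [h2]
        _ = β * (a * x * a⁻¹) * h := by group
  -- `|B| = 2 ^ k`
  have : Fact (Nat.Prime 2) := ⟨Nat.prime_two⟩
  have hBp : IsPGroup 2 ↥B := by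
    intro g
    refine ⟨1, ?_⟩
    apply Subtype.ext
    have := hBel.2 g.1 g.2
    simpa using this
  obtain ⟨k, hk⟩ := hBp.exists_card_eq
  -- the rank of `C(a) ⊓ C(K)` is at most `k`
  have hrkA : PRankLE 2 k ↥(centralizer ({a} : Set G) ⊓ centralizer (K : Set G)) := by
    intro A1 hA1c hA1e
    have h1 : Nat.card ↥(A1.map (centralizer ({a} : Set G) ⊓ centralizer (K : Set G)).subtype) =
        Nat.card ↥A1 := Subgroup.card_map_of_injective (Subgroup.subtype_injective _)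
    have h2 : A1.map (centralizer ({a} : Set G) ⊓ centralizer (K : Set G)).subtype ≤
        centralizer ({a} : Set G) ⊓ centralizer (K : Set G) := by
      rintro _ ⟨z, _, rfl⟩
      exact z.2
    have h3 : IsElementaryAbelian 2
        (A1.map (centralizer ({a} : Set G) ⊓ centralizer (K : Set G)).subtype) := by
      refine ⟨?_, ?_⟩
      · have := hA1c
        infer_instance
      · rintro _ ⟨z, hz, rfl⟩
        have := hA1e z hz
        rw [← map_pow, this, map_one]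
    have h4 := hBmax _ h2 h3
    rw [← hk, ← h1]
    exact h4
  have hrkB := htransfer k hrkA
  -- apply to `E`
  have hE1 : Nat.card ↥(E.subgroupOf (centralizer ({b} : Set G) ⊓ centralizer (J : Set G))) =
      Nat.card ↥E := Nat.card_congr (Subgroup.subgroupOfEquivOfLe hEle).toEquiv
  have hE2 : Nat.card ↥(E.subgroupOf (centralizer ({b} : Set G) ⊓ centralizer (J : Set G))) ≤
      2 ^ k := by
    apply hrkB
    · refine ⟨⟨fun z z' => ?_⟩⟩
      apply Subtype.ext
      apply Subtype.ext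
      exact mc7_comm_of_comm hEc (Subgroup.mem_subgroupOf.mp z.2) (Subgroup.mem_subgroupOf.mp z'.2)
    · intro z hz
      apply Subtype.ext
      have := hEe _ (Subgroup.mem_subgroupOf.mp hz)
      simpa using this
  have hB0pos : 0 < Nat.card ↥B0 := Nat.card_pos
  have hA'3 : 3 ≤ Nat.card ↥A' := by
    rw [hA'card]
    have : 2 ^ 1 = 2 := by norm_num
    omega
  have h6 : 3 * Nat.card ↥B0 ≤ Nat.card ↥B0 * Nat.card ↥A' := by
    calc 3 * Nat.card ↥B0 = Nat.card ↥B0 * 3 := by ring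
      _ ≤ Nat.card ↥B0 * Nat.card ↥A' := Nat.mul_le_mul_left _ hA'3
  rw [hE1] at hE2
  rw [← hk] at hE2
  omega

end Cfsg.Agent.Lib.Helper22.Mc
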