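import Mathlib
import Cfsg.Prelude.Def_Balance
import Cfsg.Agent.Lib.Helper91.Components

/-! # S1305 hive (MC), leaf MC-ODICH: a component of `C_X(a)` and a subnormal subgroup `S` of `X`. -/

set_option autoImplicit false

open Cfsg

namespace Cfsg.Agent.Lib.Helper18.Mc

open Subgroup

/-- MC-ODICH.  A component `K` of `C_X(a)` and a subnormal subgroup `S` of `X`: `K ≤ S` or `K` centralizes `C_S(a)`. -/
theorem dich {X : Type*} [Group X] [Finite X] (a : X) (K S : Subgroup X) (hKa : K ≤ centralizer ({a} : Set X))
    (hK : IsComponent (K.subgroupOf (centralizer ({a} : Set X)))) (hS : S.IsSubnormal) :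
    K ≤ S ∨ ∀ k ∈ K, ∀ s ∈ S ⊓ centralizer ({a} : Set X), k * s = s * k := by
  have hS' : (S.subgroupOf (centralizer ({a} : Set X))).IsSubnormal := hS.subgroupOf
  rcases Cfsg.Agent.Lib.Helper91.component_le_or_commutator_eq_bot hK hS' with h | h
  · left
    intro k hk
    have h1 : (⟨k, hKa hk⟩ : ↥(centralizer ({a} : Set X))) ∈
        K.subgroupOf (centralizer ({a} : Set X)) := by
      rw [mem_subgroupOf]; exact hk
    have h2 := h h1
    rw [mem_subgroupOf] at h2
    exact h2
  · right
    intro k hk s hs
    have h1 : (⟨k, hKa hk⟩ : ↥(centralizer ({a} : Set X))) ∈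
        K.subgroupOf (centralizer ({a} : Set X)) := by
      rw [mem_subgroupOf]; exact hk
    have h2 : (⟨s, hs.2⟩ : ↥(centralizer ({a} : Set X))) ∈
        S.subgroupOf (centralizer ({a} : Set X)) := by
      rw [mem_subgroupOf]; exact hs.1
    have h3 := Subgroup.commutator_mem_commutator h1 h2
    rw [h, Subgroup.mem_bot] at h3
    have h4 : k * s * k⁻¹ * s⁻¹ = 1 := by
      have := congrArg Subtype.val h3
      simpa [commutatorElement_def] using this
    calc k * s = (k * s * k⁻¹ * s⁻¹) * (s * k) := by group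
      _ = s * k := by rw [h4, one_mul]

end Cfsg.Agent.Lib.Helper18.Mc
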