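import Mathlib
import Cfsg.Statements.S2924
import Cfsg.Agent.Lib.Helper22.CharP2
import Cfsg.Agent.Lib.Helper22.FStar
import Cfsg.Agent.Lib.Helper22.OcDefs
import Cfsg.Agent.Lib.Helper30.PPrimeCore
import Cfsg.Agent.Lib.Helper34.OcOC1

/-! # Oc hive (S2924), leaf OC2: `θ(y) ∩ C_X(z) = 1` and `E(C_{C_X(y)}(z)) = 1`
when `C_X(z)` has characteristic 2 (from OC1 via the swap isomorphism `C_{C_X(y)}(z) ≅ C_{C_X(z)}(y)`). -/

set_option autoImplicit false
open Cfsg Subgroup

namespace Cfsg.Agent.Lib.Helper2.OcTwo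

universe u

open Cfsg.Agent.Lib.Helper22 Cfsg.Agent.Lib.Helper22.Oc

/-- centralizer of a subtype element inside a subgroup is the `subgroupOf` of the centralizer. -/
theorem oc2_cent_eq {G : Type u} [Group G] (H : Subgroup G) (x : G) (hx : x ∈ H) :
    centralizer ({(⟨x, hx⟩ : ↥H)} : Set ↥H) = (centralizer ({x} : Set G)).subgroupOf H := by
  ext w
  rw [Subgroup.mem_subgroupOf, Subgroup.mem_centralizer_singleton_iff,
    Subgroup.mem_centralizer_singleton_iff]
  constructor
  · intro hw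
    exact congrArg Subtype.val hw
  · intro hw
    exact Subtype.ext hw

/-- triviality of the odd core transports along an isomorphism. -/
theorem oc2_oddCore_bot_of_equiv {A B : Type u} [Group A] [Group B] (e : A ≃* B)
    (h : oddCore A = ⊥) : oddCore B = ⊥ := by
  rw [eq_bot_iff]
  intro x hx
  have h1 := Cfsg.Agent.Lib.Helper30.pPrimeCore_map_equiv_le 2 e.symm
  have h2 : e.symm x ∈ (pPrimeCore 2 B).map e.symm.toMonoidHom := ⟨x, hx, rfl⟩
  have h3 := h1 h2
  have h3' : e.symm x ∈ oddCore A := h3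
  rw [h, Subgroup.mem_bot] at h3'
  rw [Subgroup.mem_bot]
  have := congrArg e h3'
  simpa using this

/-- OC2 with OC1 as a hypothesis. -/
theorem oc2_of_oc1
    (h1 : ∀ {M : Type u} [Group M] [Finite M]
      (_ : generalizedFittingSubgroup M = pCore 2 M) (y : M) (_ : y ^ 2 = 1),
      oddCore ↥(centralizer ({y} : Set M)) = ⊥ ∧ layer ↥(centralizer ({y} : Set M)) = ⊥)
    {X : Type u} [Group X] [Finite X] (z y : X) (hy2 : y ^ 2 = 1)
    (hzmem : z ∈ centralizer ({y} : Set X))
    (hz : generalizedFittingSubgroup ↥(centralizer ({z} : Set X)) =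
      pCore 2 ↥(centralizer ({z} : Set X))) :
    (∀ a ∈ th y, a * z = z * a → a = 1) ∧
    layer ↥(centralizer ({(⟨z, hzmem⟩ : ↥(centralizer ({y} : Set X)))} :
      Set ↥(centralizer ({y} : Set X)))) = ⊥ := by
  -- y ∈ C_X(z)
  have hymem : y ∈ centralizer ({z} : Set X) := by
    rw [Subgroup.mem_centralizer_singleton_iff] at hzmem ⊢
    exact hzmem.symm
  set M : Subgroup X := centralizer ({z} : Set X) with hMdef
  set H : Subgroup X := centralizer ({y} : Set X) with hHdef
  have hy2' : (⟨y, hymem⟩ : ↥M) ^ 2 = 1 := Subtype.ext (by simpa using hy2)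
  obtain ⟨hO, hE⟩ := h1 hz (⟨y, hymem⟩ : ↥M) hy2'
  rw [oc2_cent_eq M y hymem] at hO hE
  -- transport along the swap equivalence
  have e : ↥(H.subgroupOf M) ≃* ↥(M.subgroupOf H) := subgroupOfSwapEquiv H M
  have hE' : layer ↥(M.subgroupOf H) = ⊥ := by
    rw [← layer_map_equiv e, hE, Subgroup.map_bot]
  have hO' : oddCore ↥(M.subgroupOf H) = ⊥ := oc2_oddCore_bot_of_equiv e hO
  refine ⟨?_, ?_⟩
  · intro a ha haz
    obtain ⟨b, hb, rfl⟩ := ha
    -- b : ↥H, b ∈ oddCore ↥H, (b : X) commutes with z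
    have hbM : b ∈ M.subgroupOf H := by
      rw [Subgroup.mem_subgroupOf, Subgroup.mem_centralizer_singleton_iff]
      exact haz
    -- D := oddCore H ⊓ C_H(z), viewed inside C_H(z)
    have hnorm : ((oddCore ↥H).subgroupOf (M.subgroupOf H)).Normal :=
      (pPrimeCore_normal' 2 ↥H).subgroupOf _
    have hcop : (Nat.card ↥((oddCore ↥H).subgroupOf (M.subgroupOf H))).Coprime 2 := by
      have hdvd : Nat.card ↥((oddCore ↥H).subgroupOf (M.subgroupOf H)) ∣
          Nat.card ↥(oddCore ↥H) := by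
        rw [← Subgroup.card_map_of_injective (Subgroup.subtype_injective (M.subgroupOf H)),
          Subgroup.subgroupOf_map_subtype]
        exact Subgroup.card_dvd_of_le inf_le_left
      exact Nat.Coprime.coprime_dvd_left hdvd (Cfsg.Agent.Lib.Helper30.pPrimeCore_card_coprime 2)
    have hle := le_pPrimeCore' hnorm hcop
    have hmem : (⟨b, hbM⟩ : ↥(M.subgroupOf H)) ∈ (oddCore ↥H).subgroupOf (M.subgroupOf H) := by
      rw [Subgroup.mem_subgroupOf]
      exact hb
    have h3 := hle hmem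
    have h4 : (⟨b, hbM⟩ : ↥(M.subgroupOf H)) ∈ oddCore ↥(M.subgroupOf H) := h3
    rw [hO', Subgroup.mem_bot] at h4
    have h5 : b = 1 := congrArg Subtype.val h4
    rw [h5]; rfl
  · rw [oc2_cent_eq H z hzmem]
    exact hE'

end Cfsg.Agent.Lib.Helper2.OcTwo

namespace Cfsg.Agent.Lib.Helper22.Oc

universe u

/-- OC2. With `M = C_X(z)` of characteristic 2 and `y` an involution of `M`:
`θ(y) ∩ C_X(z) = 1`, and `C_{C_X(y)}(z)` has no components. -/
theorem oc2 {X : Type u} [Group X] [Finite X] (z y : X) (hy2 : y ^ 2 = 1)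
    (hzmem : z ∈ centralizer ({y} : Set X))
    (hz : generalizedFittingSubgroup ↥(centralizer ({z} : Set X)) =
      pCore 2 ↥(centralizer ({z} : Set X))) :
    (∀ a ∈ th y, a * z = z * a → a = 1) ∧
    layer ↥(centralizer ({(⟨z, hzmem⟩ : ↥(centralizer ({y} : Set X)))} :
      Set ↥(centralizer ({y} : Set X)))) = ⊥ :=
  Cfsg.Agent.Lib.Helper2.OcTwo.oc2_of_oc1 (fun hM y hy => oc1 hM y hy) z y hy2 hzmem hz

end Cfsg.Agent.Lib.Helper22.Oc
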