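import Mathlib
import Cfsg.Agent.Lib.Helper67.OgDefs
import Cfsg.Agent.Lib.Helper37.OrthMinus
import Cfsg.Agent.Lib.Helper43.OrthCardMinus
import Cfsg.Agent.Lib.Helper39.SLPerfect

/-! # Og hive (S2413-15), leaf OG-LOM -/

set_option autoImplicit false
set_option linter.unusedSectionVars false
set_option linter.unusedVariables false

namespace Cfsg.Agent.Lib.Helper67.Og

open Matrix Module QuadraticMap
open Cfsg.Agent.Lib.Helper37 Cfsg.Agent.Lib.Helper8 Cfsg.Agent.Lib.Helper43
open Cfsg.Agent.Lib.Helper37.OrthField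
open scoped commutatorElement

section abstract

variable {ι : Type} [Fintype ι] [DecidableEq ι] {F : Type*} [Field F]
variable (Q : QuadraticForm F (ι → F)) (hQ : (QuadraticMap.polarBilin Q).Nondegenerate)
variable {k : ℕ} {e f : Fin k → ι → F}
variable {L : Matrix.SpecialLinearGroup (Fin k) F →* ↥(Cfsg.isometryGroup F ⇑Q)}

theorem levi_mem_omega (hk : 3 ≤ k) (A : Matrix.SpecialLinearGroup (Fin k) F) :
    L A ∈ commutator ↥(Cfsg.isometryGroup F ⇑Q) := by
  have htop : commutator (Matrix.SpecialLinearGroup (Fin k) F) = ⊤ :=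
    Cfsg.Agent.Lib.Helper39.SLPerfect.commutator_SL_eq_top (by rw [Fintype.card_fin]; exact hk)
  have hA : A ∈ commutator (Matrix.SpecialLinearGroup (Fin k) F) := by
    rw [htop]
    exact Subgroup.mem_top A
  have hmap : (commutator (Matrix.SpecialLinearGroup (Fin k) F)).map L
      ≤ commutator ↥(Cfsg.isometryGroup F ⇑Q) := by
    rw [commutator_def, Subgroup.map_commutator, commutator_def]
    exact Subgroup.commutator_mono le_top le_top
  exact hmap (Subgroup.mem_map_of_mem L hA)

end abstract

end Cfsg.Agent.Lib.Helper67.Og
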