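import Mathlib
import Cfsg.Agent.Lib.Helper67.OgDefs
import Cfsg.Agent.Lib.Helper67.OgFam
import Cfsg.Agent.Lib.Helper37.OrthMinus
import Cfsg.Agent.Lib.Helper43.OrthCardMinus
import Cfsg.Agent.Lib.Helper39.SLPerfect
import Cfsg.Agent.Lib.Helper37.LeviPlus
import Cfsg.Agent.Lib.Helper37.OrthSum

/-! # Og hive (S2413-15), leaf OG-M-LEVI -/

set_option autoImplicit false
set_option linter.unusedSectionVars false
set_option linter.unusedVariables false
set_option linter.unusedSimpArgs false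

namespace Cfsg.Agent.Lib.Helper67.Og

open Matrix Module QuadraticMap
open Cfsg.Agent.Lib.Helper37 Cfsg.Agent.Lib.Helper8 Cfsg.Agent.Lib.Helper43
open Cfsg.Agent.Lib.Helper37.OrthField
open scoped commutatorElement

section concrete

variable (F : Type*) [Field F]

/-- the matrix group hom `A ↦ diag(A, A⁻ᵀ, 1)` -/
noncomputable def mleviGL (m : ℕ) :
    Matrix.SpecialLinearGroup (Fin m) F →* GL ((Fin m ⊕ Fin m) ⊕ Fin 2) F :=
  (blockGL F (Fin m ⊕ Fin m) (Fin 2)).comp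
    (MonoidHom.prod ((leviGL m F).comp Matrix.SpecialLinearGroup.toGL) 1)

theorem mlevi_mulVec (m : ℕ) (A : Matrix.SpecialLinearGroup (Fin m) F)
    (v : (Fin m ⊕ Fin m) ⊕ Fin 2 → F) :
    ((mleviGL F m A : GL ((Fin m ⊕ Fin m) ⊕ Fin 2) F) : Matrix _ _ F) *ᵥ v
      = Sum.elim (Sum.elim ((A : Matrix (Fin m) (Fin m) F) *ᵥ (v ∘ Sum.inl ∘ Sum.inl))
          (((A⁻¹ : Matrix.SpecialLinearGroup (Fin m) F) : Matrix (Fin m) (Fin m) F)ᵀ *ᵥ
            (v ∘ Sum.inl ∘ Sum.inr))) (v ∘ Sum.inr) := by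
  have h1 : mleviGL F m A = blockGL F (Fin m ⊕ Fin m) (Fin 2)
      (leviGL m F (Matrix.SpecialLinearGroup.toGL A), 1) := rfl
  rw [h1, blockGL_mulVec, leviGL_mulVec]
  have h2 : ((1 : GL (Fin 2) F) : Matrix (Fin 2) (Fin 2) F) = 1 := rfl
  have h4 : (((Matrix.SpecialLinearGroup.toGL A)⁻¹ : GL (Fin m) F) : Matrix (Fin m) (Fin m) F)
      = ((A⁻¹ : Matrix.SpecialLinearGroup (Fin m) F) : Matrix (Fin m) (Fin m) F) := by
    rw [← map_inv]
    rfl
  have e2 : (1 : GL (Fin 2) F).1 *ᵥ (v ∘ Sum.inr) = v ∘ Sum.inr := by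
    show (1 : Matrix (Fin 2) (Fin 2) F) *ᵥ _ = _
    rw [Matrix.one_mulVec]
  rw [e2]
  have e3 : ((Matrix.SpecialLinearGroup.toGL A)⁻¹ : GL (Fin m) F).1ᵀ
      = ((A⁻¹ : Matrix.SpecialLinearGroup (Fin m) F) : Matrix (Fin m) (Fin m) F)ᵀ := by
    show (((Matrix.SpecialLinearGroup.toGL A)⁻¹ : GL (Fin m) F) : Matrix (Fin m) (Fin m) F)ᵀ = _
    rw [h4]
  rw [e3]
  rfl

theorem mlevi_Q_split (m : ℕ) (a b : F) (v : (Fin m ⊕ Fin m) ⊕ Fin 2 → F) :
    Cfsg.quadFormMinus m F a b v = Cfsg.quadFormPlus m F (v ∘ Sum.inl)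
      + (v (Sum.inr 0) ^ 2 + a * v (Sum.inr 0) * v (Sum.inr 1) + b * v (Sum.inr 1) ^ 2) := rfl

theorem mlevi_mem (m : ℕ) (a b : F) (A : Matrix.SpecialLinearGroup (Fin m) F) :
    mleviGL F m A ∈ Cfsg.isometryGroup F ⇑(minusForm m F a b) := by
  rw [mem_isometryGroup_iff']
  intro v
  rw [← minusForm_coe, mlevi_Q_split, mlevi_Q_split]
  have h1 : mleviGL F m A = blockGL F (Fin m ⊕ Fin m) (Fin 2)
      (leviGL m F (Matrix.SpecialLinearGroup.toGL A), 1) := rfl
  rw [h1, blockGL_mulVec]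
  have h2 : ((1 : GL (Fin 2) F) : Matrix (Fin 2) (Fin 2) F) = 1 := rfl
  have hl := (mem_isometryGroup_iff' (Cfsg.quadFormPlus m F)
    (leviGL m F (Matrix.SpecialLinearGroup.toGL A))).mp (leviGL_mem _) (v ∘ Sum.inl)
  have e1 : (Sum.elim ((leviGL m F (Matrix.SpecialLinearGroup.toGL A)).1 *ᵥ (v ∘ Sum.inl))
      ((1 : GL (Fin 2) F).1 *ᵥ (v ∘ Sum.inr))) ∘ Sum.inl
      = (leviGL m F (Matrix.SpecialLinearGroup.toGL A)).1 *ᵥ (v ∘ Sum.inl) := rfl
  rw [e1]
  simp only [Sum.elim_inr]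
  have e2 : (1 : GL (Fin 2) F).1 *ᵥ (v ∘ Sum.inr) = v ∘ Sum.inr := by
    show (1 : Matrix (Fin 2) (Fin 2) F) *ᵥ _ = _
    rw [Matrix.one_mulVec]
  rw [e2]
  have hl' : Cfsg.quadFormPlus m F ((leviGL m F (Matrix.SpecialLinearGroup.toGL A)).1 *ᵥ
      (v ∘ Sum.inl)) = Cfsg.quadFormPlus m F (v ∘ Sum.inl) := hl
  rw [hl']
  rfl

/-- the Levi hom into the isometry group of the minus form -/
noncomputable def mleviO (m : ℕ) (a b : F) :
    Matrix.SpecialLinearGroup (Fin m) F →* ↥(Cfsg.isometryGroup F ⇑(minusForm m F a b)) :=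
  (mleviGL F m).codRestrict _ (mlevi_mem F m a b)

theorem mlevi_act (m : ℕ) (a b : F) (A : Matrix.SpecialLinearGroup (Fin m) F)
    (v : (Fin m ⊕ Fin m) ⊕ Fin 2 → F) :
    act (minusForm m F a b) (mleviO F m a b A) v
      = Sum.elim (Sum.elim ((A : Matrix (Fin m) (Fin m) F) *ᵥ (v ∘ Sum.inl ∘ Sum.inl))
          (((A⁻¹ : Matrix.SpecialLinearGroup (Fin m) F) : Matrix (Fin m) (Fin m) F)ᵀ *ᵥ
            (v ∘ Sum.inl ∘ Sum.inr))) (v ∘ Sum.inr) :=
  mlevi_mulVec F m A v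

theorem exists_levi_minus (m : ℕ) (a b : F) :
    ∃ L : Matrix.SpecialLinearGroup (Fin m) F →* ↥(Cfsg.isometryGroup F ⇑(minusForm m F a b)),
      LeviData (minusForm m F a b) m (eM F m) (fM F m) L := by
  refine ⟨mleviO F m a b, minus_hypFam37 m F a b, ?_, ?_, ?_⟩
  · intro A i
    rw [mlevi_act]
    funext x
    rw [Finset.sum_apply]
    rcases x with (j | j) | t
    · simp [Matrix.mulVec, dotProduct, Pi.single_apply, Function.comp]
    · simp [Matrix.mulVec, dotProduct, Pi.single_apply, Function.comp]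
    · simp [Pi.single_apply, Function.comp]
  · intro A i
    rw [mlevi_act]
    funext x
    rw [Finset.sum_apply]
    rcases x with (j | j) | t
    · simp [Matrix.mulVec, dotProduct, Pi.single_apply, Function.comp]
    · simp [Matrix.mulVec, dotProduct, Pi.single_apply, Function.comp]
    · simp [Pi.single_apply, Function.comp]
  · intro A w hw
    rw [mlevi_act]
    have h1 : w ∘ Sum.inl ∘ Sum.inl = 0 := by
      funext i
      have := (hw i).2
      rw [polar_minusForm_inr] at this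
      exact this
    have h2 : w ∘ Sum.inl ∘ Sum.inr = 0 := by
      funext i
      have := (hw i).1
      rw [polar_minusForm_inl] at this
      exact this
    rw [h1, h2, Matrix.mulVec_zero, Matrix.mulVec_zero]
    funext x
    rcases x with (j | j) | t
    · exact (congrFun h1 j).symm
    · exact (congrFun h2 j).symm
    · rfl

end concrete

end Cfsg.Agent.Lib.Helper67.Og
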