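import Mathlib
import Cfsg.Agent.Lib.Helper67.OgDefs
import Cfsg.Agent.Lib.Helper67.OgFam
import Cfsg.Agent.Lib.Helper37.OrthMinus
import Cfsg.Agent.Lib.Helper43.OrthCardMinus
import Cfsg.Agent.Lib.Helper39.SLPerfect
import Cfsg.Agent.Lib.Helper53.OgPRHO3

/-!
# Og hive, leaf OG-P-RHO2 : the extra element of order 3 for the plus type, `|F| = 2`

`ρ = E₁ E₂` with `E₁ = E(e₂, e₃)`, `E₂ = E(f₃, -f₂)` (helper53's `prho3_E1`, `prho3_E2`): on the
planes `⟨e₂, f₃⟩` and `⟨e₃, f₂⟩` it is the product of an upper and a lower transvection, of order 3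
in characteristic 2.
-/

set_option autoImplicit false
set_option linter.unusedSectionVars false
set_option linter.unusedVariables false
set_option linter.unusedSimpArgs false

namespace Cfsg.Agent.Lib.Helper67.Og

open Matrix Module QuadraticMap
open Cfsg.Agent.Lib.Helper37 Cfsg.Agent.Lib.Helper8 Cfsg.Agent.Lib.Helper43
open Cfsg.Agent.Lib.Helper37.OrthField
open scoped commutatorElement

section concrete

variable (F : Type*) [Field F]

/-- the explicit action of `ρ = E₁ E₂` on coordinates -/
def prho2_T (m : ℕ) (i2 i3 : Fin m) (x : Fin m ⊕ Fin m → F) : Fin m ⊕ Fin m → F :=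
  fun j => match j with
  | Sum.inl i =>
      if i = i2 then - x (Sum.inr i3) else if i = i3 then x (Sum.inr i2) else x (Sum.inl i)
  | Sum.inr i =>
      if i = i2 then x (Sum.inr i2) - x (Sum.inl i3)
      else if i = i3 then x (Sum.inr i3) + x (Sum.inl i2) else x (Sum.inr i)

/-- `ρ = E₁ E₂` -/
noncomputable def prho2_rho (m : ℕ) (i2 i3 : Fin m) :
    ↥(Cfsg.isometryGroup F ⇑(plusForm m F)) :=
  prho3_E1 F m i2 i3 * prho3_E2 F m i2 i3

theorem prho2_act_rho (m : ℕ) (i2 i3 : Fin m) (h23 : i2 ≠ i3) (x : Fin m ⊕ Fin m → F) :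
    act (plusForm m F) (prho2_rho F m i2 i3) x = prho2_T F m i2 i3 x := by
  unfold prho2_rho
  rw [act_mul, prho3_act_E1, prho3_act_E2]
  have h32 : i3 ≠ i2 := Ne.symm h23
  funext j
  rcases j with i | i
  · by_cases hi2 : i = i2
    · subst hi2
      simp [prho2_T, Pi.single_apply, h23, h32]
    · by_cases hi3 : i = i3
      · subst hi3
        simp [prho2_T, Pi.single_apply, h23, h32]
      · simp [prho2_T, Pi.single_apply, h23, h32, hi2, hi3]
  · by_cases hi2 : i = i2
    · subst hi2
      simp [prho2_T, Pi.single_apply, h23, h32]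
    · by_cases hi3 : i = i3
      · subst hi3
        simp [prho2_T, Pi.single_apply, h23, h32]
      · simp [prho2_T, Pi.single_apply, h23, h32, hi2, hi3]

theorem prho2_neg [Fintype F] (hF : Fintype.card F = 2) (a : F) : -a = a := by
  have h2 : (2 : F) = 0 := by
    have := Nat.cast_card_eq_zero F
    rw [hF] at this
    exact_mod_cast this
  have : a + a = 0 := by
    rw [← two_mul, h2, zero_mul]
  exact neg_eq_of_add_eq_zero_left this

theorem prho2_T3 [Fintype F] (hF : Fintype.card F = 2) (m : ℕ) (i2 i3 : Fin m) (h23 : i2 ≠ i3)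
    (x : Fin m ⊕ Fin m → F) :
    prho2_T F m i2 i3 (prho2_T F m i2 i3 (prho2_T F m i2 i3 x)) = x := by
  have h32 : i3 ≠ i2 := Ne.symm h23
  have hn := prho2_neg F hF
  have hadd : ∀ a : F, a + a = 0 := by
    intro a
    have := hn a
    rw [neg_eq_iff_add_eq_zero] at this
    exact this
  have hadd' : ∀ a b : F, a + (a + b) = b := by
    intro a b
    rw [← add_assoc, hadd, zero_add]
  funext j
  rcases j with i | i
  · by_cases hi2 : i = i2
    · subst hi2
      simp only [prho2_T, h23, h32, if_true, if_false, hn, sub_eq_add_neg]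
      simp [hn, hadd, hadd', add_assoc, add_comm, add_left_comm]
    · by_cases hi3 : i = i3
      · subst hi3
        simp only [prho2_T, h23, h32, if_true, if_false, hn, sub_eq_add_neg]
        simp [hn, hadd, hadd', add_assoc, add_comm, add_left_comm]
      · simp [prho2_T, h23, h32, hi2, hi3]
  · by_cases hi2 : i = i2
    · subst hi2
      simp only [prho2_T, h23, h32, if_true, if_false, hn, sub_eq_add_neg]
      simp [hn, hadd, hadd', add_assoc, add_comm, add_left_comm]
    · by_cases hi3 : i = i3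
      · subst hi3
        simp only [prho2_T, h23, h32, if_true, if_false, hn, sub_eq_add_neg]
        simp [hn, hadd, hadd', add_assoc, add_comm, add_left_comm]
      · simp [prho2_T, h23, h32, hi2, hi3]

theorem prho2_pow_three [Fintype F] (hF : Fintype.card F = 2) (m : ℕ) (i2 i3 : Fin m)
    (h23 : i2 ≠ i3) : prho2_rho F m i2 i3 ^ 3 = 1 := by
  apply iso_ext
  intro x
  have h3 : prho2_rho F m i2 i3 ^ 3
      = prho2_rho F m i2 i3 * (prho2_rho F m i2 i3 * prho2_rho F m i2 i3) := by
    simp only [pow_succ, pow_zero, one_mul, mul_assoc]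
  have key : act (plusForm m F) (prho2_rho F m i2 i3 ^ 3) x = act (plusForm m F) 1 x := by
    rw [h3, act_mul, act_mul, prho2_act_rho F m i2 i3 h23, prho2_act_rho F m i2 i3 h23,
      prho2_act_rho F m i2 i3 h23, prho2_T3 F hF m i2 i3 h23, act_one]
  exact key

theorem prho2_mem [Fintype F] (m : ℕ) (hm : 4 ≤ m) (i2 i3 : Fin m) :
    prho2_rho F m i2 i3 ∈ commutator ↥(Cfsg.isometryGroup F ⇑(plusForm m F)) := by
  have hV : finrank F (Fin m ⊕ Fin m → F) = 2 * m := plus_hV
  have hn : 5 ≤ finrank F (Fin m ⊕ Fin m → F) := by omega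
  have hn2 : (2 : F) = 0 → 7 ≤ finrank F (Fin m ⊕ Fin m → F) := fun _ => by omega
  have h1 : prho3_E1 F m i2 i3 ∈ commutator ↥(Cfsg.isometryGroup F ⇑(plusForm m F)) :=
    eichlerElt_mem_omega _ _ hn hn2 _ _ _ _
  have h2 : prho3_E2 F m i2 i3 ∈ commutator ↥(Cfsg.isometryGroup F ⇑(plusForm m F)) :=
    eichlerElt_mem_omega _ _ hn hn2 _ _ _ _
  exact Subgroup.mul_mem _ h1 h2

theorem exists_rho_plus_two [Fintype F] (hF : Fintype.card F = 2) (m : ℕ) (hm : 4 ≤ m)
    (i2 i3 : Fin m) (h23 : i2 ≠ i3) :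
    ∃ ρ : ↥(Cfsg.isometryGroup F ⇑(plusForm m F)),
      ρ ∈ commutator ↥(Cfsg.isometryGroup F ⇑(plusForm m F)) ∧ ρ ^ 3 = 1 ∧
      (∀ i, i ≠ i2 → i ≠ i3 → act (plusForm m F) ρ (eP F m i) = eP F m i ∧
        act (plusForm m F) ρ (fP F m i) = fP F m i) ∧
      (∃ j, polar ⇑(plusForm m F) (fP F m j) (act (plusForm m F) ρ (fP F m i2)) ≠ 0) ∧
      (∃ j, polar ⇑(plusForm m F) (eP F m j) (act (plusForm m F) ρ (eP F m i2)) ≠ 0) := by
  have h32 : i3 ≠ i2 := Ne.symm h23
  refine ⟨prho2_rho F m i2 i3, prho2_mem F m hm i2 i3, prho2_pow_three F hF m i2 i3 h23,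
    ?_, ?_, ?_⟩
  · intro i hi2 hi3
    constructor
    · rw [prho2_act_rho F m i2 i3 h23]
      funext j
      rcases j with l | l
      · by_cases hl2 : l = i2
        · subst hl2
          simp [prho2_T, Pi.single_apply, hi2, Ne.symm hi2]
        · by_cases hl3 : l = i3
          · subst hl3
            simp [prho2_T, Pi.single_apply, hi3, Ne.symm hi3, h32]
          · simp [prho2_T, Pi.single_apply, hl2, hl3]
      · by_cases hl2 : l = i2
        · subst hl2
          simp [prho2_T, Pi.single_apply, hi2, Ne.symm hi2, hi3, Ne.symm hi3]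
        · by_cases hl3 : l = i3
          · subst hl3
            simp [prho2_T, Pi.single_apply, hi2, Ne.symm hi2, hi3, Ne.symm hi3, h32]
          · simp [prho2_T, Pi.single_apply, hl2, hl3]
    · rw [prho2_act_rho F m i2 i3 h23]
      funext j
      rcases j with l | l
      · by_cases hl2 : l = i2
        · subst hl2
          simp [prho2_T, Pi.single_apply, hi2, Ne.symm hi2, hi3, Ne.symm hi3]
        · by_cases hl3 : l = i3
          · subst hl3
            simp [prho2_T, Pi.single_apply, hi2, Ne.symm hi2, hi3, Ne.symm hi3, h32]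
          · simp [prho2_T, Pi.single_apply, hl2, hl3]
      · by_cases hl2 : l = i2
        · subst hl2
          simp [prho2_T, Pi.single_apply, hi2, Ne.symm hi2, hi3, Ne.symm hi3]
        · by_cases hl3 : l = i3
          · subst hl3
            simp [prho2_T, Pi.single_apply, hi2, Ne.symm hi2, hi3, Ne.symm hi3, h32]
          · simp [prho2_T, Pi.single_apply, hl2, hl3]
  · refine ⟨i3, ?_⟩
    rw [prho2_act_rho F m i2 i3 h23, prho3_polar_f]
    simp [prho2_T, Pi.single_apply, h32]
  · refine ⟨i3, ?_⟩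
    rw [prho2_act_rho F m i2 i3 h23, prho3_polar_e]
    simp [prho2_T, Pi.single_apply, h32]

end concrete

end Cfsg.Agent.Lib.Helper67.Og
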