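import Mathlib
import Cfsg.Agent.Lib.Helper40.OpBNDefs

/-! # S2548 hive (helper40, OpBN): cores of the leaves TORUS1, TORUS, TCONJ (helper2) -/

set_option autoImplicit false

namespace Cfsg.Agent.Lib.Helper40.OpBN

open Matrix Cfsg Cfsg.Agent.Lib.Helper13 Cfsg.Agent.Lib.Helper41.SpBN

variable {F : Type*} [Field F] {m : ℕ}

/-- unfolding of membership in `Bo` -/
theorem torus1_mem_Bo (g : OG F m) :
    g ∈ Bo F m ↔ ∀ k : Fin m, ∀ v : Idx m → F,
      ((∀ i : Fin m, (k : ℕ) < (i : ℕ) → v (Sum.inl i) = 0) ∧ ∀ i : Fin m, v (Sum.inr i) = 0) ↔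
      ((∀ i : Fin m, (k : ℕ) < (i : ℕ) → (mt g *ᵥ v) (Sum.inl i) = 0) ∧
        ∀ i : Fin m, (mt g *ᵥ v) (Sum.inr i) = 0) := by
  unfold Bo
  rw [Subgroup.mem_iInf]
  rfl

/-- the easy direction of BOREL: the shape of the elements of `Bo` -/
theorem torus1_shape {g : OG F m} (hg : g ∈ Bo F m) :
    (∀ i j : Fin m, (j : ℕ) < (i : ℕ) → mt g (Sum.inl i) (Sum.inl j) = 0) ∧
    (∀ i j : Fin m, mt g (Sum.inr i) (Sum.inl j) = 0) := by
  rw [torus1_mem_Bo] at hg
  have key : ∀ j : Fin m,
      (∀ i : Fin m, (j : ℕ) < (i : ℕ) → mt g (Sum.inl i) (Sum.inl j) = 0) ∧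
        ∀ i : Fin m, mt g (Sum.inr i) (Sum.inl j) = 0 := by
    intro j
    have h := (hg j (Pi.single (Sum.inl j) 1)).1 ⟨fun i hi => by
        rw [Pi.single_apply, if_neg]
        intro e
        have := Sum.inl_injective e
        rw [this] at hi
        exact lt_irrefl _ hi,
      fun i => by
        rw [Pi.single_apply, if_neg]
        exact Sum.inr_ne_inl⟩
    constructor
    · intro i hi
      have := h.1 i hi
      rwa [Matrix.mulVec_single_one, Matrix.col_apply] at this
    · intro i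
      have := h.2 i
      rwa [Matrix.mulVec_single_one, Matrix.col_apply] at this
  exact ⟨fun i j hij => (key j).1 i hij, fun i j => (key j).2 i⟩

theorem torus1_perm_eq_one {τ : Fin m → Fin m} (hinj : Function.Injective τ)
    (hle : ∀ j, τ j ≤ j) : ∀ j, τ j = j := by
  intro j
  induction j using Fin.strong_induction_on with
  | h j ih =>
    rcases (hle j).lt_or_eq with h | h
    · have := ih (τ j) h
      exact absurd (hinj this) (ne_of_lt h)
    · exact h

/-- TORUS1 with the swap-compatibility (leaf MONOSWAP) as a hypothesis -/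
theorem torus1_core {g : OG F m} (hg : g ∈ Bo F m) {π : Equiv.Perm (Idx m)} {d : Idx m → F}
    (h : IsMono (mt g) π d) (hsw : ∀ a, π a.swap = (π a).swap) : π = 1 := by
  obtain ⟨h1, h2⟩ := torus1_shape hg
  have hd : ∀ s, d s ≠ 0 := isMono_coeff_ne_zero (mt_inv_mul g) h
  have hnz : ∀ s, mt g (π s) s ≠ 0 := by
    intro s
    rw [h (π s) s, if_pos rfl]
    exact hd s
  have hinl : ∀ j : Fin m, ∃ i : Fin m, π (Sum.inl j) = Sum.inl i := by
    intro j
    rcases hπ : π (Sum.inl j) with i | i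
    · exact ⟨i, rfl⟩
    · exfalso
      apply hnz (Sum.inl j)
      rw [hπ]
      exact h2 i j
  choose τ hτ using hinl
  have hinj : Function.Injective τ := by
    intro a b hab
    have : π (Sum.inl a) = π (Sum.inl b) := by rw [hτ, hτ, hab]
    exact Sum.inl_injective (π.injective this)
  have hle : ∀ j, τ j ≤ j := by
    intro j
    by_contra hlt
    rw [not_le] at hlt
    apply hnz (Sum.inl j)
    rw [hτ]
    exact h1 (τ j) j hlt
  have hid := torus1_perm_eq_one hinj hle
  ext s
  rcases s with j | j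
  · rw [hτ, hid]; rfl
  · have := hsw (Sum.inl j)
    rw [Sum.swap_inl, hτ, hid, Sum.swap_inl] at this
    rw [this]; rfl

/-- a diagonal isometry lies in `Bo` -/
theorem torus_diag_mem_Bo {g : OG F m} (h : ∀ a s : Idx m, a ≠ s → mt g a s = 0) :
    g ∈ Bo F m := by
  have hmono : IsMono (mt g) 1 (fun s => mt g s s) := by
    intro a s
    rw [Equiv.Perm.one_apply]
    by_cases has : a = s
    · rw [if_pos has, has]
    · rw [if_neg has]
      exact h a s has
  have hd : ∀ s, mt g s s ≠ 0 := isMono_coeff_ne_zero (mt_inv_mul g) hmono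
  have hmv : ∀ (v : Idx m → F) (a : Idx m), (mt g *ᵥ v) a = mt g a a * v a := by
    intro v a
    rw [Matrix.mulVec, dotProduct]
    rw [Finset.sum_eq_single a]
    · intro s _ hs
      rw [h a s (Ne.symm hs), zero_mul]
    · intro ha
      exact absurd (Finset.mem_univ a) ha
  rw [torus1_mem_Bo]
  intro k v
  constructor
  · rintro ⟨hv1, hv2⟩
    exact ⟨fun i hi => by rw [hmv, hv1 i hi, mul_zero], fun i => by rw [hmv, hv2 i, mul_zero]⟩
  · rintro ⟨hv1, hv2⟩
    refine ⟨fun i hi => ?_, fun i => ?_⟩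
    · have := hv1 i hi
      rw [hmv] at this
      exact (mul_eq_zero.1 this).resolve_left (hd _)
    · have := hv2 i
      rw [hmv] at this
      exact (mul_eq_zero.1 this).resolve_left (hd _)

/-- TORUS with TORUS1 as a hypothesis -/
theorem torus_core (hT1 : ∀ {g : OG F m}, g ∈ Bo F m → ∀ {π : Equiv.Perm (Idx m)} {d : Idx m → F},
      IsMono (mt g) π d → π = 1) (g : OG F m) :
    g ∈ Bo F m ⊓ No F m ↔ ∀ a s : Idx m, a ≠ s → mt g a s = 0 := by
  rw [Subgroup.mem_inf]
  constructor
  · rintro ⟨hB, π, d, h, -⟩ a s has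
    have hπ := hT1 hB h
    rw [h a s, hπ, Equiv.Perm.one_apply, if_neg has]
  · intro h
    refine ⟨torus_diag_mem_Bo h, 1, fun s => mt g s s, ?_, Equiv.Perm.sign_one⟩
    intro a s
    rw [Equiv.Perm.one_apply]
    by_cases has : a = s
    · rw [if_pos has, has]
    · rw [if_neg has]
      exact h a s has

/-- TCONJ with TORUS as a hypothesis -/
theorem tconj_core (hT : ∀ g : OG F m,
      g ∈ Bo F m ⊓ No F m ↔ ∀ a s : Idx m, a ≠ s → mt g a s = 0) :
    ∀ n ∈ NoAll F m, ∀ t ∈ Bo F m ⊓ No F m, n * t * n⁻¹ ∈ Bo F m ⊓ No F m := by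
  rintro n ⟨π, d, hn⟩ t ht
  rw [hT] at ht ⊢
  have htm : IsMono (mt t) 1 (fun s => mt t s s) := by
    intro a s
    rw [Equiv.Perm.one_apply]
    by_cases has : a = s
    · rw [if_pos has, has]
    · rw [if_neg has]
      exact ht a s has
  have hni := isMono_inv' (mt_inv_mul n) hn
  have hprod := isMono_mul (isMono_mul hn htm) hni
  rw [← mt_mul, ← mt_mul] at hprod
  intro a s has
  rw [hprod a s, if_neg]
  intro e
  apply has
  rw [e]
  simp
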