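import Mathlib
import Cfsg.Agent.Lib.Helper40.OpBNDefs
import Cfsg.Agent.Lib.Helper2.OpBN_TORUS1core

/-! # S2548 hive (helper40, OpBN): leaf TORUS1 (helper2) -/

set_option autoImplicit false

namespace Cfsg.Agent.Lib.Helper40.OpBN

open Matrix Cfsg Cfsg.Agent.Lib.Helper13 Cfsg.Agent.Lib.Helper41.SpBN

variable {F : Type*} [Field F] {m : ℕ}

/-- `Q (e_a + e_ā) = 1` -/
theorem torus1_Q_pair (a : Idx m) :
    Cfsg.quadFormPlus m F (Pi.single a 1 + Pi.single a.swap 1) = 1 := by
  unfold Cfsg.quadFormPlus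
  rcases a with j | j
  · rw [Finset.sum_eq_single j]
    · simp
    · intro i _ hij
      simp [Pi.single_apply, hij]
    · intro hj
      exact absurd (Finset.mem_univ j) hj
  · rw [Finset.sum_eq_single j]
    · simp
    · intro i _ hij
      simp [Pi.single_apply, hij]
    · intro hj
      exact absurd (Finset.mem_univ j) hj

/-- `Q (c₁ e_p + c₂ e_q) = 0` unless `q = p̄` -/
theorem torus1_Q_two (p q : Idx m) (c₁ c₂ : F) (hq : q ≠ p.swap) :
    Cfsg.quadFormPlus m F (c₁ • Pi.single p 1 + c₂ • Pi.single q 1) = 0 := by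
  unfold Cfsg.quadFormPlus
  apply Finset.sum_eq_zero
  intro i _
  rcases p with p | p <;> rcases q with q | q
  · simp [Pi.single_apply]
  · have hne : q ≠ p := fun e => hq (by rw [e]; rfl)
    by_cases h1 : i = p
    · have h2 : i ≠ q := fun e => hne (e.symm.trans h1)
      simp [Pi.single_apply, h1, h2, hne.symm, hne]
    · simp [Pi.single_apply, h1]
  · have hne : q ≠ p := fun e => hq (by rw [e]; rfl)
    by_cases h1 : i = p
    · have h2 : i ≠ q := fun e => hne (e.symm.trans h1)
      simp [Pi.single_apply, h1, h2, hne.symm, hne]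
    · simp [Pi.single_apply, h1]
  · simp [Pi.single_apply]

/-- own copy of the first half of leaf MONOSWAP: the permutation of a monomial isometry
commutes with `Sum.swap` -/
theorem torus1_swap {g : OG F m} {π : Equiv.Perm (Idx m)} {d : Idx m → F}
    (h : IsMono (mt g) π d) : ∀ a, π a.swap = (π a).swap := by
  intro a
  by_contra hne
  have h1 := mt_preserves g (Pi.single a 1 + Pi.single a.swap 1)
  rw [torus1_Q_pair, Matrix.mulVec_add, h.mulVec_single, h.mulVec_single,
    torus1_Q_two _ _ _ _ hne] at h1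
  exact zero_ne_one h1

/-- LEAF TORUS1: a monomial isometry in `B` is diagonal -/
theorem perm_eq_one_of_mem_Bo {g : OG F m} (hg : g ∈ Bo F m) {π : Equiv.Perm (Idx m)} {d : Idx m → F}
    (h : IsMono (mt g) π d) : π = 1 :=
  torus1_core hg h (torus1_swap h)

end Cfsg.Agent.Lib.Helper40.OpBN
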