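import Mathlib
import Cfsg.Agent.Lib.Helper40.OpBNDefs
import Cfsg.Agent.Lib.Helper2.OpBN_TORUS1core
import Cfsg.Agent.Lib.Helper2.OpBN_TORUS1

/-! # S2548 hive (helper40, OpBN): leaf TORUS (helper2) -/

set_option autoImplicit false

namespace Cfsg.Agent.Lib.Helper40.OpBN

open Matrix Cfsg Cfsg.Agent.Lib.Helper13 Cfsg.Agent.Lib.Helper41.SpBN

variable {F : Type*} [Field F] {m : ℕ}

/-- LEAF TORUS: `B ∩ N` = diagonal isometries -/
theorem mem_Bo_inf_No_iff (g : OG F m) :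
    g ∈ Bo F m ⊓ No F m ↔ ∀ a s : Idx m, a ≠ s → mt g a s = 0 :=
  torus_core (fun hg _ _ h => perm_eq_one_of_mem_Bo hg h) g

end Cfsg.Agent.Lib.Helper40.OpBN
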