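import Mathlib
import Cfsg.Agent.Lib.Helper40.OpBNDefs
import Cfsg.Agent.Lib.Helper2.OpBN_TORUS1core
import Cfsg.Agent.Lib.Helper2.OpBN_TORUS

/-! # S2548 hive (helper40, OpBN): leaf CARDT (helper2) -/

set_option autoImplicit false

namespace Cfsg.Agent.Lib.Helper40.OpBN

open Matrix Cfsg Cfsg.Agent.Lib.Helper13 Cfsg.Agent.Lib.Helper41.SpBN

variable {F : Type*} [Field F] {m : ℕ}

theorem cardt_mt_pow (g : OG F m) (k : ℕ) : mt (g ^ k) = mt g ^ k := by
  induction k with
  | zero => rw [pow_zero, pow_zero, mt_one]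
  | succ k ih => rw [pow_succ, mt_mul, ih, pow_succ]

/-- a diagonal isometry is the diagonal matrix of its diagonal -/
theorem cardt_eq_diagonal {t : OG F m} (ht : t ∈ Bo F m ⊓ No F m) :
    mt t = Matrix.diagonal (fun a => mt t a a) := by
  rw [mem_Bo_inf_No_iff] at ht
  ext a s
  by_cases has : a = s
  · subst has
    rw [Matrix.diagonal_apply_eq]
  · rw [Matrix.diagonal_apply_ne _ has, ht a s has]

/-- the diagonal entries of a diagonal isometry are nonzero -/
theorem cardt_diag_ne_zero {t : OG F m} (ht : t ∈ Bo F m ⊓ No F m) (a : Idx m) :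
    mt t a a ≠ 0 := by
  rw [mem_Bo_inf_No_iff] at ht
  have hmono : IsMono (mt t) 1 (fun s => mt t s s) := by
    intro a s
    rw [Equiv.Perm.one_apply]
    by_cases has : a = s
    · rw [if_pos has, has]
    · rw [if_neg has]
      exact ht a s has
  exact isMono_coeff_ne_zero (mt_inv_mul t) hmono a

/-- LEAF CARDT: `p ∤ |T|` -/
theorem card_T_coprime [Fintype F] (p : ℕ) [Fact p.Prime] [CharP F p] :
    ¬ p ∣ Nat.card ↥(Bo F m ⊓ No F m) := by
  classical
  intro hdvd
  have : Finite (OG F m) := inferInstance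
  obtain ⟨t, ht⟩ := exists_prime_orderOf_dvd_card' p hdvd
  have hpow : (t : OG F m) ^ (Fintype.card F - 1) = 1 := by
    apply mt_ext
    rw [cardt_mt_pow, mt_one, cardt_eq_diagonal t.2, Matrix.diagonal_pow]
    rw [← Matrix.diagonal_one]
    congr 1
    funext a
    rw [Pi.pow_apply]
    exact FiniteField.pow_card_sub_one_eq_one _ (cardt_diag_ne_zero t.2 a)
  have hpow' : t ^ (Fintype.card F - 1) = 1 := by
    apply Subtype.ext
    rw [Subgroup.coe_pow, Subgroup.coe_one]
    exact hpow
  have h1 : p ∣ Fintype.card F - 1 := by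
    rw [← ht]
    exact orderOf_dvd_of_pow_eq_one hpow'
  have h2 : p ∣ Fintype.card F := by
    have : (Fintype.card F : F) = 0 := Nat.cast_card_eq_zero F
    exact (CharP.cast_eq_zero_iff F p _).1 this
  have hpos : 0 < Fintype.card F := Fintype.card_pos
  have h3 : p ∣ 1 := by
    have := Nat.dvd_sub h2 h1
    rwa [Nat.sub_sub_self hpos] at this
  exact (Fact.out : p.Prime).one_lt.ne' (Nat.dvd_one.1 h3)

end Cfsg.Agent.Lib.Helper40.OpBN
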