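import Mathlib
import Cfsg.Agent.Lib.Helper40.OpBNDefs
import Cfsg.Agent.Lib.Helper2.OpBN_TORUS1

/-! # S2548 hive (helper40, OpBN): leaf MONOSWAP (helper2, backup) -/

set_option autoImplicit false

namespace Cfsg.Agent.Lib.Helper40.OpBN

open Matrix Cfsg Cfsg.Agent.Lib.Helper13 Cfsg.Agent.Lib.Helper41.SpBN

variable {F : Type*} [Field F] {m : ℕ}

/-- `Q (c₁ e_p + c₂ e_p̄) = c₁ c₂` -/
theorem monoswap_Q_pair (p : Idx m) (c₁ c₂ : F) :
    Cfsg.quadFormPlus m F (c₁ • Pi.single p 1 + c₂ • Pi.single p.swap 1) = c₁ * c₂ := by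
  unfold Cfsg.quadFormPlus
  rcases p with j | j
  · rw [Finset.sum_eq_single j]
    · simp
    · intro i _ hij
      simp [Pi.single_apply, hij]
    · intro hj
      exact absurd (Finset.mem_univ j) hj
  · rw [Finset.sum_eq_single j]
    · simp [mul_comm]
    · intro i _ hij
      simp [Pi.single_apply, hij]
    · intro hj
      exact absurd (Finset.mem_univ j) hj

/-- LEAF MONOSWAP: the permutation of a monomial isometry commutes with `Sum.swap`, and `d a * d ā = 1`. -/
theorem isMono_swap {g : OG F m} {π : Equiv.Perm (Idx m)} {d : Idx m → F} (h : IsMono (mt g) π d) :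
    (∀ a, π a.swap = (π a).swap) ∧ ∀ a, d a * d a.swap = 1 := by
  have hsw := torus1_swap h
  refine ⟨hsw, fun a => ?_⟩
  have h1 := mt_preserves g (Pi.single a 1 + Pi.single a.swap 1)
  rw [torus1_Q_pair, Matrix.mulVec_add, h.mulVec_single, h.mulVec_single, hsw a,
    monoswap_Q_pair] at h1
  exact h1

end Cfsg.Agent.Lib.Helper40.OpBN
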