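import Mathlib
import Cfsg.Agent.Lib.Helper40.OpBNDefs

/-! # S2548 hive (helper40, OpBN): leaf POLAR (helper2, backup) -/

set_option autoImplicit false

namespace Cfsg.Agent.Lib.Helper40.OpBN

open Matrix Cfsg Cfsg.Agent.Lib.Helper13 Cfsg.Agent.Lib.Helper41.SpBN

variable {F : Type*} [Field F] {m : ℕ}

/-- the polar expansion of `Q = ∑ x_i y_i` -/
theorem polar_expand (u v : Idx m → F) :
    Cfsg.quadFormPlus m F (u + v) = Cfsg.quadFormPlus m F u + Cfsg.quadFormPlus m F v +
      ∑ i : Fin m, (u (Sum.inl i) * v (Sum.inr i) + u (Sum.inr i) * v (Sum.inl i)) := by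
  unfold Cfsg.quadFormPlus
  rw [← Finset.sum_add_distrib, ← Finset.sum_add_distrib]
  apply Finset.sum_congr rfl
  intro i _
  simp only [Pi.add_apply]
  ring

theorem polar_Q_single (a : Idx m) : Cfsg.quadFormPlus m F (Pi.single a 1) = 0 := by
  unfold Cfsg.quadFormPlus
  apply Finset.sum_eq_zero
  intro i _
  rcases a with j | j
  · simp [Pi.single_apply]
  · simp [Pi.single_apply]

theorem polar_single_single (a s : Idx m) :
    ∑ i : Fin m, ((Pi.single a 1 : Idx m → F) (Sum.inl i) * (Pi.single s 1 : Idx m → F) (Sum.inr i) +
      (Pi.single a 1 : Idx m → F) (Sum.inr i) * (Pi.single s 1 : Idx m → F) (Sum.inl i)) =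
      if s = a.swap then 1 else 0 := by
  rcases a with j | j <;> rcases s with k | k
  · rw [if_neg (by simp)]
    apply Finset.sum_eq_zero
    intro i _
    simp [Pi.single_apply]
  · by_cases hjk : k = j
    · subst hjk
      rw [if_pos (by rfl), Finset.sum_eq_single k]
      · simp
      · intro i _ hik
        simp [Pi.single_apply, hik]
      · intro hk
        exact absurd (Finset.mem_univ k) hk
    · rw [if_neg (by simpa using hjk)]
      apply Finset.sum_eq_zero
      intro i _
      by_cases hij : i = j
      · have hik : i ≠ k := fun e => hjk (e.symm.trans hij)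
        simp [Pi.single_apply, hik]
      · simp [Pi.single_apply, hij]
  · by_cases hjk : k = j
    · subst hjk
      rw [if_pos (by rfl), Finset.sum_eq_single k]
      · simp
      · intro i _ hik
        simp [Pi.single_apply, hik]
      · intro hk
        exact absurd (Finset.mem_univ k) hk
    · rw [if_neg (by simpa using hjk)]
      apply Finset.sum_eq_zero
      intro i _
      by_cases hij : i = j
      · have hik : i ≠ k := fun e => hjk (e.symm.trans hij)
        simp [Pi.single_apply, hik]
      · simp [Pi.single_apply, hij]
  · rw [if_neg (by simp)]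
    apply Finset.sum_eq_zero
    intro i _
    simp [Pi.single_apply]

/-- LEAF POLAR (2): every column of an isometry is a singular vector. -/
theorem mt_sing (g : OG F m) (a : Idx m) :
    ∑ i : Fin m, mt g (Sum.inl i) a * mt g (Sum.inr i) a = 0 := by
  have h := mt_preserves g (Pi.single a 1)
  rw [polar_Q_single] at h
  unfold Cfsg.quadFormPlus at h
  simp only [Matrix.mulVec_single_one, Matrix.col_apply] at h
  exact h

/-- LEAF POLAR: the Gram relations of an isometry -/
theorem mt_gram (g : OG F m) (a s : Idx m) :
    ∑ i : Fin m, (mt g (Sum.inl i) a * mt g (Sum.inr i) s + mt g (Sum.inr i) a * mt g (Sum.inl i) s) =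
      if s = a.swap then 1 else 0 := by
  have h := mt_preserves g (Pi.single a 1 + Pi.single s 1)
  rw [Matrix.mulVec_add, polar_expand, polar_expand, mt_preserves, mt_preserves,
    polar_single_single] at h
  have h' := add_left_cancel h
  simp only [Matrix.mulVec_single_one, Matrix.col_apply] at h'
  exact h'

end Cfsg.Agent.Lib.Helper40.OpBN
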