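import Mathlib
import Cfsg.Agent.Lib.Helper40.OpBNDefs
import Cfsg.Agent.Lib.Helper2.OpBN_TORUS1core
import Cfsg.Agent.Lib.Helper2.OpBN_TORUS

/-! # S2548 hive (helper40, OpBN): leaf TCONJ (helper2) -/

set_option autoImplicit false

namespace Cfsg.Agent.Lib.Helper40.OpBN

open Matrix Cfsg Cfsg.Agent.Lib.Helper13 Cfsg.Agent.Lib.Helper41.SpBN

variable {F : Type*} [Field F] {m : ℕ}

/-- LEAF TCONJ: `n t n⁻¹` is diagonal for `t` diagonal and `n` monomial. -/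
theorem T_conj : ∀ n ∈ NoAll F m, ∀ t ∈ Bo F m ⊓ No F m, n * t * n⁻¹ ∈ Bo F m ⊓ No F m :=
  tconj_core mem_Bo_inf_No_iff

end Cfsg.Agent.Lib.Helper40.OpBN
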