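import Mathlib
import Cfsg.Agent.Lib.Helper40.OpBNDefs
import Cfsg.Agent.Lib.Helper2.OpBN_TORUS1core
import Cfsg.Agent.Lib.Helper2.OpBN_TORUS
import Cfsg.Agent.Lib.Helper2.OpBN_POLAR
import Cfsg.Agent.Lib.Helper2.OpBN_CARDT

/-! # S2548 hive (helper40, OpBN): leaf UNIP (helper2): `|B| = p^a |T|`

Clone of helper45 `OoUNI`: `b ↦ diag(b)` is a monoid homomorphism on the upper triangular isometries;
its kernel (the unitriangular isometries) is a `p`-group and a complement of `T = B ∩ N` in `B`. -/

set_option autoImplicit false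

namespace Cfsg.Agent.Lib.Helper40.OpBN

open Matrix Cfsg Cfsg.Agent.Lib.Helper13 Cfsg.Agent.Lib.Helper41.SpBN

variable {F : Type*} [Field F] {m : ℕ}

/-- the order `e_0 < … < e_{m-1} < f_{m-1} < … < f_0` -/
def unip_rk : Idx m → ℕ
  | Sum.inl i => (i : ℕ)
  | Sum.inr i => 2 * m - 1 - (i : ℕ)

theorem unip_rk_injective : Function.Injective (unip_rk : Idx m → ℕ) := by
  rintro (i | i) (j | j) h
  · have h' : (i : ℕ) = (j : ℕ) := h
    rw [Fin.ext h']
  · exfalso
    have := i.2
    have := j.2
    simp only [unip_rk] at h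
    omega
  · exfalso
    have := i.2
    have := j.2
    simp only [unip_rk] at h
    omega
  · have h1 := i.2
    have h2 := j.2
    simp only [unip_rk] at h
    have h' : (i : ℕ) = (j : ℕ) := by omega
    rw [Fin.ext h']

theorem unip_rk_le (a : Idx m) : unip_rk a ≤ 2 * m := by
  rcases a with i | i
  · have := i.2
    simp only [unip_rk]; omega
  · simp only [unip_rk]; omega

/-- own copy of leaf LOWER: for `g ∈ B` the `(inr,inr)` block is lower triangular -/
theorem unip_lower {g : OG F m} (hg : g ∈ Bo F m) :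
    ∀ i j : Fin m, (i : ℕ) < (j : ℕ) → mt g (Sum.inr i) (Sum.inr j) = 0 := by
  obtain ⟨h1, h2⟩ := torus1_shape hg
  have hAD : ((mt g).toBlocks₁₁)ᵀ * (mt g).toBlocks₂₂ = 1 := by
    ext i j
    rw [Matrix.mul_apply]
    have h := mt_gram g (Sum.inl i) (Sum.inr j)
    have e : ∀ k : Fin m, mt g (Sum.inl k) (Sum.inl i) * mt g (Sum.inr k) (Sum.inr j) +
        mt g (Sum.inr k) (Sum.inl i) * mt g (Sum.inl k) (Sum.inr j) =
        ((mt g).toBlocks₁₁)ᵀ i k * (mt g).toBlocks₂₂ k j := by
      intro k
      rw [h2 k i, zero_mul, add_zero]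
      rfl
    rw [Finset.sum_congr rfl (fun k _ => e k)] at h
    rw [h, Sum.swap_inl, Matrix.one_apply]
    by_cases hij : i = j
    · rw [if_pos hij, if_pos (by rw [hij])]
    · rw [if_neg hij, if_neg]
      intro e'
      exact hij (Sum.inr_injective e').symm
  have hA : ((mt g).toBlocks₁₁).BlockTriangular id := by
    intro i j hij
    exact h1 i j hij
  have hAt := hA.transpose
  letI : Invertible ((mt g).toBlocks₁₁)ᵀ := invertibleOfRightInverse _ _ hAD
  have hinv := Matrix.blockTriangular_inv_of_blockTriangular hAt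
  have hD : (mt g).toBlocks₂₂ = (((mt g).toBlocks₁₁)ᵀ)⁻¹ := (Matrix.inv_eq_right_inv hAD).symm
  intro i j hij
  have := hinv (i := i) (j := j) (by
    change OrderDual.toDual j < OrderDual.toDual i
    rw [OrderDual.toDual_lt_toDual]
    exact hij)
  rw [← hD] at this
  exact this

/-- the elements of `B` are upper triangular for `unip_rk` -/
theorem unip_tri {g : OG F m} (hg : g ∈ Bo F m) (a b : Idx m) (h : unip_rk b < unip_rk a) :
    mt g a b = 0 := by
  obtain ⟨h1, h2⟩ := torus1_shape hg
  rcases a with i | i <;> rcases b with j | j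
  · exact h1 i j h
  · exfalso
    have := i.2
    have := j.2
    simp only [unip_rk] at h
    omega
  · exact h2 i j
  · apply unip_lower hg i j
    have := i.2
    have := j.2
    simp only [unip_rk] at h
    omega

/-- the diagonal of a product of upper triangular matrices -/
theorem unip_diag_mul (g h : OG F m) (hg : g ∈ Bo F m) (hh : h ∈ Bo F m) (a : Idx m) :
    mt (g * h) a a = mt g a a * mt h a a := by
  rw [mt_mul, Matrix.mul_apply, Finset.sum_eq_single a]
  · intro b _ hb
    rcases lt_or_gt_of_ne (fun h' => hb (unip_rk_injective h')) with h1 | h1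
    · rw [unip_tri hg a b h1, zero_mul]
    · rw [unip_tri hh b a h1, mul_zero]
  · intro h'
    exact absurd (Finset.mem_univ _) h'

variable (F m) in
/-- the diagonal, as a monoid homomorphism on the Borel subgroup -/
def unip_delta : ↥(Bo F m) →* (Idx m → F) where
  toFun b a := mt (b : OG F m) a a
  map_one' := by
    funext a
    show mt ((1 : ↥(Bo F m)) : OG F m) a a = 1
    rw [Subgroup.coe_one, mt_one, Matrix.one_apply_eq]
  map_mul' b c := by
    funext a
    show mt ((b * c : ↥(Bo F m)) : OG F m) a a = mt (b : OG F m) a a * mt (c : OG F m) a a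
    rw [Subgroup.coe_mul]
    exact unip_diag_mul b.1 c.1 b.2 c.2 a

theorem unip_delta_apply (b : ↥(Bo F m)) (a : Idx m) :
    unip_delta F m b a = mt (b : OG F m) a a := rfl

/-- powers of a strictly upper triangular matrix -/
theorem unip_strict_pow {N : Matrix (Idx m) (Idx m) F}
    (hN : ∀ a b : Idx m, unip_rk b ≤ unip_rk a → N a b = 0) (k : ℕ) :
    ∀ a b : Idx m, unip_rk b < unip_rk a + k → (N ^ k) a b = 0 := by
  induction k with
  | zero =>
    intro a b hab
    rw [pow_zero, Matrix.one_apply_ne]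
    intro h
    subst h
    omega
  | succ k ih =>
    intro a b hab
    rw [pow_succ, Matrix.mul_apply]
    apply Finset.sum_eq_zero
    intro l _
    by_cases hl : unip_rk l < unip_rk a + k
    · rw [ih a l hl, zero_mul]
    · rw [hN l b (by omega), mul_zero]

theorem unip_strict_pow_eq_zero {N : Matrix (Idx m) (Idx m) F}
    (hN : ∀ a b : Idx m, unip_rk b ≤ unip_rk a → N a b = 0) {k : ℕ} (hk : 2 * m + 1 ≤ k) :
    N ^ k = 0 := by
  ext a b
  rw [unip_strict_pow hN k a b (by have := unip_rk_le b; omega)]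
  rfl

/-- the unitriangular isometries form a `p`-group -/
theorem unip_isPGroup (p : ℕ) [Fact p.Prime] [CharP F p] :
    IsPGroup p (unip_delta F m).ker := by
  rintro ⟨u, hu⟩
  refine ⟨2 * m + 1, ?_⟩
  apply Subtype.ext
  apply Subtype.ext
  show (u : OG F m) ^ (p ^ (2 * m + 1)) = 1
  apply mt_ext
  rw [cardt_mt_pow, mt_one]
  by_cases hm : m = 0
  · subst hm
    ext a b
    exact (IsEmpty.false (a.elim id id)).elim
  have hne : Nonempty (Idx m) := ⟨Sum.inl ⟨0, Nat.pos_of_ne_zero hm⟩⟩
  have hcp : CharP (Matrix (Idx m) (Idx m) F) p := Matrix.charP p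
  rw [MonoidHom.mem_ker] at hu
  have hN : ∀ a b : Idx m, unip_rk b ≤ unip_rk a → (mt (u : OG F m) - 1) a b = 0 := by
    intro a b hab
    rw [Matrix.sub_apply]
    rcases lt_or_eq_of_le hab with h | h
    · have hne' : a ≠ b := by
        rintro rfl
        exact lt_irrefl _ h
      rw [unip_tri u.2 a b h, Matrix.one_apply_ne hne', sub_zero]
    · have hab' : b = a := unip_rk_injective h
      subst hab'
      have h1 := congrFun hu b
      rw [unip_delta_apply] at h1
      rw [h1, Matrix.one_apply_eq]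
      exact sub_self _
  have h0 : (mt (u : OG F m) - 1) ^ (p ^ (2 * m + 1)) = 0 :=
    unip_strict_pow_eq_zero hN (le_of_lt (Nat.lt_pow_self (Fact.out : p.Prime).one_lt))
  have hc : Commute (mt (u : OG F m) - 1) 1 := Commute.one_right _
  have h1 := add_pow_char_pow_of_commute (p := p) (n := 2 * m + 1)
    (x := mt (u : OG F m) - 1) (y := 1) hc
  rw [sub_add_cancel, h0, one_pow, zero_add] at h1
  exact h1

/-- the diagonal entries of an upper triangular isometry -/
theorem unip_diag_pair (b : ↥(Bo F m)) (i : Fin m) :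
    mt (b : OG F m) (Sum.inl i) (Sum.inl i) * mt (b : OG F m) (Sum.inr i) (Sum.inr i) = 1 := by
  have h := mt_gram (b : OG F m) (Sum.inl i) (Sum.inr i)
  rw [Sum.swap_inl, if_pos rfl, Finset.sum_eq_single i] at h
  · rw [(torus1_shape b.2).2 i i, zero_mul, add_zero] at h
    exact h
  · intro k _ hki
    rw [(torus1_shape b.2).2 k i, zero_mul, add_zero]
    rcases lt_or_gt_of_ne (fun e => hki (Fin.ext e)) with h1 | h1
    · rw [unip_lower b.2 k i h1, mul_zero]
    · rw [(torus1_shape b.2).1 k i h1, zero_mul]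
  · intro h'
    exact absurd (Finset.mem_univ _) h'

/-- diagonal isometries with prescribed diagonal -/
theorem unip_exists_diag (dd : Idx m → F) (hdd : ∀ i : Fin m, dd (Sum.inl i) * dd (Sum.inr i) = 1) :
    ∃ t : OG F m, mt t = Matrix.diagonal dd := by
  have hne : ∀ a, dd a ≠ 0 := by
    intro a
    rcases a with i | i
    · exact left_ne_zero_of_mul_eq_one (hdd i)
    · exact right_ne_zero_of_mul_eq_one (hdd i)
  apply exists_mt_eq (Matrix.diagonal dd) (Matrix.diagonal (fun a => (dd a)⁻¹))
  · rw [Matrix.diagonal_mul_diagonal, ← Matrix.diagonal_one]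
    congr 1
    funext a
    exact mul_inv_cancel₀ (hne a)
  · rw [Matrix.diagonal_mul_diagonal, ← Matrix.diagonal_one]
    congr 1
    funext a
    exact inv_mul_cancel₀ (hne a)
  · intro v
    unfold Cfsg.quadFormPlus
    apply Finset.sum_congr rfl
    intro i _
    rw [Matrix.mulVec_diagonal, Matrix.mulVec_diagonal]
    linear_combination (v (Sum.inl i) * v (Sum.inr i)) * hdd i

/-- the unitriangular isometries are a complement of the torus in the Borel subgroup -/
theorem unip_complement :
    Subgroup.IsComplement' (unip_delta F m).ker ((Bo F m ⊓ No F m).subgroupOf (Bo F m)) := by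
  apply Subgroup.isComplement'_of_disjoint_and_mul_eq_univ
  · rw [Subgroup.disjoint_def]
    intro x hx hxT
    rw [MonoidHom.mem_ker] at hx
    rw [Subgroup.mem_subgroupOf, mem_Bo_inf_No_iff] at hxT
    apply Subtype.ext
    apply mt_ext
    rw [Subgroup.coe_one, mt_one]
    ext a b
    by_cases hab : a = b
    · subst hab
      have h1 := congrFun hx a
      rw [unip_delta_apply] at h1
      rw [h1, Matrix.one_apply_eq]
      rfl
    · rw [hxT a b hab, Matrix.one_apply_ne hab]
  · rw [Set.eq_univ_iff_forall]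
    intro b
    obtain ⟨t, ht⟩ := unip_exists_diag (F := F) (m := m) (fun a => mt (b : OG F m) a a)
      (fun i => unip_diag_pair b i)
    have htT : t ∈ Bo F m ⊓ No F m := by
      rw [mem_Bo_inf_No_iff]
      intro a c hac
      rw [ht, Matrix.diagonal_apply_ne _ hac]
    have htB : t ∈ Bo F m := htT.1
    have hδ : unip_delta F m ⟨t, htB⟩ = unip_delta F m b := by
      funext a
      rw [unip_delta_apply, unip_delta_apply]
      show mt t a a = _
      rw [ht, Matrix.diagonal_apply_eq]
    rw [Set.mem_mul]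
    refine ⟨b * (⟨t, htB⟩ : ↥(Bo F m))⁻¹, ?_, ⟨t, htB⟩, ?_, ?_⟩
    · rw [SetLike.mem_coe, MonoidHom.mem_ker, map_mul, ← hδ, ← map_mul, mul_inv_cancel, map_one]
    · rw [SetLike.mem_coe, Subgroup.mem_subgroupOf]
      exact htT
    · rw [inv_mul_cancel_right]

/-- LEAF UNIP: `|B| = p^a |T|` -/
theorem card_Bo [Fintype F] (p : ℕ) [Fact p.Prime] [CharP F p] :
    ∃ a : ℕ, Nat.card ↥(Bo F m) = p ^ a * Nat.card ↥(Bo F m ⊓ No F m) := by
  have hc := unip_complement (F := F) (m := m)
  have h1 := hc.card_mul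
  obtain ⟨a, ha⟩ := IsPGroup.iff_card.mp (unip_isPGroup (F := F) (m := m) p)
  refine ⟨a, ?_⟩
  have h2 : Nat.card ↥((Bo F m ⊓ No F m).subgroupOf (Bo F m)) = Nat.card ↥(Bo F m ⊓ No F m) :=
    Nat.card_congr (Subgroup.subgroupOfEquivOfLe inf_le_left).toEquiv
  rw [← h1, ha, h2]

end Cfsg.Agent.Lib.Helper40.OpBN
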