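import Mathlib
import Cfsg.Agent.Lib.Helper41.PSLnDefs

/-! # S5163 leaf T12 (helper2 for helper41): the centre of `UU` -/

set_option autoImplicit false

namespace Cfsg.Agent.Lib.Helper41.PSLn

open Matrix

variable {n : ℕ} {K : Type*} [Field K] [Fintype K]

/-- T12. the centre of `UU` consists of the `tv a b c` (`a` first, `b` last index). -/
theorem center_UU_form {a b : Fin n} (ha : ∀ i, a ≤ i) (hb : ∀ i, i ≤ b) (hab : a ≠ b)
    {z : SLn n K} (hz : z ∈ UU n K)
    (hc : ∀ (i j : Fin n) (hij : i < j), z * tv (ne_of_lt hij) 1 = tv (ne_of_lt hij) 1 * z) :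
    ∃ c : K, z = tv hab c := by
  have hcm : ∀ (i j : Fin n) (_ : i < j),
      (z : Matrix (Fin n) (Fin n) K) * Matrix.transvection i j (1 : K) =
        Matrix.transvection i j (1 : K) * (z : Matrix (Fin n) (Fin n) K) := by
    intro i j hij
    have h := congrArg (fun y : SLn n K => (y : Matrix (Fin n) (Fin n) K)) (hc i j hij)
    simp only [Matrix.SpecialLinearGroup.coe_mul] at h
    exact h
  -- columns
  have hcol : ∀ (i j : Fin n), i < j → ∀ k, k ≠ i → (z : Matrix (Fin n) (Fin n) K) k i = 0 := by
    intro i j hij k hki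
    have h1 := congrFun (congrFun (hcm i j hij) k) j
    rw [Matrix.mul_transvection_apply_same, Matrix.transvection_mul_apply_of_ne i j k j hki, one_mul]
      at h1
    simpa using h1
  -- rows
  have hrow : ∀ (i j : Fin n), i < j → ∀ l, l ≠ j → (z : Matrix (Fin n) (Fin n) K) j l = 0 := by
    intro i j hij l hlj
    have h1 := congrFun (congrFun (hcm i j hij) i) l
    rw [Matrix.transvection_mul_apply_same, Matrix.mul_transvection_apply_of_ne i j i l hlj, one_mul]
      at h1
    simpa using h1.symm
  refine ⟨(z : Matrix (Fin n) (Fin n) K) a b, ?_⟩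
  apply Subtype.ext
  ext k l
  show (z : Matrix (Fin n) (Fin n) K) k l =
    (Matrix.transvection a b ((z : Matrix (Fin n) (Fin n) K) a b)) k l
  rw [Matrix.transvection, Matrix.add_apply]
  by_cases hkl : k = l
  · subst hkl
    have hs : Matrix.single a b ((z : Matrix (Fin n) (Fin n) K) a b) k k = 0 :=
      Matrix.single_apply_of_ne a b _ k k (fun h => hab (h.1.trans h.2.symm))
    rw [Matrix.one_apply_eq, hz.2 k, hs, add_zero]
  · rw [Matrix.one_apply_ne hkl, zero_add]
    by_cases hlb : l = b
    · by_cases hka : k = a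
      · subst hlb; subst hka
        rw [Matrix.single_apply_same]
      · have hs : Matrix.single a b ((z : Matrix (Fin n) (Fin n) K) a b) k l = 0 :=
          Matrix.single_apply_of_ne a b _ k l (fun h => hka h.1.symm)
        rw [hs]
        have hak : a < k := lt_of_le_of_ne (ha k) (Ne.symm hka)
        exact hrow a k hak l (Ne.symm hkl)
    · have hs : Matrix.single a b ((z : Matrix (Fin n) (Fin n) K) a b) k l = 0 :=
        Matrix.single_apply_of_ne a b _ k l (fun h => hlb h.2.symm)
      rw [hs]
      have hlb' : l < b := lt_of_le_of_ne (hb l) hlb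
      exact hcol l b hlb' k hkl

end Cfsg.Agent.Lib.Helper41.PSLn
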