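import Mathlib
import Cfsg.Agent.Lib.Helper90.PsuDefs

set_option autoImplicit false

namespace Cfsg.Agent.Lib.Helper90.Psu

open Matrix Cfsg.Agent.Lib.Helper99 Cfsg.Agent.Lib.Helper13

variable {F : Type*} [Field F] [Fintype F] {q n : ℕ}

local notation "hh" => Cfsg.hermForm n F q

theorem lemr_conj_pow {G : Type*} [Group G] (a n0 : G) (N : ℕ)
    (hconj : n0⁻¹ * a * n0 = a⁻¹ ^ N) (k : ℕ) : n0⁻¹ * a ^ k * n0 = (a⁻¹ ^ N) ^ k := by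
  rw [← hconj]
  induction k with
  | zero => simp
  | succ k ih =>
    rw [pow_succ, pow_succ, ← ih]
    group

/-- PSU-LEMR (pure group theory).  `a^k (u n0) a^(-k) = (a^k u a^(-k)) * n0 * (n0⁻¹ a n0)^k * a^(-k)`. -/
theorem lemmaR {G : Type*} [Group G] (a n0 u : G) (N : ℕ) (hconj : n0⁻¹ * a * n0 = a⁻¹ ^ N)
    (H : Subgroup G) (ha : a ∈ H) (hb : u * n0 ∈ H) (k : ℕ) :
    a ^ k * u * (a ^ k)⁻¹ * u⁻¹ ∈ H := by
  have hak : a ^ k ∈ H := H.pow_mem ha k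
  have h1 : a ^ k * (u * n0) * (a ^ k)⁻¹ ∈ H := H.mul_mem (H.mul_mem hak hb) (H.inv_mem hak)
  have h2 := lemr_conj_pow a n0 N hconj k
  -- a^k u n0 a^-k = (a^k u a^-k u⁻¹) * (u n0) * (n0⁻¹ a^k n0) * a^-k
  have h3 : (a⁻¹ ^ N) ^ k ∈ H := H.pow_mem (H.pow_mem (H.inv_mem ha) N) k
  have h4 : a ^ k * u * (a ^ k)⁻¹ * u⁻¹ =
      (a ^ k * (u * n0) * (a ^ k)⁻¹) * (a ^ k * ((a⁻¹ ^ N) ^ k)⁻¹) * (u * n0)⁻¹ := by
    rw [← h2]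
    group
  rw [h4]
  exact H.mul_mem (H.mul_mem h1 (H.mul_mem hak (H.inv_mem h3))) (H.inv_mem hb)

end Cfsg.Agent.Lib.Helper90.Psu
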