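import Mathlib
import Cfsg.Agent.Lib.Helper90.PsuDefs
import Cfsg.Agent.Lib.Helper42.PsuTS
import Cfsg.Agent.Lib.Helper99.PsuHEIS
import Cfsg.Agent.Lib.Helper9.PsuSORB
import Cfsg.Agent.Lib.Helper86.PsuSELT
import Cfsg.Agent.Lib.Helper42.PsuSQ1

set_option autoImplicit false

namespace Cfsg.Agent.Lib.Helper90.Psu

open Matrix Cfsg.Agent.Lib.Helper99 Cfsg.Agent.Lib.Helper13

variable {F : Type*} [Field F] [Fintype F] {q n : ℕ}

local notation "hh" => Cfsg.hermForm n F q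

theorem sasm_exists_gen (hF : Fintype.card F = q ^ 2) : ∃ ζ : F, ζ ≠ 0 ∧ orderOf ζ = q ^ 2 - 1 := by
  classical
  obtain ⟨ζu, hζu⟩ := IsCyclic.exists_generator (α := Fˣ)
  refine ⟨(ζu : F), ζu.ne_zero, ?_⟩
  rw [orderOf_units, orderOf_eq_card_of_forall_mem_zpowers hζu, Nat.card_eq_fintype_card,
    Fintype.card_units, hF]

omit [Fintype F] in
theorem sasm_hh_r0_e (hq : q ≠ 0) (e : Fin n → F) (hsupp : ∀ k : Fin n, 2 ≤ k.val → e k = 0) :
    hh (fun j : Fin n => if 2 ≤ j.val then (1 : F) else 0) e = 0 := by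
  apply hermForm_eq_zero_of_disjoint _ _ _ hq
  intro k
  by_cases hk : 2 ≤ k.val
  · right
    exact hsupp k hk
  · left
    simp [hk]

/-- PSU-SASM -/
theorem caseS (hF : Fintype.card F = q ^ 2) (hq3 : 3 ≤ q) (hn : n = 3 ∨ n = 4) :
    ∃ x y : GL (Fin n) F, x ∈ suGL (F := F) n q ∧ y ∈ suGL (F := F) n q ∧
      utvGroup n q F ≤ Subgroup.closure ({x, y} : Set (GL (Fin n) F)) := by
  have hn3 : 3 ≤ n := by rcases hn with h | h <;> omega
  obtain ⟨e, f, hee, hff, hef, hsupp0⟩ := exists_hyp_pair_coords (n := n) hF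
    (⟨0, by omega⟩ : Fin n) ⟨1, by omega⟩ (by simp [Fin.ext_iff])
  have hsupp : ∀ k : Fin n, 2 ≤ k.val → e k = 0 ∧ f k = 0 := by
    intro k hk
    apply hsupp0 k
    · intro h
      rw [h] at hk
      simp at hk
    · intro h
      rw [h] at hk
      simp at hk
  obtain ⟨ζ, hζ0, hζ⟩ := sasm_exists_gen hF
  obtain ⟨a, n0, haS, hn0S, hae, har, hn0e, hn0f, hrel⟩ :=
    exists_caseS_elts hF hn3 e f hee hff hef hsupp ζ hζ0
  obtain ⟨β0, hβ0'⟩ := exists_trace_eq' hF
    (-(hh (fun j : Fin n => if 2 ≤ j.val then (1 : F) else 0)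
      (fun j : Fin n => if 2 ≤ j.val then (1 : F) else 0)))
    (by rw [frob_neg hF, hermForm_self_pow hF])
  have hβ0 : β0 + β0 ^ q + hh (fun j : Fin n => if 2 ≤ j.val then (1 : F) else 0)
      (fun j : Fin n => if 2 ≤ j.val then (1 : F) else 0) = 0 := by
    rw [hβ0']
    ring
  have hr0e := sasm_hh_r0_e (q := q) (by omega) e (fun k hk => (hsupp k hk).1)
  have huS : heis q e (fun j : Fin n => if 2 ≤ j.val then (1 : F) else 0) β0 ∈ suGL (F := F) n q :=
    heis_mem_suGL hF hee hr0e hβ0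
  refine ⟨a, heis q e (fun j : Fin n => if 2 ≤ j.val then (1 : F) else 0) β0 * n0, haS,
    Subgroup.mul_mem _ huS hn0S, ?_⟩
  set H := Subgroup.closure ({a, heis q e (fun j : Fin n => if 2 ≤ j.val then (1 : F) else 0) β0 * n0} :
    Set (GL (Fin n) F)) with hH
  have haH : a ∈ H := Subgroup.subset_closure (by simp)
  have hbH : heis q e (fun j : Fin n => if 2 ≤ j.val then (1 : F) else 0) β0 * n0 ∈ H :=
    Subgroup.subset_closure (by simp)
  have hQ := caseS_Q1 hF hq3 hn e f hee hff hef hsupp ζ hζ a n0 haS hn0S hae har hrel β0 hβ0 H haH hbH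
  have huH : heis q e (fun j : Fin n => if 2 ≤ j.val then (1 : F) else 0) β0 ∈ H := by
    apply hQ _ _ _ hβ0
    intro j hj
    have : ¬ 2 ≤ j.val := by omega
    simp [this]
  have hn0H : n0 ∈ H := by
    have := H.mul_mem (H.inv_mem huH) hbH
    rwa [inv_mul_cancel_left] at this
  have hT := caseS_orbit hF hn3 e f hee hff hef hsupp hQ n0 hn0H hn0S.1 hn0e hn0f
  exact utvGroup_le_of_Tset hT

end Cfsg.Agent.Lib.Helper90.Psu
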