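import Mathlib
import Cfsg.Agent.Lib.Helper81.Q4Defs
import Cfsg.Agent.Lib.Helper59.Q4A2E

/-! # S6002 leaf Q4-A3F (helper2 for helper81): an element of order 3 of `N(R)` centralizes a
non-scalar involution of `R`; core lemma with Q4-A2E as a hypothesis -/

set_option autoImplicit false

namespace Cfsg.Agent.Lib.Helper81.Q4

open Matrix

variable {F : Type*} [Field F]

theorem a3f_ne_neg (h2 : (2 : F) ≠ 0) (M : GL I4 F) :
    (M : Matrix I4 I4 F) ≠ -(M : Matrix I4 I4 F) := by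
  intro h
  have h1 : ((M⁻¹ : GL I4 F) : Matrix I4 I4 F) * (M : Matrix I4 I4 F) = 1 := by
    rw [← Units.val_mul, inv_mul_cancel, Units.val_one]
  have h3 : (1 : Matrix I4 I4 F) = -1 := by
    have : ((M⁻¹ : GL I4 F) : Matrix I4 I4 F) * (M : Matrix I4 I4 F) =
        -(((M⁻¹ : GL I4 F) : Matrix I4 I4 F) * (M : Matrix I4 I4 F)) := by
      conv_lhs => rw [h]
      rw [Matrix.mul_neg]
    rw [h1] at this
    exact this
  have h4 := congrFun (congrFun h3 (Sum.inl 0)) (Sum.inl 0)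
  simp only [Matrix.one_apply_eq, Matrix.neg_apply] at h4
  apply h2
  linear_combination h4

theorem a3f_not_comm (h2 : (2 : F) ≠ 0) (R : Subgroup (GL I4 F)) (e : Fin 5 → GL I4 F)
    (he : Frame R e) (i j : Fin 5) (hij : i ≠ j) :
    (e i).val * (e j).val ≠ (e j).val * (e i).val := by
  intro h
  have h1 := he.anti i j hij
  rw [h] at h1
  exact a3f_ne_neg h2 (e j * e i) (by simpa [Units.val_mul] using h1)

/-- conjugation by `y` on matrices -/
def a3f_C (y : GL I4 F) (M : Matrix I4 I4 F) : Matrix I4 I4 F :=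
  (y : Matrix I4 I4 F) * M * ((y⁻¹ : GL I4 F) : Matrix I4 I4 F)

theorem a3f_C_neg (y : GL I4 F) (M : Matrix I4 I4 F) : a3f_C y (-M) = -a3f_C y M := by
  unfold a3f_C
  rw [Matrix.mul_neg, Matrix.neg_mul]

theorem a3f_C_coe (y g : GL I4 F) : a3f_C y (g : Matrix I4 I4 F) = ((y * g * y⁻¹ : GL I4 F)).val := by
  unfold a3f_C
  rw [Units.val_mul, Units.val_mul]

theorem a3f_C_cube (y : GL I4 F) (hy3 : y ^ 3 = 1) (M : Matrix I4 I4 F) :
    a3f_C y (a3f_C y (a3f_C y M)) = M := by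
  unfold a3f_C
  have h1 : (y : Matrix I4 I4 F) * ((y : Matrix I4 I4 F) * (y : Matrix I4 I4 F)) = 1 := by
    rw [← Units.val_mul, ← Units.val_mul, ← Units.val_one]
    congr 1
    rw [← hy3, pow_succ, pow_succ, pow_one, mul_assoc]
  have h2 : ((y⁻¹ : GL I4 F) : Matrix I4 I4 F) * (((y⁻¹ : GL I4 F) : Matrix I4 I4 F) *
      ((y⁻¹ : GL I4 F) : Matrix I4 I4 F)) = 1 := by
    rw [← Units.val_mul, ← Units.val_mul, ← Units.val_one]
    congr 1
    have : (y⁻¹) ^ 3 = 1 := by rw [inv_pow, hy3, inv_one]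
    rw [← this, pow_succ, pow_succ, pow_one, mul_assoc]
  calc (y : Matrix I4 I4 F) * ((y : Matrix I4 I4 F) * ((y : Matrix I4 I4 F) * M *
        ((y⁻¹ : GL I4 F) : Matrix I4 I4 F)) * ((y⁻¹ : GL I4 F) : Matrix I4 I4 F)) *
        ((y⁻¹ : GL I4 F) : Matrix I4 I4 F)
      = ((y : Matrix I4 I4 F) * ((y : Matrix I4 I4 F) * (y : Matrix I4 I4 F))) * M *
        (((y⁻¹ : GL I4 F) : Matrix I4 I4 F) * (((y⁻¹ : GL I4 F) : Matrix I4 I4 F) *
          ((y⁻¹ : GL I4 F) : Matrix I4 I4 F))) := by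
        simp only [Matrix.mul_assoc]
    _ = M := by rw [h1, h2, Matrix.one_mul, Matrix.mul_one]

/-- a self-map of `Fin 5` whose cube is the identity has a fixed point -/
theorem a3f_fixed (f : Function.End (Fin 5)) (h : ∀ i, f (f (f i)) = i) : ∃ i, f i = i := by
  haveI : Fact (Nat.Prime 3) := ⟨by norm_num⟩
  have hf : f ^ 3 ^ 1 = 1 := by
    have e3 : f ^ 3 ^ 1 = f * f * f := by rw [pow_one, pow_succ, pow_succ, pow_one]
    rw [e3]
    funext i
    exact h i
  have hmod := Equiv.Perm.card_fixedPoints_modEq (f := f) (p := 3) (n := 1) hf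
  rw [Fintype.card_fin, Fintype.card_eq_nat_card] at hmod
  have hne : Nonempty (Function.fixedPoints f) := by
    by_contra hemp
    rw [not_nonempty_iff] at hemp
    rw [Nat.card_of_isEmpty] at hmod
    exact absurd hmod (by decide)
  obtain ⟨⟨i, hi⟩⟩ := hne
  exact ⟨i, hi⟩

/-- Q4-A3F with Q4-A2E as a hypothesis -/
theorem a3f_core (h2 : (2 : F) ≠ 0) (R : Subgroup (GL I4 F))
    (e : Fin 5 → GL I4 F) (he : Frame R e)
    (hA2E : ∀ g : GL I4 F, g ∈ R → (g : Matrix I4 I4 F) * (g : Matrix I4 I4 F) = 1 →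
      ¬ IsScalar g → ∃ i, (g : Matrix I4 I4 F) = ((e i : GL I4 F) : Matrix I4 I4 F) ∨
        (g : Matrix I4 I4 F) = -((e i : GL I4 F) : Matrix I4 I4 F))
    (y : GL I4 F) (hy : y ∈ Subgroup.normalizer (R : Set (GL I4 F))) (hy3 : y ^ 3 = 1) :
    ∃ g ∈ R, ¬ IsScalar g ∧ y * g = g * y := by
  classical
  have hns : ∀ i, ¬ IsScalar (e i) := by
    rintro i ⟨c, hc⟩
    obtain ⟨j, hj⟩ := exists_ne i
    apply a3f_not_comm h2 R e he i j hj.symm
    rw [hc]
    simp
  have hP : ∀ i, ∃ j, a3f_C y (e i).val = (e j).val ∨ a3f_C y (e i).val = -(e j).val := by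
    intro i
    have hmem : y * e i * y⁻¹ ∈ R := (Subgroup.mem_normalizer_iff.mp hy (e i)).mp (he.mem i)
    have hsq : ((y * e i * y⁻¹ : GL I4 F)).val * ((y * e i * y⁻¹ : GL I4 F)).val = 1 := by
      have : (y * e i * y⁻¹) * (y * e i * y⁻¹) = 1 := by
        have h1 : e i * e i = 1 := Units.ext (by simpa using he.sq i)
        calc (y * e i * y⁻¹) * (y * e i * y⁻¹) = y * (e i * e i) * y⁻¹ := by group
          _ = 1 := by rw [h1]; group
      rw [← Units.val_mul, this, Units.val_one]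
    have hnsc : ¬ IsScalar (y * e i * y⁻¹) := by
      rintro ⟨c, hc⟩
      apply hns i
      refine ⟨c, ?_⟩
      have h1 : (e i : GL I4 F) = y⁻¹ * (y * e i * y⁻¹) * y := by group
      have h3 : ((y⁻¹ : GL I4 F) : Matrix I4 I4 F) * (y : Matrix I4 I4 F) = 1 := by
        rw [← Units.val_mul, inv_mul_cancel, Units.val_one]
      rw [h1, Units.val_mul, Units.val_mul, hc, Matrix.mul_smul, Matrix.mul_one, Matrix.smul_mul, h3]
    rw [a3f_C_coe]
    exact hA2E _ hmem hsq hnsc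
  choose σ hσ using hP
  have hσ3 : ∀ i, σ (σ (σ i)) = i := by
    intro i
    by_contra hne
    have key : (e i).val = (e (σ (σ (σ i)))).val ∨ (e i).val = -(e (σ (σ (σ i)))).val := by
      have h1 := hσ i
      have h2' := hσ (σ i)
      have h3 := hσ (σ (σ i))
      have hc := a3f_C_cube y hy3 (e i).val
      rcases h1 with h1 | h1 <;> rcases h2' with h2' | h2' <;> rcases h3 with h3 | h3 <;>
        simp only [h1, h2', h3, a3f_C_neg, neg_neg] at hc <;>
        first | exact Or.inl hc.symm | exact Or.inr hc.symm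
    apply a3f_not_comm h2 R e he i _ (Ne.symm hne)
    rcases key with h | h
    · rw [h]
    · rw [h, Matrix.neg_mul, Matrix.mul_neg]
  obtain ⟨i, hi⟩ : ∃ i, σ i = i := a3f_fixed σ hσ3
  have h := hσ i
  rw [hi] at h
  rcases h with h | h
  · refine ⟨e i, he.mem i, hns i, ?_⟩
    have h1 : y * e i * y⁻¹ = e i := Units.ext (by rw [← a3f_C_coe]; exact h)
    calc y * e i = (y * e i * y⁻¹) * y := by group
      _ = e i * y := by rw [h1]
  · exfalso
    have hc := a3f_C_cube y hy3 (e i).val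
    simp only [h, a3f_C_neg, neg_neg] at hc
    exact a3f_ne_neg h2 (e i) hc.symm

/-- Q4-A3F -/
theorem exists_fixed_involution {F : Type*} [Field F] [Fintype F] (h2 : (2 : F) ≠ 0)
    (R : Subgroup (GL I4 F)) (hR : MinusLike R)
    (e : Fin 5 → GL I4 F) (he : Frame R e)
    (y : GL I4 F) (hy : y ∈ Subgroup.normalizer (R : Set (GL I4 F))) (hy3 : y ^ 3 = 1) :
    ∃ g ∈ R, ¬ IsScalar g ∧ y * g = g * y :=
  a3f_core h2 R e he (fun g hg hsq hns => involution_eq_frame h2 R hR e he g hg hsq hns) y hy hy3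

end Cfsg.Agent.Lib.Helper81.Q4
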