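import Mathlib
import Cfsg.Agent.Lib.Helper81.Q4Defs

/-! # S6002 leaf Q4-I5S (helper2 for helper81): the Sylow glue, with Q4-I5C as a hypothesis of the
core lemma -/

set_option autoImplicit false

namespace Cfsg.Agent.Lib.Helper81.Q4

open Matrix

/-- abstract Sylow glue: if commuting elements of order 5 generate cyclic groups, then any element
of order dividing 5 is conjugate into the group generated by a given element of order 5 -/
theorem i5s_core {G : Type*} [Group G] [Finite G]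
    (hcomm : ∀ a b : G, a ^ 5 = 1 → a ≠ 1 → b ^ 5 = 1 → a * b = b * a → b ∈ Subgroup.zpowers a)
    (x y : G) (hx : x ^ 5 = 1) (hy : y ^ 5 = 1) (hy1 : y ≠ 1) :
    ∃ g : G, g⁻¹ * x * g ∈ Subgroup.zpowers y := by
  haveI : Fact (Nat.Prime 5) := ⟨by norm_num⟩
  have hP : ∀ w : G, w ^ 5 = 1 → IsPGroup 5 (Subgroup.zpowers w) := by
    rintro w hw ⟨g, hg⟩
    obtain ⟨n, rfl⟩ := Subgroup.mem_zpowers_iff.mp hg
    refine ⟨1, ?_⟩
    apply Subtype.ext
    show (w ^ n) ^ 5 ^ 1 = 1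
    rw [pow_one, ← zpow_natCast, ← _root_.zpow_mul, mul_comm, _root_.zpow_mul, zpow_natCast, hw, _root_.one_zpow]
  obtain ⟨P, hPy⟩ := (hP y hy).exists_le_sylow
  obtain ⟨Q, hQx⟩ := (hP x hx).exists_le_sylow
  obtain ⟨g, hg⟩ := MulAction.exists_smul_eq G Q P
  have hxP : g * x * g⁻¹ ∈ (P : Subgroup G) := by
    rw [← hg, Sylow.coe_subgroup_smul]
    have h1 : x ∈ (Q : Subgroup G) := hQx (Subgroup.mem_zpowers x)
    have h2 := Subgroup.smul_mem_pointwise_smul x (MulAut.conj g) (Q : Subgroup G) h1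
    simpa [MulAut.smul_def] using h2
  have hyP : y ∈ (P : Subgroup G) := hPy (Subgroup.mem_zpowers y)
  -- a central element of order 5 of `P`
  haveI : Nontrivial (P : Subgroup G) := by
    refine ⟨⟨⟨y, hyP⟩, 1, ?_⟩⟩
    intro h
    exact hy1 (congrArg Subtype.val h)
  haveI := P.isPGroup'.center_nontrivial
  have hdvd : 5 ∣ Nat.card (Subgroup.center (P : Subgroup G)) := by
    have hZ : IsPGroup 5 (Subgroup.center (P : Subgroup G)) := P.isPGroup'.to_subgroup _
    rcases hZ.card_eq_or_dvd with h1 | h1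
    · exact absurd h1 (Finite.one_lt_card).ne'
    · exact h1
  obtain ⟨z, hz⟩ := exists_prime_orderOf_dvd_card' 5 hdvd
  obtain ⟨Z, hZ⟩ : ∃ Z : G, Z = ((z : (P : Subgroup G)) : G) := ⟨_, rfl⟩
  have hZ5 : Z ^ 5 = 1 := by
    have h1 : z ^ 5 = 1 := by
      have := pow_orderOf_eq_one z
      rwa [hz] at this
    have h2 := congrArg (fun w : Subgroup.center (P : Subgroup G) => ((w : (P : Subgroup G)) : G)) h1
    simpa [hZ] using h2
  have hZ1 : Z ≠ 1 := by
    intro h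
    have h1 : z = 1 := by
      apply Subtype.ext
      apply Subtype.ext
      rw [← hZ, h]
      rfl
    rw [h1, orderOf_one] at hz
    norm_num at hz
  have hZc : ∀ w : G, w ∈ (P : Subgroup G) → Z * w = w * Z := by
    intro w hw
    have h1 := Subgroup.mem_center_iff.mp z.2 ⟨w, hw⟩
    have h2 := congrArg Subtype.val h1
    rw [hZ]
    exact h2.symm
  have h1 : Z ∈ Subgroup.zpowers y := hcomm y Z hy hy1 hZ5 (hZc y hyP).symm
  have hx5 : (g * x * g⁻¹) ^ 5 = 1 := by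
    rw [conj_pow, hx, mul_one, mul_inv_cancel]
  have h2 : g * x * g⁻¹ ∈ Subgroup.zpowers Z := hcomm Z _ hZ5 hZ1 hx5 (hZc _ hxP)
  refine ⟨g⁻¹, ?_⟩
  rw [inv_inv]
  exact (Subgroup.zpowers_le.mpr h1) h2

variable {F : Type*} [Field F] [Fintype F]

/-- Q4-I5S with Q4-I5C as a hypothesis -/
theorem i5s_of_commute
    (hI5C : ∀ a b : GL I4 F, a ^ 5 = 1 → a ≠ 1 → b ^ 5 = 1 → a * b = b * a →
      b ∈ Subgroup.zpowers a)
    (S : Subgroup (GL I4 F)) (x y : GL I4 F) (hxS : x ∈ S) (hyS : y ∈ S)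
    (hx : x ^ 5 = 1) (hy : y ^ 5 = 1) (hy1 : y ≠ 1) :
    ∃ g ∈ S, g⁻¹ * x * g ∈ Subgroup.zpowers y := by
  haveI : Finite (GL I4 F) := inferInstance
  have hcomm : ∀ a b : S, a ^ 5 = 1 → a ≠ 1 → b ^ 5 = 1 → a * b = b * a →
      b ∈ Subgroup.zpowers a := by
    intro a b ha ha1 hb hab
    have h := hI5C a b (by exact_mod_cast congrArg Subtype.val ha) (fun h => ha1 (Subtype.ext h))
      (by exact_mod_cast congrArg Subtype.val hb) (by exact_mod_cast congrArg Subtype.val hab)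
    obtain ⟨k, hk⟩ := Subgroup.mem_zpowers_iff.mp h
    exact Subgroup.mem_zpowers_iff.mpr ⟨k, Subtype.ext (by simpa using hk)⟩
  obtain ⟨g, hg⟩ := i5s_core hcomm ⟨x, hxS⟩ ⟨y, hyS⟩ (Subtype.ext (by simpa using hx))
    (Subtype.ext (by simpa using hy)) (fun h => hy1 (congrArg Subtype.val h))
  obtain ⟨k, hk⟩ := Subgroup.mem_zpowers_iff.mp hg
  refine ⟨g, g.2, Subgroup.mem_zpowers_iff.mpr ⟨k, ?_⟩⟩
  have := congrArg Subtype.val hk
  simpa using this

end Cfsg.Agent.Lib.Helper81.Q4
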