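import Mathlib
import Cfsg.Prelude.Def_ClassicalGeometry
import Cfsg.Prelude.Def_GeometricClasses
import Cfsg.Agent.Lib.Helper65.QeDefs
import Cfsg.Agent.Lib.Helper43.OrthCardNum
import Cfsg.Agent.Lib.Helper40.OpBN_CHAR2core
import Cfsg.Agent.Lib.Helper37.OpBN_INVOL

/-! # S5988 hive "Qe" (helper65): leaf QE-UNIMEM (`siegel_mem_omega`), by helper2.

The Siegel element `[[1,S],[0,1]]` lies in `Ω⁺_{2d}(q)`, all `q`, `d ≥ 3`.
Characteristic two: it fixes the totally singular subspace `⟨e_i⟩` pointwise, so its Dickson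
invariant vanishes.  Odd characteristic `p`: it has order dividing `p`, and squares lie in the
commutator subgroup since the isometry group is generated by involutions. -/

set_option autoImplicit false

namespace Cfsg.Agent.Lib.Helper65.Qe

open Polynomial Module Matrix
open Cfsg.Agent.Lib.Helper2.BG Cfsg.Agent.Lib.Helper99 Cfsg.Agent.Lib.Helper48.Ti
open Cfsg.Agent.Lib.Helper5.Hy
open Cfsg.Agent.Lib.Helper40.OpBN Cfsg.Agent.Lib.Helper8

section concrete

variable {F : Type*} [Field F]

/-- in a group generated by involutions every square lies in the commutator subgroup -/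
theorem unimem_sq_mem_commutator {G : Type*} [Group G]
    (hgen : Subgroup.closure {g : G | g * g = 1} = ⊤) (g : G) : g * g ∈ commutator G := by
  set φ : G →* Abelianization G := (powMonoidHom 2).comp Abelianization.of with hφ
  have hker : Subgroup.closure {g : G | g * g = 1} ≤ φ.ker := by
    rw [Subgroup.closure_le]
    intro h hh
    rw [SetLike.mem_coe, MonoidHom.mem_ker, hφ, MonoidHom.comp_apply, powMonoidHom_apply, ← map_pow,
      pow_two, (show h * h = 1 from hh), map_one]
  rw [hgen] at hker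
  have hg : φ g = 1 := MonoidHom.mem_ker.mp (hker (Subgroup.mem_top g))
  rw [hφ, MonoidHom.comp_apply, powMonoidHom_apply, ← map_pow, pow_two] at hg
  rw [← Abelianization.ker_of G]
  exact MonoidHom.mem_ker.mpr hg

/-- an element of odd order of a group generated by involutions lies in the commutator subgroup -/
theorem unimem_mem_commutator_of_odd {G : Type*} [Group G]
    (hgen : Subgroup.closure {g : G | g * g = 1} = ⊤) (g : G) {n : ℕ} (hn : Odd n)
    (hg : g ^ n = 1) : g ∈ commutator G := by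
  obtain ⟨k, rfl⟩ := hn
  have h1 : g = (g * g) ^ (k + 1) := by
    rw [← pow_two, ← pow_mul]
    have : 2 * (k + 1) = (2 * k + 1) + 1 := by ring
    rw [this, pow_succ, hg, one_mul]
  rw [h1]
  exact Subgroup.pow_mem _ (unimem_sq_mem_commutator hgen g) _

/-- the upper triangular half of `siegelS` -/
def unimemT (d : ℕ) (F : Type*) [Field F] : Matrix (Fin d) (Fin d) F := fun a b =>
  if (a : ℕ) + 1 = (b : ℕ) ∧ (a : ℕ) % 2 = 0 then 1 else 0

theorem unimem_siegelS_eq (d : ℕ) : siegelS d F = unimemT d F - (unimemT d F)ᵀ := by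
  funext a b
  simp only [siegelS, unimemT, Matrix.sub_apply, Matrix.transpose_apply]
  split_ifs with h1 h2 h2
  · omega
  · simp
  · simp
  · simp

/-- `wᵀ S w = 0` -/
theorem unimem_dot (d : ℕ) (w : Fin d → F) : w ⬝ᵥ (siegelS d F *ᵥ w) = 0 := by
  rw [unimem_siegelS_eq, Matrix.sub_mulVec, dotProduct_sub, sub_eq_zero,
    Matrix.mulVec_transpose, dotProduct_comm w (w ᵥ* unimemT d F), ← Matrix.dotProduct_mulVec]

theorem unimem_mulVec_inl (d : ℕ) (S : Matrix (Fin d) (Fin d) F) (v : Fin d ⊕ Fin d → F)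
    (i : Fin d) :
    ((Matrix.fromBlocks 1 S 0 1 : Matrix (Fin d ⊕ Fin d) (Fin d ⊕ Fin d) F) *ᵥ v) (Sum.inl i) =
      v (Sum.inl i) + (S *ᵥ (v ∘ Sum.inr)) i := by
  rw [Matrix.fromBlocks_mulVec, Sum.elim_inl, Pi.add_apply, Matrix.one_mulVec]
  rfl

theorem unimem_mulVec_inr (d : ℕ) (S : Matrix (Fin d) (Fin d) F) (v : Fin d ⊕ Fin d → F)
    (i : Fin d) :
    ((Matrix.fromBlocks 1 S 0 1 : Matrix (Fin d ⊕ Fin d) (Fin d ⊕ Fin d) F) *ᵥ v) (Sum.inr i) =
      v (Sum.inr i) := by
  rw [Matrix.fromBlocks_mulVec, Sum.elim_inr, Pi.add_apply, Matrix.one_mulVec,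
    Matrix.zero_mulVec]
  simp

theorem unimem_mul (d : ℕ) (S S' : Matrix (Fin d) (Fin d) F) :
    (Matrix.fromBlocks 1 S 0 1 : Matrix (Fin d ⊕ Fin d) (Fin d ⊕ Fin d) F) *
      Matrix.fromBlocks 1 S' 0 1 = Matrix.fromBlocks 1 (S + S') 0 1 := by
  rw [Matrix.fromBlocks_multiply]
  simp [add_comm]

theorem unimem_pow (d : ℕ) (S : Matrix (Fin d) (Fin d) F) (n : ℕ) :
    (Matrix.fromBlocks 1 S 0 1 : Matrix (Fin d ⊕ Fin d) (Fin d ⊕ Fin d) F) ^ n =
      Matrix.fromBlocks 1 (n • S) 0 1 := by
  induction n with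
  | zero => simp [Matrix.fromBlocks_one]
  | succ n ih => rw [pow_succ, ih, unimem_mul, succ_nsmul]

/-- the Siegel element as an element of the general linear group -/
def unimemX (d : ℕ) (F : Type*) [Field F] : GL (Fin d ⊕ Fin d) F :=
  ⟨siegelMat d F, Matrix.fromBlocks 1 (-siegelS d F) 0 1,
    by rw [siegelMat, unimem_mul, add_neg_cancel, Matrix.fromBlocks_one],
    by rw [siegelMat, unimem_mul, neg_add_cancel, Matrix.fromBlocks_one]⟩

theorem unimemX_mem_isometryGroup (d : ℕ) :
    unimemX d F ∈ Cfsg.isometryGroup F (Cfsg.quadFormPlus d F) := by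
  intro u _
  show Cfsg.quadFormPlus d F (siegelMat d F *ᵥ u) = Cfsg.quadFormPlus d F u
  unfold Cfsg.quadFormPlus
  rw [siegelMat]
  simp only [unimem_mulVec_inl, unimem_mulVec_inr, add_mul, Finset.sum_add_distrib]
  have h := unimem_dot d (u ∘ Sum.inr)
  rw [dotProduct_comm] at h
  have h' : ∑ i, (siegelS d F *ᵥ (u ∘ Sum.inr)) i * u (Sum.inr i) = 0 := h
  rw [h', add_zero]

/-- QE-UNIMEM (ALL `q`): the Siegel element `[[1,S],[0,1]]` lies in `Ω` (`d ≥ 3`). -/
theorem siegel_mem_omega [Fintype F] (d : ℕ) (hd : 3 ≤ d) :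
    ∃ x : GL (Fin d ⊕ Fin d) F, (x : MP d F) = siegelMat d F ∧
      x ∈ Cfsg.Geo.omegaGL (Cfsg.quadFormPlus d F) := by
  refine ⟨unimemX d F, rfl, ?_⟩
  have hgood : ¬ (d = 2 ∧ Fintype.card F = 2) := by omega
  set g : OG F d := ⟨unimemX d F, unimemX_mem_isometryGroup d⟩ with hg
  have hmt : mt g = siegelMat d F := rfl
  suffices hcomm : g ∈ commutator (OG F d) from ⟨g, hcomm, rfl⟩
  by_cases h2 : (2 : F) = 0
  · -- characteristic two: the Dickson invariant vanishes
    have hpar : dicksonPar (plusForm d F) (char2E F d g) = 0 := by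
      apply char2_par_of_stab h2 hgood g
      intro v
      rw [char2_mem_W, char2_mem_W, hmt, siegelMat]
      simp only [unimem_mulVec_inr]
    have hker : g ∈ (char2D hgood).ker := by
      rw [MonoidHom.mem_ker, char2D_eq_one_iff]
      exact hpar
    exact char2_ker_le (by omega) h2 hgood hker
  · -- odd characteristic: odd order in a group generated by involutions
    haveI : Fact (ringChar F).Prime := ⟨CharP.char_is_prime F (ringChar F)⟩
    have hp : (ringChar F).Prime := Fact.out
    have hp2 : ringChar F ≠ 2 := by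
      intro h
      apply h2
      have := CharP.cast_eq_zero F (ringChar F)
      rw [h] at this
      exact_mod_cast this
    have hodd : Odd (ringChar F) := hp.odd_of_ne_two hp2
    apply unimem_mem_commutator_of_odd (closure_invol_eq_top hgood) g hodd
    apply Subtype.ext
    apply Units.ext
    show ((unimemX d F ^ ringChar F : GL (Fin d ⊕ Fin d) F) : MP d F) = 1
    rw [Units.val_pow_eq_pow_val]
    show siegelMat d F ^ ringChar F = 1
    rw [siegelMat, unimem_pow, ← Nat.cast_smul_eq_nsmul F, CharP.cast_eq_zero F (ringChar F),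
      zero_smul, Matrix.fromBlocks_one]

end concrete

end Cfsg.Agent.Lib.Helper65.Qe
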