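import Mathlib

set_option autoImplicit false

/-! Two quadratic endomorphisms whose product is unipotent generate a unipotent group. -/

namespace Cfsg.Agent.Lib.Helper2.Quad

variable {K : Type*} [Field K] {W : Type*} [AddCommGroup W] [Module K W]

/-- the "upper central series" of the pair `(A,B)` -/
def chain (A B : Module.End K W) : ℕ → Submodule K W
  | 0 => ⊥
  | (i + 1) => (chain A B i).comap A ⊓ (chain A B i).comap B

variable (A B : Module.End K W)

theorem mem_chain_succ {i : ℕ} {w : W} :
    w ∈ chain A B (i + 1) ↔ A w ∈ chain A B i ∧ B w ∈ chain A B i := by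
  simp [chain]

theorem mem_chain_zero {w : W} : w ∈ chain A B 0 ↔ w = 0 := by
  simp [chain]

theorem chain_le_succ (i : ℕ) : chain A B i ≤ chain A B (i + 1) := by
  induction i with
  | zero => intro w hw; rw [mem_chain_zero] at hw; rw [hw]; exact Submodule.zero_mem _
  | succ i ih =>
    intro w hw
    rw [mem_chain_succ] at hw ⊢
    exact ⟨ih hw.1, ih hw.2⟩

theorem chain_mono : Monotone (chain A B) := monotone_nat_of_le_succ (chain_le_succ A B)

theorem A_mem_chain {i : ℕ} {w : W} (hw : w ∈ chain A B i) : A w ∈ chain A B i := by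
  cases i with
  | zero => rw [mem_chain_zero] at hw; rw [hw, map_zero]; exact Submodule.zero_mem _
  | succ i => exact chain_le_succ A B i ((mem_chain_succ A B).mp hw).1

theorem B_mem_chain {i : ℕ} {w : W} (hw : w ∈ chain A B i) : B w ∈ chain A B i := by
  cases i with
  | zero => rw [mem_chain_zero] at hw; rw [hw, map_zero]; exact Submodule.zero_mem _
  | succ i => exact chain_le_succ A B i ((mem_chain_succ A B).mp hw).2

theorem chain_ne_succ (hA : ∀ w, A (A w) = 0) (hB : ∀ w, B (B w) = 0) (m : ℕ)
    (hN : (A + B + A * B) ^ m = 0) (i : ℕ) (hi : chain A B i ≠ ⊤) :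
    chain A B i ≠ chain A B (i + 1) := by
  classical
  have hex : ∃ w₀, w₀ ∉ chain A B i := by
    by_contra h
    push Not at h
    exact hi (Submodule.eq_top_iff'.mpr h)
  obtain ⟨w₀, hw₀⟩ := hex
  have hNinv : ∀ u ∈ chain A B i, (A + B + A * B) u ∈ chain A B i := by
    intro u hu
    simp only [LinearMap.add_apply, Module.End.mul_apply]
    exact Submodule.add_mem _ (Submodule.add_mem _ (A_mem_chain A B hu) (B_mem_chain A B hu))
      (A_mem_chain A B (B_mem_chain A B hu))
  have hfin : ∃ t, ((A + B + A * B) ^ t) w₀ ∈ chain A B i :=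
    ⟨m, by rw [hN]; exact Submodule.zero_mem _⟩
  have ht0 : Nat.find hfin ≠ 0 := by
    intro h0
    have := Nat.find_spec hfin
    rw [h0, pow_zero] at this
    exact hw₀ this
  obtain ⟨s, hs⟩ := Nat.exists_eq_succ_of_ne_zero ht0
  have hw : ((A + B + A * B) ^ s) w₀ ∉ chain A B i :=
    Nat.find_min hfin (by rw [hs]; exact Nat.lt_succ_self s)
  have hNw : (A + B + A * B) (((A + B + A * B) ^ s) w₀) ∈ chain A B i := by
    have := Nat.find_spec hfin
    rw [hs, pow_succ'] at this
    exact this
  set w := ((A + B + A * B) ^ s) w₀ with hwdef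
  have hc : (A + B + A * B) w = A w + B w + A (B w) := by
    simp only [LinearMap.add_apply, Module.End.mul_apply]
  have hABw : A (B w) ∈ chain A B i := by
    have h1 : A ((A + B + A * B) w) = A (B w) := by
      rw [hc, map_add, map_add, hA, hA, zero_add, add_zero]
    rw [← h1]
    exact A_mem_chain A B hNw
  have hsum : A w + B w ∈ chain A B i := by
    have : A w + B w = (A + B + A * B) w - A (B w) := by rw [hc]; abel
    rw [this]
    exact Submodule.sub_mem _ hNw hABw
  intro heq
  by_cases hBw : B w ∈ chain A B i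
  · have hAw : A w ∈ chain A B i := by
      have : A w = (A w + B w) - B w := by abel
      rw [this]
      exact Submodule.sub_mem _ hsum hBw
    apply hw
    rw [heq, mem_chain_succ]
    exact ⟨hAw, hBw⟩
  · apply hBw
    rw [heq, mem_chain_succ]
    refine ⟨hABw, ?_⟩
    rw [hB]
    exact Submodule.zero_mem _

theorem chain_eq_top [IsNoetherian K W] (hA : ∀ w, A (A w) = 0) (hB : ∀ w, B (B w) = 0) (m : ℕ)
    (hN : (A + B + A * B) ^ m = 0) : ∃ n, chain A B n = ⊤ := by
  obtain ⟨n, hn⟩ := monotone_stabilizes_iff_noetherian.mpr (inferInstance : IsNoetherian K W)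
    ⟨chain A B, chain_mono A B⟩
  refine ⟨n, ?_⟩
  by_contra h
  exact chain_ne_succ A B hA hB m hN n h (hn (n + 1) (Nat.le_succ n))

/-- endomorphisms acting trivially on the factors of the chain -/
def Good (h : Module.End K W) : Prop :=
  ∀ i, ∀ w ∈ chain A B (i + 1), h w - w ∈ chain A B i

theorem good_one : Good A B 1 := by
  intro i w _
  simp

theorem Good.mem {h : Module.End K W} (hh : Good A B h) {i : ℕ} {w : W}
    (hw : w ∈ chain A B i) : h w ∈ chain A B i := by
  cases i with
  | zero => rw [mem_chain_zero] at hw; rw [hw, map_zero]; exact Submodule.zero_mem _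
  | succ i =>
    have : h w = (h w - w) + w := by abel
    rw [this]
    exact Submodule.add_mem _ (chain_le_succ A B i (hh i w hw)) hw

theorem good_mul {h h' : Module.End K W} (hh : Good A B h) (hh' : Good A B h') :
    Good A B (h * h') := by
  intro i w hw
  have : (h * h') w - w = (h (h' w) - h' w) + (h' w - w) := by
    rw [Module.End.mul_apply]; abel
  rw [this]
  exact Submodule.add_mem _ (hh i _ (hh'.mem A B hw)) (hh' i w hw)

theorem Good.pow_apply {h : Module.End K W} (hh : Good A B h) :
    ∀ i, ∀ w ∈ chain A B i, ((h - 1) ^ i) w = 0 := by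
  intro i
  induction i with
  | zero => intro w hw; rw [mem_chain_zero] at hw; rw [hw, map_zero]
  | succ i ih =>
    intro w hw
    rw [pow_succ, Module.End.mul_apply]
    apply ih
    have : (h - 1) w = h w - w := by simp
    rw [this]
    exact hh i w hw

end Cfsg.Agent.Lib.Helper2.Quad
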