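import Cfsg.Agent.Lib.Helper2.Quad1

set_option autoImplicit false

/-! Quadratic linear automorphisms: if `a * b` is unipotent then `⟨a, b⟩` is a `p`-group. -/

namespace Cfsg.Agent.Lib.Helper2.Quad

variable {K : Type*} [Field K] {W : Type*} [AddCommGroup W] [Module K W]

/-- `a - 1` as an endomorphism -/
def opA (a : W ≃ₗ[K] W) : Module.End K W := (a : W →ₗ[K] W) - 1

theorem opA_apply (a : W ≃ₗ[K] W) (w : W) : opA a w = a w - w := by
  simp [opA]

theorem coe_eq_one_add (a : W ≃ₗ[K] W) : ((a : W →ₗ[K] W) : Module.End K W) = 1 + opA a := by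
  simp [opA]

/-- `a` acts quadratically -/
def Quadratic (a : W ≃ₗ[K] W) : Prop := ∀ w : W, a (a w - w) = a w - w

theorem Quadratic.opA_sq {a : W ≃ₗ[K] W} (ha : Quadratic a) (w : W) : opA a (opA a w) = 0 := by
  rw [opA_apply, opA_apply, ha, sub_self]

theorem Quadratic.apply_apply {a : W ≃ₗ[K] W} (ha : Quadratic a) (w : W) :
    a (a w) = (2 : K) • a w - w := by
  have := ha w
  rw [map_sub] at this
  rw [two_smul]
  have h2 : a (a w) = (a (a w) - a w) + a w := by abel
  rw [h2, this]; abel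

theorem Quadratic.inv_apply {a : W ≃ₗ[K] W} (ha : Quadratic a) (w : W) :
    a⁻¹ w = (2 : K) • w - a w := by
  apply a.injective
  rw [LinearEquiv.coe_inv, LinearEquiv.apply_symm_apply, map_sub, map_smul, ha.apply_apply]
  abel

theorem coe_mul_sub_one (a b : W ≃ₗ[K] W) :
    (((a * b : W ≃ₗ[K] W) : W →ₗ[K] W) : Module.End K W) - 1 =
      opA a + opA b + opA a * opA b := by
  rw [LinearEquiv.coe_toLinearMap_mul, coe_eq_one_add a, coe_eq_one_add b]
  noncomm_ring

theorem good_a {a b : W ≃ₗ[K] W} : Good (opA a) (opA b) (a : W →ₗ[K] W) := by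
  intro i w hw
  have := ((mem_chain_succ _ _).mp hw).1
  rwa [opA_apply] at this

theorem good_b {a b : W ≃ₗ[K] W} : Good (opA a) (opA b) (b : W →ₗ[K] W) := by
  intro i w hw
  have := ((mem_chain_succ _ _).mp hw).2
  rwa [opA_apply] at this

theorem good_a_inv {a b : W ≃ₗ[K] W} (ha : Quadratic a) :
    Good (opA a) (opA b) ((a⁻¹ : W ≃ₗ[K] W) : W →ₗ[K] W) := by
  intro i w hw
  have h1 := ((mem_chain_succ _ _).mp hw).1
  rw [opA_apply] at h1
  have : ((a⁻¹ : W ≃ₗ[K] W) : W →ₗ[K] W) w - w = -(a w - w) := by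
    rw [LinearEquiv.coe_coe, ha.inv_apply, two_smul]; abel
  rw [this]
  exact Submodule.neg_mem _ h1

theorem good_b_inv {a b : W ≃ₗ[K] W} (hb : Quadratic b) :
    Good (opA a) (opA b) ((b⁻¹ : W ≃ₗ[K] W) : W →ₗ[K] W) := by
  intro i w hw
  have h1 := ((mem_chain_succ _ _).mp hw).2
  rw [opA_apply] at h1
  have : ((b⁻¹ : W ≃ₗ[K] W) : W →ₗ[K] W) w - w = -(b w - w) := by
    rw [LinearEquiv.coe_coe, hb.inv_apply, two_smul]; abel
  rw [this]
  exact Submodule.neg_mem _ h1

theorem good_of_mem_closure {a b : W ≃ₗ[K] W} (ha : Quadratic a) (hb : Quadratic b)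
    {h : W ≃ₗ[K] W} (hh : h ∈ Subgroup.closure ({a, b} : Set (W ≃ₗ[K] W))) :
    Good (opA a) (opA b) (h : W →ₗ[K] W) := by
  induction hh using Subgroup.closure_induction'' with
  | mem x hx =>
    rcases hx with rfl | hx
    · exact good_a
    · rw [Set.mem_singleton_iff] at hx; subst hx; exact good_b
  | inv_mem x hx =>
    rcases hx with rfl | hx
    · exact good_a_inv ha
    · rw [Set.mem_singleton_iff] at hx; subst hx; exact good_b_inv hb
  | one => exact good_one _ _
  | mul x y _ _ hx hy =>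
    rw [LinearEquiv.coe_toLinearMap_mul]
    exact good_mul _ _ hx hy

theorem charP_end (p : ℕ) [CharP K p] [Nontrivial W] : CharP (Module.End K W) p := by
  apply charP_of_injective_algebraMap (R := K) (A := Module.End K W) _ p
  intro k k' hkk
  obtain ⟨w, hw⟩ := exists_ne (0 : W)
  have := congrArg (fun f : Module.End K W => f w) hkk
  simp only [Module.algebraMap_end_apply] at this
  have h2 : (k - k') • w = 0 := by rw [sub_smul, this, sub_self]
  rcases smul_eq_zero.mp h2 with h | h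
  · exact sub_eq_zero.mp h
  · exact absurd h hw

/-- If `a`, `b` act quadratically and `a * b - 1` is nilpotent, then `⟨a,b⟩` is a `p`-group. -/
theorem isPGroup_of_nilpotent {p : ℕ} [Fact p.Prime] [CharP K p] [Nontrivial W]
    [IsNoetherian K W] {a b : W ≃ₗ[K] W} (ha : Quadratic a) (hb : Quadratic b) (m : ℕ)
    (hN : ((((a * b : W ≃ₗ[K] W) : W →ₗ[K] W) : Module.End K W) - 1) ^ m = 0) :
    IsPGroup p (Subgroup.closure ({a, b} : Set (W ≃ₗ[K] W))) := by
  rw [coe_mul_sub_one] at hN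
  obtain ⟨n, hn⟩ := chain_eq_top (opA a) (opA b) ha.opA_sq hb.opA_sq m hN
  have := charP_end (K := K) (W := W) p
  intro ⟨h, hh⟩
  have hgood := good_of_mem_closure ha hb hh
  have hpow : (((h : W →ₗ[K] W) : Module.End K W) - 1) ^ n = 0 := by
    ext w
    exact hgood.pow_apply _ _ n w (by rw [hn]; exact Submodule.mem_top)
  obtain ⟨j, hj⟩ : ∃ j, n ≤ p ^ j := ⟨n, (Nat.lt_pow_self (Fact.out : p.Prime).one_lt).le⟩
  refine ⟨j, ?_⟩
  have h1 : (((h : W →ₗ[K] W) : Module.End K W) - 1) ^ (p ^ j) = 0 := by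
    rw [← Nat.sub_add_cancel hj, pow_add, hpow, mul_zero]
  rw [sub_pow_char_pow_of_commute p j (Commute.one_right _), one_pow, sub_eq_zero] at h1
  apply Subtype.ext
  apply LinearEquiv.toLinearMap_injective
  have h2 : (((h ^ (p ^ j) : W ≃ₗ[K] W) : W →ₗ[K] W) : Module.End K W) =
      ((h : W →ₗ[K] W) : Module.End K W) ^ (p ^ j) :=
    map_pow (LinearEquiv.automorphismGroup.toLinearMapMonoidHom (R := K) (M := W)) h (p ^ j)
  simp only [Subgroup.coe_pow, Subgroup.coe_one]
  rw [h2, h1]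
  rfl

end Cfsg.Agent.Lib.Helper2.Quad
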