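import Cfsg.Agent.Lib.Helper2.Quad2

set_option autoImplicit false

/-! Existence of an eigenvector with eigenvalue `≠ 1` in the ground field. -/

namespace Cfsg.Agent.Lib.Helper2.Quad

open Polynomial

variable {K : Type*} [Field K] {W : Type*} [AddCommGroup W] [Module K W]

theorem list_ker (l : List (Module.End K W)) (u : W) (hu : u ≠ 0) (h : l.prod u = 0) :
    ∃ T ∈ l, ∃ u' : W, u' ≠ 0 ∧ T u' = 0 := by
  induction l with
  | nil => simp at h; exact absurd h hu
  | cons T l ih =>
    rw [List.prod_cons, Module.End.mul_apply] at h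
    by_cases h' : l.prod u = 0
    · obtain ⟨T', hT', r⟩ := ih h'
      exact ⟨T', List.mem_cons_of_mem _ hT', r⟩
    · exact ⟨T, List.mem_cons_self, l.prod u, h', h⟩

theorem pow_ker (T : Module.End K W) (n : ℕ) (v : W) (hv : v ≠ 0) (h : (T ^ n) v = 0) :
    ∃ u : W, u ≠ 0 ∧ T u = 0 := by
  induction n with
  | zero => simp at h; exact absurd h hv
  | succ n ih =>
    rw [pow_succ', Module.End.mul_apply] at h
    by_cases h' : (T ^ n) v = 0
    · exact ih h'
    · exact ⟨_, h', h⟩

theorem X_pow_card_sub_X_eq_prod [Fintype K] :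
    (X ^ Fintype.card K - X : K[X]) = ∏ ν : K, (X - C ν) := by
  have hdeg := FiniteField.X_pow_card_sub_X_natDegree_eq K (p := Fintype.card K)
    Fintype.one_lt_card
  have hroots := FiniteField.roots_X_pow_card_sub_X K
  have hmonic : (X ^ Fintype.card K - X : K[X]).Monic := by
    apply Polynomial.monic_X_pow_sub
    rw [degree_X]
    exact_mod_cast Fintype.one_lt_card
  have hcard : Multiset.card (X ^ Fintype.card K - X : K[X]).roots =
      (X ^ Fintype.card K - X : K[X]).natDegree := by
    rw [hroots, hdeg]; simp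
  have := Polynomial.C_leadingCoeff_mul_prod_multiset_X_sub_C hcard
  rw [hmonic.leadingCoeff, C_1, one_mul, hroots] at this
  rw [← this]
  rfl

theorem exists_eigenvector [Fintype K] {p : ℕ} [Fact p.Prime] [CharP K p]
    (g : W ≃ₗ[K] W) (e k : ℕ) (ho : orderOf g = p ^ e * k) (hk : k ∣ Fintype.card K - 1)
    (hnil : (((g : W →ₗ[K] W) : Module.End K W) - 1) ^ (p ^ e) ≠ 0) :
    ∃ lam : K, lam ≠ 1 ∧ ∃ w : W, w ≠ 0 ∧ g w = lam • w := by
  classical
  set gE : Module.End K W := ((g : W →ₗ[K] W) : Module.End K W) with hgE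
  set q := Fintype.card K with hq
  set n := p ^ e with hn
  have hq1 : 1 ≤ q := Fintype.card_pos
  have hg1 : gE ^ ((q - 1) * n) = 1 := by
    have h1 : g ^ ((q - 1) * n) = 1 := by
      apply orderOf_dvd_iff_pow_eq_one.mp
      rw [ho, mul_comm]
      exact Nat.mul_dvd_mul hk (dvd_refl _)
    have h2 := map_pow (LinearEquiv.automorphismGroup.toLinearMapMonoidHom (R := K) (M := W)) g
      ((q - 1) * n)
    rw [h1, map_one] at h2
    exact h2.symm
  -- polynomial identities
  have hPa : ((X ^ q - X : K[X])) ^ n = X ^ n * (X ^ ((q - 1) * n) - 1) := by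
    have : (X ^ q - X : K[X]) = X * (X ^ (q - 1) - 1) := by
      have : q = (q - 1) + 1 := by omega
      conv_lhs => rw [this, pow_succ]
      ring
    rw [this, mul_pow, hn, sub_pow_char_pow, one_pow, ← pow_mul]
  have hPb : ((X ^ q - X : K[X])) ^ n =
      (∏ ν ∈ (Finset.univ.erase (1 : K)), (X - C ν)) ^ n * (X - C 1) ^ n := by
    rw [X_pow_card_sub_X_eq_prod, ← Finset.mul_prod_erase Finset.univ _ (Finset.mem_univ (1 : K)),
      mul_pow, mul_comm]
  have hzero : (aeval gE (∏ ν ∈ (Finset.univ.erase (1 : K)), (X - C ν))) ^ n * (gE - 1) ^ n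
      = 0 := by
    have h1 : aeval gE (((X ^ q - X : K[X])) ^ n) = 0 := by
      rw [hPa]
      simp only [map_mul, map_pow, map_sub, aeval_X, map_one, hg1, sub_self, mul_zero]
    rw [hPb] at h1
    simpa using h1
  obtain ⟨v₀, hv₀⟩ : ∃ v₀, ((gE - 1) ^ n) v₀ ≠ 0 := by
    by_contra h
    push Not at h
    apply hnil
    ext w
    exact h w
  have hz2 := congrArg (fun f : Module.End K W => f v₀) hzero
  simp only [Module.End.mul_apply, LinearMap.zero_apply] at hz2
  obtain ⟨u, hu, hTu⟩ := pow_ker _ n _ hv₀ hz2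
  have hlist : aeval gE (∏ ν ∈ (Finset.univ.erase (1 : K)), (X - C ν)) =
      (((Finset.univ.erase (1 : K)).toList).map (fun ν => gE - algebraMap K _ ν)).prod := by
    rw [← Finset.prod_map_toList, map_list_prod, List.map_map]
    congr 1
    apply List.map_congr_left
    intro ν _
    simp
  rw [hlist] at hTu
  obtain ⟨T, hT, u', hu', hTu'⟩ := list_ker _ u hu hTu
  rw [List.mem_map] at hT
  obtain ⟨ν, hν, rfl⟩ := hT
  rw [Finset.mem_toList, Finset.mem_erase] at hν
  refine ⟨ν, hν.1, u', hu', ?_⟩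
  have : gE u' - ν • u' = 0 := by simpa using hTu'
  rw [sub_eq_zero] at this
  exact this

end Cfsg.Agent.Lib.Helper2.Quad
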