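import Cfsg.Agent.Lib.Helper2.Quad3

set_option autoImplicit false
set_option linter.unusedSectionVars false

/-! The invariant plane spanned by an eigenvector of `a * b` and its image under `a`. -/

namespace Cfsg.Agent.Lib.Helper2.Quad

variable {K : Type*} [Field K] {W : Type*} [AddCommGroup W] [Module K W]

section plane

variable {a b : W ≃ₗ[K] W} (ha : Quadratic a) (hb : Quadratic b) {w : W} (hw : w ≠ 0)
  {lam : K} (hlam : lam ≠ 1) (hg : a (b w) = lam • w)
include ha hb hw hlam hg

theorem lam_ne_zero : lam ≠ 0 := by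
  rintro rfl
  rw [zero_smul] at hg
  have h1 : b w = 0 := by
    have := a.injective (hg.trans (map_zero a).symm)
    exact this
  have h2 : w = 0 := b.injective (h1.trans (map_zero b).symm)
  exact hw h2

theorem b_apply_w : b w = lam • ((2 : K) • w - a w) := by
  have h1 : b w = a⁻¹ (lam • w) := by
    rw [← hg]
    simp
  rw [h1, map_smul, ha.inv_apply]

theorem a_w_eq : a w = (2 : K) • w - lam⁻¹ • b w := by
  have h0 := lam_ne_zero ha hb hw hlam hg
  rw [b_apply_w ha hb hw hlam hg, smul_smul, inv_mul_cancel₀ h0, one_smul]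
  abel

/-- the plane -/
def plane (a : W ≃ₗ[K] W) (w : W) : Submodule K W := Submodule.span K (Set.range ![w, a w])

omit ha hb hw hlam hg in
theorem w_mem_plane : w ∈ plane a w := Submodule.subset_span ⟨0, rfl⟩

omit ha hb hw hlam hg in
theorem aw_mem_plane : a w ∈ plane a w := Submodule.subset_span ⟨1, rfl⟩

theorem bw_mem_plane : b w ∈ plane a w := by
  rw [b_apply_w ha hb hw hlam hg]
  exact Submodule.smul_mem _ _ (Submodule.sub_mem _ (Submodule.smul_mem _ _ w_mem_plane)
    aw_mem_plane)

omit hb hw hlam hg in
theorem a_plane : ∀ x ∈ plane a w, a x ∈ plane a w := by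
  intro x hx
  have : plane a w ≤ (plane a w).comap (a : W →ₗ[K] W) := by
    apply Submodule.span_le.mpr
    rintro _ ⟨i, rfl⟩
    fin_cases i
    · exact aw_mem_plane
    · show a (a w) ∈ plane a w
      rw [ha.apply_apply]
      exact Submodule.sub_mem _ (Submodule.smul_mem _ _ aw_mem_plane) w_mem_plane
  exact this hx

theorem b_plane : ∀ x ∈ plane a w, b x ∈ plane a w := by
  intro x hx
  have hbw := bw_mem_plane ha hb hw hlam hg
  have : plane a w ≤ (plane a w).comap (b : W →ₗ[K] W) := by
    apply Submodule.span_le.mpr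
    rintro _ ⟨i, rfl⟩
    fin_cases i
    · exact hbw
    · show b (a w) ∈ plane a w
      rw [a_w_eq ha hb hw hlam hg, map_sub, map_smul, map_smul, hb.apply_apply]
      exact Submodule.sub_mem _ (Submodule.smul_mem _ _ hbw)
        (Submodule.smul_mem _ _ (Submodule.sub_mem _ (Submodule.smul_mem _ _ hbw) w_mem_plane))
  exact this hx

omit hb hw hlam hg in
theorem a_inv_plane : ∀ x ∈ plane a w, a⁻¹ x ∈ plane a w := by
  intro x hx
  rw [ha.inv_apply]
  exact Submodule.sub_mem _ (Submodule.smul_mem _ _ hx) (a_plane ha x hx)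

theorem b_inv_plane : ∀ x ∈ plane a w, b⁻¹ x ∈ plane a w := by
  intro x hx
  rw [hb.inv_apply]
  exact Submodule.sub_mem _ (Submodule.smul_mem _ _ hx) (b_plane ha hb hw hlam hg x hx)

theorem closure_plane {h : W ≃ₗ[K] W}
    (hh : h ∈ Subgroup.closure ({a, b} : Set (W ≃ₗ[K] W))) :
    ∀ x ∈ plane a w, h x ∈ plane a w := by
  induction hh using Subgroup.closure_induction'' with
  | mem x hx =>
    rcases hx with rfl | hx
    · exact a_plane ha
    · rw [Set.mem_singleton_iff] at hx; subst hx; exact b_plane ha hb hw hlam hg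
  | inv_mem x hx =>
    rcases hx with rfl | hx
    · exact a_inv_plane ha
    · rw [Set.mem_singleton_iff] at hx; subst hx; exact b_inv_plane ha hb hw hlam hg
  | one => intro x hx; exact hx
  | mul x y _ _ hx hy =>
    intro z hz
    rw [LinearEquiv.mul_apply]
    exact hx _ (hy _ hz)

theorem linearIndependent_plane : LinearIndependent K ![w, a w] := by
  rw [LinearIndependent.pair_iff]
  intro s t hst
  by_cases ht : t = 0
  · subst ht
    rw [zero_smul, add_zero] at hst
    rcases smul_eq_zero.mp hst with h | h
    · exact ⟨h, rfl⟩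
    · exact absurd h hw
  · exfalso
    -- `a w = μ w`
    have h1 : a w = (-(t⁻¹ * s)) • w := by
      have : t • a w = -(s • w) := by
        rw [eq_neg_iff_add_eq_zero, add_comm]; exact hst
      have h2 : a w = t⁻¹ • (t • a w) := by rw [smul_smul, inv_mul_cancel₀ ht, one_smul]
      rw [h2, this, smul_neg, smul_smul, neg_smul]
    set μ := -(t⁻¹ * s) with hμ
    have e1 : a w - w = (μ - 1) • w := by rw [h1, sub_smul, one_smul]
    have h3 := ha w
    rw [e1, map_smul, h1, smul_smul] at h3
    have h4 : ((μ - 1) * μ - (μ - 1)) • w = 0 := by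
      rw [sub_smul, h3, sub_self]
    have h5 : (μ - 1) * (μ - 1) = 0 := by
      rcases smul_eq_zero.mp h4 with h | h
      · rw [← h]; ring
      · exact absurd h hw
    have h6 : μ = 1 := by
      have := mul_self_eq_zero.mp h5
      exact sub_eq_zero.mp this
    rw [h6, one_smul] at h1
    -- now `b w = lam w`
    have h7 : b w = lam • w := by
      rw [b_apply_w ha hb hw hlam hg, h1, two_smul]
      congr 1
      abel
    have e2 : b w - w = (lam - 1) • w := by rw [h7, sub_smul, one_smul]
    have h8 := hb w
    rw [e2, map_smul, h7, smul_smul] at h8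
    have h9 : ((lam - 1) * lam - (lam - 1)) • w = 0 := by
      rw [sub_smul, h8, sub_self]
    have h10 : (lam - 1) * (lam - 1) = 0 := by
      rcases smul_eq_zero.mp h9 with h | h
      · rw [← h]; ring
      · exact absurd h hw
    exact hlam (sub_eq_zero.mp (mul_self_eq_zero.mp h10))

theorem finrank_plane : Module.finrank K (plane a w) = 2 := by
  unfold plane
  rw [finrank_span_eq_card (linearIndependent_plane ha hb hw hlam hg)]
  simp

end plane

end Cfsg.Agent.Lib.Helper2.Quad
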