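import Cfsg.Agent.Lib.Helper2.Quad4

set_option autoImplicit false

/-! The homomorphism to `SL(2,K)`. -/

namespace Cfsg.Agent.Lib.Helper2.Quad

variable {K : Type*} [Field K] {W : Type*} [AddCommGroup W] [Module K W]

theorem det_eq_one_of_sq (N : Matrix (Fin 2) (Fin 2) K) (h : (N - 1) * (N - 1) = 0) :
    N.det = 1 := by
  have h00 := congrFun (congrFun h 0) 0
  have h01 := congrFun (congrFun h 0) 1
  have h10 := congrFun (congrFun h 1) 0
  have h11 := congrFun (congrFun h 1) 1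
  simp [Matrix.mul_apply, Fin.sum_univ_two] at h00 h01 h10 h11
  rw [Matrix.det_fin_two]
  grind

/-- restriction to an invariant subspace -/
def rho (U : Submodule K W) (H : Subgroup (W ≃ₗ[K] W)) (hU : ∀ h ∈ H, ∀ x ∈ U, h x ∈ U) :
    H →* Module.End K U where
  toFun h := ((h : W ≃ₗ[K] W) : W →ₗ[K] W).restrict (hU h.1 h.2)
  map_one' := by ext x; simp
  map_mul' := fun h h' => by ext x; simp

theorem rho_apply (U : Submodule K W) (H : Subgroup (W ≃ₗ[K] W))
    (hU : ∀ h ∈ H, ∀ x ∈ U, h x ∈ U) (h : H) (x : U) :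
    ((rho U H hU h) x : W) = (h : W ≃ₗ[K] W) (x : W) := rfl

theorem pow_apply_of_eigen {V : Type*} [AddCommGroup V] [Module K V] (T : Module.End K V) (x : V)
    (c : K) (h : T x = c • x) (n : ℕ) : (T ^ n) x = c ^ n • x := by
  induction n with
  | zero => simp
  | succ n ih => rw [pow_succ, Module.End.mul_apply, h, map_smul, ih, smul_smul, pow_succ, mul_comm]

theorem exists_hom [Fintype K] {p : ℕ} [Fact p.Prime] [CharP K p] [FiniteDimensional K W]
    [Nontrivial W] (a b : W ≃ₗ[K] W) (ha : Quadratic a) (hb : Quadratic b)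
    (hnp : ¬ IsPGroup p (Subgroup.closure ({a, b} : Set (W ≃ₗ[K] W))))
    (hk : ∃ e k : ℕ, orderOf (a * b) = p ^ e * k ∧ k ∣ Fintype.card K - 1) :
    ∃ φ : (Subgroup.closure ({a, b} : Set (W ≃ₗ[K] W))) →* Matrix.SpecialLinearGroup (Fin 2) K,
      ¬ IsPGroup p φ.range := by
  classical
  obtain ⟨e, k, ho, hk⟩ := hk
  have hnil : ((((a * b : W ≃ₗ[K] W) : W →ₗ[K] W) : Module.End K W) - 1) ^ (p ^ e) ≠ 0 :=
    fun h => hnp (isPGroup_of_nilpotent ha hb (p ^ e) h)
  obtain ⟨lam, hlam, w, hw, hgw⟩ := exists_eigenvector (a * b) e k ho hk hnil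
  have hg : a (b w) = lam • w := hgw
  set H := Subgroup.closure ({a, b} : Set (W ≃ₗ[K] W)) with hH
  have hU : ∀ h ∈ H, ∀ x ∈ plane a w, h x ∈ plane a w :=
    fun h hh => closure_plane ha hb hw hlam hg hh
  have hfr := finrank_plane ha hb hw hlam hg
  let 𝔟 := Module.finBasisOfFinrankEq K (plane a w) hfr
  let M : Module.End K (plane a w) ≃ₐ[K] Matrix (Fin 2) (Fin 2) K := LinearMap.toMatrixAlgEquiv 𝔟
  let Mρ : H →* Matrix (Fin 2) (Fin 2) K := (M : Module.End K (plane a w) →* _).comp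
    (rho (plane a w) H hU)
  -- generators have determinant one
  have hquad : ∀ (c : W ≃ₗ[K] W) (hc : c ∈ H), Quadratic c → (Mρ ⟨c, hc⟩).det = 1 := by
    intro c hc hq
    apply det_eq_one_of_sq
    have h1 : (rho (plane a w) H hU ⟨c, hc⟩ - 1) * (rho (plane a w) H hU ⟨c, hc⟩ - 1) = 0 := by
      ext x
      simp only [Module.End.mul_apply, LinearMap.sub_apply, Module.End.one_apply,
        Submodule.coe_sub, rho_apply, LinearMap.zero_apply, Submodule.coe_zero]
      rw [sub_eq_zero]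
      exact hq (x : W)
    have h2 : Mρ ⟨c, hc⟩ - 1 = M (rho (plane a w) H hU ⟨c, hc⟩ - 1) := by
      rw [map_sub, map_one]; rfl
    rw [h2, ← map_mul, h1, map_zero]
  have hdet : ∀ h : H, (Mρ h).det = 1 := by
    rintro ⟨h, hh⟩
    induction hh using Subgroup.closure_induction with
    | mem x hx =>
      rcases hx with rfl | hx
      · exact hquad _ _ ha
      · rw [Set.mem_singleton_iff] at hx; subst hx; exact hquad _ _ hb
    | one => exact (congrArg Matrix.det (map_one Mρ)).trans Matrix.det_one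
    | mul x y hx hy ihx ihy =>
      have : (⟨x * y, Subgroup.mul_mem _ hx hy⟩ : H) = ⟨x, hx⟩ * ⟨y, hy⟩ := rfl
      rw [this, map_mul, Matrix.det_mul, ihx, ihy, one_mul]
    | inv x hx ihx =>
      have h1 : (⟨x⁻¹, Subgroup.inv_mem _ hx⟩ : H) * ⟨x, hx⟩ = 1 := by
        apply Subtype.ext; simp
      have h2 := congrArg (fun t => (Mρ t).det) h1
      simp only [map_mul, Matrix.det_mul, ihx, mul_one, map_one, Matrix.det_one] at h2
      exact h2
  let φ : H →* Matrix.SpecialLinearGroup (Fin 2) K :=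
    { toFun := fun h => ⟨Mρ h, hdet h⟩
      map_one' := Subtype.ext (map_one Mρ)
      map_mul' := fun x y => Subtype.ext (map_mul Mρ x y) }
  refine ⟨φ, ?_⟩
  intro hP
  have hgH : a * b ∈ H :=
    Subgroup.mul_mem _ (Subgroup.subset_closure (by simp)) (Subgroup.subset_closure (by simp))
  obtain ⟨j, hj⟩ := hP ⟨φ ⟨a * b, hgH⟩, ⟨_, rfl⟩⟩
  have h1 : φ (⟨a * b, hgH⟩ ^ (p ^ j)) = 1 := by
    rw [map_pow]
    have := congrArg Subtype.val hj
    simpa using this
  have h2 : Mρ (⟨a * b, hgH⟩ ^ (p ^ j)) = 1 := by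
    have := congrArg Subtype.val h1
    exact this
  have h3 : rho (plane a w) H hU (⟨a * b, hgH⟩ ^ (p ^ j)) = 1 := by
    apply M.injective
    rw [map_one]
    exact h2
  rw [map_pow] at h3
  have h4 : (rho (plane a w) H hU ⟨a * b, hgH⟩) ⟨w, w_mem_plane⟩ =
      lam • (⟨w, w_mem_plane⟩ : plane a w) := by
    apply Subtype.ext
    rw [rho_apply]
    exact hgw
  have h5 := pow_apply_of_eigen _ _ _ h4 (p ^ j)
  rw [h3, Module.End.one_apply] at h5
  have h6 : (lam ^ (p ^ j) - 1) • (⟨w, w_mem_plane⟩ : plane a w) = 0 := by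
    rw [sub_smul, one_smul, ← h5, sub_self]
  have hw' : (⟨w, w_mem_plane⟩ : plane a w) ≠ 0 := by
    intro h
    exact hw (congrArg Subtype.val h)
  have h7 : lam ^ (p ^ j) - 1 = 0 := by
    rcases smul_eq_zero.mp h6 with h | h
    · exact h
    · exact absurd h hw'
  have h8 : (lam - 1) ^ (p ^ j) = 0 := by
    rw [sub_pow_char_pow, one_pow]; exact h7
  exact hlam (sub_eq_zero.mp (pow_eq_zero_iff (pow_pos (Fact.out : p.Prime).pos j).ne' |>.mp h8))

end Cfsg.Agent.Lib.Helper2.Quad
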