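import Cfsg.Agent.Lib.Helper65.RU.Defs

/-! # S2522 leaf F1 (helper2 for helper65): uniqueness of the scalar compression -/

set_option autoImplicit false

namespace Cfsg.Agent.Lib.Helper65.RU

open Matrix Module

variable {K : Type*} [Field K]

section abstract

variable {V : Type*} [AddCommGroup V] [Module K V]

/-- F1: for a fixed non-eigenvector `a`, at most one admissible `φ` gives a scalar compression. -/
theorem scalar_unique (g : V →ₗ[K] V) (hg : Function.Injective g) (a : V) (hli : LinearIndependent K ![a, g a])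
    (φ₁ φ₂ : Module.Dual K V) (h₁ : φ₁ a = 1) (h₁' : φ₁ (g a) = 1) (h₂ : φ₂ a = 1) (h₂' : φ₂ (g a) = 1)
    (c₁ c₂ : K) (hs₁ : ∀ v, φ₁ v = 0 → comp g a φ₁ v = c₁ • v) (hs₂ : ∀ v, φ₂ v = 0 → comp g a φ₂ v = c₂ • v) :
    φ₁ = φ₂ := by
  rw [LinearIndependent.pair_iff] at hli
  have hu₁ : φ₁ (g a - a) = 0 := by rw [map_sub, h₁, h₁', sub_self]
  have hu₂ : φ₂ (g a - a) = 0 := by rw [map_sub, h₂, h₂', sub_self]
  have e₁ := hs₁ _ hu₁
  have e₂ := hs₂ _ hu₂
  unfold comp at e₁ e₂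
  -- c₁ = c₂
  have hc : c₁ = c₂ := by
    have h : (c₁ - c₂) • a + (φ₂ (g (g a - a)) - φ₁ (g (g a - a)) - (c₁ - c₂)) • g a = 0 := by
      have : (φ₂ (g (g a - a)) - φ₁ (g (g a - a))) • g a = (c₁ - c₂) • (g a - a) := by
        rw [sub_smul, sub_smul, ← e₁, ← e₂]; abel
      rw [sub_smul _ (c₁ - c₂) (g a), this, smul_sub]; abel
    have := (hli _ _ h).1
    exact sub_eq_zero.mp this
  subst hc
  by_contra hne
  obtain ⟨w, hw⟩ : ∃ w, φ₁ w ≠ φ₂ w := by
    by_contra hall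
    push Not at hall
    exact hne (LinearMap.ext hall)
  have hv₁ : φ₁ (w - φ₁ w • a) = 0 := by rw [map_sub, map_smul, h₁, smul_eq_mul, mul_one, sub_self]
  have hv₂ : φ₂ (w - φ₂ w • a) = 0 := by rw [map_sub, map_smul, h₂, smul_eq_mul, mul_one, sub_self]
  have f₁ := hs₁ _ hv₁
  have f₂ := hs₂ _ hv₂
  unfold comp at f₁ f₂
  -- c₁ = 0
  have hc0 : c₁ = 0 := by
    have h : ((φ₁ w - φ₂ w) * c₁) • a +
        (φ₂ w - φ₁ w - (φ₁ (g (w - φ₁ w • a)) - φ₂ (g (w - φ₂ w • a)))) • g a = 0 := by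
      have hd : g (w - φ₁ w • a) - g (w - φ₂ w • a) = (φ₂ w - φ₁ w) • g a := by
        rw [map_sub, map_sub, map_smul, map_smul, sub_smul]; abel
      have hd' : (w - φ₁ w • a) - (w - φ₂ w • a) = (φ₂ w - φ₁ w) • a := by
        rw [sub_smul]; abel
      have hsub : (φ₂ w - φ₁ w) • g a -
          (φ₁ (g (w - φ₁ w • a)) - φ₂ (g (w - φ₂ w • a))) • g a = c₁ • ((φ₂ w - φ₁ w) • a) := by
        rw [← hd', smul_sub, ← f₁, ← f₂, ← hd, sub_smul]; abel
      rw [sub_smul _ _ (g a), hsub, smul_smul, ← add_smul]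
      have : (φ₁ w - φ₂ w) * c₁ + c₁ * (φ₂ w - φ₁ w) = 0 := by ring
      rw [this, zero_smul]
    have := (hli _ _ h).1
    rcases mul_eq_zero.mp this with h0 | h0
    · exact absurd (sub_eq_zero.mp h0) hw
    · exact h0
  subst hc0
  rw [zero_smul, sub_eq_zero] at e₁
  obtain ⟨t, ht⟩ : ∃ t, t = φ₁ (g (g a - a)) := ⟨_, rfl⟩
  rw [← ht] at e₁
  have hgu : g (g a - a) = g (t • a) := by rw [e₁, map_smul]
  have hu := hg hgu
  have h : (-(1 + t)) • a + (1 : K) • g a = 0 := by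
    have hga : g a = a + t • a := by
      rw [← hu]; abel
    rw [one_smul, neg_smul, add_smul, one_smul, hga]
    abel
  exact one_ne_zero (hli _ _ h).2

end abstract

end Cfsg.Agent.Lib.Helper65.RU
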