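import Cfsg.Agent.Lib.Helper65.RU.Defs

/-! # S2522 leaf L4 (helper2 for helper65): the induction starts -/

set_option autoImplicit false

namespace Cfsg.Agent.Lib.Helper65.RU

open Matrix Module

variable {K : Type*} [Field K]

theorem l4_fin_eq_zero (i : Fin (0 + 1)) : i = 0 := Fin.ext (by have := i.isLt; simp at this ⊢; try omega)

/-- L4: the induction starts. -/
theorem target_zero : Target K 0 := by
  intro A hdet _ x ψ hx hψ
  have hA : A = 1 := by
    ext i j
    have hi : i = 0 := l4_fin_eq_zero i
    have hj : j = 0 := l4_fin_eq_zero j
    subst hi; subst hj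
    rw [Matrix.det_fin_one] at hdet
    simp [hdet]
  refine ⟨1, ?_, ?_, ?_⟩
  · refine ⟨1, 1, ?_, ?_, ?_⟩
    · refine ⟨?_, ?_, ?_⟩
      · intro i j hij
        rw [l4_fin_eq_zero i, l4_fin_eq_zero j] at hij
        exact absurd hij (lt_irrefl _)
      · intro i; simp
      · intro i j hij
        exfalso
        have hi : i.val = 0 := by have := i.isLt; omega
        omega
    · refine ⟨?_, ?_, ?_⟩
      · intro i j hij
        rw [l4_fin_eq_zero i, l4_fin_eq_zero j] at hij
        exact absurd hij (lt_irrefl _)
      · intro i; simp
      · intro i j hij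
        exfalso
        have hj : j.val = 0 := by have := j.isLt; omega
        omega
    · simp [hA]
  · intro h0
    apply hψ
    funext i
    have hi : i = 0 := l4_fin_eq_zero i
    subst hi
    simpa using h0
  · intro h0
    apply hx
    funext i
    have hi : i = 0 := l4_fin_eq_zero i
    subst hi
    simpa using h0

end Cfsg.Agent.Lib.Helper65.RU
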