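import Cfsg.Agent.Lib.Helper38.RhDefsB
import Cfsg.Agent.Lib.Helper18.RtNH
import Cfsg.Agent.Lib.Helper12.RtCycD

/-! # Rh hive (helper38), PART B: leaf RH-K0 `hall_k0` (helper2) — the case `(q - 1) / 2` of S1158 -/

set_option autoImplicit false

namespace Cfsg.Agent.Lib.Helper38.Rh

open Cfsg.Agent.Lib.Helper12.Rt

/-- the normaliser of a subgroup normalises its centraliser -/
theorem k0_normalizer_le_normalizer_centralizer {G : Type*} [Group G] (A : Subgroup G) :
    Subgroup.normalizer (A : Set G) ≤ Subgroup.normalizer ((Subgroup.centralizer (A : Set G) : Subgroup G) : Set G) := by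
  intro g hg
  rw [Subgroup.mem_normalizer_iff] at hg ⊢
  have key : ∀ (g : G), (∀ h, h ∈ A ↔ g * h * g⁻¹ ∈ A) → ∀ c, c ∈ Subgroup.centralizer (A : Set G) →
      g * c * g⁻¹ ∈ Subgroup.centralizer (A : Set G) := by
    intro g hg c hc
    rw [Subgroup.mem_centralizer_iff] at hc ⊢
    intro a ha
    have ha' : g⁻¹ * a * g ∈ A := by
      rw [hg (g⁻¹ * a * g)]
      have : g * (g⁻¹ * a * g) * g⁻¹ = a := by group
      rw [this]
      exact ha
    have := hc _ ha'
    calc a * (g * c * g⁻¹) = g * ((g⁻¹ * a * g) * c) * g⁻¹ := by group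
      _ = g * (c * (g⁻¹ * a * g)) * g⁻¹ := by rw [this]
      _ = g * c * g⁻¹ * a := by group
  intro c
  constructor
  · exact key g hg c
  · intro hc
    have hg' : ∀ h, h ∈ A ↔ g⁻¹ * h * g⁻¹⁻¹ ∈ A := by
      intro h
      rw [hg (g⁻¹ * h * g⁻¹⁻¹)]
      have : g * (g⁻¹ * h * g⁻¹⁻¹) * g⁻¹ = h := by group
      rw [this]
    have := key g⁻¹ hg' _ hc
    have e : g⁻¹ * (g * c * g⁻¹) * g⁻¹⁻¹ = c := by group
    rwa [e] at this

section partB
variable {K : Type*} [Field K] [Fintype K] {G : Type*} [Group G] {m : ℕ} (D : RtData K G m)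

include D in
/-- RH-K0.  The case `(q - 1) / 2` of S1158. -/
theorem hall_k0 (hm : 1 ≤ m) : ∃ A : Subgroup G, IsCyclic ↥A ∧ Nat.card ↥A = (qq m - 1) / 2 ∧
    Nat.card ↥(Subgroup.normalizer (A : Set G)) = 2 * (qq m - 1) ∧
    ∀ A₀ : Subgroup G, A₀ ≤ A → A₀ ≠ ⊥ →
      Subgroup.normalizer (A₀ : Set G) = Subgroup.normalizer (A : Set G) := by
  have hfin := D.finite
  have hq8 := q_mod8 m
  have hq27 : 27 ≤ 3 ^ (2 * m + 1) := by
    calc 27 = 3 ^ 3 := by norm_num
      _ ≤ 3 ^ (2 * m + 1) := Nat.pow_le_pow_right (by norm_num) (by omega)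
  unfold qq
  set q := 3 ^ (2 * m + 1) with hq
  -- a generator of `H`
  have hHc := D.H_cyclic
  obtain ⟨⟨x, hxH⟩, hx⟩ := hHc.exists_ofOrder_eq_natCard
  have hox : orderOf x = q - 1 := by
    rw [← Subgroup.orderOf_mk x hxH, hx, D.card_H]
  -- A = ⟨x²⟩
  have hoy : orderOf (x ^ 2) = (q - 1) / 2 := by
    rw [orderOf_pow' x (by norm_num), hox]
    have : Nat.gcd (q - 1) 2 = 2 := by
      apply Nat.gcd_eq_right
      omega
    rw [this]
  have hyH : x ^ 2 ∈ D.H := pow_mem hxH 2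
  have hAH : Subgroup.zpowers (x ^ 2) ≤ D.H := by
    rw [Subgroup.zpowers_le]; exact hyH
  have hcardA : Nat.card ↥(Subgroup.zpowers (x ^ 2)) = (q - 1) / 2 := by
    rw [Nat.card_zpowers, hoy]
  have hAcyc : IsCyclic ↥(Subgroup.zpowers (x ^ 2)) := inferInstance
  obtain ⟨-, hcardC, hC⟩ := D.split_part hm (Subgroup.zpowers (x ^ 2)) hAcyc hcardA
  -- `C(A) = H`
  have hHle : D.H ≤ Subgroup.centralizer ((Subgroup.zpowers (x ^ 2) : Subgroup G) : Set G) := by
    intro z hz
    rw [Subgroup.mem_centralizer_iff]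
    intro a ha
    exact D.H_comm a z (hAH ha) hz
  have hCH : Subgroup.centralizer ((Subgroup.zpowers (x ^ 2) : Subgroup G) : Set G) = D.H := by
    symm
    apply Subgroup.eq_of_le_of_card_ge hHle
    rw [hcardC, D.card_H]
  -- the normaliser of every non-trivial subgroup of `A` is `N(H)`
  have key : ∀ A₀ : Subgroup G, A₀ ≤ Subgroup.zpowers (x ^ 2) → A₀ ≠ ⊥ →
      Subgroup.normalizer (A₀ : Set G) = Subgroup.normalizer (D.H : Set G) := by
    intro A₀ hA₀ hne
    apply le_antisymm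
    · have h1 := k0_normalizer_le_normalizer_centralizer A₀
      rw [hC A₀ hA₀ hne, hCH] at h1
      exact h1
    · intro g hg
      have hgH : ∀ z, z ∈ D.H ↔ g * z * g⁻¹ ∈ D.H := Subgroup.mem_normalizer_iff.mp hg
      have hmapH : A₀.map (MulAut.conj g).toMonoidHom ≤ D.H := by
        rintro _ ⟨a, ha, rfl⟩
        exact (hgH a).mp (hAH (hA₀ ha))
      have heq : A₀.map (MulAut.conj g).toMonoidHom = A₀ :=
        eq_of_le_cyclic D.H hHc _ _ hmapH (hA₀.trans hAH) (map_conj_card A₀ g)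
      rw [Subgroup.mem_normalizer_iff]
      intro a
      constructor
      · intro ha
        rw [← heq]
        exact ⟨a, ha, rfl⟩
      · intro ha
        rw [← heq] at ha
        obtain ⟨b, hb, hb'⟩ := ha
        have : b = a := by
          have h2 : g * b * g⁻¹ = g * a * g⁻¹ := hb'
          have := congrArg (fun z => g⁻¹ * z * g) h2
          simpa [mul_assoc] using this
        rw [← this]
        exact hb
  have hAne : Subgroup.zpowers (x ^ 2) ≠ ⊥ := by
    intro h
    rw [h, Subgroup.card_bot] at hcardA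
    omega
  refine ⟨Subgroup.zpowers (x ^ 2), hAcyc, hcardA, ?_, ?_⟩
  · rw [key _ le_rfl hAne, D.card_normalizer_H hm]
  · intro A₀ hA₀ hne
    rw [key A₀ hA₀ hne, key _ le_rfl hAne]

end partB

end Cfsg.Agent.Lib.Helper38.Rh
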