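import Mathlib
import Cfsg.Agent.Lib.Helper38.RhDefs

/-! # Rh hive (helper38): leaf RH-T3 `torus_map_conj` (helper2) -/

set_option autoImplicit false

namespace Cfsg.Agent.Lib.Helper38.Rh

section abstract
variable {G : Type*} [Group G] [Finite G] {N : ℕ}

omit [Finite G] in
/-- the conjugate of a centraliser is the centraliser of the conjugate -/
theorem t3_map_centralizer (x g : G) :
    (Subgroup.centralizer ({x} : Set G)).map (MulAut.conj g).toMonoidHom =
      Subgroup.centralizer ({g * x * g⁻¹} : Set G) := by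
  ext y
  simp only [Subgroup.mem_map, Subgroup.mem_centralizer_singleton_iff, MulEquiv.coe_toMonoidHom,
    MulAut.conj_apply]
  constructor
  · rintro ⟨z, hz, rfl⟩
    calc g * z * g⁻¹ * (g * x * g⁻¹) = g * (z * x) * g⁻¹ := by group
      _ = g * (x * z) * g⁻¹ := by rw [hz]
      _ = g * x * g⁻¹ * (g * z * g⁻¹) := by group
  · intro hy
    refine ⟨g⁻¹ * y * g, ?_, by group⟩
    calc g⁻¹ * y * g * x = g⁻¹ * (y * (g * x * g⁻¹)) * g := by group
      _ = g⁻¹ * ((g * x * g⁻¹) * y) * g := by rw [hy]
      _ = x * (g⁻¹ * y * g) := by group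

/-- RH-T3.  Conjugates of tori are tori.  (`[Finite G]` is kept to match the skeleton statement exactly.) -/
theorem torus_map_conj {T : Subgroup G} (hT : IsTorus N T) (g : G) :
    IsTorus N (T.map (MulAut.conj g).toMonoidHom) := by
  obtain ⟨x, p, hp, hpN, hx, rfl⟩ := hT
  refine ⟨g * x * g⁻¹, p, hp, hpN, ?_, t3_map_centralizer x g⟩
  rw [← hx]
  have := (MulAut.conj g).orderOf_eq x
  rwa [MulAut.conj_apply] at this

end abstract

end Cfsg.Agent.Lib.Helper38.Rh
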