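import Mathlib
import Cfsg.Agent.Lib.Helper38.RhDefs
import Cfsg.Agent.Lib.Helper2.RhT3

/-! # Rh hive (helper38): leaf RH-T5 `torus_ti` (helper2); self-contained (own copy `t5_cent_eq` of RH-T1) -/

set_option autoImplicit false

namespace Cfsg.Agent.Lib.Helper38.Rh

section abstract
variable {G : Type*} [Group G] [Finite G] {N : ℕ}

/-- own copy of RH-T1: `C(y) = T` for every `1 ≠ y ∈ T` -/
theorem t5_cent_eq (h : TorusHyp G N) {T : Subgroup G} (hT : IsTorus N T) {y : G} (hy : y ∈ T) (hy1 : y ≠ 1) :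
    Subgroup.centralizer ({y} : Set G) = T := by
  obtain ⟨x, p, hp, hpN, hx, rfl⟩ := hT
  obtain ⟨hcyc, hdvd, -⟩ := h x p hp hpN hx
  have hyx : y * x = x * y := Subgroup.mem_centralizer_singleton_iff.mp hy
  -- order of y divides N
  have hoy : orderOf y ∣ N := by
    have h1 : orderOf (⟨y, hy⟩ : Subgroup.centralizer ({x} : Set G)) ∣
        Nat.card ↥(Subgroup.centralizer ({x} : Set G)) := orderOf_dvd_natCard _
    have h2 : orderOf (⟨y, hy⟩ : Subgroup.centralizer ({x} : Set G)) = orderOf y :=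
      Subgroup.orderOf_mk y hy
    rw [h2] at h1
    exact h1.trans hdvd
  have hoy1 : orderOf y ≠ 1 := fun h1 => hy1 (orderOf_eq_one_iff.mp h1)
  obtain ⟨p', hp', hp'y⟩ := Nat.exists_prime_and_dvd hoy1
  set x' := y ^ (orderOf y / p') with hx'
  have hox' : orderOf x' = p' := by
    have hpos : 0 < orderOf y := orderOf_pos y
    rw [hx', orderOf_pow' y (by
      intro h0
      have := Nat.div_eq_zero_iff.mp h0
      rcases this with h | h
      · exact hp'.ne_zero h
      · exact absurd (Nat.le_of_dvd hpos hp'y) (not_le.mpr h))]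
    rw [Nat.gcd_eq_right (Nat.div_dvd_of_dvd hp'y)]
    exact Nat.div_div_self hp'y hpos.ne'
  obtain ⟨hcyc', -, -⟩ := h x' p' hp' (hp'y.trans hoy) hox'
  -- `C(x')` is abelian
  have hab : ∀ a b : G, a ∈ Subgroup.centralizer ({x'} : Set G) → b ∈ Subgroup.centralizer ({x'} : Set G) →
      a * b = b * a := by
    intro a b ha hb
    have hc' : (⟨a, ha⟩ : ↥(Subgroup.centralizer ({x'} : Set G))) * ⟨b, hb⟩ = ⟨b, hb⟩ * ⟨a, ha⟩ :=
      isMulCommutative_iff.mp (@IsCyclic.isMulCommutative _ _ hcyc') _ _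
    exact congrArg Subtype.val hc'
  have hxmem : x ∈ Subgroup.centralizer ({x'} : Set G) := by
    rw [Subgroup.mem_centralizer_singleton_iff]
    exact ((Commute.pow_left (show Commute y x from hyx) _).eq).symm
  have hab0 : ∀ a b : G, a ∈ Subgroup.centralizer ({x} : Set G) → b ∈ Subgroup.centralizer ({x} : Set G) →
      a * b = b * a := by
    intro a b ha hb
    have hc' : (⟨a, ha⟩ : ↥(Subgroup.centralizer ({x} : Set G))) * ⟨b, hb⟩ = ⟨b, hb⟩ * ⟨a, ha⟩ :=
      isMulCommutative_iff.mp (@IsCyclic.isMulCommutative _ _ hcyc) _ _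
    exact congrArg Subtype.val hc'
  apply le_antisymm
  · intro z hz
    have hzy : z * y = y * z := Subgroup.mem_centralizer_singleton_iff.mp hz
    have hzmem : z ∈ Subgroup.centralizer ({x'} : Set G) := by
      rw [Subgroup.mem_centralizer_singleton_iff]
      exact ((Commute.pow_right (show Commute z y from hzy) _).eq)
    rw [Subgroup.mem_centralizer_singleton_iff]
    exact hab z x hzmem hxmem
  · intro z hz
    rw [Subgroup.mem_centralizer_singleton_iff]
    exact hab0 z y hz hy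

/-- own copy of RH-T1': two tori sharing a non-identity element are equal -/
theorem t5_eq_of_mem (h : TorusHyp G N) {T₁ T₂ : Subgroup G} (hT₁ : IsTorus N T₁) (hT₂ : IsTorus N T₂) {y : G}
    (h1 : y ∈ T₁) (h2 : y ∈ T₂) (hy1 : y ≠ 1) : T₁ = T₂ :=
  (t5_cent_eq h hT₁ h1 hy1).symm.trans (t5_cent_eq h hT₂ h2 hy1)

/-- RH-T5.  Tori are TI.  (RH-T3 + RH-T1'.) -/
theorem torus_ti (h : TorusHyp G N) {T : Subgroup G} (hT : IsTorus N T) (g : G) :
    T.map (MulAut.conj g).toMonoidHom = T ∨ T ⊓ T.map (MulAut.conj g).toMonoidHom = ⊥ := by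
  by_cases h0 : T ⊓ T.map (MulAut.conj g).toMonoidHom = ⊥
  · exact Or.inr h0
  · left
    obtain ⟨⟨y, hy⟩, hy1⟩ := (Subgroup.ne_bot_iff_exists_ne_one).mp h0
    have hy1' : y ≠ 1 := fun h => hy1 (Subtype.ext h)
    exact t5_eq_of_mem h (torus_map_conj hT g) hT hy.2 hy.1 hy1'

end abstract

end Cfsg.Agent.Lib.Helper38.Rh
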