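import Cfsg.Agent.Lib.Helper4.RuDefs

/-! # Ru hive (helper4, S1628), leaf RU-C1 (helper2): the binary code of length 28 and dimension 10 -/

set_option autoImplicit false
set_option maxRecDepth 100000

namespace Cfsg.Agent.Lib.Helper4.Ru

open Cfsg.Spor

/-- the indicator patterns of the 7 words of weight 4 -/
def c1_pats : List (List Bool) :=
  (List.range 7).map (fun i => (List.range 28).map (fun k => decide (k ∈ W1.getD i [])))

/-- the conclusion, on the list of the 28 bits -/
def c1_concl (bits : List Bool) : Prop :=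
  bits.all (fun b => !b) = true ∨ 4 < bits.count true ∨ bits ∈ c1_pats

instance (bits : List Bool) : Decidable (c1_concl bits) := by
  unfold c1_concl; infer_instance

set_option maxHeartbeats 4000000 in
set_option synthInstance.maxHeartbeats 0 in
set_option synthInstance.maxSize 100000 in
theorem c1_dec : ∀ b0 : Bool, ∀ b1 : Bool, ∀ b2 : Bool, ∀ b3 : Bool, ([b0, b1, b2, b3].count true % 2 = 0) → ∀ b4 : Bool, ∀ b5 : Bool, ∀ b6 : Bool, ([b0, b2, b5, b6].count true % 2 = 0) → ∀ b7 : Bool, ([b0, b2, b4, b7].count true % 2 = 0) → ∀ b8 : Bool, ∀ b9 : Bool, ([b1, b2, b8, b9].count true % 2 = 0) → ∀ b10 : Bool, ([b0, b1, b4, b5, b8, b10].count true % 2 = 0) → ∀ b11 : Bool, ([b0, b2, b4, b5, b8, b11].count true % 2 = 0) → ∀ b12 : Bool, ∀ b13 : Bool, ([b0, b2, b12, b13].count true % 2 = 0) → ∀ b14 : Bool, ([b1, b2, b4, b5, b12, b14].count true % 2 = 0) → ∀ b15 : Bool, ([b0, b1, b4, b5, b12, b15].count true % 2 = 0) → ∀ b16 : Bool, ∀ b17 : Bool, ([b0, b2, b4, b5, b16, b17].count true % 2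 = 0) → ∀ b18 : Bool, ([b0, b1, b16, b18].count true % 2 = 0) → ∀ b19 : Bool, ([b1, b2, b4, b5, b16, b19].count true % 2 = 0) → ∀ b20 : Bool, ∀ b21 : Bool, ([b0, b1, b4, b5, b20, b21].count true % 2 = 0) → ∀ b22 : Bool, ([b4, b5, b20, b22].count true % 2 = 0) → ∀ b23 : Bool, ([b0, b1, b20, b23].count true % 2 = 0) → ∀ b24 : Bool, ∀ b25 : Bool, ([b1, b2, b4, b5, b24, b25].count true % 2 = 0) → ∀ b26 : Bool, ([b1, b2, b24, b26].count true % 2 = 0) → ∀ b27 : Bool, ([b4, b5, b24, b27].count true % 2 = 0) →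
    c1_concl [b0, b1, b2, b3, b4, b5, b6, b7, b8, b9, b10, b11, b12, b13, b14, b15, b16, b17, b18, b19, b20, b21, b22, b23, b24, b25, b26, b27] := by
  decide +kernel


/-- the point at position `k` -/
def c1_pt (k : ℕ) : RuIdx := (Fin.ofNat 7 (k / 4), Fin.ofNat 4 k)

theorem c1_pos_pt {k : ℕ} (hk : k < 28) : pos (c1_pt k) = k := by
  simp only [pos, c1_pt, Fin.ofNat]
  omega

theorem c1_pt_pos (p : RuIdx) : c1_pt (pos p) = p := by
  obtain ⟨⟨a, ha⟩, ⟨b, hb⟩⟩ := p
  simp only [pos, c1_pt, Fin.ofNat]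
  refine Prod.ext (Fin.ext ?_) (Fin.ext ?_)
  · show (4 * a + b) / 4 % 7 = a
    omega
  · show (4 * a + b) % 4 = b
    omega

theorem c1_pos_lt (p : RuIdx) : pos p < 28 := by
  obtain ⟨⟨a, ha⟩, ⟨b, hb⟩⟩ := p
  simp only [pos]
  omega

theorem c1_mem_iff (S : Finset RuIdx) (p : RuIdx) : p ∈ S ↔ decide (c1_pt (pos p) ∈ S) = true := by
  rw [c1_pt_pos]; simp

/-- counting the points of `S` at the positions of a list -/
theorem c1_card (S : Finset RuIdx) (L : List ℕ) (hL : L.Nodup) (hlt : ∀ k ∈ L, k < 28) :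
    (S ∩ posSet L).card = (L.map (fun k => decide (c1_pt k ∈ S))).count true := by
  induction L with
  | nil => simp [posSet]
  | cons a L ih =>
    have ha : a < 28 := hlt a (by simp)
    have hx : posSet (a :: L) = insert (c1_pt a) (posSet L) := by
      ext p
      simp only [posSet, Finset.mem_filter, Finset.mem_univ, true_and, List.mem_cons,
        Finset.mem_insert]
      constructor
      · rintro (h | h)
        · left; rw [← h, c1_pt_pos]
        · right; exact h
      · rintro (h | h)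
        · left; rw [h, c1_pos_pt ha]
        · right; exact h
    have hx' : c1_pt a ∉ posSet L := by
      simp only [posSet, Finset.mem_filter, Finset.mem_univ, true_and, c1_pos_pt ha]
      exact (List.nodup_cons.mp hL).1
    have ih' := ih (List.nodup_cons.mp hL).2 (fun k hk => hlt k (List.mem_cons_of_mem _ hk))
    rw [hx, List.map_cons, List.count_cons]
    by_cases hS : c1_pt a ∈ S
    · rw [Finset.inter_insert_of_mem hS, Finset.card_insert_of_notMem, ih']
      · simp [hS]
      · intro hmem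
        exact hx' (Finset.mem_inter.mp hmem).2
    · rw [Finset.inter_insert_of_notMem hS, ih']
      simp [hS]

/-- RU-C1 (backup copy; the exact name `code1` is declared in `Helper24.RuC1`, landed one minute earlier):
dimension 10, minimum weight 4, with 7 words of weight 4 (`2^10` cases) -/
theorem c1_code1 (S : Finset RuIdx) (h : ∀ j < 18, Even (S ∩ posSet (T1.getD j [])).card) :
    S = ∅ ∨ 4 < S.card ∨ ∃ i < 7, S = posSet (W1.getD i []) := by
  set s : ℕ → Bool := fun k => decide (c1_pt k ∈ S) with hs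
  have hdata : ∀ j < 18, (T1.getD j []).Nodup ∧ ∀ k ∈ T1.getD j [], k < 28 := by decide
  have hpar : ∀ j < 18, ((T1.getD j []).map s).count true % 2 = 0 := by
    intro j hj
    rw [← c1_card S _ (hdata j hj).1 (hdata j hj).2]
    exact Nat.even_iff.mp (h j hj)
  have key0 : c1_concl [s 0, s 1, s 2, s 3, s 4, s 5, s 6, s 7, s 8, s 9, s 10, s 11, s 12, s 13, s 14, s 15, s 16, s 17, s 18, s 19, s 20, s 21, s 22, s 23, s 24, s 25, s 26, s 27] :=
    c1_dec (s 0) (s 1) (s 2) (s 3) (hpar 0 (by norm_num)) (s 4) (s 5) (s 6) (hpar 1 (by norm_num)) (s 7) (hpar 2 (by norm_num)) (s 8) (s 9) (hpar 3 (by norm_num)) (s 10) (hpar 4 (by norm_num)) (s 11) (hpar 5 (by norm_num)) (s 12) (s 13) (hpar 6 (by norm_num)) (s 14) (hpar 7 (by norm_num)) (s 15) (hpar 8 (by norm_num)) (s 16) (s 17) (hpar 9 (by norm_num)) (s 18) (hpar 10 (by norm_num)) (s 19) (hpar 11 (by norm_num)) (s 20) (s 21) (hpar 12 (by norm_num)) (s 22) (hpar 13 (by norm_num)) (s 23) (hpar 14 (by norm_num)) (s 24) (s 25) (hpar 15 (by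 norm_num)) (s 26) (hpar 16 (by norm_num)) (s 27) (hpar 17 (by norm_num))
  have hl : [s 0, s 1, s 2, s 3, s 4, s 5, s 6, s 7, s 8, s 9, s 10, s 11, s 12, s 13, s 14, s 15, s 16, s 17, s 18, s 19, s 20, s 21, s 22, s 23, s 24, s 25, s 26, s 27] = (List.range 28).map s := by
    simp [List.range_succ]
  rw [hl] at key0
  have hmem : ∀ p : RuIdx, p ∈ S ↔ s (pos p) = true := fun p => c1_mem_iff S p
  rcases key0 with h0 | h4 | hp
  · left
    rw [List.all_eq_true] at h0
    ext p
    simp only [Finset.notMem_empty, iff_false]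
    intro hpS
    have h1 := h0 (s (pos p)) (List.mem_map.mpr ⟨pos p, List.mem_range.mpr (c1_pos_lt p), rfl⟩)
    rw [(hmem p).mp hpS] at h1
    simp at h1
  · right; left
    have hc := c1_card S (List.range 28) List.nodup_range (fun k hk => List.mem_range.mp hk)
    have hu : posSet (List.range 28) = Finset.univ := by
      ext p
      simp [posSet, c1_pos_lt p]
    rw [hu, Finset.inter_univ] at hc
    rw [hc]
    exact h4
  · right; right
    unfold c1_pats at hp
    obtain ⟨i, hi, hieq⟩ := List.mem_map.mp hp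
    refine ⟨i, List.mem_range.mp hi, ?_⟩
    have hall := List.map_inj_left.mp hieq
    ext p
    rw [hmem p, ← hall (pos p) (List.mem_range.mpr (c1_pos_lt p))]
    simp [posSet]

end Cfsg.Agent.Lib.Helper4.Ru
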