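import Cfsg.Agent.Lib.Helper2.SL2a

set_option autoImplicit false

/-! `p`-elements of `SL(2,F)` in characteristic `p`, and the key commuting lemma. -/

namespace Cfsg.Agent.Lib.Helper2.SL2

open Matrix

variable {F : Type*} [Field F]

local notation "SL2" => Matrix.SpecialLinearGroup (Fin 2) F

theorem trace_eq_two_of_pow (p : ℕ) [Fact p.Prime] [CharP F p] (a : SL2) (k : ℕ)
    (ha : a ^ (p ^ k) = 1) : a 0 0 + a 1 1 = 2 := by
  have hA : (a : Matrix (Fin 2) (Fin 2) F) ^ (p ^ k) = 1 := by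
    rw [← Matrix.SpecialLinearGroup.coe_pow, ha]; simp
  have h1 : ((a : Matrix (Fin 2) (Fin 2) F) - 1) ^ (p ^ k) = 0 := by
    rw [sub_pow_char_pow_of_commute p k (Commute.one_right _)]; simp [hA]
  have hd := det2 a
  have h2 : ((a : Matrix (Fin 2) (Fin 2) F) - 1) * ((a : Matrix (Fin 2) (Fin 2) F) - 1) =
      (a 0 0 + a 1 1 - 2) • (a : Matrix (Fin 2) (Fin 2) F) := by
    ext i j
    fin_cases i <;> fin_cases j <;>
      simp [Matrix.mul_apply, Fin.sum_univ_two] <;> grind
  have h3 : (((a : Matrix (Fin 2) (Fin 2) F) - 1) * ((a : Matrix (Fin 2) (Fin 2) F) - 1)) ^ (p ^ k)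
      = 0 := by
    rw [← pow_two, ← pow_mul, mul_comm, pow_mul, h1]; simp
  rw [h2, smul_pow, hA] at h3
  have h4 := congrFun (congrFun h3 0) 0
  simp at h4
  linear_combination h4.1

theorem two_ne_zero_of_char (p : ℕ) [Fact p.Prime] [CharP F p] (hp : p ≠ 2) : (2 : F) ≠ 0 := by
  intro h
  have h2 : ((2 : ℕ) : F) = 0 := by exact_mod_cast h
  rw [CharP.cast_eq_zero_iff F p] at h2
  exact hp ((Nat.prime_dvd_prime_iff_eq (Fact.out : p.Prime) Nat.prime_two).mp h2)

theorem neg_one_ne_one (h2 : (2 : F) ≠ 0) : (-1 : SL2) ≠ 1 := by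
  intro h
  obtain ⟨h00, -, -, -⟩ := entries_of_eq h
  simp only [neg00, one00] at h00
  apply h2
  linear_combination -h00

theorem odd_prime_pow {p : ℕ} [Fact p.Prime] (hp : p ≠ 2) (k : ℕ) : Odd (p ^ k) :=
  ((Fact.out : p.Prime).odd_of_ne_two hp).pow

section grp

variable {G : Type*} [Group G]

theorem eq_pow_sq_of_odd (a : G) (n : ℕ) (hn : Odd n) (han : a ^ n = 1) :
    a = (a ^ 2) ^ ((n + 1) / 2) := by
  obtain ⟨k, rfl⟩ := hn
  have : (2 * k + 1 + 1) / 2 = k + 1 := by omega
  rw [this, ← pow_mul]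
  have : 2 * (k + 1) = (2 * k + 1) + 1 := by ring
  rw [this, pow_succ, han, one_mul]

theorem commute_of_sq_commute (a y : G) (n : ℕ) (hn : Odd n) (han : a ^ n = 1)
    (h : Commute (a ^ 2) y) : Commute a y := by
  rw [eq_pow_sq_of_odd a n hn han]
  exact h.pow_left _

end grp

theorem ne_neg_one_of_odd (h2 : (2 : F) ≠ 0) (y : SL2) (n : ℕ) (hn : Odd n) (hy : y ^ n = 1) :
    y ≠ -1 := by
  rintro rfl
  rw [hn.neg_one_pow] at hy
  exact neg_one_ne_one h2 hy

/-- **Key lemma**: a nontrivial `p`-element `a` and a `p'`-element `y` such that `y` commutes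
with its `a`-conjugate: then `y = ±1`. -/
theorem key (p : ℕ) [Fact p.Prime] [CharP F p] (hp : p ≠ 2) (a : SL2) (k : ℕ)
    (ha : a ^ (p ^ k) = 1) (ha1 : a ≠ 1) (y : SL2) (m : ℕ) (hm : (m : F) ≠ 0) (hy : y ^ m = 1)
    (hc : (a * y * a⁻¹) * y = y * (a * y * a⁻¹)) : y = 1 ∨ y = -1 := by
  by_contra h
  push Not at h
  obtain ⟨h1, h2⟩ := h
  have h2F := two_ne_zero_of_char (F := F) p hp
  have hτ := trace_sq_ne_four h2F y m hm hy h1 h2
  have htr := trace_conj a y
  have hta := trace_eq_two_of_pow p a k ha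
  have hfin : y * a = a * y → False := fun e =>
    hτ (trace_sq_eq_four_of_commute a y hta ha1 e)
  rcases eq_or_eq_inv_of_commute y (a * y * a⁻¹) htr hτ hc with e | e
  · apply hfin
    have : a * y = y * a := by
      have := congrArg (· * a) e
      simpa using this
    exact this.symm
  · apply hfin
    have e1 : a * y = y⁻¹ * a := by
      have := congrArg (· * a) e
      simpa using this
    have e2 : a * y⁻¹ = y * a := by
      have := congrArg (fun t => t⁻¹ * a) e
      simpa [mul_assoc] using this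
    have : Commute (a ^ 2) y := by
      show a ^ 2 * y = y * a ^ 2
      rw [pow_two, mul_assoc, e1, ← mul_assoc, e2, mul_assoc]
    exact (commute_of_sq_commute a y (p ^ k) (odd_prime_pow hp k) ha this).eq.symm

end Cfsg.Agent.Lib.Helper2.SL2
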