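import Cfsg.Agent.Lib.Helper2.SL2b

set_option autoImplicit false
set_option linter.unusedSectionVars false
set_option linter.unusedSimpArgs false

/-! Quaternion relations inside `SL(2,F)`. -/

namespace Cfsg.Agent.Lib.Helper2.SL2

open Matrix

variable {F : Type*} [Field F]

local notation "SL2" => Matrix.SpecialLinearGroup (Fin 2) F

theorem comm_both (x y c : SL2) (hxy : x * y ≠ y * x) (hx : c * x = x * c) (hy : c * y = y * c) :
    c = 1 ∨ c = -1 := by
  by_contra h
  push Not at h
  exact hxy (commute_of_commute_nonscalar c x y h.1 h.2 hx.symm hy.symm)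

theorem ne_neg_self (h2 : (2 : F) ≠ 0) (u : SL2) : u ≠ -u := by
  intro h
  have : (1 : SL2) = -1 := by
    have := congrArg (· * u⁻¹) h
    simpa using this
  exact neg_one_ne_one h2 this.symm

section quat
variable (x y : Matrix.SpecialLinearGroup (Fin 2) F) (hxx : x * x = -1) (hyy : y * y = -1) (hyx : y * x = -(x * y))
include hxx hyy hyx

theorem quat_inv_x : x⁻¹ = -x := by
  rw [inv_eq_iff_mul_eq_one, mul_neg, hxx, neg_neg]

theorem quat_elems (h2 : (2 : F) ≠ 0) (g : SL2) (hx : g * x = x * g ∨ g * x = -(x * g))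
    (hy : g * y = y * g ∨ g * y = -(y * g)) :
    g = 1 ∨ g = -1 ∨ g = x ∨ g = -x ∨ g = y ∨ g = -y ∨ g = x * y ∨ g = -(x * y) := by
  have hxy : x * y ≠ y * x := by
    rw [hyx]; exact ne_neg_self h2 _
  have hxx' : ∀ w, x * (x * w) = -w := fun w => by rw [← mul_assoc, hxx, neg_mul, one_mul]
  have hyy' : ∀ w, y * (y * w) = -w := fun w => by rw [← mul_assoc, hyy, neg_mul, one_mul]
  have hyx' : ∀ w, y * (x * w) = -(x * (y * w)) := fun w => by
    rw [← mul_assoc, hyx, neg_mul, mul_assoc]
  -- generic: if `t⁻¹ g` centralizes `x, y`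
  have fin : ∀ t : SL2, (t⁻¹ * g) * x = x * (t⁻¹ * g) → (t⁻¹ * g) * y = y * (t⁻¹ * g) →
      g = t ∨ g = -t := by
    intro t h1 h2'
    rcases comm_both x y _ hxy h1 h2' with e | e
    · left
      have := congrArg (t * ·) e
      simpa using this
    · right
      have := congrArg (t * ·) e
      simpa using this
  rcases hx with hx | hx <;> rcases hy with hy | hy
  · rcases fin 1 (by simpa using hx) (by simpa using hy) with e | e
    · exact Or.inl e
    · exact Or.inr (Or.inl e)
  · have h1 : (x⁻¹ * g) * x = x * (x⁻¹ * g) := by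
      rw [mul_assoc, hx]; simp
    have h2' : (x⁻¹ * g) * y = y * (x⁻¹ * g) := by
      rw [mul_assoc, hy, quat_inv_x x y hxx hyy hyx]
      simp only [neg_mul, mul_neg, neg_neg, hyx', mul_assoc]
    rcases fin x h1 h2' with e | e
    · exact Or.inr (Or.inr (Or.inl e))
    · exact Or.inr (Or.inr (Or.inr (Or.inl e)))
  · have hyinv : y⁻¹ = -y := by
      rw [inv_eq_iff_mul_eq_one, mul_neg, hyy, neg_neg]
    have h1 : (y⁻¹ * g) * x = x * (y⁻¹ * g) := by
      rw [mul_assoc, hx, hyinv]
      simp only [neg_mul, mul_neg, neg_neg, hyx', mul_assoc]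
    have h2' : (y⁻¹ * g) * y = y * (y⁻¹ * g) := by
      rw [mul_assoc, hy]; simp
    rcases fin y h1 h2' with e | e
    · exact Or.inr (Or.inr (Or.inr (Or.inr (Or.inl e))))
    · exact Or.inr (Or.inr (Or.inr (Or.inr (Or.inr (Or.inl e)))))
  · have hyinv : y⁻¹ = -y := by
      rw [inv_eq_iff_mul_eq_one, mul_neg, hyy, neg_neg]
    have hxinv := quat_inv_x x y hxx hyy hyx
    have h1 : ((x * y)⁻¹ * g) * x = x * ((x * y)⁻¹ * g) := by
      rw [mul_assoc, hx, _root_.mul_inv_rev, hyinv, hxinv]
      simp only [neg_mul, mul_neg, neg_neg, hyx', hxx', hyy', mul_assoc]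
    have h2' : ((x * y)⁻¹ * g) * y = y * ((x * y)⁻¹ * g) := by
      rw [mul_assoc, hy, _root_.mul_inv_rev, hyinv, hxinv]
      simp only [neg_mul, mul_neg, neg_neg, hyx', hxx', hyy', mul_assoc]
    rcases fin (x * y) h1 h2' with e | e
    · exact Or.inr (Or.inr (Or.inr (Or.inr (Or.inr (Or.inr (Or.inl e))))))
    · exact Or.inr (Or.inr (Or.inr (Or.inr (Or.inr (Or.inr (Or.inr e))))))

end quat

section cube
variable (x y a : Matrix.SpecialLinearGroup (Fin 2) F)
  (hxx : x * x = -1) (hyy : y * y = -1) (hyx : y * x = -(x * y))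
  (hax : a * x = y * a) (hay : a * y = x * y * a)
include hxx hyy hyx hax hay

theorem cube_axy : a * (x * y) = x * a := by
  rw [← mul_assoc, hax, mul_assoc, hay, ← mul_assoc, ← mul_assoc, hyx, neg_mul, neg_mul,
    mul_assoc x y y, hyy, mul_neg, mul_one, neg_mul, neg_neg]

theorem cube_comm_x : a ^ 3 * x = x * a ^ 3 := by
  have h := cube_axy x y a hxx hyy hyx hax hay
  have e : a ^ 3 = a * (a * a) := by rw [pow_succ, pow_two, mul_assoc]
  rw [e]
  calc a * (a * a) * x = a * (a * (a * x)) := by simp only [mul_assoc]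
    _ = a * (a * (y * a)) := by rw [hax]
    _ = a * ((a * y) * a) := by simp only [mul_assoc]
    _ = a * ((x * y * a) * a) := by rw [hay]
    _ = (a * (x * y)) * (a * a) := by simp only [mul_assoc]
    _ = x * a * (a * a) := by rw [h]
    _ = x * (a * (a * a)) := by simp only [mul_assoc]

theorem cube_comm_y : a ^ 3 * y = y * a ^ 3 := by
  have h := cube_axy x y a hxx hyy hyx hax hay
  have e : a ^ 3 = a * (a * a) := by rw [pow_succ, pow_two, mul_assoc]
  rw [e]
  calc a * (a * a) * y = a * (a * (a * y)) := by simp only [mul_assoc]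
    _ = a * (a * (x * y * a)) := by rw [hay]
    _ = a * ((a * (x * y)) * a) := by simp only [mul_assoc]
    _ = a * ((x * a) * a) := by rw [h]
    _ = (a * x) * (a * a) := by simp only [mul_assoc]
    _ = y * a * (a * a) := by rw [hax]
    _ = y * (a * (a * a)) := by simp only [mul_assoc]

end cube

end Cfsg.Agent.Lib.Helper2.SL2
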