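import Cfsg.Agent.Lib.Helper2.SL2c

set_option autoImplicit false
set_option linter.unusedSectionVars false
set_option linter.unusedSimpArgs false

/-! A `p`-element of `SL(2,F)` normalizing a `p'`-subgroup: elementwise analysis. -/

namespace Cfsg.Agent.Lib.Helper2.SL2

open Matrix

variable {F : Type*} [Field F]

local notation "SL2" => Matrix.SpecialLinearGroup (Fin 2) F

/-- The standing hypotheses. -/
structure Setup (p : ℕ) (a : Matrix.SpecialLinearGroup (Fin 2) F)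
    (R : Subgroup (Matrix.SpecialLinearGroup (Fin 2) F)) : Prop where
  hp : p ≠ 2
  hk : ∃ k : ℕ, a ^ (p ^ k) = 1
  ha1 : a ≠ 1
  hm : ∃ m : ℕ, (m : F) ≠ 0 ∧ ∀ y ∈ R, y ^ m = 1
  conj : ∀ y ∈ R, a * y * a⁻¹ ∈ R
  conj' : ∀ y ∈ R, a⁻¹ * y * a ∈ R

namespace Setup

variable {p : ℕ} [Fact p.Prime] [CharP F p] {a : Matrix.SpecialLinearGroup (Fin 2) F}
  {R : Subgroup (Matrix.SpecialLinearGroup (Fin 2) F)} (S : Setup p a R)
include S

theorem two_ne : (2 : F) ≠ 0 := two_ne_zero_of_char p S.hp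

theorem key1 (y : SL2) (hy : y ∈ R) (hc : (a * y * a⁻¹) * y = y * (a * y * a⁻¹)) :
    y = 1 ∨ y = -1 := by
  obtain ⟨k, hk⟩ := S.hk
  obtain ⟨m, hm, hRm⟩ := S.hm
  exact key p S.hp a k hk S.ha1 y m hm (hRm y hy) hc

theorem sq_ne_one : a ^ 2 ≠ 1 := by
  obtain ⟨k, hk⟩ := S.hk
  intro h
  apply S.ha1
  rw [eq_pow_sq_of_odd a (p ^ k) (odd_prime_pow S.hp k) hk, h, one_pow]

theorem key2 (y : SL2) (hy : y ∈ R)
    (hc : (a ^ 2 * y * (a ^ 2)⁻¹) * y = y * (a ^ 2 * y * (a ^ 2)⁻¹)) :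
    y = 1 ∨ y = -1 := by
  obtain ⟨k, hk⟩ := S.hk
  obtain ⟨m, hm, hRm⟩ := S.hm
  refine key p S.hp (a ^ 2) k ?_ S.sq_ne_one y m hm (hRm y hy) hc
  rw [← pow_mul, mul_comm, pow_mul, hk, one_pow]

theorem central (z : SL2) (hz : z ∈ R) (hc : ∀ g ∈ R, g * z = z * g) : z = 1 ∨ z = -1 :=
  S.key1 z hz (hc _ (S.conj z hz))

theorem sq_eq_neg_one (x : SL2) (hxR : x ∈ R) (hx1 : x ≠ 1) (hx2 : x ≠ -1)
    (hP : ∀ g ∈ R, g * x = x * g ∨ g * x = -(x * g)) : x * x = -1 := by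
  have hc : ∀ g ∈ R, g * (x * x) = (x * x) * g := by
    intro g hg
    rcases hP g hg with e | e
    · rw [← mul_assoc, e, mul_assoc, e, mul_assoc]
    · rw [← mul_assoc, e, neg_mul, mul_assoc, e, mul_neg, neg_neg, mul_assoc]
  rcases S.central (x * x) (R.mul_mem hxR hxR) hc with e | e
  · rcases eq_one_or_neg_one_of_mul_self S.two_ne x e with h | h
    · exact absurd h hx1
    · exact absurd h hx2
  · exact e

theorem conj_P (x : SL2) (hP : ∀ g ∈ R, g * x = x * g ∨ g * x = -(x * g)) :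
    ∀ g ∈ R, g * (a * x * a⁻¹) = (a * x * a⁻¹) * g ∨ g * (a * x * a⁻¹) = -((a * x * a⁻¹) * g) := by
  intro g hg
  have h1 : g * (a * x * a⁻¹) = a * ((a⁻¹ * g * a) * x) * a⁻¹ := by group
  have h2 : (a * x * a⁻¹) * g = a * (x * (a⁻¹ * g * a)) * a⁻¹ := by group
  rcases hP _ (S.conj' g hg) with e | e
  · left; rw [h1, h2, e]
  · right; rw [h1, h2, e, mul_neg, neg_mul]

theorem quat (x : SL2) (hxR : x ∈ R) (hx1 : x ≠ 1) (hx2 : x ≠ -1)
    (hP : ∀ g ∈ R, g * x = x * g ∨ g * x = -(x * g)) :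
    ∃ i ∈ R, i * i = -1 ∧ (a * i * a⁻¹) * (a * i * a⁻¹) = -1 ∧
      (a * i * a⁻¹) * i = -(i * (a * i * a⁻¹)) ∧
      a * (a * i * a⁻¹) * a⁻¹ = i * (a * i * a⁻¹) ∧
      ∀ g ∈ R, g = 1 ∨ g = -1 ∨ g = i ∨ g = -i ∨ g = a * i * a⁻¹ ∨ g = -(a * i * a⁻¹) ∨
        g = i * (a * i * a⁻¹) ∨ g = -(i * (a * i * a⁻¹)) := by
  have h2F := S.two_ne
  have hxx := S.sq_eq_neg_one x hxR hx1 hx2 hP
  have hyR : a * x * a⁻¹ ∈ R := S.conj x hxR
  have hyy : (a * x * a⁻¹) * (a * x * a⁻¹) = -1 := by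
    have : (a * x * a⁻¹) * (a * x * a⁻¹) = a * (x * x) * a⁻¹ := by group
    rw [this, hxx]; simp
  have hPy := S.conj_P x hP
  have hyx : (a * x * a⁻¹) * x = -(x * (a * x * a⁻¹)) := by
    rcases hP _ hyR with e | e
    · rcases S.key1 x hxR e with h | h
      · exact absurd h hx1
      · exact absurd h hx2
    · exact e
  have elems := fun g hg => quat_elems x (a * x * a⁻¹) hxx hyy hyx h2F g (hP g hg) (hPy g hg)
  have hwR : a * (a * x * a⁻¹) * a⁻¹ ∈ R := S.conj _ hyR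
  have hww : (a * (a * x * a⁻¹) * a⁻¹) * (a * (a * x * a⁻¹) * a⁻¹) = -1 := by
    have : (a * (a * x * a⁻¹) * a⁻¹) * (a * (a * x * a⁻¹) * a⁻¹)
        = a * ((a * x * a⁻¹) * (a * x * a⁻¹)) * a⁻¹ := by group
    rw [this, hyy]; simp
  have hne : (-1 : SL2) ≠ 1 := neg_one_ne_one h2F
  have hy1 : a * x * a⁻¹ ≠ 1 := by
    intro h; rw [h, one_mul] at hyy; exact hne hyy.symm
  have hy2 : a * x * a⁻¹ ≠ -1 := by
    intro h; rw [h, neg_mul_neg, one_mul] at hyy; exact hne hyy.symm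
  have hsq : a ^ 2 * x * (a ^ 2)⁻¹ = a * (a * x * a⁻¹) * a⁻¹ := by
    rw [pow_two, _root_.mul_inv_rev]; simp only [mul_assoc]
  rcases elems _ hwR with e | e | e | e | e | e | e | e
  · rw [e, one_mul] at hww; exact absurd hww.symm hne
  · rw [e, neg_mul_neg, one_mul] at hww; exact absurd hww.symm hne
  · exfalso
    rcases S.key2 x hxR (by rw [hsq, e]) with h | h
    · exact hx1 h
    · exact hx2 h
  · exfalso
    rcases S.key2 x hxR (by rw [hsq, e, neg_mul, mul_neg]) with h | h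
    · exact hx1 h
    · exact hx2 h
  · exfalso
    rcases S.key1 _ hyR (by rw [e]) with h | h
    · exact hy1 h
    · exact hy2 h
  · exfalso
    rcases S.key1 _ hyR (by rw [e, neg_mul, mul_neg]) with h | h
    · exact hy1 h
    · exact hy2 h
  · exact ⟨x, hxR, hxx, hyy, hyx, e, elems⟩
  · have hnegR : -x ∈ R := by
      have : -x = (x * x) * x := by rw [hxx, neg_mul, one_mul]
      rw [this]; exact R.mul_mem (R.mul_mem hxR hxR) hxR
    have hj : a * (-x) * a⁻¹ = -(a * x * a⁻¹) := by rw [mul_neg, neg_mul]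
    refine ⟨-x, hnegR, ?_, ?_, ?_, ?_, ?_⟩
    · rw [neg_mul_neg, hxx]
    · rw [hj, neg_mul_neg, hyy]
    · rw [hj, neg_mul_neg, neg_mul_neg, hyx]
    · rw [hj, mul_neg, neg_mul, e, neg_neg, neg_mul_neg]
    · intro g hg
      rw [hj, neg_neg, neg_neg, neg_mul_neg]
      rcases elems g hg with h | h | h | h | h | h | h | h
      · exact Or.inl h
      · exact Or.inr (Or.inl h)
      · exact Or.inr (Or.inr (Or.inr (Or.inl h)))
      · exact Or.inr (Or.inr (Or.inl h))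
      · exact Or.inr (Or.inr (Or.inr (Or.inr (Or.inr (Or.inl h)))))
      · exact Or.inr (Or.inr (Or.inr (Or.inr (Or.inl h))))
      · exact Or.inr (Or.inr (Or.inr (Or.inr (Or.inr (Or.inr (Or.inl h))))))
      · exact Or.inr (Or.inr (Or.inr (Or.inr (Or.inr (Or.inr (Or.inr h))))))

theorem cube_eq_one (i : SL2) (hii : i * i = -1) (hjj : (a * i * a⁻¹) * (a * i * a⁻¹) = -1)
    (hji : (a * i * a⁻¹) * i = -(i * (a * i * a⁻¹)))
    (haj : a * (a * i * a⁻¹) * a⁻¹ = i * (a * i * a⁻¹)) : a ^ 3 = 1 := by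
  have h2F := S.two_ne
  have hax : a * i = (a * i * a⁻¹) * a := by group
  have hay : a * (a * i * a⁻¹) = i * (a * i * a⁻¹) * a := by
    rw [← haj]; group
  have c1 := cube_comm_x i (a * i * a⁻¹) a hii hjj hji hax hay
  have c2 := cube_comm_y i (a * i * a⁻¹) a hii hjj hji hax hay
  have hnc : i * (a * i * a⁻¹) ≠ (a * i * a⁻¹) * i := by
    rw [hji]; exact ne_neg_self h2F _
  rcases comm_both i (a * i * a⁻¹) (a ^ 3) hnc c1 c2 with e | e
  · exact e
  · exfalso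
    obtain ⟨k, hk⟩ := S.hk
    have h1 : (a ^ 3) ^ (p ^ k) = 1 := by
      rw [← pow_mul, mul_comm, pow_mul, hk, one_pow]
    rw [e, (odd_prime_pow S.hp k).neg_one_pow] at h1
    exact neg_one_ne_one h2F h1

theorem p_eq_three (h3 : a ^ 3 = 1) : p = 3 := by
  obtain ⟨k, hk⟩ := S.hk
  have h1 : orderOf a ∣ 3 := orderOf_dvd_of_pow_eq_one h3
  have h2 : orderOf a ∣ p ^ k := orderOf_dvd_of_pow_eq_one hk
  have h3' : orderOf a = 3 := by
    rcases (Nat.dvd_prime Nat.prime_three).mp h1 with h | h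
    · exact absurd (orderOf_eq_one_iff.mp h) S.ha1
    · exact h
  rw [h3'] at h2
  have := Nat.Prime.dvd_of_dvd_pow Nat.prime_three h2
  exact ((Nat.prime_dvd_prime_iff_eq Nat.prime_three (Fact.out : p.Prime)).mp this).symm

end Setup

end Cfsg.Agent.Lib.Helper2.SL2
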