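import Cfsg.Agent.Lib.Helper2.SL2d
import Cfsg.Agent.Lib.Helper24.SylowInv

set_option autoImplicit false
set_option linter.unusedSectionVars false
set_option linter.unusedSimpArgs false
set_option linter.style.haveILetI false

/-! A `p`-element of `SL(2,F)` normalizing a `p'`-subgroup: the finite group theory part. -/

namespace Cfsg.Agent.Lib.Helper2.SL2

open Matrix

variable {F : Type*} [Field F]

local notation "SL2" => Matrix.SpecialLinearGroup (Fin 2) F

theorem setup_of [Finite F] (p : ℕ) [Fact p.Prime] [CharP F p] (hp : p ≠ 2) (a : SL2)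
    (ha : IsPGroup p ↥(Subgroup.zpowers a)) (R : Subgroup SL2) (hR : (Nat.card R).Coprime p)
    (haR : a ∈ Subgroup.normalizer (R : Set SL2))
    (hnt : ⁅R, Subgroup.zpowers a⁆ ≠ ⊥) : Setup p a R := by
  refine ⟨hp, ?_, ?_, ?_, ?_, ?_⟩
  · obtain ⟨k, hk⟩ := ha ⟨a, Subgroup.mem_zpowers a⟩
    refine ⟨k, ?_⟩
    have := congrArg Subtype.val hk
    simpa using this
  · rintro rfl
    apply hnt
    rw [Subgroup.zpowers_one_eq_bot, Subgroup.commutator_bot_right]
  · refine ⟨Nat.card R, ?_, ?_⟩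
    · rw [Ne, CharP.cast_eq_zero_iff F p]
      exact ((Fact.out : p.Prime).coprime_iff_not_dvd).mp hR.symm
    · intro y hy
      have h1 := pow_card_eq_one' (G := R) (x := ⟨y, hy⟩)
      have h2 := congrArg Subtype.val h1
      rw [Subgroup.coe_pow] at h2
      exact h2
  · intro y hy
    exact (Subgroup.mem_normalizer_iff.mp haR y).mp hy
  · intro y hy
    exact (Subgroup.mem_normalizer_iff''.mp haR y).mp hy

namespace Setup

variable {p : ℕ} [Fact p.Prime] [CharP F p] {a : Matrix.SpecialLinearGroup (Fin 2) F}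
  {R : Subgroup (Matrix.SpecialLinearGroup (Fin 2) F)} (S : Setup p a R)
include S

theorem isPGroup_two [Finite F]
    (haR : Subgroup.zpowers a ≤ Subgroup.normalizer (R : Set SL2))
    (hcop : (Nat.card (Subgroup.zpowers a)).Coprime (Nat.card R)) : IsPGroup 2 R := by
  have h2F := S.two_ne
  have hcard : ∀ {r : ℕ}, r.Prime → r ∣ Nat.card R → r = 2 := by
    intro r hr hdvd
    by_contra hr2
    have : Fact r.Prime := ⟨hr⟩
    obtain ⟨P, hP⟩ := Cfsg.Agent.Lib.Helper24.exists_invariant_sylow (p := r) (Subgroup.zpowers a) R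
      haR hcop (Or.inl inferInstance)
    have hPne : (P : Subgroup R) ≠ ⊥ := P.ne_bot_of_dvd_card hdvd
    have hodd : ∀ u : R, u ∈ P → ∃ n, Odd n ∧ (u : SL2) ^ n = 1 := by
      intro u hu
      obtain ⟨j, hj⟩ := P.isPGroup' ⟨u, hu⟩
      refine ⟨r ^ j, (hr.odd_of_ne_two hr2).pow, ?_⟩
      have := congrArg (fun t : (P : Subgroup R) => ((t : R) : SL2)) hj
      simpa using this
    haveI : Nontrivial (P : Subgroup R) := (Subgroup.nontrivial_iff_ne_bot _).mpr hPne
    haveI := IsPGroup.center_nontrivial P.isPGroup'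
    obtain ⟨z, hz⟩ := exists_ne (1 : Subgroup.center (P : Subgroup R))
    have hz1 : (((z : (P : Subgroup R)) : R) : SL2) ≠ 1 := by
      intro h
      apply hz
      apply Subtype.ext; apply Subtype.ext; apply Subtype.ext
      simpa using h
    have hz2 : (((z : (P : Subgroup R)) : R) : SL2) ≠ -1 := by
      obtain ⟨n, hn, hzn⟩ := hodd _ (z : (P : Subgroup R)).2
      exact ne_neg_one_of_odd h2F _ n hn hzn
    have hcomm : ∀ u : R, u ∈ P → (u : SL2) * (((z : (P : Subgroup R)) : R) : SL2) =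
        (((z : (P : Subgroup R)) : R) : SL2) * (u : SL2) := by
      intro u hu
      have := Subgroup.mem_center_iff.mp z.2 ⟨u, hu⟩
      have := congrArg (fun t : (P : Subgroup R) => ((t : R) : SL2)) this
      simpa using this
    have hab : ∀ u v : R, u ∈ P → v ∈ P → (u : SL2) * (v : SL2) = (v : SL2) * (u : SL2) :=
      fun u v hu hv => commute_of_commute_nonscalar _ _ _ hz1 hz2 (hcomm u hu) (hcomm v hv)
    have htriv : ∀ u : R, u ∈ P → u = 1 := by
      intro u hu
      have hmem : a * (u : SL2) * a⁻¹ ∈ (P : Subgroup R).map R.subtype := by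
        have := hP (Subgroup.mem_zpowers a)
        exact (Subgroup.mem_normalizer_iff.mp this _).mp (Subgroup.mem_map_of_mem _ hu)
      obtain ⟨u', hu', hu'e⟩ := hmem
      have hc : (a * (u : SL2) * a⁻¹) * (u : SL2) = (u : SL2) * (a * (u : SL2) * a⁻¹) := by
        rw [← hu'e]; exact hab u' u hu' hu
      rcases S.key1 _ u.2 hc with h | h
      · exact Subtype.ext h
      · obtain ⟨n, hn, hun⟩ := hodd u hu
        exact absurd h (ne_neg_one_of_odd h2F _ n hn hun)
    apply hPne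
    rw [eq_bot_iff]
    intro u hu
    rw [Subgroup.mem_bot]
    exact htriv u hu
  have hpos : Nat.card R ≠ 0 := Nat.card_pos.ne'
  exact IsPGroup.of_card (Nat.eq_prime_pow_of_unique_prime_dvd hpos hcard)

theorem exists_x [Finite F] (h2 : IsPGroup 2 R) (y₀ : SL2) (hy₀ : y₀ ∈ R) (h1 : y₀ ≠ 1)
    (h1' : y₀ ≠ -1) :
    ∃ x ∈ R, x ≠ 1 ∧ x ≠ -1 ∧ ∀ g ∈ R, g * x = x * g ∨ g * x = -(x * g) := by
  have h2F := S.two_ne
  -- central elements of `R` are `±1`
  have hcen : ∀ z : R, z ∈ Subgroup.center R → (z : SL2) = 1 ∨ (z : SL2) = -1 := by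
    intro z hz
    apply S.central _ z.2
    intro g hg
    have := Subgroup.mem_center_iff.mp hz ⟨g, hg⟩
    have := congrArg Subtype.val this
    simpa using this
  have hy₀c : (⟨y₀, hy₀⟩ : R) ∉ Subgroup.center R := by
    intro h
    rcases hcen _ h with e | e
    · exact h1 e
    · exact h1' e
  have hQ : IsPGroup 2 (R ⧸ Subgroup.center R) := h2.to_quotient _
  haveI : Nontrivial (R ⧸ Subgroup.center R) := by
    refine ⟨⟨QuotientGroup.mk ⟨y₀, hy₀⟩, 1, ?_⟩⟩
    intro h
    exact hy₀c ((QuotientGroup.eq_one_iff _).mp h)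
  haveI := IsPGroup.center_nontrivial hQ
  obtain ⟨c, hc⟩ := exists_ne (1 : Subgroup.center (R ⧸ Subgroup.center R))
  obtain ⟨x, hx⟩ := QuotientGroup.mk_surjective (c : R ⧸ Subgroup.center R)
  have hxc : x ∉ Subgroup.center R := by
    intro h
    apply hc
    apply Subtype.ext
    rw [← hx]
    exact (QuotientGroup.eq_one_iff _).mpr h
  refine ⟨x, x.2, ?_, ?_, ?_⟩
  · intro h
    apply hxc
    have : x = 1 := Subtype.ext h
    rw [this]; exact Subgroup.one_mem _
  · intro h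
    apply hxc
    rw [Subgroup.mem_center_iff]
    intro g
    apply Subtype.ext
    simp only [Subgroup.coe_mul, h, mul_neg, neg_mul, mul_one, one_mul]
  · intro g hg
    have h3 := Subgroup.mem_center_iff.mp c.2 (QuotientGroup.mk ⟨g, hg⟩)
    rw [← hx, ← QuotientGroup.mk_mul, ← QuotientGroup.mk_mul, QuotientGroup.eq] at h3
    rcases hcen _ h3 with e | e
    · left
      have e' : ((⟨g, hg⟩ : R) * x : R) = x * ⟨g, hg⟩ := by
        have : ((⟨g, hg⟩ : R) * x)⁻¹ * (x * ⟨g, hg⟩) = 1 := Subtype.ext e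
        exact inv_mul_eq_one.mp this
      have := congrArg Subtype.val e'
      simpa using this
    · right
      have e' : ((g * (x : SL2))⁻¹ * ((x : SL2) * g)) = -1 := by simpa using e
      have : (x : SL2) * g = (g * (x : SL2)) * (-1) := by
        rw [← e']; group
      rw [this, mul_neg, mul_one, neg_neg]

end Setup

/-- The elementwise structure theorem. -/
theorem main_struct [Finite F] (p : ℕ) [Fact p.Prime] [CharP F p] (hp : p ≠ 2) (a : SL2)
    (ha : IsPGroup p ↥(Subgroup.zpowers a)) (R : Subgroup SL2) (hR : (Nat.card R).Coprime p)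
    (haR : a ∈ Subgroup.normalizer (R : Set SL2))
    (hnt : ⁅R, Subgroup.zpowers a⁆ ≠ ⊥) :
    p = 3 ∧ a ^ 3 = 1 ∧ a ≠ 1 ∧ (2 : F) ≠ 0 ∧ ∃ i ∈ R, i * i = -1 ∧
      (a * i * a⁻¹) * (a * i * a⁻¹) = -1 ∧
      (a * i * a⁻¹) * i = -(i * (a * i * a⁻¹)) ∧
      a * (a * i * a⁻¹) * a⁻¹ = i * (a * i * a⁻¹) ∧
      ∀ g ∈ R, g = 1 ∨ g = -1 ∨ g = i ∨ g = -i ∨ g = a * i * a⁻¹ ∨ g = -(a * i * a⁻¹) ∨
        g = i * (a * i * a⁻¹) ∨ g = -(i * (a * i * a⁻¹)) := by
  have S := setup_of p hp a ha R hR haR hnt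
  have hcop : (Nat.card (Subgroup.zpowers a)).Coprime (Nat.card R) := by
    obtain ⟨n, hn⟩ := IsPGroup.iff_card.mp ha
    rw [hn]
    exact hR.symm.pow_left n
  have h2 := S.isPGroup_two ((Subgroup.zpowers_le).mpr haR) hcop
  have hne : ∃ y₀ ∈ R, y₀ ≠ 1 ∧ y₀ ≠ -1 := by
    by_contra hcon
    push Not at hcon
    apply hnt
    rw [Subgroup.commutator_eq_bot_iff_le_centralizer]
    intro y hy
    rw [Subgroup.mem_centralizer_iff]
    intro h _
    by_cases h1 : y = 1
    · rw [h1, mul_one, one_mul]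
    · rw [hcon y hy h1, mul_neg, neg_mul, mul_one, one_mul]
  obtain ⟨y₀, hy₀, h1, h1'⟩ := hne
  obtain ⟨x, hxR, hx1, hx2, hP⟩ := S.exists_x h2 y₀ hy₀ h1 h1'
  obtain ⟨i, hiR, hii, hjj, hji, haj, elems⟩ := S.quat x hxR hx1 hx2 hP
  have h3 := S.cube_eq_one i hii hjj hji haj
  exact ⟨S.p_eq_three h3, h3, S.ha1, S.two_ne, i, hiR, hii, hjj, hji, haj, elems⟩

end Cfsg.Agent.Lib.Helper2.SL2
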