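import Cfsg.Agent.Lib.Helper2.SL2e
import Cfsg.Agent.Lib.Helper20.SL23

set_option autoImplicit false
set_option linter.unusedSectionVars false
set_option linter.unusedSimpArgs false

/-! Recognition of `Q8` and `SL(2,3)` inside `SL(2,F)`. -/

namespace Cfsg.Agent.Lib.Helper2.SL2

open Matrix

variable {F : Type*} [Field F]

local notation "SL2" => Matrix.SpecialLinearGroup (Fin 2) F

theorem quat_iso (h2F : (2 : F) ≠ 0) (R : Subgroup SL2) (i j : SL2) (hiR : i ∈ R) (hjR : j ∈ R)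
    (hii : i * i = -1) (hjj : j * j = -1) (hji : j * i = -(i * j))
    (elems : ∀ g ∈ R, g = 1 ∨ g = -1 ∨ g = i ∨ g = -i ∨ g = j ∨ g = -j ∨
        g = i * j ∨ g = -(i * j)) : Nonempty (↥R ≃* QuaternionGroup 2) := by
  have hne : (-1 : SL2) ≠ 1 := neg_one_ne_one h2F
  have hiinv : i⁻¹ = -i := by
    rw [inv_eq_iff_mul_eq_one, mul_neg, hii, neg_neg]
  have ho : orderOf (⟨i, hiR⟩ : R) = 2 * 2 := by
    have := orderOf_eq_prime_pow (x := (⟨i, hiR⟩ : R)) (p := 2) (n := 1) ?_ ?_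
    · simpa using this
    · intro h
      have := congrArg Subtype.val h
      simp only [pow_one, pow_two, Subgroup.coe_mul, Subgroup.coe_one, hii] at this
      exact hne this
    · apply Subtype.ext
      have : i ^ 2 ^ (1 + 1) = (i * i) * (i * i) := by
        norm_num [pow_succ, mul_assoc]
      simp only [Subgroup.coe_pow, Subgroup.coe_one, this, hii, neg_mul_neg, one_mul]
  have hβ : (⟨j, hjR⟩ : R) * ⟨j, hjR⟩ = (⟨i, hiR⟩ : R) ^ 2 := by
    apply Subtype.ext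
    simp only [Subgroup.coe_mul, Subgroup.coe_pow, pow_two, hii, hjj]
  have hβα : (⟨j, hjR⟩ : R) * ⟨i, hiR⟩ * (⟨j, hjR⟩ : R)⁻¹ = (⟨i, hiR⟩ : R)⁻¹ := by
    apply Subtype.ext
    show j * i * j⁻¹ = i⁻¹
    rw [hji, hiinv, neg_mul, mul_assoc, mul_inv_cancel, mul_one]
  have hns : (⟨j, hjR⟩ : R) ∉ Subgroup.zpowers (⟨i, hiR⟩ : R) := by
    intro h
    obtain ⟨n, hn⟩ := Subgroup.mem_zpowers_iff.mp h
    have hc : Commute (⟨i, hiR⟩ : R) ⟨j, hjR⟩ := by
      rw [← hn]; exact (Commute.refl _).zpow_right n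
    have := congrArg Subtype.val hc.eq
    simp only [Subgroup.coe_mul] at this
    rw [hji] at this
    exact ne_neg_self h2F _ this
  have hgen : Subgroup.closure ({⟨j, hjR⟩, ⟨i, hiR⟩} : Set R) = ⊤ := by
    rw [eq_top_iff]
    intro g _
    have hI : (⟨i, hiR⟩ : R) ∈ Subgroup.closure ({⟨j, hjR⟩, ⟨i, hiR⟩} : Set R) :=
      Subgroup.subset_closure (by simp)
    have hJ : (⟨j, hjR⟩ : R) ∈ Subgroup.closure ({⟨j, hjR⟩, ⟨i, hiR⟩} : Set R) :=
      Subgroup.subset_closure (by simp)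
    have hN : (⟨-1, by rw [← hii]; exact R.mul_mem hiR hiR⟩ : R) ∈
        Subgroup.closure ({⟨j, hjR⟩, ⟨i, hiR⟩} : Set R) := by
      have : (⟨-1, by rw [← hii]; exact R.mul_mem hiR hiR⟩ : R) = ⟨i, hiR⟩ * ⟨i, hiR⟩ := by
        apply Subtype.ext; simp only [Subgroup.coe_mul, hii]
      rw [this]; exact Subgroup.mul_mem _ hI hI
    have key : ∀ (t : R), t ∈ Subgroup.closure ({⟨j, hjR⟩, ⟨i, hiR⟩} : Set R) →
        ((g : SL2) = (t : SL2) ∨ (g : SL2) = -(t : SL2)) →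
        g ∈ Subgroup.closure ({⟨j, hjR⟩, ⟨i, hiR⟩} : Set R) := by
      intro t ht h
      rcases h with h | h
      · have : g = t := Subtype.ext h
        rw [this]; exact ht
      · have : g = ⟨-1, by rw [← hii]; exact R.mul_mem hiR hiR⟩ * t := by
          apply Subtype.ext; simp only [Subgroup.coe_mul, h, neg_mul, one_mul]
        rw [this]; exact Subgroup.mul_mem _ hN ht
    rcases elems g g.2 with h | h | h | h | h | h | h | h
    · exact key 1 (Subgroup.one_mem _) (Or.inl (by simpa using h))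
    · exact key 1 (Subgroup.one_mem _) (Or.inr (by simpa using h))
    · exact key _ hI (Or.inl h)
    · exact key _ hI (Or.inr h)
    · exact key _ hJ (Or.inl h)
    · exact key _ hJ (Or.inr h)
    · exact key _ (Subgroup.mul_mem _ hI hJ) (Or.inl h)
    · exact key _ (Subgroup.mul_mem _ hI hJ) (Or.inr h)
  exact ⟨(Cfsg.Agent.Lib.Helper20.quatEquiv _ _ 2 ho hβ hβα hns hgen).symm⟩

theorem sl23_iso (h2F : (2 : F) ≠ 0) (R : Subgroup SL2) (a i : SL2) (hiR : i ∈ R)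
    (ha3 : a ^ 3 = 1) (ha1 : a ≠ 1)
    (hii : i * i = -1) (hjj : (a * i * a⁻¹) * (a * i * a⁻¹) = -1)
    (hji : (a * i * a⁻¹) * i = -(i * (a * i * a⁻¹)))
    (haj : a * (a * i * a⁻¹) * a⁻¹ = i * (a * i * a⁻¹))
    (elems : ∀ g ∈ R, g = 1 ∨ g = -1 ∨ g = i ∨ g = -i ∨ g = a * i * a⁻¹ ∨ g = -(a * i * a⁻¹) ∨
        g = i * (a * i * a⁻¹) ∨ g = -(i * (a * i * a⁻¹))) :
    Nonempty (↥(R ⊔ Subgroup.zpowers a) ≃* Matrix.SpecialLinearGroup (Fin 2) (ZMod 3)) := by
  have hne : (-1 : SL2) ≠ 1 := neg_one_ne_one h2F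
  have hiinv : i⁻¹ = -i := by
    rw [inv_eq_iff_mul_eq_one, mul_neg, hii, neg_neg]
  have hiY : i ∈ R ⊔ Subgroup.zpowers a := (le_sup_left : R ≤ _) hiR
  have haY : a ∈ R ⊔ Subgroup.zpowers a :=
    (le_sup_right : Subgroup.zpowers a ≤ _) (Subgroup.mem_zpowers a)
  have d : Cfsg.Agent.Lib.Helper20.SL23.Data (⟨i, hiY⟩ : ↥(R ⊔ Subgroup.zpowers a)) ⟨a, haY⟩ := by
    refine ⟨?_, ?_, ?_, ?_, ?_, ?_, ?_⟩
    · apply Subtype.ext
      have : i ^ 4 = (i * i) * (i * i) := by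
        norm_num [pow_succ, mul_assoc]
      simp only [Subgroup.coe_pow, Subgroup.coe_one, this, hii, neg_mul_neg, one_mul]
    · intro h
      have := congrArg Subtype.val h
      simp only [pow_two, Subgroup.coe_mul, Subgroup.coe_one, hii] at this
      exact hne this
    · apply Subtype.ext
      simp only [Subgroup.coe_pow, Subgroup.coe_one, ha3]
    · intro h
      exact ha1 (congrArg Subtype.val h)
    · apply Subtype.ext
      show (a * i * a⁻¹) * (a * i * a⁻¹) = i ^ 2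
      rw [hjj, pow_two, hii]
    · apply Subtype.ext
      show (a * i * a⁻¹) * i * (a * i * a⁻¹)⁻¹ = i⁻¹
      rw [hji, hiinv, neg_mul, mul_assoc, mul_inv_cancel, mul_one]
    · apply Subtype.ext
      exact haj
  refine Cfsg.Agent.Lib.Helper20.SL23.nonempty_equiv_sl23 d ?_
  rw [eq_top_iff]
  intro u _
  have hI : (⟨i, hiY⟩ : ↥(R ⊔ Subgroup.zpowers a)) ∈
      Subgroup.closure ({⟨i, hiY⟩, ⟨a, haY⟩} : Set ↥(R ⊔ Subgroup.zpowers a)) :=
    Subgroup.subset_closure (by simp)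
  have hA : (⟨a, haY⟩ : ↥(R ⊔ Subgroup.zpowers a)) ∈
      Subgroup.closure ({⟨i, hiY⟩, ⟨a, haY⟩} : Set ↥(R ⊔ Subgroup.zpowers a)) :=
    Subgroup.subset_closure (by simp)
  have hle : R ⊔ Subgroup.zpowers a ≤
      (Subgroup.closure ({⟨i, hiY⟩, ⟨a, haY⟩} : Set ↥(R ⊔ Subgroup.zpowers a))).map
        (R ⊔ Subgroup.zpowers a).subtype := by
    have mI : i ∈ (Subgroup.closure ({⟨i, hiY⟩, ⟨a, haY⟩} : Set ↥(R ⊔ Subgroup.zpowers a))).map
        (R ⊔ Subgroup.zpowers a).subtype := ⟨_, hI, rfl⟩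
    have mA : a ∈ (Subgroup.closure ({⟨i, hiY⟩, ⟨a, haY⟩} : Set ↥(R ⊔ Subgroup.zpowers a))).map
        (R ⊔ Subgroup.zpowers a).subtype := ⟨_, hA, rfl⟩
    have mJ := Subgroup.mul_mem _ (Subgroup.mul_mem _ mA mI) (Subgroup.inv_mem _ mA)
    have mN : (-1 : SL2) ∈
        (Subgroup.closure ({⟨i, hiY⟩, ⟨a, haY⟩} : Set ↥(R ⊔ Subgroup.zpowers a))).map
        (R ⊔ Subgroup.zpowers a).subtype := by
      rw [← hii]; exact Subgroup.mul_mem _ mI mI
    have mneg : ∀ t : SL2, t ∈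
        (Subgroup.closure ({⟨i, hiY⟩, ⟨a, haY⟩} : Set ↥(R ⊔ Subgroup.zpowers a))).map
        (R ⊔ Subgroup.zpowers a).subtype → -t ∈
        (Subgroup.closure ({⟨i, hiY⟩, ⟨a, haY⟩} : Set ↥(R ⊔ Subgroup.zpowers a))).map
        (R ⊔ Subgroup.zpowers a).subtype := by
      intro t ht
      have : -t = (-1) * t := by rw [neg_mul, one_mul]
      rw [this]; exact Subgroup.mul_mem _ mN ht
    apply sup_le
    · intro g hg
      rcases elems g hg with h | h | h | h | h | h | h | h <;> rw [h]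
      · exact Subgroup.one_mem _
      · exact mN
      · exact mI
      · exact mneg _ mI
      · exact mJ
      · exact mneg _ mJ
      · exact Subgroup.mul_mem _ mI mJ
      · exact mneg _ (Subgroup.mul_mem _ mI mJ)
    · rw [Subgroup.zpowers_le]; exact mA
  obtain ⟨u', hu', hu'e⟩ := hle u.2
  have : u' = u := Subtype.ext hu'e
  rw [← this]; exact hu'

end Cfsg.Agent.Lib.Helper2.SL2
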