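import Mathlib

set_option autoImplicit false

/-! Singer cycles, part 1: fixed-point counting for an automorphism of prime order of a finite
vector space, and irreducibility for a primitive prime divisor. -/

namespace Cfsg.Agent.Lib.Helper2.Singer

open Module

variable {F K : Type*} [Field F] [AddCommGroup K] [Module F K]

/-- the fixed subspace of a linear automorphism -/
def fixSub (u : (Module.End F K)ˣ) : Submodule F K := LinearMap.ker ((u : Module.End F K) - 1)

theorem mem_fixSub (u : (Module.End F K)ˣ) (w : K) :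
    w ∈ fixSub u ↔ (u : Module.End F K) w = w := by
  unfold fixSub
  rw [LinearMap.mem_ker, LinearMap.sub_apply, sub_eq_zero]
  rfl

theorem coe_pow_apply (u : (Module.End F K)ˣ) (k : ℕ) (w : K) :
    ((u ^ (k + 1) : (Module.End F K)ˣ) : Module.End F K) w =
      (u : Module.End F K) (((u ^ k : (Module.End F K)ˣ) : Module.End F K) w) := by
  rw [pow_succ']
  rfl

variable [Fintype F] [Fintype K]

/-- fixed point congruence on an invariant subspace -/
theorem card_modEq_fix (u : (Module.End F K)ˣ) (r : ℕ) [Fact r.Prime] (hur : u ^ r = 1)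
    (W : Submodule F K) (hW : ∀ w ∈ W, (u : Module.End F K) w ∈ W) :
    Nat.card W ≡ Nat.card ↥(W ⊓ fixSub u) [MOD r] := by
  classical
  haveI : Fintype ↥W := Fintype.ofFinite _
  let f : Function.End ↥W := fun w => ⟨(u : Module.End F K) w, hW w w.2⟩
  have hfk : ∀ (k : ℕ) (w : ↥W), (((f ^ k) w : ↥W) : K) =
      ((u ^ k : (Module.End F K)ˣ) : Module.End F K) w := by
    intro k
    induction k with
    | zero => intro w; rfl
    | succ k ih =>
      intro w
      rw [pow_succ', coe_pow_apply, ← ih]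
      rfl
  have hf : f ^ r ^ 1 = 1 := by
    rw [pow_one]
    funext w
    apply Subtype.ext
    rw [hfk, hur]
    rfl
  have h1 := Equiv.Perm.card_fixedPoints_modEq (p := r) (n := 1) hf
  rw [Nat.card_eq_fintype_card]
  refine h1.trans ?_
  rw [← Nat.card_eq_fintype_card]
  -- the fixed points of `f` are `W ⊓ fixSub u`
  suffices e : Nat.card ↥(Function.fixedPoints f) = Nat.card ↥(W ⊓ fixSub u) by rw [e]
  apply Nat.card_congr
  refine ⟨fun w => ⟨w.1.1, w.1.2, ?_⟩, fun w => ⟨⟨w.1, w.2.1⟩, ?_⟩, ?_, ?_⟩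
  · show (w.1.1 : K) ∈ fixSub u
    rw [mem_fixSub]
    have := w.2
    exact congrArg Subtype.val this
  · have := (mem_fixSub u w.1).mp w.2.2
    exact Subtype.ext this
  · intro w; rfl
  · intro w; rfl

/-- arithmetic: a primitive prime divisor and a congruence of powers -/
theorem arith_prim {q n r d d₁ : ℕ} (hq : 2 ≤ q) (hn : 0 < n) (hr : r.Prime)
    (hrn : r ∣ q ^ n - 1) (hprim : ∀ k, 0 < k → k < n → ¬ r ∣ q ^ k - 1) (hd : d ≤ n)
    (hd₁ : d₁ ≤ d) (h : q ^ d ≡ q ^ d₁ [MOD r]) : d₁ = d ∨ (d = n ∧ d₁ = 0) := by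
  by_cases hdd : d₁ = d
  · exact Or.inl hdd
  right
  have hlt : d₁ < d := lt_of_le_of_ne hd₁ hdd
  have hcop : Nat.Coprime r q := by
    rw [Nat.Prime.coprime_iff_not_dvd hr]
    intro hrq
    have h1 : r ∣ q ^ n := dvd_pow hrq (by omega)
    have h2 : 1 ≤ q ^ n := Nat.one_le_pow _ _ (by omega)
    have h3 : r ∣ q ^ n - (q ^ n - 1) := Nat.dvd_sub h1 hrn
    have h4 : q ^ n - (q ^ n - 1) = 1 := by omega
    rw [h4] at h3
    exact hr.one_lt.ne' (Nat.dvd_one.mp h3)
  obtain ⟨k, hk⟩ : ∃ k, d = d₁ + k := ⟨d - d₁, by omega⟩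
  have hk0 : 0 < k := by omega
  rw [hk, pow_add] at h
  have h' : q ^ d₁ * q ^ k ≡ q ^ d₁ * 1 [MOD r] := by rwa [mul_one]
  have h2 := Nat.ModEq.cancel_left_of_coprime (Nat.Coprime.pow_right d₁ hcop) h'
  have h3 : r ∣ q ^ k - 1 := (Nat.modEq_iff_dvd' (Nat.one_le_pow _ _ (by omega))).mp h2.symm
  have hkn : ¬ k < n := fun hlt' => hprim k hk0 hlt' h3
  omega

section irreducible

variable [Module.Finite F K]

/-- an automorphism whose order is a primitive prime divisor of `q ^ n - 1` acts irreducibly -/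
theorem eq_top_of_invariant (u : (Module.End F K)ˣ) (r : ℕ) [Fact r.Prime] (hur : u ^ r = 1)
    (hu1 : u ≠ 1) (hn : 0 < Module.finrank F K)
    (hrn : r ∣ Fintype.card F ^ Module.finrank F K - 1)
    (hprim : ∀ k, 0 < k → k < Module.finrank F K → ¬ r ∣ Fintype.card F ^ k - 1)
    (W : Submodule F K) (hW : ∀ w ∈ W, (u : Module.End F K) w ∈ W) (hW0 : W ≠ ⊥) : W = ⊤ := by
  have hq : 2 ≤ Fintype.card F := Fintype.one_lt_card
  have key : ∀ W' : Submodule F K, (∀ w ∈ W', (u : Module.End F K) w ∈ W') →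
      W' ≤ fixSub u ∨ (W' = ⊤ ∧ W' ⊓ fixSub u = ⊥) := by
    intro W' hW'
    have h1 := card_modEq_fix u r hur W' hW'
    have e1 : ∀ S : Submodule F K, Nat.card ↥S = Fintype.card F ^ Module.finrank F ↥S := by
      intro S
      rw [Module.natCard_eq_pow_finrank (K := F) (V := ↥S), Nat.card_eq_fintype_card]
    rw [e1, e1] at h1
    have hd : Module.finrank F W' ≤ Module.finrank F K := Submodule.finrank_le W'
    have hd₁ : Module.finrank F ↥(W' ⊓ fixSub u) ≤ Module.finrank F W' :=
      Submodule.finrank_mono inf_le_left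
    rcases arith_prim hq hn (Fact.out : r.Prime) hrn hprim hd hd₁ h1 with h | ⟨h, h0⟩
    · left
      have : W' ⊓ fixSub u = W' := Submodule.eq_of_le_of_finrank_eq inf_le_left h
      rw [← this]; exact inf_le_right
    · right
      exact ⟨Submodule.eq_top_of_finrank_eq h, Submodule.finrank_eq_zero.mp h0⟩
  have hfix : fixSub u = ⊥ := by
    rcases key ⊤ (fun w _ => Submodule.mem_top) with h | ⟨_, h⟩
    · exfalso
      apply hu1
      apply Units.ext
      apply LinearMap.ext
      intro w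
      exact (mem_fixSub u w).mp (h Submodule.mem_top)
    · rwa [top_inf_eq] at h
  rcases key W hW with h | ⟨h, _⟩
  · rw [hfix] at h
    exact absurd (le_bot_iff.mp h) hW0
  · exact h

end irreducible

end Cfsg.Agent.Lib.Helper2.Singer
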