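import Cfsg.Agent.Lib.Helper2.Singer1

set_option autoImplicit false

/-! Singer cycles, part 2: an abelian group of automorphisms of order `|V| - 1` containing an
irreducible element acts regularly on the nonzero vectors, and its centralizer is a field. -/

namespace Cfsg.Agent.Lib.Helper2.Singer

open Module

variable {F K : Type*} [Field F] [AddCommGroup K] [Module F K]

section regular

variable (U : Subgroup (Module.End F K)ˣ) (hU : IsMulCommutative U)
  (u : (Module.End F K)ˣ) (huU : u ∈ U)
  (hirr : ∀ W : Submodule F K, (∀ w ∈ W, (u : Module.End F K) w ∈ W) → W ≠ ⊥ → W = ⊤)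

include hU in
theorem comm_of_mem {x y : (Module.End F K)ˣ} (hx : x ∈ U) (hy : y ∈ U) : x * y = y * x := by
  have := hU.is_comm.comm (⟨x, hx⟩ : U) ⟨y, hy⟩
  exact congrArg Subtype.val this

include hU huU hirr in
/-- the action on nonzero vectors is free -/
theorem eq_one_of_fix {x : (Module.End F K)ˣ} (hx : x ∈ U) {v : K} (hv : v ≠ 0)
    (hxv : (x : Module.End F K) v = v) : x = 1 := by
  have hinv : ∀ w ∈ fixSub x, (u : Module.End F K) w ∈ fixSub x := by
    intro w hw
    rw [mem_fixSub] at hw ⊢
    have hc := comm_of_mem U hU hx huU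
    have h1 : (x : Module.End F K) ((u : Module.End F K) w) =
        ((x * u : (Module.End F K)ˣ) : Module.End F K) w := rfl
    rw [h1, hc]
    show (u : Module.End F K) ((x : Module.End F K) w) = _
    rw [hw]
  have hne : fixSub x ≠ ⊥ := by
    intro h
    have : v ∈ fixSub x := (mem_fixSub x v).mpr hxv
    rw [h, Submodule.mem_bot] at this
    exact hv this
  have htop := hirr (fixSub x) hinv hne
  apply Units.ext
  apply LinearMap.ext
  intro w
  exact (mem_fixSub x w).mp (by rw [htop]; exact Submodule.mem_top)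

include hU huU hirr in
theorem eq_of_apply_eq {x y : (Module.End F K)ˣ} (hx : x ∈ U) (hy : y ∈ U) {v : K} (hv : v ≠ 0)
    (hxy : (x : Module.End F K) v = (y : Module.End F K) v) : x = y := by
  have h1 : ((y⁻¹ * x : (Module.End F K)ˣ) : Module.End F K) v = v := by
    show ((y⁻¹ : (Module.End F K)ˣ) : Module.End F K) ((x : Module.End F K) v) = v
    rw [hxy]
    show ((y⁻¹ * y : (Module.End F K)ˣ) : Module.End F K) v = v
    rw [inv_mul_cancel]; rfl
  have := eq_one_of_fix U hU u huU hirr (U.mul_mem (U.inv_mem hy) hx) hv h1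
  calc x = y * (y⁻¹ * x) := by group
    _ = y := by rw [this, mul_one]

theorem apply_ne_zero (x : (Module.End F K)ˣ) {v : K} (hv : v ≠ 0) :
    (x : Module.End F K) v ≠ 0 := by
  intro h
  apply hv
  have : ((x⁻¹ * x : (Module.End F K)ˣ) : Module.End F K) v = 0 := by
    show ((x⁻¹ : (Module.End F K)ˣ) : Module.End F K) ((x : Module.End F K) v) = 0
    rw [h, map_zero]
  rw [inv_mul_cancel] at this
  exact this

variable [Finite K] (hcard : Nat.card U + 1 = Nat.card K)

include hU huU hirr hcard in
/-- the action on nonzero vectors is transitive -/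
theorem exists_apply_eq {v₀ v : K} (hv₀ : v₀ ≠ 0) (hv : v ≠ 0) :
    ∃ x ∈ U, (x : Module.End F K) v₀ = v := by
  classical
  let φ : U → {w : K // w ≠ 0} := fun x => ⟨(x.1 : Module.End F K) v₀, apply_ne_zero x.1 hv₀⟩
  have hinj : Function.Injective φ := by
    intro x y hxy
    apply Subtype.ext
    exact eq_of_apply_eq U hU u huU hirr x.2 y.2 hv₀ (congrArg Subtype.val hxy)
  have hc : Nat.card {w : K // w ≠ 0} ≤ Nat.card U := by
    have h1 : Nat.card {w : K // w ≠ 0} + 1 = Nat.card K := by
      haveI : Fintype K := Fintype.ofFinite K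
      rw [Nat.card_eq_fintype_card, Nat.card_eq_fintype_card, Fintype.card_subtype_compl,
        Fintype.card_subtype_eq]
      have : 0 < Fintype.card K := Fintype.card_pos
      omega
    omega
  have hbij := (Function.Injective.bijective_of_nat_card_le hinj hc)
  obtain ⟨x, hx⟩ := hbij.2 ⟨v, hv⟩
  exact ⟨x.1, x.2, congrArg Subtype.val hx⟩

end regular

section centralizer

variable (U : Subgroup (Module.End F K)ˣ)

/-- the image of `U` among the endomorphisms -/
def imgSet : Set (Module.End F K) := {c | ∃ x ∈ U, (x : Module.End F K) = c}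

/-- the centralizer algebra of `U` -/
def cenAlg : Subalgebra F (Module.End F K) := Subalgebra.centralizer F (imgSet U)

theorem mem_cenAlg {c : Module.End F K} :
    c ∈ cenAlg U ↔ ∀ x ∈ U, (x : Module.End F K) * c = c * (x : Module.End F K) := by
  unfold cenAlg
  rw [Subalgebra.mem_centralizer_iff]
  constructor
  · intro h x hx
    exact h _ ⟨x, hx, rfl⟩
  · rintro h _ ⟨x, hx, rfl⟩
    exact h x hx

variable (hU : IsMulCommutative U)

include hU in
theorem unit_mem_cenAlg {x : (Module.End F K)ˣ} (hx : x ∈ U) :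
    (x : Module.End F K) ∈ cenAlg U := by
  rw [mem_cenAlg]
  intro y hy
  have := comm_of_mem U hU hy hx
  exact congrArg Units.val this

variable (u : (Module.End F K)ˣ) (huU : u ∈ U)
  (hirr : ∀ W : Submodule F K, (∀ w ∈ W, (u : Module.End F K) w ∈ W) → W ≠ ⊥ → W = ⊤)
  [Finite K] (hcard : Nat.card U + 1 = Nat.card K)

include hU huU hirr hcard in
/-- an element of the centralizer killing a nonzero vector vanishes -/
theorem eq_zero_of_apply_eq_zero {c : Module.End F K} (hc : c ∈ cenAlg U) {v₀ : K}
    (hv₀ : v₀ ≠ 0) (h0 : c v₀ = 0) : c = 0 := by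
  apply LinearMap.ext
  intro v
  by_cases hv : v = 0
  · rw [hv, map_zero, map_zero]
  · obtain ⟨x, hx, hxv⟩ := exists_apply_eq U hU u huU hirr hcard hv₀ hv
    have h1 := (mem_cenAlg U).mp hc x hx
    rw [← hxv]
    show (c * (x : Module.End F K)) v₀ = 0
    rw [← h1]
    show (x : Module.End F K) (c v₀) = 0
    rw [h0, map_zero]

include hU huU hirr hcard in
theorem cenAlg_cases {c : Module.End F K} (hc : c ∈ cenAlg U) {v₀ : K} (hv₀ : v₀ ≠ 0) :
    c = 0 ∨ ∃ x ∈ U, (x : Module.End F K) = c := by
  by_cases h0 : c v₀ = 0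
  · exact Or.inl (eq_zero_of_apply_eq_zero U hU u huU hirr hcard hc hv₀ h0)
  · right
    obtain ⟨x, hx, hxv⟩ := exists_apply_eq U hU u huU hirr hcard hv₀ h0
    refine ⟨x, hx, ?_⟩
    have hd : c - (x : Module.End F K) ∈ cenAlg U :=
      (cenAlg U).sub_mem hc (unit_mem_cenAlg U hU hx)
    have := eq_zero_of_apply_eq_zero U hU u huU hirr hcard hd hv₀ (by
      rw [LinearMap.sub_apply, hxv, sub_self])
    exact (sub_eq_zero.mp this).symm

include hU huU hirr hcard in
theorem isField_cenAlg {v₀ : K} (hv₀ : v₀ ≠ 0) : IsField ↥(cenAlg U) := by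
  refine ⟨⟨0, 1, ?_⟩, ?_, ?_⟩
  · intro h
    have h1 : ((0 : ↥(cenAlg U)) : Module.End F K) v₀ = ((1 : ↥(cenAlg U)) : Module.End F K) v₀ := by
      rw [h]
    apply hv₀
    simpa using h1.symm
  · intro a b
    apply Subtype.ext
    show (a : Module.End F K) * (b : Module.End F K) = (b : Module.End F K) * (a : Module.End F K)
    rcases cenAlg_cases U hU u huU hirr hcard a.2 hv₀ with h | ⟨x, hx, h⟩
    · rw [h, zero_mul, mul_zero]
    · rw [← h]
      exact (mem_cenAlg U).mp b.2 x hx
  · intro a ha
    rcases cenAlg_cases U hU u huU hirr hcard a.2 hv₀ with h | ⟨x, hx, h⟩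
    · exact absurd (Subtype.ext h) ha
    · refine ⟨⟨((x⁻¹ : (Module.End F K)ˣ) : Module.End F K),
        unit_mem_cenAlg U hU (U.inv_mem hx)⟩, ?_⟩
      apply Subtype.ext
      show (a : Module.End F K) * ((x⁻¹ : (Module.End F K)ˣ) : Module.End F K) = 1
      rw [← h]
      exact Units.mul_inv x

include hU huU hirr hcard in
theorem card_cenAlg {v₀ : K} (hv₀ : v₀ ≠ 0) : Nat.card ↥(cenAlg U) = Nat.card K := by
  apply Nat.card_congr
  refine Equiv.ofBijective (fun b => (b : Module.End F K) v₀) ⟨?_, ?_⟩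
  · intro a b hab
    apply Subtype.ext
    have hd : (a : Module.End F K) - (b : Module.End F K) ∈ cenAlg U :=
      (cenAlg U).sub_mem a.2 b.2
    have := eq_zero_of_apply_eq_zero U hU u huU hirr hcard hd hv₀ (by
      rw [LinearMap.sub_apply]; exact sub_eq_zero.mpr hab)
    exact sub_eq_zero.mp this
  · intro v
    by_cases hv : v = 0
    · exact ⟨0, by simp [hv]⟩
    · obtain ⟨x, hx, hxv⟩ := exists_apply_eq U hU u huU hirr hcard hv₀ hv
      exact ⟨⟨(x : Module.End F K), unit_mem_cenAlg U hU hx⟩, hxv⟩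

end centralizer

end Cfsg.Agent.Lib.Helper2.Singer
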