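import Cfsg.Agent.Lib.Helper2.Singer2

set_option autoImplicit false

/-! Singer cycles, part 3: identification of the centralizer field with the ambient field and the
conjugating element. -/

namespace Cfsg.Agent.Lib.Helper2.Singer

open Module Polynomial

/-- finite extensions of the same cardinality of a field are isomorphic over it -/
theorem nonempty_algEquiv_of_card_eq (F L M : Type*) [Field F] [Field L] [Field M] [Fintype L]
    [Fintype M] [Algebra F L] [Algebra F M] (h : Fintype.card L = Fintype.card M) :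
    Nonempty (L ≃ₐ[F] M) := by
  haveI hM : IsSplittingField F M (X ^ Fintype.card L - X) := by
    rw [h]; exact FiniteField.isSplittingField_sub M F
  haveI hL : IsSplittingField F L (X ^ Fintype.card L - X) := FiniteField.isSplittingField_sub L F
  exact ⟨(IsSplittingField.algEquiv L (X ^ Fintype.card L - X : F[X])).trans
    (IsSplittingField.algEquiv M (X ^ Fintype.card L - X : F[X])).symm⟩

variable {F K : Type*} [Field F] [AddCommGroup K] [Module F K]

section embedding

variable (U : Subgroup (Module.End F K)ˣ) (hU : IsMulCommutative U)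
  (u : (Module.End F K)ˣ) (huU : u ∈ U)
  (hirr : ∀ W : Submodule F K, (∀ w ∈ W, (u : Module.End F K) w ∈ W) → W ≠ ⊥ → W = ⊤)
  [Finite K] (hcard : Nat.card U + 1 = Nat.card K)

include hU huU hirr hcard in
/-- the ambient field embeds onto the centralizer algebra -/
theorem exists_embedding {L : Type*} [Field L] [Fintype L] [Algebra F L]
    (hL : Fintype.card L = Nat.card K) {v₀ : K} (hv₀ : v₀ ≠ 0) :
    ∃ σ : L →ₐ[F] Module.End F K, ∀ c : Module.End F K, c ∈ cenAlg U ↔ ∃ y : L, σ y = c := by
  have hfield := isField_cenAlg U hU u huU hirr hcard hv₀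
  letI instF : Field ↥(cenAlg U) := hfield.toField
  haveI : Finite ↥(cenAlg U) := Nat.finite_of_card_ne_zero (by
    rw [card_cenAlg U hU u huU hirr hcard hv₀, ← hL]; exact Fintype.card_ne_zero)
  letI : Fintype ↥(cenAlg U) := Fintype.ofFinite _
  have hc : Fintype.card L = Fintype.card ↥(cenAlg U) := by
    rw [hL, ← card_cenAlg U hU u huU hirr hcard hv₀, Nat.card_eq_fintype_card]
  obtain ⟨e⟩ := @nonempty_algEquiv_of_card_eq F L ↥(cenAlg U) _ _ instF _ _ _
    ((cenAlg U).algebra) hc
  refine ⟨{ toFun := fun y => ((e y : ↥(cenAlg U)) : Module.End F K)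
            map_one' := ?_, map_mul' := ?_, map_zero' := ?_, map_add' := ?_, commutes' := ?_ }, ?_⟩
  · rw [map_one]; rfl
  · intro a b; rw [map_mul]; rfl
  · rw [map_zero]; rfl
  · intro a b; rw [map_add]; rfl
  · intro r; rw [AlgEquiv.commutes]; rfl
  · intro c
    constructor
    · intro hc
      refine ⟨e.symm ⟨c, hc⟩, ?_⟩
      show ((e (e.symm ⟨c, hc⟩) : ↥(cenAlg U)) : Module.End F K) = c
      rw [AlgEquiv.apply_symm_apply]
    · rintro ⟨y, rfl⟩
      exact (e y).2

end embedding

/-- an abelian group of `F`-linear automorphisms of a finite field `K ⊇ F`, of order `|K| - 1`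
and containing an element acting irreducibly, is conjugate to the Singer group -/
theorem conj_singer {F K : Type*} [Field F] [Field K] [Fintype K] [Algebra F K]
    (U : Subgroup (Module.End F K)ˣ) (hU : IsMulCommutative U)
    (u : (Module.End F K)ˣ) (huU : u ∈ U)
    (hirr : ∀ W : Submodule F K, (∀ w ∈ W, (u : Module.End F K) w ∈ W) → W ≠ ⊥ → W = ⊤)
    (hcard : Nat.card U + 1 = Nat.card K) :
    ∃ g : (Module.End F K)ˣ, U.map (MulAut.conj g).toMonoidHom =
      (Units.map ((Algebra.lmul F K : K →ₐ[F] Module.End F K) : K →* Module.End F K)).range := by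
  classical
  have hv₀ : (1 : K) ≠ 0 := one_ne_zero
  obtain ⟨σ, hσ⟩ := exists_embedding U hU u huU hirr hcard (L := K)
    (by rw [Nat.card_eq_fintype_card]) hv₀
  have hσ0 : ∀ y : K, σ y = 0 → y = 0 := fun y hy =>
    (map_eq_zero_iff σ σ.toRingHom.injective).mp hy
  let γ : K →ₗ[F] K :=
    { toFun := fun x => σ x 1
      map_add' := fun a b => by rw [map_add]; rfl
      map_smul' := fun c a => by rw [map_smul]; rfl }
  have hγmul : ∀ y x : K, γ (y * x) = σ y (γ x) := fun y x => by
    show σ (y * x) 1 = σ y (σ x 1)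
    rw [map_mul]; rfl
  have hγinj : Function.Injective γ := by
    rw [← LinearMap.ker_eq_bot, LinearMap.ker_eq_bot']
    intro x hx
    have h1 : σ x ∈ cenAlg U := (hσ _).mpr ⟨x, rfl⟩
    exact hσ0 x (eq_zero_of_apply_eq_zero U hU u huU hirr hcard h1 hv₀ hx)
  have hγbij : Function.Bijective γ := ⟨hγinj, LinearMap.injective_iff_surjective.mp hγinj⟩
  let g₀ : (Module.End F K)ˣ :=
    LinearMap.GeneralLinearGroup.ofLinearEquiv (LinearEquiv.ofBijective γ hγbij)
  have hg₀ : ∀ w : K, (g₀ : Module.End F K) w = γ w := fun w => rfl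
  have key : ∀ (x : (Module.End F K)ˣ) (y : Kˣ), (x : Module.End F K) = σ y →
      g₀⁻¹ * x * g₀ =
        Units.map ((Algebra.lmul F K : K →ₐ[F] Module.End F K) : K →* Module.End F K) y := by
    intro x y hxy
    have h1 : x * g₀ = g₀ *
        Units.map ((Algebra.lmul F K : K →ₐ[F] Module.End F K) : K →* Module.End F K) y := by
      apply Units.ext
      apply LinearMap.ext
      intro w
      show (x : Module.End F K) ((g₀ : Module.End F K) w) = (g₀ : Module.End F K) ((y : K) * w)
      rw [hg₀, hg₀, hγmul, hxy]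
    rw [mul_assoc, h1, ← mul_assoc, inv_mul_cancel, one_mul]
  refine ⟨g₀⁻¹, ?_⟩
  ext z
  constructor
  · rintro ⟨x, hx, rfl⟩
    obtain ⟨y, hy⟩ := (hσ _).mp (unit_mem_cenAlg U hU hx)
    have hy0 : y ≠ 0 := by
      rintro rfl
      rw [map_zero] at hy
      have h2 := apply_ne_zero x hv₀
      rw [← hy] at h2
      exact h2 rfl
    refine ⟨Units.mk0 y hy0, ?_⟩
    show _ = g₀⁻¹ * x * g₀⁻¹⁻¹
    rw [inv_inv]
    exact (key x _ hy.symm).symm
  · rintro ⟨y, rfl⟩
    have h1 : σ y ∈ cenAlg U := (hσ _).mpr ⟨y, rfl⟩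
    rcases cenAlg_cases U hU u huU hirr hcard h1 hv₀ with h | ⟨x, hx, h⟩
    · exact absurd (hσ0 _ h) y.ne_zero
    · refine ⟨x, hx, ?_⟩
      show g₀⁻¹ * x * g₀⁻¹⁻¹ = _
      rw [inv_inv]
      exact key x y h

end Cfsg.Agent.Lib.Helper2.Singer
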