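import Cfsg.Agent.Lib.Helper2.Singer3

set_option autoImplicit false

/-! Singer cycles, part 4: a prime power `q` with `q + 1` a power of two is prime. -/

namespace Cfsg.Agent.Lib.Helper2.Singer

theorem prime_of_primePow_succ_eq_two_pow {q m : ℕ} (hq : IsPrimePow q) (h : q + 1 = 2 ^ m) :
    q.Prime := by
  obtain ⟨p, f, hp, hf, rfl⟩ := hq
  have hp' : p.Prime := hp.nat_prime
  have hp2 : 2 ≤ p := hp'.two_le
  by_cases hf1 : f = 1
  · rw [hf1, pow_one]; exact hp'
  exfalso
  have hf2 : 2 ≤ f := by omega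
  have hqge : 4 ≤ p ^ f := by
    calc 4 = 2 ^ 2 := by norm_num
      _ ≤ p ^ 2 := Nat.pow_le_pow_left hp2 2
      _ ≤ p ^ f := Nat.pow_le_pow_right (by omega) hf2
  have hm2 : 2 ≤ m := by
    by_contra hm
    have : m = 0 ∨ m = 1 := by omega
    rcases this with rfl | rfl <;> simp at h <;> omega
  -- `p` is odd
  have hpodd : Odd p := by
    rcases hp'.eq_two_or_odd' with rfl | ho
    · exfalso
      have h1 : 2 ∣ 2 ^ f := dvd_pow_self 2 (by omega)
      have h2 : 2 ∣ 2 ^ m := dvd_pow_self 2 (by omega)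
      omega
    · exact ho
  rcases Nat.even_or_odd f with hfe | hfo
  · -- `f` even: `q` is an odd square, so `q + 1 ≡ 2 (mod 4)`
    obtain ⟨j, hj⟩ := hfe
    have hsq : p ^ f = (p ^ j) ^ 2 := by rw [hj, ← two_mul, mul_comm, pow_mul]
    have hodd : Odd (p ^ j) := hpodd.pow
    obtain ⟨t, ht⟩ := hodd
    have h4 : 4 ∣ 2 ^ m := by
      calc (4 : ℕ) = 2 ^ 2 := by norm_num
        _ ∣ 2 ^ m := pow_dvd_pow 2 hm2
    rw [← h, hsq, ht] at h4
    have : (2 * t + 1) ^ 2 + 1 = 4 * (t ^ 2 + t) + 2 := by ring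
    rw [this] at h4
    omega
  · -- `f` odd, `f ≥ 3`
    have hdvd : p + 1 ∣ p ^ f + 1 := by
      have := Odd.nat_add_dvd_pow_add_pow p 1 hfo
      simpa using this
    rw [h] at hdvd
    obtain ⟨b, hbm, hb⟩ := (Nat.dvd_prime_pow Nat.prime_two).mp hdvd
    have hb1 : 1 ≤ b := by
      by_contra hb0
      have : b = 0 := by omega
      rw [this] at hb; simp at hb; omega
    have hlt : p + 1 < p ^ f + 1 := by
      have : p ^ 1 < p ^ f := Nat.pow_lt_pow_right (by omega) (by omega)
      simpa using this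
    have hbltm : b < m := by
      rw [h, hb] at hlt
      exact (Nat.pow_lt_pow_iff_right (by norm_num)).mp hlt
    -- work modulo `N = 2 ^ (b + 1)`
    obtain ⟨N, hNdef⟩ : ∃ N : ℕ, N = 2 ^ (b + 1) := ⟨_, rfl⟩
    have hN : (2 : ZMod N) ^ (b + 1) = 0 := by
      have := ZMod.natCast_self N
      rw [hNdef] at this
      push_cast at this
      rw [hNdef]
      exact this
    have hpz : (p : ZMod N) = 2 ^ b - 1 := by
      have := congrArg (fun x : ℕ => (x : ZMod N)) hb
      push_cast at this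
      linear_combination this
    have hp2z : (p : ZMod N) ^ 2 = 1 := by
      rw [hpz]
      have e1 : (2 : ZMod N) ^ (2 * b) = 0 := by
        have hbb : 2 * b = (b + 1) + (b - 1) := by omega
        calc (2 : ZMod N) ^ (2 * b) = 2 ^ (b + 1) * 2 ^ (b - 1) := by rw [← pow_add, ← hbb]
          _ = 0 := by rw [hN, zero_mul]
      have e2 : ((2 : ZMod N) ^ b - 1) ^ 2 = 2 ^ (2 * b) - 2 ^ (b + 1) + 1 := by
        ring
      rw [e2, e1, hN]; ring
    obtain ⟨j, hj⟩ := hfo
    have hpf : (p : ZMod N) ^ f = p := by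
      calc (p : ZMod N) ^ f = ((p : ZMod N) ^ 2) ^ j * p := by rw [hj, ← pow_mul, ← pow_succ]
        _ = p := by rw [hp2z, one_pow, one_mul]
    have hz : ((p ^ f + 1 : ℕ) : ZMod N) = 0 := by
      rw [h, ZMod.natCast_eq_zero_iff, hNdef]
      exact pow_dvd_pow 2 (by omega)
    push_cast at hz
    rw [hpf, hpz] at hz
    have hz' : ((2 ^ b : ℕ) : ZMod N) = 0 := by
      push_cast
      linear_combination hz
    rw [ZMod.natCast_eq_zero_iff, hNdef] at hz'
    have := Nat.le_of_dvd (by positivity) hz'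
    have : 2 ^ b < 2 ^ (b + 1) := Nat.pow_lt_pow_right (by norm_num) (by omega)
    omega

end Cfsg.Agent.Lib.Helper2.Singer
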