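import Cfsg.Agent.Lib.Helper2.SmCC
import Cfsg.Agent.Lib.Helper69.Stn_HXX
import Cfsg.Agent.Lib.Helper95.Stn_WALL

/-! # Sm hive (S2086, owner helper39): `St_4(K)` is centrally closed for `|K| ≥ 3`

The all-distinct case of the key lemma `LiftComm` by the torus (`|K| ≥ 4`) resp. a Weyl element (`|K| = 3`). -/

set_option autoImplicit false

namespace Cfsg.Agent.Lib.Helper39.Sm

open Cfsg.Agent.Lib.Helper41.Stn

variable {K : Type*} [Field K] {n : ℕ} {Y : Type*} [Group Y]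

theorem c4_comm_of_eq {G : Type*} [Group G] {y₁ y₂ z : G}
    (h : y₂ * z * y₂⁻¹ * z⁻¹ = y₁ * z * y₁⁻¹ * z⁻¹) : (y₁⁻¹ * y₂) * z = z * (y₁⁻¹ * y₂) := by
  have h' : y₂ * z * y₂⁻¹ = y₁ * z * y₁⁻¹ := by
    have := congrArg (· * z) h
    simpa using this
  calc (y₁⁻¹ * y₂) * z = y₁⁻¹ * (y₂ * z * y₂⁻¹) * y₂ := by group
    _ = y₁⁻¹ * (y₁ * z * y₁⁻¹) * y₂ := by rw [h']
    _ = z * (y₁⁻¹ * y₂) := by group

/-- the commutator of lifts of two commuting root elements is central -/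
theorem c4_comm_central (φ : Y →* St K n) (hk : φ.ker ≤ Subgroup.center Y) {i j k l : Fin n}
    (hjk : j ≠ k) (hil : i ≠ l) {t u : K} {y z : Y} (hy : φ y = xx i j t) (hz : φ z = xx k l u) :
    y * z * y⁻¹ * z⁻¹ ∈ Subgroup.center Y := by
  apply hk
  rw [MonoidHom.mem_ker, map_mul, map_mul, map_mul, map_inv, map_inv, hy, hz, xx_comm hil hjk]
  group

/-- the torus argument: lifts of `x_ij(t)` and `x_kl(u)`, `{i,j} ∩ {k,l} = ∅`, commute if some `a ≠ 0` has
`a ^ 2 ≠ 1` -/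
theorem c4_torus (hn : 3 ≤ n) (φ : Y →* St K n) (hs : Function.Surjective φ)
    (hk : φ.ker ≤ Subgroup.center Y) {i j k l : Fin n} (hij : i ≠ j) (hkl : k ≠ l) (hki : k ≠ i)
    (hkj : k ≠ j) (hli : l ≠ i) (hlj : l ≠ j) (hex : ∃ a : K, a ≠ 0 ∧ a ^ 2 ≠ 1) (t u : K) {y z : Y}
    (hy : φ y = xx i j t) (hz : φ z = xx k l u) : y * z = z * y := by
  obtain ⟨a, ha0, ha1⟩ := hex
  have ha2 : a ^ 2 - 1 ≠ 0 := sub_ne_zero.mpr ha1
  obtain ⟨y₁, hy₁⟩ := hs (xx i j (t / (a ^ 2 - 1)))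
  obtain ⟨y₂, hy₂⟩ := hs (xx i j (a ^ 2 * (t / (a ^ 2 - 1))))
  obtain ⟨H, hH⟩ := hs (hh i j a)
  have e1 : φ (H * y₁ * H⁻¹) = xx i j (a ^ 2 * (t / (a ^ 2 - 1))) := by
    rw [map_mul, map_mul, map_inv, hH, hy₁, hh_conj_xx hn hij ha0 hij]
    congr 1
    have d1 : dd i j a i = a := by simp [dd]
    have d2 : dd i j a j = a⁻¹ := by simp [dd, Ne.symm hij]
    rw [d1, d2]
    field_simp
  have e2 : φ (H * z * H⁻¹) = xx k l u := by
    rw [map_mul, map_mul, map_inv, hH, hz, hh_conj_xx hn hij ha0 hkl]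
    congr 1
    have d1 : dd i j a k = 1 := by simp [dd, hki, hkj]
    have d2 : dd i j a l = 1 := by simp [dd, hli, hlj]
    rw [d1, d2]
    simp
  have hc : y₁ * z * y₁⁻¹ * z⁻¹ ∈ Subgroup.center Y :=
    c4_comm_central φ hk (Ne.symm hkj) (Ne.symm hli) hy₁ hz
  have hcH : H * (y₁ * z * y₁⁻¹ * z⁻¹) * H⁻¹ = y₁ * z * y₁⁻¹ * z⁻¹ := by
    rw [Subgroup.mem_center_iff.mp hc H]; group
  have key : y₂ * z * y₂⁻¹ * z⁻¹ = y₁ * z * y₁⁻¹ * z⁻¹ := by
    have := cc_comm_lift φ hk (e1.trans hy₂.symm) (e2.trans hz.symm)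
    rw [this, ← hcH]
    group
  have hcomm := c4_comm_of_eq key
  have hlift : φ (y₁⁻¹ * y₂) = φ y := by
    rw [map_mul, map_inv, hy₁, hy₂, hy, xx_inv, xx_add]
    congr 1
    field_simp
    ring
  exact cc_commute_lift φ hk hlift hcomm

theorem c4_exists_sq_ne_one [Fintype K] (hK : 4 ≤ Fintype.card K) : ∃ a : K, a ≠ 0 ∧ a ^ 2 ≠ 1 := by
  classical
  have hlt : ({0, 1, -1} : Finset K).card < Fintype.card K :=
    lt_of_le_of_lt Finset.card_le_three (by omega)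
  have : ∃ a : K, a ∉ ({0, 1, -1} : Finset K) := by
    by_contra hc
    push Not at hc
    have : ({0, 1, -1} : Finset K) = Finset.univ := Finset.eq_univ_iff_forall.mpr hc
    rw [this, Finset.card_univ] at hlt
    exact lt_irrefl _ hlt
  obtain ⟨a, ha⟩ := this
  simp only [Finset.mem_insert, Finset.mem_singleton, not_or] at ha
  refine ⟨a, ha.1, fun h => ?_⟩
  have h2 : a * a = 1 := by rw [← sq]; exact h
  rcases mul_self_eq_one_iff.mp h2 with h1 | h1
  · exact ha.2.1 h1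
  · exact ha.2.2 h1

/-- for `4 ≤ n`, `LiftComm` follows from its all-distinct case -/
theorem c4_liftComm_of_distinct (hn : 4 ≤ n) (φ : Y →* St K n) (hs : Function.Surjective φ)
    (hk : φ.ker ≤ Subgroup.center Y)
    (hd : ∀ (i j k l : Fin n) (t u : K), i ≠ j → k ≠ l → k ≠ i → k ≠ j → l ≠ i → l ≠ j →
      ∀ y z : Y, φ y = xx i j t → φ z = xx k l u → y * z = z * y) : LiftComm φ := by
  intro i j k l t u hij hkl hjk hil y z hy hz
  by_cases hki : k = i
  · obtain ⟨h, h1, h2, h3⟩ := cc_exists_ne3 hn i j l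
    exact cc_liftComm_of_extra φ hs hk t u hij hkl hjk hil ⟨h, h1, h2, hki ▸ h1, h3⟩ hy hz
  by_cases hlj : l = j
  · obtain ⟨h, h1, h2, h3⟩ := cc_exists_ne3 hn i j k
    exact cc_liftComm_of_extra φ hs hk t u hij hkl hjk hil ⟨h, h1, h2, h3, hlj ▸ h2⟩ hy hz
  exact hd i j k l t u hij hkl hki (Ne.symm hjk) (Ne.symm hil) hlj y z hy hz

/-- `LiftComm` for `4 ≤ n` and `4 ≤ |K|` -/
theorem c4_liftComm_of_card [Fintype K] (hn : 4 ≤ n) (hK : 4 ≤ Fintype.card K) (φ : Y →* St K n)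
    (hs : Function.Surjective φ) (hk : φ.ker ≤ Subgroup.center Y) : LiftComm φ :=
  c4_liftComm_of_distinct hn φ hs hk fun _ _ _ _ t u hij hkl hki hkj hli hlj _ _ hy hz =>
    c4_torus (by omega) φ hs hk hij hkl hki hkj hli hlj (c4_exists_sq_ne_one hK) t u hy hz

/-! ### the Weyl element argument for `|K| = 3` -/

theorem c4_weyl_conj1 (hn : 3 ≤ n) {i j k l : Fin n} (hij : i ≠ j) (hkl : k ≠ l) (hki : k ≠ i)
    (hkj : k ≠ j) (hli : l ≠ i) (hlj : l ≠ j) (t : K) :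
    (ww j l 1 * ww i k 1) * xx i j t * (ww j l 1 * ww i k 1)⁻¹ = (xx k l t : St K n) := by
  have e1 : ww i k (1 : K) * xx i j t * (ww i k 1)⁻¹ = (xx k j (-t) : St K n) := by
    rw [ww_conj_xx hn (Ne.symm hki) one_ne_zero hij]
    have s1 : Equiv.swap i k i = k := Equiv.swap_apply_left i k
    have s2 : Equiv.swap i k j = j := Equiv.swap_apply_of_ne_of_ne (Ne.symm hij) (Ne.symm hkj)
    have m1 : mu i k (1 : K) i = -1 := by simp [mu]
    have m2 : mu i k (1 : K) j = 1 := by simp [mu, Ne.symm hij, Ne.symm hkj]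
    rw [s1, s2, m1, m2]
    congr 1
    ring
  have e2 : ww j l (1 : K) * xx k j (-t) * (ww j l 1)⁻¹ = (xx k l t : St K n) := by
    rw [ww_conj_xx hn (Ne.symm hlj) one_ne_zero hkj]
    have s1 : Equiv.swap j l k = k := Equiv.swap_apply_of_ne_of_ne hkj hkl
    have s2 : Equiv.swap j l j = l := Equiv.swap_apply_left j l
    have m1 : mu j l (1 : K) k = 1 := by simp [mu, hkj, hkl]
    have m2 : mu j l (1 : K) j = -1 := by simp [mu]
    rw [s1, s2, m1, m2]
    congr 1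
    ring
  calc (ww j l 1 * ww i k 1) * xx i j t * (ww j l 1 * ww i k 1)⁻¹
      = ww j l 1 * (ww i k 1 * xx i j t * (ww i k 1)⁻¹) * (ww j l 1)⁻¹ := by group
    _ = xx k l t := by rw [e1, e2]

theorem c4_weyl_conj2 (hn : 3 ≤ n) {i j k l : Fin n} (hij : i ≠ j) (hkl : k ≠ l) (hki : k ≠ i)
    (hkj : k ≠ j) (hli : l ≠ i) (hlj : l ≠ j) (u : K) :
    (ww j l 1 * ww i k 1) * xx k l u * (ww j l 1 * ww i k 1)⁻¹ = (xx i j u : St K n) := by
  have e1 : ww i k (1 : K) * xx k l u * (ww i k 1)⁻¹ = (xx i l u : St K n) := by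
    rw [ww_conj_xx hn (Ne.symm hki) one_ne_zero hkl]
    have s1 : Equiv.swap i k k = i := Equiv.swap_apply_right i k
    have s2 : Equiv.swap i k l = l := Equiv.swap_apply_of_ne_of_ne hli (Ne.symm hkl)
    have m1 : mu i k (1 : K) k = 1 := by simp [mu, hki]
    have m2 : mu i k (1 : K) l = 1 := by simp [mu, hli, Ne.symm hkl]
    rw [s1, s2, m1, m2]
    congr 1
    ring
  have e2 : ww j l (1 : K) * xx i l u * (ww j l 1)⁻¹ = (xx i j u : St K n) := by
    rw [ww_conj_xx hn (Ne.symm hlj) one_ne_zero (Ne.symm hli)]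
    have s1 : Equiv.swap j l i = i := Equiv.swap_apply_of_ne_of_ne hij (Ne.symm hli)
    have s2 : Equiv.swap j l l = j := Equiv.swap_apply_right j l
    have m1 : mu j l (1 : K) i = 1 := by simp [mu, hij, Ne.symm hli]
    have m2 : mu j l (1 : K) l = 1 := by simp [mu, hlj]
    rw [s1, s2, m1, m2]
    congr 1
    ring
  calc (ww j l 1 * ww i k 1) * xx k l u * (ww j l 1 * ww i k 1)⁻¹
      = ww j l 1 * (ww i k 1 * xx k l u * (ww i k 1)⁻¹) * (ww j l 1)⁻¹ := by group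
    _ = xx i j u := by rw [e1, e2]

/-- the Weyl swap: `[y, z] = [z', y']` -/
theorem c4_weyl_swap (hn : 3 ≤ n) (φ : Y →* St K n) (hs : Function.Surjective φ)
    (hk : φ.ker ≤ Subgroup.center Y) {i j k l : Fin n} (hij : i ≠ j) (hkl : k ≠ l) (hki : k ≠ i)
    (hkj : k ≠ j) (hli : l ≠ i) (hlj : l ≠ j) {t u : K} {y z y' z' : Y}
    (hy : φ y = xx i j t) (hz : φ z = xx k l u) (hy' : φ y' = xx i j u) (hz' : φ z' = xx k l t) :
    y * z * y⁻¹ * z⁻¹ = z' * y' * z'⁻¹ * y'⁻¹ := by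
  obtain ⟨W, hW⟩ := hs (ww j l 1 * ww i k 1)
  have e1 : φ (W * y * W⁻¹) = xx k l t := by
    rw [map_mul, map_mul, map_inv, hW, hy, c4_weyl_conj1 hn hij hkl hki hkj hli hlj]
  have e2 : φ (W * z * W⁻¹) = xx i j u := by
    rw [map_mul, map_mul, map_inv, hW, hz, c4_weyl_conj2 hn hij hkl hki hkj hli hlj]
  have hc : y * z * y⁻¹ * z⁻¹ ∈ Subgroup.center Y :=
    c4_comm_central φ hk (Ne.symm hkj) (Ne.symm hli) hy hz
  have hcW : W * (y * z * y⁻¹ * z⁻¹) * W⁻¹ = y * z * y⁻¹ * z⁻¹ := by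
    rw [Subgroup.mem_center_iff.mp hc W]; group
  have := cc_comm_lift φ hk (e1.trans hz'.symm) (e2.trans hy'.symm)
  rw [this, ← hcW]
  group

theorem c4_weyl_diag [Fintype K] (hK : Fintype.card K = 3) (hn : 3 ≤ n) (φ : Y →* St K n)
    (hs : Function.Surjective φ) (hk : φ.ker ≤ Subgroup.center Y) {i j k l : Fin n} (hij : i ≠ j)
    (hkl : k ≠ l) (hki : k ≠ i) (hkj : k ≠ j) (hli : l ≠ i) (hlj : l ≠ j) {t : K} {y z : Y}
    (hy : φ y = xx i j t) (hz : φ z = xx k l t) : y * z = z * y := by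
  have h3 : (3 : K) = 0 := by
    have := Nat.cast_card_eq_zero K
    rw [hK] at this
    exact_mod_cast this
  -- c = c⁻¹
  have hsw := c4_weyl_swap hn φ hs hk hij hkl hki hkj hli hlj hy hz hy hz
  have hinv : y * z * y⁻¹ * z⁻¹ = (y * z * y⁻¹ * z⁻¹)⁻¹ := by
    calc y * z * y⁻¹ * z⁻¹ = z * y * z⁻¹ * y⁻¹ := hsw
      _ = (y * z * y⁻¹ * z⁻¹)⁻¹ := by group
  -- additivity
  have hzz : φ (z * z) = xx k l (t + t) := by rw [map_mul, hz, xx_add]
  have hc1 : y * z * y⁻¹ * z⁻¹ ∈ Subgroup.center Y :=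
    c4_comm_central φ hk (Ne.symm hkj) (Ne.symm hli) hy hz
  have hc2 : y * (z * z) * y⁻¹ * (z * z)⁻¹ ∈ Subgroup.center Y :=
    c4_comm_central φ hk (Ne.symm hkj) (Ne.symm hli) hy hzz
  have a1 := cc_comm_mul y z z (Subgroup.mem_center_iff.mp hc1 z)
  have a2 := cc_comm_mul y z (z * z) (Subgroup.mem_center_iff.mp hc2 z)
  have hzzz : z * (z * z) ∈ Subgroup.center Y := by
    apply hk
    rw [MonoidHom.mem_ker, map_mul, hz, hzz, xx_add]
    have : t + (t + t) = 0 := by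
      have : t + (t + t) = 3 * t := by ring
      rw [this, h3, zero_mul]
    rw [this, xx_zero]
  have h1 : y * (z * (z * z)) * y⁻¹ * (z * (z * z))⁻¹ = 1 := by
    rw [Subgroup.mem_center_iff.mp hzzz y]; group
  rw [h1, a1] at a2
  have hone : y * z * y⁻¹ * z⁻¹ = 1 := by
    generalize y * z * y⁻¹ * z⁻¹ = c at *
    have hcc : c * c = 1 := by
      nth_rewrite 2 [hinv]
      exact mul_inv_cancel c
    rw [hcc, mul_one] at a2
    exact a2.symm
  calc y * z = (y * z * y⁻¹ * z⁻¹) * (z * y) := by group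
    _ = z * y := by rw [hone, one_mul]

theorem c4_card_three_cases [Fintype K] (hK : Fintype.card K = 3) (t u : K) :
    t = 0 ∨ u = 0 ∨ u = t ∨ u = -t := by
  let e := ZMod.ringEquivOfPrime K Nat.prime_three hK
  have h := (by decide : ∀ a b : ZMod 3, a = 0 ∨ b = 0 ∨ b = a ∨ b = -a) (e.symm t) (e.symm u)
  rcases h with h | h | h | h
  · left; simpa using congrArg e h
  · right; left; simpa using congrArg e h
  · right; right; left; simpa using congrArg e h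
  · right; right; right; simpa using congrArg e h

/-- the all-distinct case of the key lemma for `|K| = 3` -/
theorem c4_weyl [Fintype K] (hK : Fintype.card K = 3) (hn : 3 ≤ n) (φ : Y →* St K n)
    (hs : Function.Surjective φ) (hk : φ.ker ≤ Subgroup.center Y) {i j k l : Fin n} (hij : i ≠ j)
    (hkl : k ≠ l) (hki : k ≠ i) (hkj : k ≠ j) (hli : l ≠ i) (hlj : l ≠ j) (t u : K) {y z : Y}
    (hy : φ y = xx i j t) (hz : φ z = xx k l u) : y * z = z * y := by
  rcases c4_card_three_cases hK t u with h | h | h | h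
  · subst h
    have : y ∈ Subgroup.center Y := by
      apply hk
      rw [MonoidHom.mem_ker, hy, xx_zero]
    exact (Subgroup.mem_center_iff.mp this z).symm
  · subst h
    have : z ∈ Subgroup.center Y := by
      apply hk
      rw [MonoidHom.mem_ker, hz, xx_zero]
    exact Subgroup.mem_center_iff.mp this y
  · subst h
    exact c4_weyl_diag hK hn φ hs hk hij hkl hki hkj hli hlj hy hz
  · subst h
    have hz' : φ z⁻¹ = xx k l t := by rw [map_inv, hz, xx_inv, neg_neg]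
    have h1 := c4_weyl_diag hK hn φ hs hk hij hkl hki hkj hli hlj hy hz'
    calc y * z = z * (z⁻¹ * y) * z := by group
      _ = z * (y * z⁻¹) * z := by rw [h1]
      _ = z * y := by group

/-- `LiftComm` for `4 ≤ n` and `3 ≤ |K|` -/
theorem c4_liftComm [Fintype K] (hn : 4 ≤ n) (hK : 3 ≤ Fintype.card K) (φ : Y →* St K n)
    (hs : Function.Surjective φ) (hk : φ.ker ≤ Subgroup.center Y) : LiftComm φ := by
  rcases Nat.lt_or_ge 3 (Fintype.card K) with h4 | h3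
  · exact c4_liftComm_of_card hn h4 φ hs hk
  · have hK3 : Fintype.card K = 3 := le_antisymm h3 hK
    exact c4_liftComm_of_distinct hn φ hs hk fun _ _ _ _ t u hij hkl hki hkj hli hlj _ _ hy hz =>
      c4_weyl hK3 (by omega) φ hs hk hij hkl hki hkj hli hlj t u hy hz

/-- `St_n(K)` is centrally closed for `4 ≤ n`, `3 ≤ |K|` -/
theorem c4_splits [Fintype K] (hn : 4 ≤ n) (hK : 3 ≤ Fintype.card K) (φ : Y →* St K n)
    (hs : Function.Surjective φ) (hk : φ.ker ≤ Subgroup.center Y) :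
    ∃ s : St K n →* Y, φ.comp s = MonoidHom.id (St K n) :=
  cc_splits_of_liftComm hn φ hs hk (c4_liftComm hn hK φ hs hk)

end Cfsg.Agent.Lib.Helper39.Sm
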