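import Cfsg.Agent.Lib.Helper39.SmDefs
import Cfsg.Agent.Lib.Helper2.SmCC4

/-! # Sm hive (S2086, owner helper39): PART T, leaf T-LA4 `la_of_four` (and the `n ≥ 5` analogue) -/

set_option autoImplicit false

namespace Cfsg.Agent.Lib.Helper39.Sm

open Cfsg.Agent.Lib.Helper41.Stn
open scoped commutatorElement

variable {K : Type*} [Field K] {n : ℕ} {Y : Type*} [Group Y] (φ : Y →* St K n)

/-- `LiftComm` (helper2) and `LA` (SmDefs) are the same property -/
theorem tla4_LA_of_liftComm (h : LiftComm φ) : LA φ := by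
  intro i j k l hij hkl hil hjk t u a b ha hb
  exact h i j k l t u hij hkl hjk hil a b ha hb

theorem tla4_liftComm_of_LA (h : LA φ) : LiftComm φ := by
  intro i j k l t u hij hkl hjk hil a b ha hb
  exact h hij hkl hil hjk t u ha hb

/-- T-LA4 -/
theorem la_of_four [Finite K] (hn : 4 ≤ n) (hK : 3 ≤ Nat.card K) (hφ : Function.Surjective φ)
    (hc : φ.ker ≤ Subgroup.center Y) : LA φ := by
  have : Fintype K := Fintype.ofFinite K
  rw [Nat.card_eq_fintype_card] at hK
  have h := c4_liftComm hn hK φ hφ hc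
  intro i j k l hij hkl hil hjk t u a b ha hb
  exact h i j k l t u hij hkl hjk hil a b ha hb

/-- the same for `5 ≤ n`, any field -/
theorem tla4_la_of_five' (hn : 5 ≤ n) (hφ : Function.Surjective φ)
    (hc : φ.ker ≤ Subgroup.center Y) : LA φ := by
  have h := cc_liftComm_five hn φ hφ hc
  intro i j k l hij hkl hil hjk t u a b ha hb
  exact h i j k l t u hij hkl hjk hil a b ha hb

/-- Milnor's theorem from `LA` -/
theorem tla4_splits_of_LA (hn : 4 ≤ n) (hφ : Function.Surjective φ)
    (hc : φ.ker ≤ Subgroup.center Y) (h : LA φ) :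
    ∃ τ : St K n →* Y, φ.comp τ = MonoidHom.id (St K n) :=
  cc_splits_of_liftComm hn φ hφ hc (tla4_liftComm_of_LA φ h)

end Cfsg.Agent.Lib.Helper39.Sm
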