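import Mathlib

/-! # Stn hive (S2401), sub-hive SYM: abstract vanishing of Steinberg symbols over a finite field (helper2) -/

set_option autoImplicit false

namespace Cfsg.Agent.Lib.Helper41.Stn

/-- In a finite field where `-1` is not a square there are two non-squares with sum `1`. -/
theorem symfin_exists_nonsq {K : Type*} [Field K] [Finite K] (hneg : ¬ IsSquare (-1 : K)) :
    ∃ u v : K, ¬ IsSquare u ∧ ¬ IsSquare v ∧ u + v = 1 := by
  classical
  by_contra hcon
  push Not at hcon
  have key : ∀ k : ℕ, IsSquare (((k + 1 : ℕ) : K)) := by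
    intro k
    induction k with
    | zero => simp
    | succ k ih =>
      by_contra hk
      -- u = -(k+1), v = k+2
      have hu : ¬ IsSquare (-(((k + 1 : ℕ) : K))) := by
        intro hsq
        have hne : (((k + 1 : ℕ) : K)) ≠ 0 := by
          intro h0
          apply hk
          have : (((k + 1 + 1 : ℕ) : K)) = 1 := by
            push_cast
            push_cast at h0
            rw [h0]; ring
          rw [this]; exact IsSquare.one
        apply hneg
        obtain ⟨a, ha⟩ := ih
        obtain ⟨b, hb⟩ := hsq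
        have ha0 : a ≠ 0 := by
          rintro rfl
          apply hne; rw [ha]; ring
        refine ⟨b / a, ?_⟩
        field_simp
        linear_combination ha + hb
      have := hcon _ _ hu hk
      apply this
      push_cast
      ring
  let _ : Fintype K := Fintype.ofFinite K
  have hcard : ((Fintype.card K : ℕ) : K) = 0 := Nat.cast_card_eq_zero K
  have hpos : 0 < Fintype.card K := Fintype.card_pos
  obtain ⟨m, hm⟩ : ∃ m, Fintype.card K = m + 1 := ⟨Fintype.card K - 1, by omega⟩
  rw [hm] at hcard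
  -- (m : K) = -1
  have hm1 : ((m : ℕ) : K) = -1 := by
    push_cast at hcard
    linear_combination hcard
  rcases Nat.eq_zero_or_pos m with h0 | hpos'
  · subst h0
    simp at hm1
  · obtain ⟨k, rfl⟩ : ∃ k, m = k + 1 := ⟨m - 1, by omega⟩
    apply hneg
    rw [← hm1]
    exact key k

/-- Abstract vanishing of Steinberg symbols over a finite field. -/
theorem symfin_main {K : Type*} [Field K] [Finite K] {A : Type*} [CommGroup A] (c : Kˣ → Kˣ → A)
    (hL : ∀ t t' u : Kˣ, c (t * t') u = c t u * c t' u)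
    (hR : ∀ t u u' : Kˣ, c t (u * u') = c t u * c t u')
    (hskew : ∀ t u : Kˣ, c t u * c u t = 1)
    (hneg : ∀ t : Kˣ, c t (-t) = 1)
    (hone : ∀ t u : Kˣ, (t : K) + (u : K) = 1 → c t u = 1) :
    ∀ t u : Kˣ, c t u = 1 := by
  classical
  obtain ⟨g, hg⟩ := IsCyclic.exists_generator (α := Kˣ)
  -- homs
  let cL : Kˣ → (Kˣ →* A) := fun u => MonoidHom.mk' (fun t => c t u) (fun t t' => hL t t' u)
  let cR : Kˣ → (Kˣ →* A) := fun t => MonoidHom.mk' (fun u => c t u) (fun u u' => hR t u u')
  set z : A := c g g with hz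
  have hzz : z * z = 1 := hskew g g
  have hpow : ∀ a b : ℤ, c (g ^ a) (g ^ b) = z ^ (a * b) := by
    intro a b
    have h1 : c (g ^ a) (g ^ b) = (c g (g ^ b)) ^ a := by
      have := map_zpow (cL (g ^ b)) g a
      simpa [cL] using this
    have h2 : c g (g ^ b) = z ^ b := by
      have := map_zpow (cR g) g b
      simpa [cR] using this
    rw [h1, h2, ← zpow_mul, mul_comm]
  have hzodd : ∀ m : ℤ, Odd m → z ^ m = z := by
    intro m hm
    obtain ⟨k, rfl⟩ := hm
    rw [zpow_add, zpow_one, zpow_mul, zpow_two, hzz, one_zpow, one_mul]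
  have hzeven : ∀ m : ℤ, Even m → z ^ m = 1 := by
    intro m hm
    obtain ⟨k, rfl⟩ := hm
    rw [← two_mul, zpow_mul, zpow_two, hzz, one_zpow]
  suffices hz1 : z = 1 by
    intro t u
    obtain ⟨a, rfl⟩ := Subgroup.mem_zpowers_iff.mp (hg t)
    obtain ⟨b, rfl⟩ := Subgroup.mem_zpowers_iff.mp (hg u)
    rw [hpow, hz1, one_zpow]
  by_cases hsq : IsSquare (-1 : K)
  · -- c g (-g) = 1
    obtain ⟨s, hs⟩ := hsq
    have hs0 : s ≠ 0 := by
      rintro rfl
      simp at hs
    let su : Kˣ := Units.mk0 s hs0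
    have hsu : (-1 : Kˣ) = su * su := by
      ext
      simp [su, hs]
    obtain ⟨k, hk⟩ := Subgroup.mem_zpowers_iff.mp (hg su)
    have h1 : c g (-g) = 1 := hneg g
    have h2 : (-g : Kˣ) = g ^ (2 * k + 1) := by
      rw [zpow_add, zpow_one, mul_comm 2 k, zpow_mul, zpow_two, hk, ← hsu]
      simp
    rw [h2] at h1
    have h3 := hpow 1 (2 * k + 1)
    rw [zpow_one, h1, one_mul, hzodd _ ⟨k, rfl⟩] at h3
    exact h3.symm
  · obtain ⟨u, v, hu, hv, huv⟩ := symfin_exists_nonsq hsq
    have hu0 : u ≠ 0 := by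
      rintro rfl
      exact hu ⟨0, by simp⟩
    have hv0 : v ≠ 0 := by
      rintro rfl
      exact hv ⟨0, by simp⟩
    let uu : Kˣ := Units.mk0 u hu0
    let vu : Kˣ := Units.mk0 v hv0
    obtain ⟨a, ha⟩ := Subgroup.mem_zpowers_iff.mp (hg uu)
    obtain ⟨b, hb⟩ := Subgroup.mem_zpowers_iff.mp (hg vu)
    have hodd : ∀ (w : K) (hw0 : w ≠ 0) (e : ℤ), g ^ e = Units.mk0 w hw0 → ¬ IsSquare w → Odd e := by
      intro w hw0 e he hw
      rw [← Int.not_even_iff_odd]
      rintro ⟨k, rfl⟩
      apply hw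
      refine ⟨((g ^ k : Kˣ) : K), ?_⟩
      have := congrArg (fun x : Kˣ => (x : K)) he
      simp only [Units.val_mk0] at this
      rw [← this, zpow_add]
      simp
    have hao := hodd u hu0 a ha hu
    have hbo := hodd v hv0 b hb hv
    have h1 : c uu vu = 1 := hone uu vu (by simpa [uu, vu] using huv)
    rw [← ha, ← hb, hpow, hzodd _ (hao.mul hbo)] at h1
    exact h1

end Cfsg.Agent.Lib.Helper41.Stn
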