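import Cfsg.Agent.Lib.Helper41.StnDefs
import Cfsg.Agent.Lib.Helper80.Stn_BASIC
import Cfsg.Agent.Lib.Helper13.Stn_WINV
import Cfsg.Agent.Lib.Helper25.Stn_WPAIR

/-! # Stn hive (helper41, S2401), sub-hive SYM, leaf SYM-ONE core (helper2):
the (e)-relation `h(a) h(b) = h(ab)` for `a + b = 1`, with `ww_symm` at `t = 1` as a hypothesis
(`Stn_SYMONE.lean` discharges it once STN-W-SYMM is on main). -/

set_option autoImplicit false

namespace Cfsg.Agent.Lib.Helper41.Stn

open Matrix

variable {K : Type*} [Field K] {n : ℕ}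

/-- `x_ji(-1/s) = x_ij(-s) w_ij(s) x_ij(-s)` -/
theorem symone_y (i j : Fin n) (s : K) :
    xx j i (-s⁻¹) = xx i j (-s) * ww i j s * xx i j (-s) := by
  unfold ww
  have h1 : xx i j (-s) * xx i j s = (1 : St K n) := by
    rw [xx_add, neg_add_cancel, xx_zero]
  have h2 : xx i j s * xx i j (-s) = (1 : St K n) := by
    rw [xx_add, add_neg_cancel, xx_zero]
  calc xx j i (-s⁻¹) = (xx i j (-s) * xx i j s) * xx j i (-s⁻¹) * (xx i j s * xx i j (-s)) := by
        rw [h1, h2, one_mul, mul_one]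
    _ = _ := by group

/-- the (e)-relation at the level of `w`: `w(ab) = w(a) w(-1) w(b)` when `a + b = 1` -/
theorem symone_ww_core (hn : 3 ≤ n) {i j : Fin n} (hij : i ≠ j)
    (hsymm : (ww j i (1 : K) : St K n) = ww i j (-1)) {a b : K} (ha : a ≠ 0) (hb : b ≠ 0)
    (hab : a + b = 1) : ww i j (a * b) = ww i j a * ww i j (-1) * ww i j b := by
  have hab0 : a * b ≠ 0 := mul_ne_zero ha hb
  -- (2) y(-1/(ab)) = y(-1/a) y(-1/b)
  have e2 : xx j i (-(a * b)⁻¹) = xx j i (-a⁻¹) * xx j i (-b⁻¹) := by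
    rw [xx_add]
    congr 1
    field_simp
    linear_combination hab
  rw [symone_y i j (a * b), symone_y i j a, symone_y i j b] at e2
  -- solve for w(ab)
  have e3 : ww i j (a * b) = xx i j (a * b) * (xx i j (-a) * ww i j a * xx i j (-a) *
      (xx i j (-b) * ww i j b * xx i j (-b))) * xx i j (a * b) := by
    rw [← e2]
    have h1 : xx i j (a * b) * xx i j (-(a * b)) = (1 : St K n) := by
      rw [xx_add, add_neg_cancel, xx_zero]
    have h2 : xx i j (-(a * b)) * xx i j (a * b) = (1 : St K n) := by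
      rw [xx_add, neg_add_cancel, xx_zero]
    calc ww i j (a * b) = (xx i j (a * b) * xx i j (-(a * b))) * ww i j (a * b) *
          (xx i j (-(a * b)) * xx i j (a * b)) := by rw [h1, h2, one_mul, mul_one]
      _ = _ := by group
  -- regroup: x(ab - a) w(a) x(-1) w(b) x(ab - b)
  have e4 : ww i j (a * b) = xx i j (-a ^ 2 * 1) * ww i j a * xx i j (-1) * ww i j b *
      xx i j (-(-b) ^ 2 * 1) := by
    rw [e3]
    have h1 : xx i j (a * b) * xx i j (-a) = xx i j (-a ^ 2 * 1) := by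
      rw [xx_add]; congr 1; linear_combination a * hab
    have h2 : xx i j (-a) * xx i j (-b) = (xx i j (-1) : St K n) := by
      rw [xx_add]; congr 1; linear_combination -hab
    have h3 : xx i j (-b) * xx i j (a * b) = xx i j (-(-b) ^ 2 * 1) := by
      rw [xx_add]; congr 1; linear_combination b * hab
    calc xx i j (a * b) * (xx i j (-a) * ww i j a * xx i j (-a) *
          (xx i j (-b) * ww i j b * xx i j (-b))) * xx i j (a * b)
        = (xx i j (a * b) * xx i j (-a)) * ww i j a * (xx i j (-a) * xx i j (-b)) * ww i j b *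
          (xx i j (-b) * xx i j (a * b)) := by group
      _ = _ := by rw [h1, h2, h3]
  -- (3) WPAIR
  have p1 := (ww_conj_xx_pair hn hij ha (1 : K)).2
  have hnb : -b ≠ 0 := neg_ne_zero.mpr hb
  have p2 := (ww_conj_xx_pair hn hij hnb (1 : K)).2
  rw [ww_inv, neg_neg] at p2
  have hwb : (ww i j (-b) : St K n) = (ww i j b)⁻¹ := by rw [ww_inv]
  rw [hwb] at p2
  rw [← p1, ← p2] at e4
  -- (4)
  have e5 : xx j i (1 : K) * xx i j (-1) * xx j i 1 = ww i j (-1) := by
    rw [← hsymm]
    unfold ww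
    rw [inv_one]
  rw [e4, ← e5]
  group

/-- STN-SYM-ONE (core): the (e)-relation `h(a) h(b) = h(ab)` for `a + b = 1`. -/
theorem symone_core (hn : 3 ≤ n) {i j : Fin n} (hij : i ≠ j)
    (hsymm : (ww j i (1 : K) : St K n) = ww i j (-1)) {a b : K} (ha : a ≠ 0) (hb : b ≠ 0)
    (hab : a + b = 1) : hh i j a * hh i j b = hh i j (a * b) := by
  unfold hh
  rw [symone_ww_core hn hij hsymm ha hb hab]
  group

/-- `c(t,-t) = 1` (core): `h(t) h(-t) = h(-t²)`, given the `w`-conjugation rule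
`w(t) w(-1) w(t)⁻¹ = w(-t²)` (STN-W-WW + STN-W-SYMM) as a hypothesis. -/
theorem symneg_core {i j : Fin n} {t : K}
    (hconj : (ww i j t * ww i j (-1) * (ww i j t)⁻¹ : St K n) = ww i j (-t ^ 2)) :
    hh i j t * hh i j (-t) = hh i j (-t ^ 2) := by
  unfold hh
  rw [← hconj]
  have : (ww i j (-t) : St K n) = (ww i j t)⁻¹ := by rw [ww_inv]
  rw [this]
  group

end Cfsg.Agent.Lib.Helper41.Stn
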