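import Cfsg.Agent.Lib.Helper92.Sz8.Defs
import Cfsg.Agent.Lib.Helper92.M22.StemE
import Cfsg.Agent.Lib.Helper6.SzSimple
import Cfsg.Agent.Lib.Helper6.SzCount
import Cfsg.Agent.Lib.Helper60.SzLieBridge

/-! # S2112 hive "Sz8" (helper92): leaf EXP (`exp_dvd_64`), by helper2. -/

set_option autoImplicit false

namespace Cfsg.Agent.Lib.Helper92.Sz8

open Cfsg Cfsg.Agent.Lib.Helper6.Sz Cfsg.Agent.Lib.Helper89.CosetCert
open Cfsg.Agent.Lib.Helper89.SafePres Cfsg.Agent.Lib.Helper89.SafePres2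
open Cfsg.Agent.Lib.Helper89.StemSafe

universe u v

/-- the kernel of a stem extension of a group of order `29120 = 2^6·5·7·13` containing elements of
orders `5, 7, 13` has exponent dividing `64` -/
theorem exp_dvd_64 {Q : Type u} [Group Q] [Finite Q] (hcard : Nat.card Q = 29120)
    (a5 a7 a13 : Q) (h5 : orderOf a5 = 5) (h7 : orderOf a7 = 7) (h13 : orderOf a13 = 13)
    (Γ : Type u) [Group Γ] [Finite Γ] (σ : Γ →* Q) (hσ : Cfsg.IsStemExtension σ) :
    ∀ z ∈ σ.ker, z ^ 64 = 1 := by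
  intro z hz
  have hc := pow_card_eq_one σ hσ hz
  rw [hcard] at hc
  have hd : orderOf z ∣ 64 * 455 := by
    have := orderOf_dvd_of_pow_eq_one hc
    norm_num at this ⊢
    exact this
  have h5' : ¬ 5 ∣ orderOf z :=
    not_dvd_of_cyclic_sylow σ hσ 5 (by norm_num) a5 1 5824
      (by rw [pow_one]; exact h5)
      (by rw [hcard]; norm_num) (by norm_num) hz
  have h7' : ¬ 7 ∣ orderOf z :=
    not_dvd_of_cyclic_sylow σ hσ 7 (by norm_num) a7 1 4160
      (by rw [pow_one]; exact h7)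
      (by rw [hcard]; norm_num) (by norm_num) hz
  have h13' : ¬ 13 ∣ orderOf z :=
    not_dvd_of_cyclic_sylow σ hσ 13 (by norm_num) a13 1 2240
      (by rw [pow_one]; exact h13)
      (by rw [hcard]; norm_num) (by norm_num) hz
  have hcop : Nat.Coprime (orderOf z) 455 := by
    have e : (455 : ℕ) = 5 * 7 * 13 := by norm_num
    rw [e]
    refine Nat.Coprime.mul_right (Nat.Coprime.mul_right ?_ ?_) ?_
    · exact (Nat.Coprime.symm ((Nat.Prime.coprime_iff_not_dvd (by norm_num)).2 h5'))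
    · exact (Nat.Coprime.symm ((Nat.Prime.coprime_iff_not_dvd (by norm_num)).2 h7'))
    · exact (Nat.Coprime.symm ((Nat.Prime.coprime_iff_not_dvd (by norm_num)).2 h13'))
  exact orderOf_dvd_iff_pow_eq_one.mp (hcop.dvd_of_dvd_mul_right hd)

end Cfsg.Agent.Lib.Helper92.Sz8
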