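import Cfsg.Agent.Lib.Helper92.Sz8.Defs
import Cfsg.Agent.Lib.Helper92.M22.StemE
import Cfsg.Agent.Lib.Helper6.SzSimple
import Cfsg.Agent.Lib.Helper6.SzCount
import Cfsg.Agent.Lib.Helper60.SzLieBridge

/-! # S2112 hive "Sz8" (helper92): leaf STEM (`hasMult_of_model`), by helper2.

The non-cyclic version of `Cfsg.Agent.Lib.Helper92.StemE.hasCyclic_of_model`. -/

set_option autoImplicit false

namespace Cfsg.Agent.Lib.Helper92.Sz8

open Cfsg Cfsg.Agent.Lib.Helper6.Sz Cfsg.Agent.Lib.Helper89.CosetCert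
open Cfsg.Agent.Lib.Helper89.SafePres Cfsg.Agent.Lib.Helper89.SafePres2
open Cfsg.Agent.Lib.Helper89.StemSafe Cfsg.Agent.Lib.Helper92.StemE

universe u v

/-- **Criterion for the multiplier to be `A`.** -/
theorem hasMult_of_model {G : Type u} [Group G] [Finite G] {A : Type v} [CommGroup A]
    (E c : ℕ) (hE0 : E ≠ 0)
    (hexp : ∀ (Γ : Type u) [Group Γ] [Finite Γ] (σ : Γ →* G), Cfsg.IsStemExtension σ →
      ∀ z ∈ σ.ker, z ^ E = 1)
    (k : ℕ) (g : ℕ → G) (ord : ℕ → ℕ)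
    (hord : ∀ i, g i ^ ord i = 1) (hcop : ∀ i, (ord i).Coprime E)
    (hgen : Subgroup.closure {y | ∃ i < k, y = g i} = ⊤)
    (srels : List SRel) (hvalid : ∀ r ∈ srels, ev g r.word = 1)
    (hbound : ∀ (L : Type u) [Group L] [Finite L] (t : ℕ → L), (∀ i, t i ^ ord i = 1) →
      (∀ r ∈ srels, ev t r.word = 1) →
      Nat.card (Subgroup.closure {y | ∃ i < k, y = t i}) ≤ c * Nat.card G)
    (Γ0 : Type u) [Group Γ0] [Finite Γ0] (σ0 : Γ0 →* G) (τ : ℕ → Γ0)
    (hστ : ∀ i, σ0 (τ i) = g i) (hτord : ∀ i, τ i ^ ord i = 1)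
    (hτrel : ∀ r ∈ srels, ev τ r.word = 1)
    (hτgen : Subgroup.closure {y | ∃ i < k, y = τ i} = ⊤)
    (hcard : c ≤ Nat.card σ0.ker) (e : σ0.ker ≃* A)
    (hcen : σ0.ker ≤ Subgroup.center Γ0)
    (hperf : ∀ i < k, τ i ∈ commutator Γ0) :
    Cfsg.HasSchurMultiplier G A := by
  -- the model: basic facts
  have hsurj0 : Function.Surjective σ0 := by
    have hmap : (⊤ : Subgroup Γ0).map σ0 = ⊤ := by
      rw [← hτgen, map_closure_eq σ0 k τ g hστ, hgen]
    intro y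
    have : y ∈ (⊤ : Subgroup Γ0).map σ0 := by rw [hmap]; trivial
    obtain ⟨x, -, rfl⟩ := this
    exact ⟨x, rfl⟩
  have hcard0 : Nat.card Γ0 ≤ c * Nat.card G := by
    have := hbound Γ0 τ hτord hτrel
    rwa [hτgen, Subgroup.card_top] at this
  have hkermul : Nat.card Γ0 = Nat.card σ0.ker * Nat.card G := by
    have h1 := Subgroup.card_mul_index σ0.ker
    rw [Subgroup.index_ker, MonoidHom.range_eq_top.mpr hsurj0, Subgroup.card_top] at h1
    exact h1.symm
  have hGpos : 0 < Nat.card G := Nat.card_pos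
  have hkerle : Nat.card σ0.ker ≤ c := by
    rw [hkermul] at hcard0
    exact Nat.le_of_mul_le_mul_right hcard0 hGpos
  have hkercard : Nat.card σ0.ker = c := le_antisymm hkerle hcard
  have hcard0' : Nat.card Γ0 = c * Nat.card G := by rw [hkermul, hkercard]
  have hcomm0 : commutator Γ0 = ⊤ := by
    rw [eq_top_iff, ← hτgen, Subgroup.closure_le]
    rintro y ⟨i, hi, rfl⟩
    exact hperf i hi
  have hstem0 : Cfsg.IsStemExtension σ0 := by
    refine ⟨hsurj0, hcen, ?_⟩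
    rw [hcomm0]
    exact le_top
  refine ⟨⟨Γ0, inferInstance, inferInstance, σ0, hstem0, ⟨e⟩⟩, ?_⟩
  -- every stem extension is a quotient of the model
  intro Γ _ _ σ hσ
  have hE := hexp Γ σ hσ
  obtain ⟨hsurj, hcenΓ, hcomm⟩ := hσ
  have hex : ∀ i, ∃ γ : Γ, σ γ = g i ∧ γ ^ ord i = 1 := fun i =>
    good_exists_E σ E hE0 hsurj hcenΓ hE (g i) (ord i) (hord i) (hcop i)
  choose t hσt ht using hex
  have hfun : (fun i => σ (t i)) = g := funext hσt
  have hrelΓ : ∀ r ∈ srels, ev t r.word = 1 := by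
    intro r hr
    apply lift_srel_E σ E hcenΓ hE t ord ht hcop r
    rw [hfun]
    exact hvalid r hr
  set T : Subgroup Γ := Subgroup.closure {y | ∃ i < k, y = t i} with hT
  have hmap : T.map σ = ⊤ := by
    rw [hT, map_closure_eq σ k t g hσt, hgen]
  have hKT : σ.ker ≤ T := le_trans hcomm (commutator_le_of_map_eq_top σ hcenΓ T hmap)
  have hTtop : T = ⊤ := by
    rw [eq_top_iff]
    intro γ _
    have : σ γ ∈ T.map σ := by rw [hmap]; trivial
    obtain ⟨l, hl, hlγ⟩ := this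
    have hmem : l⁻¹ * γ ∈ σ.ker := by
      rw [MonoidHom.mem_ker, map_mul, map_inv, hlγ, inv_mul_cancel]
    have : γ = l * (l⁻¹ * γ) := by group
    rw [this]
    exact T.mul_mem hl (hKT hmem)
  -- the diagonal subgroup
  let d : ℕ → Γ × Γ0 := fun i => (t i, τ i)
  set D : Subgroup (Γ × Γ0) := Subgroup.closure {y | ∃ i < k, y = d i} with hD
  have hDcard : Nat.card D ≤ c * Nat.card G := by
    apply hbound (Γ × Γ0) d
    · intro i
      show (t i, τ i) ^ ord i = 1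
      rw [Prod.pow_mk, ht i, hτord i]
      rfl
    · intro r hr
      show ev (fun i => (t i, τ i)) r.word = 1
      rw [ev_prod, hrelΓ r hr, hτrel r hr]
      rfl
  have hD1 : D.map (MonoidHom.fst Γ Γ0) = ⊤ := by
    rw [hD, map_closure_eq (MonoidHom.fst Γ Γ0) k d t (fun i => rfl), ← hT, hTtop]
  have hD2 : D.map (MonoidHom.snd Γ Γ0) = ⊤ := by
    rw [hD, map_closure_eq (MonoidHom.snd Γ Γ0) k d τ (fun i => rfl), hτgen]
  have hcompat : ∀ x ∈ D, σ x.1 = σ0 x.2 := by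
    intro x hx
    induction hx using Subgroup.closure_induction with
    | mem y hy =>
      obtain ⟨i, hi, rfl⟩ := hy
      show σ (t i) = σ0 (τ i)
      rw [hσt, hστ]
    | one => simp
    | mul a b _ _ ha hb => simp [ha, hb]
    | inv a _ ha => simp [ha]
  -- the second projection is bijective on `D`
  let p2 : D →* Γ0 := (MonoidHom.snd Γ Γ0).comp D.subtype
  have hp2s : Function.Surjective p2 := by
    intro y
    have : y ∈ D.map (MonoidHom.snd Γ Γ0) := by rw [hD2]; trivial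
    obtain ⟨x, hx, rfl⟩ := this
    exact ⟨⟨x, hx⟩, rfl⟩
  have hp2b : Function.Bijective p2 := by
    have hge : Nat.card Γ0 ≤ Nat.card D := Nat.card_le_card_of_surjective p2 hp2s
    have hle : Nat.card D ≤ Nat.card Γ0 := by rw [hcard0']; exact hDcard
    exact (Nat.bijective_iff_surjective_and_card p2).2 ⟨hp2s, le_antisymm hle hge⟩
  let p2e : D ≃* Γ0 := MulEquiv.ofBijective p2 hp2b
  have hp2e : ∀ x : D, p2e x = x.1.2 := fun x => rfl
  -- the induced homomorphism `Γ0 →* Γ`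
  let ψ : Γ0 →* Γ := ((MonoidHom.fst Γ Γ0).comp D.subtype).comp p2e.symm.toMonoidHom
  have hψ : ∀ x : D, ψ x.1.2 = x.1.1 := by
    intro x
    show ((p2e.symm x.1.2 : D) : Γ × Γ0).1 = x.1.1
    rw [← hp2e x, MulEquiv.symm_apply_apply]
  have hσψ : ∀ y : Γ0, σ (ψ y) = σ0 y := by
    intro y
    obtain ⟨x, rfl⟩ := p2e.surjective y
    rw [hp2e, hψ]
    exact hcompat x.1 x.2
  have hψker : ∀ y : σ0.ker, ψ (y : Γ0) ∈ σ.ker := by
    intro y
    rw [MonoidHom.mem_ker, hσψ]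
    exact y.2
  let π0 : σ0.ker →* σ.ker := (ψ.comp σ0.ker.subtype).codRestrict σ.ker hψker
  refine ⟨π0.comp e.symm.toMonoidHom, ?_⟩
  intro a
  have : (a : Γ) ∈ D.map (MonoidHom.fst Γ Γ0) := by rw [hD1]; trivial
  obtain ⟨x, hx, hxa⟩ := this
  have hxa' : x.1 = (a : Γ) := hxa
  have h1 : σ0 x.2 = 1 := by
    rw [← hcompat x hx, hxa']
    exact a.2
  refine ⟨e ⟨x.2, h1⟩, ?_⟩
  apply Subtype.ext
  show ψ ((e.symm (e ⟨x.2, h1⟩) : σ0.ker) : Γ0) = (a : Γ)
  rw [MulEquiv.symm_apply_apply]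
  show ψ x.2 = (a : Γ)
  rw [← hxa']
  exact hψ ⟨x, hx⟩

end Cfsg.Agent.Lib.Helper92.Sz8
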