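import Cfsg.Agent.Lib.Helper2.TransferNat
import Cfsg.Agent.Lib.Helper2.HomFp2

set_option autoImplicit false

/-!
Tate's theorem, part 1: the abstract complement argument.
-/

namespace Cfsg.Agent.Lib.Helper2

section

variable {p : ℕ} [hp : Fact p.Prime]

/-- Every homomorphism from `H` to the group of order `p` extends to `G`. -/
def ExtFp (p : ℕ) {G : Type*} [Group G] (H : Subgroup G) : Prop :=
  ∀ μ : H →* Multiplicative (ZMod p), ∃ l : G →* Multiplicative (ZMod p), ∀ h : H, l h = μ h

variable {M' : Type*} [Group M'] [Finite M']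

/-- Twisting a homomorphism on an invariant subgroup by an automorphism. -/
def twist (K : Subgroup M') (α : M' ≃* M') (hα : ∀ m, m ∈ K ↔ α m ∈ K)
    (μ : K →* Multiplicative (ZMod p)) : K →* Multiplicative (ZMod p) :=
  μ.comp (restrictEquiv α hα)

theorem transfer_twist (K : Subgroup M') (α : M' ≃* M') (hα : ∀ m, m ∈ K ↔ α m ∈ K)
    (μ : K →* Multiplicative (ZMod p)) :
    MonoidHom.transfer (twist K α hα μ) = (MonoidHom.transfer μ).comp α.toMonoidHom := by
  ext g
  exact (transfer_equiv α hα μ g).symm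

/-- The abstract complement argument: if all homs `K → F_p` invariant under a `p`-group of
automorphisms are restrictions of homs of `M'`, and `|M' : K|` is prime to `p`, then all homs
`K → F_p` are restrictions. -/
theorem restrict_surjective_of_invariant (K : Subgroup M') (hK : Nat.Coprime K.index p)
    {Qp : Type*} [Group Qp] [Finite Qp] (hQp : IsPGroup p Qp) (act : Qp →* MulAut M')
    (hact : ∀ (y : Qp) (m : M'), m ∈ K ↔ act y m ∈ K)
    (hinv : ∀ μ : K →* Multiplicative (ZMod p),
      (∀ (y : Qp) (k : K), μ (restrictEquiv (act y) (hact y) k) = μ k) →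
      ∃ l : M' →* Multiplicative (ZMod p), ∀ k : K, l k = μ k) :
    ∀ μ : K →* Multiplicative (ZMod p), ∃ l : M' →* Multiplicative (ZMod p), ∀ k : K, l k = μ k := by
  classical
  -- the transfer as a homomorphism of hom-groups
  let tr : (K →* Multiplicative (ZMod p)) →* (M' →* Multiplicative (ZMod p)) :=
    MonoidHom.mk' (fun μ => MonoidHom.transfer μ) (fun μ₁ μ₂ => by
      ext g; exact transfer_mul μ₁ μ₂ g)
  have htr : ∀ μ, tr μ = MonoidHom.transfer μ := fun μ => rfl
  -- key: an invariant element of the kernel of tr is trivial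
  have hfix : ∀ μ : K →* Multiplicative (ZMod p), tr μ = 1 →
      (∀ (y : Qp) (k : K), μ (restrictEquiv (act y) (hact y) k) = μ k) → μ = 1 := by
    intro μ hμ hμinv
    obtain ⟨l, hl⟩ := hinv μ hμinv
    have hμl : μ = l.comp K.subtype := by
      ext k; exact (hl k).symm
    have h1 : l ^ K.index = 1 := by
      ext g
      have := transfer_restrict (H := K) l g
      rw [← hμl, ← htr, hμ] at this
      exact this.symm
    have h2 : l = 1 := by
      ext g
      by_contra hne
      have h3 : (l g) ^ K.index = 1 := by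
        have := congrArg (fun f : M' →* Multiplicative (ZMod p) => f g) h1
        simpa using this
      exact pow_ne_one_Fp hne hK h3
    rw [hμl, h2]
    rfl
  -- the kernel of tr is trivial
  have hker : tr.ker = ⊥ := by
    by_contra hne
    let Y : Subgroup (K →* Multiplicative (ZMod p)) := tr.ker
    -- the action of Qp on Y
    have hstab : ∀ (y : Qp) (μ : K →* Multiplicative (ZMod p)), μ ∈ Y →
        twist K (act y⁻¹) (hact y⁻¹) μ ∈ Y := by
      intro y μ hμ
      show tr (twist K (act y⁻¹) (hact y⁻¹) μ) = 1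
      rw [htr, transfer_twist, ← htr, (show tr μ = 1 from hμ)]
      rfl
    letI : MulAction Qp Y :=
      { smul := fun y μ => ⟨twist K (act y⁻¹) (hact y⁻¹) μ.1, hstab y μ.1 μ.2⟩
        one_smul := by
          intro μ
          apply Subtype.ext
          show twist K (act (1 : Qp)⁻¹) (hact (1 : Qp)⁻¹) μ.1 = μ.1
          ext k
          show μ.1 (restrictEquiv (act (1 : Qp)⁻¹) (hact (1 : Qp)⁻¹) k) = μ.1 k
          congr 1
          apply Subtype.ext
          simp
        mul_smul := by
          intro y₁ y₂ μ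
          apply Subtype.ext
          show twist K (act (y₁ * y₂)⁻¹) (hact (y₁ * y₂)⁻¹) μ.1 =
            twist K (act y₁⁻¹) (hact y₁⁻¹) (twist K (act y₂⁻¹) (hact y₂⁻¹) μ.1)
          ext k
          show μ.1 (restrictEquiv (act (y₁ * y₂)⁻¹) (hact (y₁ * y₂)⁻¹) k) =
            μ.1 (restrictEquiv (act y₂⁻¹) (hact y₂⁻¹) (restrictEquiv (act y₁⁻¹) (hact y₁⁻¹) k))
          congr 1
          apply Subtype.ext
          simp [mul_inv_rev, map_mul] }
    have hsmul : ∀ (y : Qp) (μ : Y), ((y • μ : Y) : K →* Multiplicative (ZMod p)) =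
        twist K (act y⁻¹) (hact y⁻¹) μ.1 := fun y μ => rfl
    haveI : Finite (K →* Multiplicative (ZMod p)) :=
      Finite.of_injective (fun μ => (μ : K → Multiplicative (ZMod p))) DFunLike.coe_injective
    have hYp : IsPGroup p Y := by
      intro μ
      refine ⟨1, ?_⟩
      apply Subtype.ext
      rw [pow_one]
      show (μ.1) ^ p = 1
      exact hom_pow_p_eq_one μ.1
    haveI : Nontrivial Y := (Subgroup.nontrivial_iff_ne_bot Y).mpr hne
    have hdvd : p ∣ Nat.card Y := by
      obtain ⟨n, hn0, hn⟩ := hYp.nontrivial_iff_card.mp inferInstance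
      exact hn.symm ▸ dvd_pow_self _ (ne_of_gt hn0)
    have hfix1 : (1 : Y) ∈ MulAction.fixedPoints Qp Y := by
      intro y
      apply Subtype.ext
      rw [hsmul]
      ext k
      rfl
    obtain ⟨b, hb, hb1⟩ := hQp.exists_fixed_point_of_prime_dvd_card_of_fixed_point Y hdvd hfix1
    apply hb1
    apply Subtype.ext
    symm
    apply hfix b.1 b.2
    intro y k
    have h1 := hb y⁻¹
    have h2 : ((y⁻¹ • b : Y) : K →* Multiplicative (ZMod p)) = b.1 := by rw [h1]
    rw [hsmul, inv_inv] at h2
    have h3 := congrArg (fun f : K →* Multiplicative (ZMod p) => f k) h2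
    exact h3
  -- conclusion
  intro μ
  have hp1 : 1 < p := hp.out.one_lt
  obtain ⟨n', -, hn'⟩ := Nat.exists_mul_mod_eq_one_of_coprime hK hp1
  refine ⟨(tr μ) ^ n', ?_⟩
  have hpow : (tr μ) ^ (K.index * n') = tr μ := by
    have hdm := Nat.div_add_mod (K.index * n') p
    rw [hn'] at hdm
    rw [← hdm, pow_add, pow_mul, hom_pow_p_eq_one, one_pow, one_mul, pow_one]
  have hν : tr (μ * ((tr μ ^ n').comp K.subtype)⁻¹) = 1 := by
    rw [map_mul, map_inv]
    have h1 : tr ((tr μ ^ n').comp K.subtype) = (tr μ ^ n') ^ K.index := by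
      ext g
      rw [htr]
      exact transfer_restrict (H := K) (tr μ ^ n') g
    rw [h1, ← pow_mul, mul_comm n', hpow, mul_inv_cancel]
  have hν1 : μ * ((tr μ ^ n').comp K.subtype)⁻¹ = 1 := by
    have : μ * ((tr μ ^ n').comp K.subtype)⁻¹ ∈ tr.ker := hν
    rw [hker, Subgroup.mem_bot] at this
    exact this
  intro k
  have h2 : μ = (tr μ ^ n').comp K.subtype := mul_inv_eq_one.mp hν1
  exact (congrArg (fun f : K →* Multiplicative (ZMod p) => f k) h2).symm

end

end Cfsg.Agent.Lib.Helper2
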