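import Cfsg.Agent.Lib.Helper2.Tate1
import Cfsg.Agent.Lib.Helper2.PResidual2

set_option autoImplicit false

/-!
Tate's theorem, part 2: invariant homomorphisms extend.
-/

namespace Cfsg.Agent.Lib.Helper2

open Cfsg.Agent.Lib.Helper70

section

variable {p : ℕ} [hp : Fact p.Prime] {G : Type*} [Group G]

/-- If `b` is trivial on the part of a Sylow `p`-subgroup where `a` is trivial, then `b` is trivial
wherever `a` is (homs to the group of order `p`). -/
theorem hom_eq_one_of_sylow [Finite G] (P : Sylow p G) (a b : G →* Multiplicative (ZMod p))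
    (h : ∀ g ∈ (P : Subgroup G), a g = 1 → b g = 1) : ∀ g, a g = 1 → b g = 1 := by
  intro g hag
  have hN := pResidual_normal (G := G) p
  have hg : g ∈ (P : Subgroup G) ⊔ Cfsg.pResidual p G := by
    rw [sylow_sup_pResidual]; exact Subgroup.mem_top g
  rw [← SetLike.mem_coe, Subgroup.mul_normal] at hg
  obtain ⟨t, ht, c, hc, rfl⟩ := hg
  have hac : a c = 1 := pResidual_le_ker a hc
  have hbc : b c = 1 := pResidual_le_ker b hc
  rw [map_mul, hac, mul_one] at hag
  rw [map_mul, hbc, mul_one]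
  exact h t ht hag

theorem exists_mem_sylow_ne_one [Finite G] (P : Sylow p G) (π : G →* Multiplicative (ZMod p))
    (hπ : π ≠ 1) : ∃ x ∈ (P : Subgroup G), π x ≠ 1 := by
  by_contra hcon
  push Not at hcon
  apply hπ
  ext g
  have := hom_eq_one_of_sylow P (1 : G →* Multiplicative (ZMod p)) π (fun g hg _ => hcon g hg) g rfl
  simpa using this

theorem conj_mem_subgroupOf_ker (π : G →* Multiplicative (ZMod p)) (H : Subgroup G) (x : G)
    (hxH : x ∈ H) (m : π.ker) :
    m ∈ H.subgroupOf π.ker ↔ MulAut.conjNormal x m ∈ H.subgroupOf π.ker := by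
  rw [Subgroup.mem_subgroupOf, Subgroup.mem_subgroupOf, MulAut.conjNormal_apply]
  constructor
  · intro hm
    exact H.mul_mem (H.mul_mem hxH hm) (H.inv_mem hxH)
  · intro hm
    have : (m : G) = x⁻¹ * (x * m * x⁻¹) * x := by group
    rw [this]
    exact H.mul_mem (H.mul_mem (H.inv_mem hxH) hm) hxH

/-- Conversion between the two descriptions of `H ∩ ker π`. -/
def kerConv (π : G →* Multiplicative (ZMod p)) (H : Subgroup G) :
    (π.comp H.subtype).ker →* H.subgroupOf π.ker where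
  toFun a := ⟨⟨((a : H) : G), a.2⟩, Subgroup.mem_subgroupOf.mpr (a : H).2⟩
  map_one' := rfl
  map_mul' _ _ := rfl

theorem kerConv_coe (π : G →* Multiplicative (ZMod p)) (H : Subgroup G)
    (a : (π.comp H.subtype).ker) : (((kerConv π H a : H.subgroupOf π.ker) : π.ker) : G) = ((a : H) : G) :=
  rfl

/-- Case 1: an invariant hom killing `x ^ p` extends. -/
theorem ext_case1 (π : G →* Multiplicative (ZMod p)) (H : Subgroup G) (hExt : ExtFp p H)
    (x : G) (hxH : x ∈ H) (hπx : π x ≠ 1)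
    (μ : H.subgroupOf π.ker →* Multiplicative (ZMod p))
    (hμ : ∀ k : H.subgroupOf π.ker,
      μ (restrictEquiv (MulAut.conjNormal x) (conj_mem_subgroupOf_ker π H x hxH) k) = μ k)
    (hxp : ∀ k : H.subgroupOf π.ker, ((k : π.ker) : G) = x ^ p → μ k = 1) :
    ∃ l : π.ker →* Multiplicative (ZMod p), ∀ k : H.subgroupOf π.ker, l k = μ k := by
  set πH := π.comp H.subtype with hπH
  let xH : H := ⟨x, hxH⟩
  have hπxH : πH xH ≠ 1 := hπx
  let ν := μ.comp (kerConv π H)
  have hinv : ∀ a : H, a ∈ πH.ker → gr_ext ν (xH * a * xH⁻¹) = gr_ext ν a := by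
    intro a ha
    have ha' : xH * a * xH⁻¹ ∈ πH.ker := (inferInstance : πH.ker.Normal).conj_mem a ha xH
    rw [gr_ext_mk ν _ ha', gr_ext_mk ν _ ha]
    show μ (kerConv π H ⟨xH * a * xH⁻¹, ha'⟩) = μ (kerConv π H ⟨a, ha⟩)
    rw [← hμ (kerConv π H ⟨a, ha⟩)]
    congr 1
  have hxHp : xH ^ p ∈ πH.ker := by
    rw [MonoidHom.mem_ker, map_pow, pow_p_eq_one_Fp]
  have hz : (1 : Multiplicative (ZMod p)) ^ p = gr_ext ν (xH ^ p) := by
    rw [one_pow, gr_ext_mk ν _ hxHp]
    symm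
    apply hxp
    rfl
  obtain ⟨θ, hθ, -⟩ := extend_hom πH xH hπxH ν hinv 1 hz
  obtain ⟨l', hl'⟩ := hExt θ
  refine ⟨l'.comp π.ker.subtype, ?_⟩
  intro k
  have hkH : ((k : π.ker) : G) ∈ H := Subgroup.mem_subgroupOf.mp k.2
  have hker : (⟨((k : π.ker) : G), hkH⟩ : H) ∈ πH.ker := (k : π.ker).2
  have h1 := hl' ⟨_, hkH⟩
  have h2 := hθ ⟨⟨_, hkH⟩, hker⟩
  show l' ((k : π.ker) : G) = μ k
  rw [show l' ((k : π.ker) : G) = θ ⟨_, hkH⟩ from h1, show θ ⟨_, hkH⟩ = ν ⟨⟨_, hkH⟩, hker⟩ from h2]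
  rfl

end

end Cfsg.Agent.Lib.Helper2
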