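import Cfsg.Agent.Lib.Helper2.Tate2
import Cfsg.Agent.Lib.Helper72.SylowProd

set_option autoImplicit false

/-!
Tate's theorem, part 3: the key lemma (descent to a normal subgroup of index `p`).
-/

namespace Cfsg.Agent.Lib.Helper2

open Cfsg.Agent.Lib.Helper70

section

variable {p : ℕ} [hp : Fact p.Prime] {G : Type*} [Group G] [Finite G]

theorem index_coprime_of_sylow_le (P : Sylow p G) (H : Subgroup G) (hPH : (P : Subgroup G) ≤ H) :
    Nat.Coprime H.index p := by
  rw [Nat.coprime_comm, Nat.Prime.coprime_iff_not_dvd hp.out]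
  intro hdvd
  exact P.not_dvd_index (hdvd.trans (Subgroup.index_dvd_of_le hPH))

/-- An `x`-invariant hom on `H ∩ ker π` extends to `ker π`. -/
theorem invariant_hom_extends (π : G →* Multiplicative (ZMod p)) (H : Subgroup G)
    (P : Sylow p G) (hPH : (P : Subgroup G) ≤ H) (hExt : ExtFp p H)
    (x : G) (hxP : x ∈ (P : Subgroup G)) (hπx : π x ≠ 1)
    (μ : H.subgroupOf π.ker →* Multiplicative (ZMod p))
    (hμ : ∀ k : H.subgroupOf π.ker,
      μ (restrictEquiv (MulAut.conjNormal x) (conj_mem_subgroupOf_ker π H x (hPH hxP)) k) = μ k) :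
    ∃ l : π.ker →* Multiplicative (ZMod p), ∀ k : H.subgroupOf π.ker, l k = μ k := by
  have hxH : x ∈ H := hPH hxP
  have hxpM : x ^ p ∈ π.ker := by
    rw [MonoidHom.mem_ker, map_pow, pow_p_eq_one_Fp]
  let xpM : π.ker := ⟨x ^ p, hxpM⟩
  have hxpK : xpM ∈ H.subgroupOf π.ker := Subgroup.mem_subgroupOf.mpr (H.pow_mem hxH p)
  let xp : H.subgroupOf π.ker := ⟨xpM, hxpK⟩
  have hxp_uniq : ∀ k : H.subgroupOf π.ker, ((k : π.ker) : G) = x ^ p → k = xp := by
    intro k hk
    apply Subtype.ext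
    apply Subtype.ext
    exact hk
  by_cases h1 : μ xp = 1
  · apply ext_case1 π H hExt x hxH hπx μ hμ
    intro k hk
    rw [hxp_uniq k hk]; exact h1
  · -- Case 2
    set u := μ xp with hu
    set πH := π.comp H.subtype with hπH
    let xH : H := ⟨x, hxH⟩
    have hπxH : πH xH ≠ 1 := hπx
    let ψ := redSq p
    let ε : ψ.ker ≃* Multiplicative (ZMod p) := mulEquivOfPrimeCardEq card_ker_redSq card_Fp
    let e : Multiplicative (ZMod p) →* Multiplicative (ZMod (p ^ 2)) :=
      ψ.ker.subtype.comp ε.symm.toMonoidHom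
    have hψe : ∀ f, ψ (e f) = 1 := fun f => (ε.symm f).2
    have he_inj : ∀ f, e f = 1 → f = 1 := by
      intro f hf
      have h2 : ε.symm f = 1 := Subtype.ext hf
      exact (ε.symm.map_eq_one_iff).mp h2
    let ν := e.comp (μ.comp (kerConv π H))
    have hinv : ∀ a : H, a ∈ πH.ker → gr_ext ν (xH * a * xH⁻¹) = gr_ext ν a := by
      intro a ha
      have ha' : xH * a * xH⁻¹ ∈ πH.ker := (inferInstance : πH.ker.Normal).conj_mem a ha xH
      rw [gr_ext_mk ν _ ha', gr_ext_mk ν _ ha]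
      show e (μ (kerConv π H ⟨xH * a * xH⁻¹, ha'⟩)) = e (μ (kerConv π H ⟨a, ha⟩))
      rw [← hμ (kerConv π H ⟨a, ha⟩)]
      congr 2
    have hxHp : xH ^ p ∈ πH.ker := by
      rw [MonoidHom.mem_ker, map_pow, pow_p_eq_one_Fp]
    obtain ⟨z, hz⟩ := exists_pow_eq_of_redSq_eq_one (e u) (hψe u)
    have hz' : z ^ p = gr_ext ν (xH ^ p) := by
      rw [gr_ext_mk ν _ hxHp, hz]
      show e (μ xp) = e (μ (kerConv π H ⟨xH ^ p, hxHp⟩))
      congr 2
    obtain ⟨θ, hθ, hθx⟩ := extend_hom πH xH hπxH ν hinv z hz'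
    let χ := ψ.comp θ
    have hχker : ∀ a : πH.ker, χ a = 1 := by
      intro a
      show ψ (θ a) = 1
      rw [hθ]
      exact hψe _
    have hχx : χ xH ≠ 1 := by
      show ψ (θ xH) ≠ 1
      rw [hθx]
      intro h0
      have h3 : (⟨z, h0⟩ : ψ.ker) ^ p = 1 := by
        have := pow_card_eq_one' (x := (⟨z, h0⟩ : ψ.ker))
        rwa [card_ker_redSq] at this
      have hzp : z ^ p = 1 := congrArg Subtype.val h3
      rw [hz] at hzp
      exact h1 (he_inj u hzp)
    obtain ⟨χ', hχ'⟩ := hExt χ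
    let τ := MonoidHom.transfer θ
    have hcop : Nat.Coprime H.index p := index_coprime_of_sylow_le P H hPH
    have hψτ : ∀ g, ψ (τ g) = χ' g ^ H.index := by
      intro g
      show ψ (MonoidHom.transfer θ g) = _
      rw [transfer_comp_hom ψ θ g]
      have h4 : ψ.comp θ = χ'.comp H.subtype := by
        ext h
        exact congrArg _ (hχ' h).symm
      rw [h4, transfer_restrict]
    have hχ'M : ∀ m : G, π m = 1 → χ' m = 1 := by
      apply hom_eq_one_of_sylow P π χ'
      intro g hgP hπg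
      rw [show χ' g = χ ⟨g, hPH hgP⟩ from hχ' ⟨g, hPH hgP⟩]
      exact hχker ⟨⟨g, hPH hgP⟩, hπg⟩
    have hτM : ∀ m : π.ker, (τ.comp π.ker.subtype) m ∈ ψ.ker := by
      intro m
      rw [MonoidHom.mem_ker]
      show ψ (τ (m : G)) = 1
      rw [hψτ, hχ'M m m.2, one_pow]
    have hτx : τ x ^ p ≠ 1 := by
      apply pow_ne_one_of_redSq_ne_one
      show ψ (τ x) ≠ 1
      rw [hψτ, show χ' x = χ xH from hχ' xH]
      exact pow_ne_one_Fp hχx hcop
    let τM : π.ker →* ψ.ker := (τ.comp π.ker.subtype).codRestrict ψ.ker hτM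
    let l₁ : π.ker →* Multiplicative (ZMod p) := ε.toMonoidHom.comp τM
    have hl₁xp : l₁ xpM ≠ 1 := by
      intro h5
      have h6 : τM xpM = 1 := (ε.map_eq_one_iff).mp h5
      have h7 : τ (x ^ p) = 1 := congrArg Subtype.val h6
      rw [map_pow] at h7
      exact hτx h7
    have hl₁inv : ∀ m : π.ker, l₁ (MulAut.conjNormal x m) = l₁ m := by
      intro m
      show ε (τM (MulAut.conjNormal x m)) = ε (τM m)
      congr 1
      apply Subtype.ext
      show τ ((MulAut.conjNormal x m : π.ker) : G) = τ (m : G)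
      rw [MulAut.conjNormal_apply, map_mul, map_mul, map_inv, mul_inv_cancel_comm]
    obtain ⟨c, hc⟩ := exists_pow_eq_Fp hl₁xp u
    let μ' : H.subgroupOf π.ker →* Multiplicative (ZMod p) :=
      μ * ((l₁.comp (H.subgroupOf π.ker).subtype) ^ c)⁻¹
    have hμ'apply : ∀ k : H.subgroupOf π.ker, μ' k = μ k * ((l₁ (k : π.ker)) ^ c)⁻¹ := fun k => rfl
    have hμ'inv : ∀ k : H.subgroupOf π.ker,
        μ' (restrictEquiv (MulAut.conjNormal x) (conj_mem_subgroupOf_ker π H x hxH) k) = μ' k := by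
      intro k
      rw [hμ'apply, hμ'apply, hμ k]
      congr 3
      exact hl₁inv (k : π.ker)
    have hμ'xp : ∀ k : H.subgroupOf π.ker, ((k : π.ker) : G) = x ^ p → μ' k = 1 := by
      intro k hk
      rw [hxp_uniq k hk, hμ'apply]
      show u * ((l₁ xpM) ^ c)⁻¹ = 1
      rw [hc, mul_inv_cancel]
    obtain ⟨l', hl'⟩ := ext_case1 π H hExt x hxH hπx μ' hμ'inv hμ'xp
    refine ⟨l' * l₁ ^ c, ?_⟩
    intro k
    show l' (k : π.ker) * (l₁ (k : π.ker)) ^ c = μ k
    rw [hl' k, hμ'apply, inv_mul_cancel_right]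

/-- The key lemma for Tate's theorem: the extension property descends to the kernel of a
nontrivial homomorphism to the group of order `p`. -/
theorem extFp_ker (π : G →* Multiplicative (ZMod p)) (hπ : π ≠ 1) (H : Subgroup G)
    (P : Sylow p G) (hPH : (P : Subgroup G) ≤ H) (hExt : ExtFp p H) :
    ExtFp p (H.subgroupOf π.ker) := by
  obtain ⟨x, hxP, hπx⟩ := exists_mem_sylow_ne_one P π hπ
  have hcopH : Nat.Coprime H.index p := index_coprime_of_sylow_le P H hPH
  have hK : Nat.Coprime (H.subgroupOf π.ker).index p := by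
    have h1 : (H.subgroupOf π.ker).index = H.relIndex π.ker := rfl
    rw [h1, ← Cfsg.Agent.Lib.Helper72.relIndex_sup_eq_relIndex]
    exact Nat.Coprime.coprime_dvd_left (Subgroup.relIndex_dvd_index_of_le le_sup_left) hcopH
  let act : (P : Subgroup G) →* MulAut π.ker :=
    (MulAut.conjNormal : G →* MulAut π.ker).comp (P : Subgroup G).subtype
  have hact : ∀ (y : (P : Subgroup G)) (m : π.ker), m ∈ H.subgroupOf π.ker ↔
      act y m ∈ H.subgroupOf π.ker :=
    fun y m => conj_mem_subgroupOf_ker π H (y : G) (hPH y.2) m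
  apply restrict_surjective_of_invariant (H.subgroupOf π.ker) hK P.isPGroup' act hact
  intro μ hμinv
  apply invariant_hom_extends π H P hPH hExt x hxP hπx μ
  intro k
  exact hμinv ⟨x, hxP⟩ k

end

end Cfsg.Agent.Lib.Helper2
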