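import Cfsg.Agent.Lib.Helper2.Tate4
import Cfsg.Agent.Lib.Helper32.PPrimeP

set_option autoImplicit false

/-!
Consequences of Tate's theorem.
-/

namespace Cfsg.Agent.Lib.Helper2

universe u

section

variable {p : ℕ} [hp : Fact p.Prime]

theorem opIn_mono {G : Type*} [Group G] {H K : Subgroup G} (h : H ≤ K) : opIn p H ≤ opIn p K := by
  unfold opIn
  apply Subgroup.closure_mono
  rintro g ⟨hg1, hg2⟩
  exact ⟨h hg1, hg2⟩

/-- `O^p` of a `p`-group is trivial. -/
theorem pResidual_eq_bot_of_isPGroup {X : Type*} [Group X] (hX : IsPGroup p X) :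
    Cfsg.pResidual p X = ⊥ := by
  unfold Cfsg.pResidual
  rw [eq_bot_iff, Subgroup.closure_le]
  intro g hg
  have hg' : Nat.Coprime (orderOf g) p := hg
  obtain ⟨k, hk⟩ := hX g
  have h1 : orderOf g ∣ p ^ k := orderOf_dvd_of_pow_eq_one hk
  have h2 : orderOf g = 1 :=
    Nat.eq_one_of_dvd_coprimes (Nat.Coprime.pow_right k hg') dvd_rfl h1
  exact orderOf_eq_one_iff.mp h2

/-- If a Sylow `p`-subgroup meets `O^p(X)` trivially then `O^p(X)` has order prime to `p`. -/
theorem not_dvd_card_pResidual_of_inf_eq_bot {X : Type*} [Group X] [Finite X] (P : Sylow p X)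
    (h : (P : Subgroup X) ⊓ Cfsg.pResidual p X = ⊥) : ¬ p ∣ Nat.card (Cfsg.pResidual p X) := by
  haveI := pResidual_normal (G := X) p
  have h1 := Cfsg.Agent.Lib.Helper32.not_dvd_relIndex_inf_normal P (Cfsg.pResidual p X)
  rw [h, Subgroup.relIndex_bot_left] at h1
  exact h1

/-- Tate's theorem in Frattini form: if `X = P N` with `N` normal and every homomorphism from the
Sylow subgroup `P` to the group of order `p` kills `P ∩ N`, then `O^p(X)` has order prime to `p`. -/
theorem not_dvd_card_pResidual_of_hom_kill {X : Type u} [Group X] [Finite X] (P : Sylow p X)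
    (N : Subgroup X) [N.Normal] (hPN : (P : Subgroup X) ⊔ N = ⊤)
    (hF : ∀ μ : (P : Subgroup X) →* Multiplicative (ZMod p), ∀ k : (P : Subgroup X),
      (k : X) ∈ N → μ k = 1) :
    ¬ p ∣ Nat.card (Cfsg.pResidual p X) := by
  apply not_dvd_card_pResidual_of_inf_eq_bot P
  have hExt : ExtFp p (P : Subgroup X) := by
    intro μ
    let φ : (P : Subgroup X) →* X ⧸ N := (QuotientGroup.mk' N).comp (P : Subgroup X).subtype
    have hsurj : Function.Surjective φ := by
      intro q
      obtain ⟨g, rfl⟩ := QuotientGroup.mk_surjective q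
      have hg : g ∈ (P : Subgroup X) ⊔ N := by rw [hPN]; exact Subgroup.mem_top g
      rw [← SetLike.mem_coe, Subgroup.mul_normal] at hg
      obtain ⟨t, ht, c, hc, rfl⟩ := hg
      refine ⟨⟨t, ht⟩, ?_⟩
      show ((t : X) : X ⧸ N) = ((t * c : X) : X ⧸ N)
      rw [QuotientGroup.mk_mul, (QuotientGroup.eq_one_iff c).mpr hc, mul_one]
    have hker : φ.ker ≤ μ.ker := by
      intro k hk
      rw [MonoidHom.mem_ker] at hk ⊢
      apply hF μ k
      exact (QuotientGroup.eq_one_iff (k : X)).mp hk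
    let lbar : X ⧸ N →* Multiplicative (ZMod p) := φ.liftOfSurjective hsurj ⟨μ, hker⟩
    have hl : lbar.comp φ = μ := MonoidHom.liftOfRightInverse_comp _ _ _ ⟨μ, hker⟩
    refine ⟨lbar.comp (QuotientGroup.mk' N), ?_⟩
    intro k
    exact congrArg (fun f : (P : Subgroup X) →* Multiplicative (ZMod p) => f k) hl
  have h1 := tate (P : Subgroup X) P le_rfl hExt
  rw [pResidual_eq_bot_of_isPGroup P.isPGroup', Subgroup.map_bot] at h1
  exact le_bot_iff.mp h1

end

end Cfsg.Agent.Lib.Helper2
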