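import Mathlib
import Cfsg.Prelude.Def_ClassicalGeometry
import Cfsg.Agent.Lib.Helper2.BGLin
import Cfsg.Agent.Lib.Helper2.BGPoly
import Cfsg.Agent.Lib.Helper99.SympForm
import Cfsg.Agent.Lib.Helper48.TiDefs
import Cfsg.Agent.Lib.Helper2.TiFIXcore

/-! # S5955 hive (helper48): leaf TI-NOFIX (`nofix_dims`), with an own copy `fix_ti_bound` of the
bound `2 dim U ≤ dim Z` for a totally isotropic `U` inside a relatively nondegenerate `Z`. -/

set_option autoImplicit false

namespace Cfsg.Agent.Lib.Helper48.Ti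

open Polynomial Module
open Cfsg.Agent.Lib.Helper2.BG Cfsg.Agent.Lib.Helper99

variable {F V : Type*} [Field F] [AddCommGroup V] [Module F V] [FiniteDimensional F V]
variable {B : V →ₗ[F] V →ₗ[F] F}

/-- own copy of TI-BASE (3): a totally isotropic subspace of a relatively nondegenerate `Z` has at most
half its dimension -/
theorem fix_ti_bound (hB : ∀ v, B v v = 0) {Z U : Submodule F V} (hZ : Nd B Z) (hUZ : U ≤ Z)
    (hU : TI B U) : 2 * finrank F U ≤ finrank F Z := by
  let B' : LinearMap.BilinForm F ↥Z := B.domRestrict₁₂ Z Z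
  have hB'app : ∀ a b : ↥Z, B' a b = B (a : V) (b : V) := fun a b => rfl
  have halt : B'.IsAlt := fun a => by rw [hB'app]; exact hB _
  let U' : Submodule F ↥Z := Submodule.comap Z.subtype U
  have hfrU : finrank F ↥U' = finrank F U := (Submodule.comapSubtypeEquivOfLe hUZ).finrank_eq
  have h1 := LinearMap.BilinForm.finrank_add_finrank_orthogonal halt.isRefl U'
  have htop : B'.orthogonal ⊤ = ⊥ := by
    rw [eq_bot_iff]
    intro z hz
    rw [LinearMap.BilinForm.mem_orthogonal_iff] at hz
    have hz0 : (z : V) = 0 := by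
      apply hZ (z : V) z.2
      intro v hv
      have h2 := hz ⟨v, hv⟩ Submodule.mem_top
      rw [hB'app] at h2
      have h3 := fix_skew hB (z : V) v
      rw [h3]
      simpa using h2
    rw [Submodule.mem_bot]
    exact Subtype.ext hz0
  rw [htop, inf_bot_eq, finrank_bot, add_zero] at h1
  have hle : U' ≤ B'.orthogonal U' := by
    intro z hz
    rw [LinearMap.BilinForm.mem_orthogonal_iff]
    intro n hn
    rw [hB'app]
    exact hU _ hn _ hz
  have h2 := Submodule.finrank_mono hle
  have h3 : finrank F ↥Z = finrank F Z := rfl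
  omega

/-- TI-NOFIX -/
theorem nofix_dims (hB : ∀ v, B v v = 0) {f : Module.End F V} (hf : Isom B f)
    (hss : f.IsSemisimple) {P : F[X]} (hP0 : P ≠ 0) {i : ℕ} (hdeg : AllIrrDeg P i)
    (hcop : IsCoprime (X - 1 : F[X]) P) (hkill : aeval f ((X - 1) * P) = 0)
    (hV : Nd B ⊤) {U : Submodule F V} (hUf : Inv f U) (hU : TI B U) :
    ∃ a j : ℕ, finrank F U = a + j * i ∧ 2 * a ≤ finrank F (LinearMap.ker (f - 1)) :=
  fix_nofix_core (fun hZ hUZ hU => fix_ti_bound hB hZ hUZ hU) hB hf hss hP0 hdeg hcop hkill hV hUf hU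

end Cfsg.Agent.Lib.Helper48.Ti
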