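import Mathlib
import Cfsg.Prelude.Def_ClassicalGeometry
import Cfsg.Prelude.Def_GeometricClasses
import Cfsg.Agent.Lib.Helper59.TqDefs
import Cfsg.Agent.Lib.Helper5.HyDefs
import Cfsg.Agent.Lib.Helper37.SpinorNorm

/-! # TQ-TWOFIX sub-hive (helper67; Tq hive of helper59): leaf TWOFIX-CB (`twofix_cbasis`), by helper2.

A "complex orthogonal basis" `v_j, f v_j` of a nondegenerate symmetric space with an isometry `f`,
`f * f = -1`, in characteristic `≠ 2`. -/

set_option autoImplicit false

namespace Cfsg.Agent.Lib.Helper59.Tq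

open Module
open Cfsg.Agent.Lib.Helper2.BG Cfsg.Agent.Lib.Helper99 Cfsg.Agent.Lib.Helper48.Ti
open Cfsg.Agent.Lib.Helper5.Hy

section twofix_abs

variable {F V : Type*} [Field F] [AddCommGroup V] [Module F V] [FiniteDimensional F V]
variable {B : V →ₗ[F] V →ₗ[F] F}

omit [FiniteDimensional F V] in
/-- a nonzero nondegenerate subspace contains a non-isotropic vector (`2 ≠ 0`) -/
theorem twofix_cb_exists_aniso (h2 : (2 : F) ≠ 0) (hs : ∀ u v, B u v = B v u)
    {Z : Submodule F V} (hZ : Nd B Z) (hne : Z ≠ ⊥) : ∃ v ∈ Z, B v v ≠ 0 := by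
  by_contra hcon
  push Not at hcon
  apply hne
  rw [eq_bot_iff]
  intro u hu
  rw [Submodule.mem_bot]
  apply hZ u hu
  intro w hw
  have h1 := hcon (u + w) (Z.add_mem hu hw)
  simp only [map_add, LinearMap.add_apply, hcon u hu, hcon w hw, hs w u, zero_add,
    add_zero] at h1
  have h3 : (2 : F) * B u w = 0 := by rw [two_mul]; exact h1
  rcases mul_eq_zero.mp h3 with h | h
  · exact absurd h h2
  · exact h

omit [FiniteDimensional F V] in
theorem twofix_cb_ff {f : Module.End F V} (hff : f * f = -1) (v : V) : f (f v) = -v := by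
  have := congrArg (fun g : Module.End F V => g v) hff
  simpa using this

omit [FiniteDimensional F V] in
/-- `B v (f v) = 0` -/
theorem twofix_cb_orth (h2 : (2 : F) ≠ 0) (hs : ∀ u v, B u v = B v u)
    {f : Module.End F V} (hf : Isom B f) (hff : f * f = -1) (v : V) : B v (f v) = 0 := by
  have h1 : B v (f v) = B (f v) (f (f v)) := (hf v (f v)).symm
  rw [twofix_cb_ff hff, map_neg, hs (f v) v] at h1
  have h3 : (2 : F) * B v (f v) = 0 := by
    rw [two_mul]
    nth_rewrite 1 [h1]
    exact neg_add_cancel _
  rcases mul_eq_zero.mp h3 with h | h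
  · exact absurd h h2
  · exact h

/-- the inductive statement, for an invariant nondegenerate subspace -/
theorem twofix_cb_aux (h2 : (2 : F) ≠ 0) (hs : ∀ u v, B u v = B v u)
    {f : Module.End F V} (hf : Isom B f) (hff : f * f = -1) :
    ∀ (k : ℕ) (Z : Submodule F V), finrank F Z = k → Inv f Z → Nd B Z →
      ∃ (n : ℕ) (v : Fin n → V), (∀ j, v j ∈ Z) ∧ finrank F Z = 2 * n ∧
        (∀ j, B (v j) (v j) ≠ 0) ∧
        (∀ j k, j ≠ k → B (v j) (v k) = 0 ∧ B (v j) (f (v k)) = 0) ∧
        Submodule.span F (Set.range v ∪ Set.range (fun j => f (v j))) = Z := by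
  intro k
  induction k using Nat.strong_induction_on with
  | _ k ih =>
    intro Z hk hZf hZ
    by_cases hne : Z = ⊥
    · refine ⟨0, Fin.elim0, fun j => j.elim0, ?_, fun j => j.elim0, fun j => j.elim0, ?_⟩
      · rw [hne, finrank_bot]
      · rw [hne]
        simp
    · obtain ⟨v₀, hv₀Z, hc⟩ := twofix_cb_exists_aniso h2 hs hZ hne
      have hffv : f (f v₀) = -v₀ := twofix_cb_ff hff v₀
      have h01 : B v₀ (f v₀) = 0 := twofix_cb_orth h2 hs hf hff v₀
      have h10 : B (f v₀) v₀ = 0 := by rw [hs]; exact h01
      have h11 : B (f v₀) (f v₀) = B v₀ v₀ := hf v₀ v₀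
      set P : Submodule F V := Submodule.span F {v₀, f v₀} with hP
      have hv₀P : v₀ ∈ P := Submodule.subset_span (by simp)
      have hfv₀P : f v₀ ∈ P := Submodule.subset_span (by simp)
      have hPZ : P ≤ Z := by
        rw [hP, Submodule.span_le]
        intro x hx
        rcases hx with rfl | rfl
        · exact hv₀Z
        · exact hZf _ hv₀Z
      have hPf : Inv f P := by
        intro x hx
        obtain ⟨a, b, rfl⟩ := Submodule.mem_span_pair.mp hx
        rw [map_add, map_smul, map_smul, hffv]
        exact P.add_mem (P.smul_mem a hfv₀P) (P.smul_mem b (P.neg_mem hv₀P))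
      have hPnd : Nd B P := by
        intro x hx h
        obtain ⟨a, b, rfl⟩ := Submodule.mem_span_pair.mp hx
        have ha := h v₀ hv₀P
        have hb := h (f v₀) hfv₀P
        simp only [map_add, map_smul, LinearMap.add_apply, LinearMap.smul_apply, smul_eq_mul,
          h10, h01, h11, mul_zero, add_zero, zero_add] at ha hb
        have ha0 : a = 0 := (mul_eq_zero.mp ha).resolve_right hc
        have hb0 : b = 0 := (mul_eq_zero.mp hb).resolve_right hc
        rw [ha0, hb0, zero_smul, zero_smul, add_zero]
      have hPfr : finrank F P = 2 := by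
        have hli : LinearIndependent F ![v₀, f v₀] := by
          rw [LinearIndependent.pair_iff]
          intro a b hab
          have ha := congrArg (fun x => B x v₀) hab
          have hb := congrArg (fun x => B x (f v₀)) hab
          simp only [map_add, map_smul, LinearMap.add_apply, LinearMap.smul_apply, smul_eq_mul,
            h10, h01, h11, mul_zero, add_zero, zero_add, map_zero, LinearMap.zero_apply] at ha hb
          exact ⟨(mul_eq_zero.mp ha).resolve_right hc, (mul_eq_zero.mp hb).resolve_right hc⟩
        have := finrank_span_eq_card hli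
        rw [Matrix.range_cons_cons_empty] at this
        rw [hP, this]
        simp
      -- the orthogonal complement of `P` in `Z`
      have hrefl : LinearMap.BilinForm.IsRefl B := fun u v h => by rw [hs]; exact h
      have hres : (LinearMap.BilinForm.restrict B P).Nondegenerate := by
        refine ⟨?_, ?_⟩
        · intro u hu
          apply Subtype.ext
          apply hPnd u u.2
          intro v hv
          exact hu ⟨v, hv⟩
        · intro u hu
          apply Subtype.ext
          apply hPnd u u.2
          intro v hv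
          rw [hs]
          exact hu ⟨v, hv⟩
      have hc' : IsCompl P (LinearMap.BilinForm.orthogonal B P) :=
        LinearMap.BilinForm.isCompl_orthogonal_of_restrict_nondegenerate hrefl hres
      set Z' : Submodule F V := Z ⊓ LinearMap.BilinForm.orthogonal B P with hZ'
      have hdisj : Disjoint P Z' := hc'.disjoint.mono_right inf_le_right
      have hsup : P ⊔ Z' = Z := by
        have h1 : (P ⊔ LinearMap.BilinForm.orthogonal B P) ⊓ Z
            = P ⊔ LinearMap.BilinForm.orthogonal B P ⊓ Z :=
          sup_inf_assoc_of_le (LinearMap.BilinForm.orthogonal B P) hPZ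
        rw [hc'.sup_eq_top, top_inf_eq] at h1
        rw [hZ', inf_comm Z, ← h1]
      have horth : ∀ u ∈ P, ∀ v ∈ Z', B u v = 0 := by
        intro u hu v hv
        exact LinearMap.BilinForm.mem_orthogonal_iff.1 (Submodule.mem_inf.1 hv).2 u hu
      have hZ'nd : Nd B Z' := by
        intro u hu hu0
        apply hZ u (Submodule.mem_inf.1 hu).1
        intro v hv
        rw [← hsup] at hv
        obtain ⟨w, hw, m, hm, rfl⟩ := Submodule.mem_sup.1 hv
        rw [map_add, hs u w, horth w hw u hu, hu0 m hm, add_zero]
      have hZ'f : Inv f Z' := by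
        intro z hz
        refine Submodule.mem_inf.2 ⟨hZf z hz.1, ?_⟩
        rw [LinearMap.BilinForm.mem_orthogonal_iff]
        intro p hp
        show B p (f z) = 0
        have hp' : p = f (-(f p)) := by
          rw [map_neg, twofix_cb_ff hff, neg_neg]
        rw [hp', hf]
        exact horth _ (P.neg_mem (hPf p hp)) z hz
      have hfr : finrank F Z = 2 + finrank F Z' := by
        rw [← hsup, finrank_sup_of_disjoint' _ _ hdisj, hPfr]
      have hlt : finrank F Z' < k := by omega
      obtain ⟨n', v', hv'Z, hn', hv'c, hv'o, hv's⟩ := ih _ hlt Z' rfl hZ'f hZ'nd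
      refine ⟨n' + 1, Fin.cons v₀ v', ?_, ?_, ?_, ?_, ?_⟩
      · intro j
        refine Fin.cases ?_ (fun j' => ?_) j
        · rw [Fin.cons_zero]; exact hv₀Z
        · rw [Fin.cons_succ]; exact (hv'Z j').1
      · rw [hfr, hn']; ring
      · intro j
        refine Fin.cases ?_ (fun j' => ?_) j
        · rw [Fin.cons_zero]; exact hc
        · rw [Fin.cons_succ]; exact hv'c j'
      · intro j l
        refine Fin.cases ?_ (fun j' => ?_) j
        · refine Fin.cases ?_ (fun l' => ?_) l
          · intro h; exact absurd rfl h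
          · intro _
            rw [Fin.cons_zero, Fin.cons_succ]
            exact ⟨horth _ hv₀P _ (hv'Z l'), horth _ hv₀P _ (hZ'f _ (hv'Z l'))⟩
        · refine Fin.cases ?_ (fun l' => ?_) l
          · intro _
            rw [Fin.cons_zero, Fin.cons_succ]
            refine ⟨?_, ?_⟩
            · rw [hs]; exact horth _ hv₀P _ (hv'Z j')
            · rw [hs]; exact horth _ hfv₀P _ (hv'Z j')
          · intro h
            rw [Fin.cons_succ, Fin.cons_succ]
            exact hv'o j' l' (fun e => h (by rw [e]))
      · have hfun : (fun j => f ((Fin.cons v₀ v' : Fin (n' + 1) → V) j)) =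
            (Fin.cons (f v₀) (fun j => f (v' j)) : Fin (n' + 1) → V) := by
          funext j
          refine Fin.cases ?_ (fun j' => ?_) j
          · rw [Fin.cons_zero, Fin.cons_zero]
          · rw [Fin.cons_succ, Fin.cons_succ]
        rw [hfun, Fin.range_cons, Fin.range_cons]
        have hset : insert v₀ (Set.range v') ∪ insert (f v₀) (Set.range fun j => f (v' j)) =
            {v₀, f v₀} ∪ (Set.range v' ∪ Set.range fun j => f (v' j)) := by
          ext x
          simp only [Set.mem_union, Set.mem_insert_iff, Set.mem_singleton_iff]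
          tauto
        rw [hset, Submodule.span_union, hv's, ← hP, hsup]

end twofix_abs

section twofix_abs

variable {F V : Type*} [Field F] [Fintype F] [AddCommGroup V] [Module F V] [FiniteDimensional F V]
variable {B : V →ₗ[F] V →ₗ[F] F}

/-- TWOFIX-CB: a "complex orthogonal basis". -/
theorem twofix_cbasis (h2 : (2 : F) ≠ 0) (hs : ∀ u v, B u v = B v u) (hV : Nd B ⊤)
    {f : Module.End F V} (hf : Isom B f) (hff : f * f = -1) :
    ∃ (n : ℕ) (v : Fin n → V), finrank F V = 2 * n ∧ (∀ j, B (v j) (v j) ≠ 0) ∧
      (∀ j k, j ≠ k → B (v j) (v k) = 0 ∧ B (v j) (f (v k)) = 0) ∧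
      Submodule.span F (Set.range v ∪ Set.range (fun j => f (v j))) = ⊤ := by
  obtain ⟨n, v, _, hn, hc, ho, hsp⟩ :=
    twofix_cb_aux h2 hs hf hff (finrank F (⊤ : Submodule F V)) ⊤ rfl (inv_top f) hV
  rw [finrank_top] at hn
  exact ⟨n, v, hn, hc, ho, hsp⟩

end twofix_abs

end Cfsg.Agent.Lib.Helper59.Tq
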