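import Mathlib.GroupTheory.Sylow
import Mathlib.GroupTheory.Transfer
import Mathlib.GroupTheory.Abelianization.Defs
import Cfsg.Agent.Lib.Helper2.PGroup

set_option autoImplicit false

namespace Cfsg.Agent.Lib.Helper2

/-- A central element of `G` lying in the derived subgroup and in a Sylow `p`-subgroup `P`
lies in the derived subgroup of `P`. -/
theorem center_commutator_sylow_mem_commutator {G : Type*} [Group G] [Finite G] {p : ℕ}
    [hp : Fact p.Prime] (P : Sylow p G) (z : G) (hzZ : z ∈ Subgroup.center G)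
    (hzG' : z ∈ commutator G) (hzP : z ∈ (P : Subgroup G)) :
    (⟨z, hzP⟩ : (P : Subgroup G)) ∈ commutator (P : Subgroup G) := by
  have key : ∀ (k : ℕ) (g₀ : G), g₀⁻¹ * z ^ k * g₀ ∈ (P : Subgroup G) → g₀⁻¹ * z ^ k * g₀ = z ^ k := by
    intro k g₀ _
    have hzk : z ^ k ∈ Subgroup.center G := Subgroup.pow_mem _ hzZ k
    rw [Subgroup.mem_center_iff] at hzk
    rw [mul_assoc, ← hzk g₀]
    group
  have h1 := MonoidHom.transfer_eq_pow (Abelianization.of (G := (P : Subgroup G))) z key
  have h2 : MonoidHom.transfer (Abelianization.of (G := (P : Subgroup G))) z = 1 :=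
    Abelianization.commutator_subset_ker _ hzG'
  rw [h2] at h1
  have h3 : (⟨z ^ (P : Subgroup G).index, MonoidHom.transfer_eq_pow_aux z key⟩ : (P : Subgroup G))
      = (⟨z, hzP⟩ : (P : Subgroup G)) ^ (P : Subgroup G).index := by
    apply Subtype.ext
    rw [Subgroup.coe_pow]
  rw [h3, map_pow] at h1
  have hQ : IsPGroup p (Abelianization (P : Subgroup G)) :=
    P.2.of_surjective Abelianization.of (QuotientGroup.mk'_surjective _)
  obtain ⟨k, hk⟩ := hQ (Abelianization.of (⟨z, hzP⟩ : (P : Subgroup G)))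
  have h5 : orderOf (Abelianization.of (⟨z, hzP⟩ : (P : Subgroup G))) ∣ (P : Subgroup G).index :=
    orderOf_dvd_of_pow_eq_one h1.symm
  have h6 : orderOf (Abelianization.of (⟨z, hzP⟩ : (P : Subgroup G))) ∣ p ^ k :=
    orderOf_dvd_of_pow_eq_one hk
  have hcop : Nat.Coprime (p ^ k) (P : Subgroup G).index :=
    Nat.Coprime.pow_left k ((Nat.Prime.coprime_iff_not_dvd hp.out).mpr P.not_dvd_index)
  have h7 : orderOf (Abelianization.of (⟨z, hzP⟩ : (P : Subgroup G))) = 1 :=
    Nat.eq_one_of_dvd_coprimes hcop h6 h5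
  rw [orderOf_eq_one_iff] at h7
  rw [← Abelianization.ker_of]
  exact h7

end Cfsg.Agent.Lib.Helper2
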