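import Cfsg.Agent.Lib.Helper70.Grun

set_option autoImplicit false

/-!
Naturality properties of the transfer homomorphism.
-/

namespace Cfsg.Agent.Lib.Helper2

open Cfsg.Agent.Lib.Helper70

section

variable {G : Type*} [Group G] {H : Subgroup G} {A : Type*} [CommGroup A]

theorem section_term_mem (s : G ⧸ H → G) (hs : ∀ q, ((s q : G) : G ⧸ H) = q) (g : G) (q : G ⧸ H) :
    (s q)⁻¹ * (g * s (g⁻¹ • q)) ∈ H := by
  rw [← QuotientGroup.eq, hs]
  have : ((g * s (g⁻¹ • q) : G) : G ⧸ H) = g • ((s (g⁻¹ • q) : G) : G ⧸ H) := rfl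
  rw [this, hs, smul_inv_smul]

/-- The transfer of the restriction of a homomorphism defined on the whole group. -/
theorem transfer_restrict [H.FiniteIndex] (l : G →* A) (g : G) :
    MonoidHom.transfer (l.comp H.subtype) g = l g ^ H.index := by
  letI := H.fintypeQuotientOfFiniteIndex
  have hs : ∀ q : G ⧸ H, ((Quotient.out q : G) : G ⧸ H) = q := fun q => Quotient.out_eq' q
  rw [gr_transfer_section (l.comp H.subtype) Quotient.out hs g]
  have hterm : ∀ q : G ⧸ H, gr_ext (l.comp H.subtype)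
      ((Quotient.out q)⁻¹ * (g * Quotient.out (g⁻¹ • q))) =
      (l (Quotient.out q))⁻¹ * (l g * l (Quotient.out (g⁻¹ • q))) := by
    intro q
    rw [gr_ext_mk _ _ (section_term_mem Quotient.out hs g q)]
    simp
  simp_rw [hterm]
  rw [Finset.prod_mul_distrib, Finset.prod_mul_distrib, Finset.prod_inv_distrib,
    Finset.prod_const, Finset.card_univ]
  have hre : ∏ q : G ⧸ H, l (Quotient.out (g⁻¹ • q)) = ∏ q : G ⧸ H, l (Quotient.out q) := by
    have := Equiv.prod_comp (MulAction.toPerm g⁻¹) (fun q : G ⧸ H => l (Quotient.out q))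
    simpa only [MulAction.toPerm_apply] using this
  rw [hre, Subgroup.index_eq_card, Nat.card_eq_fintype_card]
  rw [mul_comm (l g ^ _), ← mul_assoc, inv_mul_cancel, one_mul]

/-- The transfer is functorial in the target group. -/
theorem transfer_comp_hom [H.FiniteIndex] {A' : Type*} [CommGroup A'] (f : A →* A') (ϕ : H →* A)
    (g : G) : f (MonoidHom.transfer ϕ g) = MonoidHom.transfer (f.comp ϕ) g := by
  letI := H.fintypeQuotientOfFiniteIndex
  have hs : ∀ q : G ⧸ H, ((Quotient.out q : G) : G ⧸ H) = q := fun q => Quotient.out_eq' q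
  rw [gr_transfer_section ϕ Quotient.out hs g, gr_transfer_section (f.comp ϕ) Quotient.out hs g,
    map_prod]
  refine Finset.prod_congr rfl (fun q _ => ?_)
  rw [gr_ext_mk _ _ (section_term_mem Quotient.out hs g q),
    gr_ext_mk _ _ (section_term_mem Quotient.out hs g q)]
  rfl

/-- The transfer is multiplicative in the homomorphism. -/
theorem transfer_mul [H.FiniteIndex] (ϕ₁ ϕ₂ : H →* A) (g : G) :
    MonoidHom.transfer (ϕ₁ * ϕ₂) g = MonoidHom.transfer ϕ₁ g * MonoidHom.transfer ϕ₂ g := by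
  letI := H.fintypeQuotientOfFiniteIndex
  have hs : ∀ q : G ⧸ H, ((Quotient.out q : G) : G ⧸ H) = q := fun q => Quotient.out_eq' q
  rw [gr_transfer_section ϕ₁ Quotient.out hs g, gr_transfer_section ϕ₂ Quotient.out hs g,
    gr_transfer_section (ϕ₁ * ϕ₂) Quotient.out hs g, ← Finset.prod_mul_distrib]
  refine Finset.prod_congr rfl (fun q _ => ?_)
  rw [gr_ext_mk _ _ (section_term_mem Quotient.out hs g q),
    gr_ext_mk _ _ (section_term_mem Quotient.out hs g q),
    gr_ext_mk _ _ (section_term_mem Quotient.out hs g q)]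
  rfl

theorem transfer_one_hom [H.FiniteIndex] (g : G) :
    MonoidHom.transfer (1 : H →* A) g = 1 := by
  have := transfer_mul (1 : H →* A) 1 g
  rw [one_mul] at this
  exact (mul_eq_left.mp this.symm)

/-- The restriction of an automorphism to an invariant subgroup. -/
def restrictEquiv (α : G ≃* G) (hα : ∀ h, h ∈ H ↔ α h ∈ H) : H →* H where
  toFun h := ⟨α h, (hα h).mp h.2⟩
  map_one' := by ext; simp
  map_mul' a b := by ext; simp

@[simp] theorem restrictEquiv_coe (α : G ≃* G) (hα : ∀ h, h ∈ H ↔ α h ∈ H) (h : H) :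
    ((restrictEquiv α hα h : H) : G) = α h := rfl

/-- Naturality of the transfer under automorphisms preserving the subgroup. -/
theorem transfer_equiv [H.FiniteIndex] (α : G ≃* G) (hα : ∀ h, h ∈ H ↔ α h ∈ H) (ϕ : H →* A)
    (g : G) :
    MonoidHom.transfer ϕ (α g) = MonoidHom.transfer (ϕ.comp (restrictEquiv α hα)) g := by
  letI := H.fintypeQuotientOfFiniteIndex
  have hs : ∀ q : G ⧸ H, ((Quotient.out q : G) : G ⧸ H) = q := fun q => Quotient.out_eq' q
  -- induced bijection on cosets
  let αq : G ⧸ H ≃ G ⧸ H := Quotient.congr α.toEquiv (by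
    intro a b
    show QuotientGroup.leftRel H a b ↔ QuotientGroup.leftRel H (α a) (α b)
    rw [QuotientGroup.leftRel_apply, QuotientGroup.leftRel_apply, ← map_inv, ← map_mul]
    exact hα _)
  have hαq_mk : ∀ a : G, αq (a : G ⧸ H) = ((α a : G) : G ⧸ H) := fun a => rfl
  have hαq_smul : ∀ (a : G) (q : G ⧸ H), αq (a • q) = α a • αq q := by
    intro a q
    induction q using QuotientGroup.induction_on with
    | H b =>
      have : a • (b : G ⧸ H) = ((a * b : G) : G ⧸ H) := rfl
      rw [this, hαq_mk, hαq_mk, map_mul]; rfl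
  let s' : G ⧸ H → G := fun q => α (Quotient.out (αq.symm q))
  have hs' : ∀ q : G ⧸ H, ((s' q : G) : G ⧸ H) = q := by
    intro q
    show ((α (Quotient.out (αq.symm q)) : G) : G ⧸ H) = q
    rw [← hαq_mk, hs, Equiv.apply_symm_apply]
  rw [gr_transfer_section ϕ s' hs' (α g),
    gr_transfer_section (ϕ.comp (restrictEquiv α hα)) Quotient.out hs g]
  rw [← Equiv.prod_comp αq]
  refine Finset.prod_congr rfl (fun q _ => ?_)
  have h1 : s' (αq q) = α (Quotient.out q) := by
    show α (Quotient.out (αq.symm (αq q))) = _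
    rw [Equiv.symm_apply_apply]
  have h2 : s' ((α g)⁻¹ • αq q) = α (Quotient.out (g⁻¹ • q)) := by
    show α (Quotient.out (αq.symm ((α g)⁻¹ • αq q))) = _
    rw [← map_inv, ← hαq_smul, Equiv.symm_apply_apply]
  rw [h1, h2]
  have hmem := section_term_mem Quotient.out hs g q
  have h3 : (α (Quotient.out q))⁻¹ * (α g * α (Quotient.out (g⁻¹ • q))) =
      α ((Quotient.out q)⁻¹ * (g * Quotient.out (g⁻¹ • q))) := by
    simp
  rw [h3, gr_ext_mk _ _ ((hα _).mp hmem), gr_ext_mk _ _ hmem]
  rfl

end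

end Cfsg.Agent.Lib.Helper2
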