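import Mathlib
import Cfsg.Prelude.Def_ClassicalGeometry
import Cfsg.Prelude.Def_GeometricClasses
import Cfsg.Agent.Lib.Helper48.TiDefs
import Cfsg.Agent.Lib.Helper67.TsDefs
import Cfsg.Agent.Lib.Helper67.TsINVOL
import Cfsg.Agent.Lib.Helper25.TsBRIDGE

/-! # TS hive (S5972, helper67): leaf TS-D3 (helper2): a bad involution of `Ω_{2d+1}(q)`,
`q ≡ 3 (mod 4)` -/

set_option autoImplicit false

namespace Cfsg.Agent.Lib.Helper67.Ts

open Polynomial Module Matrix
open scoped commutatorElement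
open Cfsg.Agent.Lib.Helper2.BG Cfsg.Agent.Lib.Helper99 Cfsg.Agent.Lib.Helper48.Ti

section concrete

variable {F : Type*} [Field F]

/-- the signed swap `(x_i, y_i) ↦ (-y_i, -x_i)` on the hyperbolic pairs selected by `S`
(the product of the reflections in `e_i + f_i`, `i ∈ S`) -/
noncomputable def d3_refl (d : ℕ) (S : Fin d → Prop) [DecidablePred S] : VO d F →ₗ[F] VO d F where
  toFun w := Sum.elim (fun _ => w (Sum.inl ()))
    (Sum.elim (fun i => if S i then - w (Sum.inr (Sum.inr i)) else w (Sum.inr (Sum.inl i)))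
      (fun i => if S i then - w (Sum.inr (Sum.inl i)) else w (Sum.inr (Sum.inr i))))
  map_add' := by
    intro w w'
    funext a
    rcases a with _ | i | i
    · rfl
    · simp only [Sum.elim_inr, Sum.elim_inl, Pi.add_apply]
      split_ifs <;> ring
    · simp only [Sum.elim_inr, Pi.add_apply]
      split_ifs <;> ring
  map_smul' := by
    intro c w
    funext a
    rcases a with _ | i | i
    · rfl
    · simp only [Sum.elim_inr, Sum.elim_inl, Pi.smul_apply, smul_eq_mul, RingHom.id_apply]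
      split_ifs <;> ring
    · simp only [Sum.elim_inr, Pi.smul_apply, smul_eq_mul, RingHom.id_apply]
      split_ifs <;> ring

theorem d3_refl_inl (d : ℕ) (S : Fin d → Prop) [DecidablePred S] (w : VO d F) :
    d3_refl d S w (Sum.inl ()) = w (Sum.inl ()) := rfl

theorem d3_refl_x (d : ℕ) (S : Fin d → Prop) [DecidablePred S] (w : VO d F) (i : Fin d) :
    d3_refl d S w (Sum.inr (Sum.inl i)) =
      if S i then - w (Sum.inr (Sum.inr i)) else w (Sum.inr (Sum.inl i)) := rfl

theorem d3_refl_y (d : ℕ) (S : Fin d → Prop) [DecidablePred S] (w : VO d F) (i : Fin d) :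
    d3_refl d S w (Sum.inr (Sum.inr i)) =
      if S i then - w (Sum.inr (Sum.inl i)) else w (Sum.inr (Sum.inr i)) := rfl

theorem d3_refl_refl (d : ℕ) (S : Fin d → Prop) [DecidablePred S] :
    (d3_refl (F := F) d S) ∘ₗ (d3_refl d S) = LinearMap.id := by
  apply LinearMap.ext
  intro w
  funext a
  rcases a with _ | i | i
  · rfl
  · rw [LinearMap.comp_apply, d3_refl_x, d3_refl_y, d3_refl_x, LinearMap.id_apply]
    split_ifs <;> ring
  · rw [LinearMap.comp_apply, d3_refl_y, d3_refl_x, d3_refl_y, LinearMap.id_apply]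
    split_ifs <;> ring

theorem d3_refl_Q (d : ℕ) (S : Fin d → Prop) [DecidablePred S] (w : VO d F) :
    Cfsg.quadFormOdd d F (d3_refl d S w) = Cfsg.quadFormOdd d F w := by
  unfold Cfsg.quadFormOdd
  rw [d3_refl_inl]
  congr 1
  apply Finset.sum_congr rfl
  intro i _
  rw [d3_refl_x, d3_refl_y]
  split_ifs <;> ring

/-- the permutation of the hyperbolic pairs -/
noncomputable def d3_perm (d : ℕ) (π : Equiv.Perm (Fin d)) : VO d F →ₗ[F] VO d F :=
  LinearMap.funLeft F F (Sum.map id (Sum.map π π))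

theorem d3_perm_inl (d : ℕ) (π : Equiv.Perm (Fin d)) (w : VO d F) :
    d3_perm d π w (Sum.inl ()) = w (Sum.inl ()) := rfl

theorem d3_perm_x (d : ℕ) (π : Equiv.Perm (Fin d)) (w : VO d F) (i : Fin d) :
    d3_perm d π w (Sum.inr (Sum.inl i)) = w (Sum.inr (Sum.inl (π i))) := rfl

theorem d3_perm_y (d : ℕ) (π : Equiv.Perm (Fin d)) (w : VO d F) (i : Fin d) :
    d3_perm d π w (Sum.inr (Sum.inr i)) = w (Sum.inr (Sum.inr (π i))) := rfl

theorem d3_perm_perm (d : ℕ) (π : Equiv.Perm (Fin d)) (hπ : ∀ i, π (π i) = i) :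
    (d3_perm (F := F) d π) ∘ₗ (d3_perm d π) = LinearMap.id := by
  apply LinearMap.ext
  intro w
  funext a
  rcases a with _ | i | i
  · rfl
  · rw [LinearMap.comp_apply, d3_perm_x, d3_perm_x, hπ, LinearMap.id_apply]
  · rw [LinearMap.comp_apply, d3_perm_y, d3_perm_y, hπ, LinearMap.id_apply]

theorem d3_perm_Q (d : ℕ) (π : Equiv.Perm (Fin d)) (w : VO d F) :
    Cfsg.quadFormOdd d F (d3_perm d π w) = Cfsg.quadFormOdd d F w := by
  unfold Cfsg.quadFormOdd
  rw [d3_perm_inl]
  congr 1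
  exact Equiv.sum_comp π (fun i => w (Sum.inr (Sum.inl i)) * w (Sum.inr (Sum.inr i)))

/-- the invertible matrix of an involutive linear map -/
noncomputable def d3_gl (d : ℕ) (f : VO d F →ₗ[F] VO d F) (hf : f ∘ₗ f = LinearMap.id) :
    GL (Unit ⊕ (Fin d ⊕ Fin d)) F :=
  ⟨LinearMap.toMatrix' f, LinearMap.toMatrix' f,
    by rw [← LinearMap.toMatrix'_comp, hf, LinearMap.toMatrix'_id],
    by rw [← LinearMap.toMatrix'_comp, hf, LinearMap.toMatrix'_id]⟩

theorem d3_gl_val (d : ℕ) (f : VO d F →ₗ[F] VO d F) (hf : f ∘ₗ f = LinearMap.id) :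
    ((d3_gl d f hf : GL (Unit ⊕ (Fin d ⊕ Fin d)) F) :
      Matrix (Unit ⊕ (Fin d ⊕ Fin d)) (Unit ⊕ (Fin d ⊕ Fin d)) F) = LinearMap.toMatrix' f := rfl

theorem d3_gl_inv_val (d : ℕ) (f : VO d F →ₗ[F] VO d F) (hf : f ∘ₗ f = LinearMap.id) :
    (((d3_gl d f hf)⁻¹ : GL (Unit ⊕ (Fin d ⊕ Fin d)) F) :
      Matrix (Unit ⊕ (Fin d ⊕ Fin d)) (Unit ⊕ (Fin d ⊕ Fin d)) F) = LinearMap.toMatrix' f := rfl

theorem d3_gl_mem (d : ℕ) (f : VO d F →ₗ[F] VO d F) (hf : f ∘ₗ f = LinearMap.id)
    (hQ : ∀ w, Cfsg.quadFormOdd d F (f w) = Cfsg.quadFormOdd d F w) :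
    d3_gl d f hf ∈ Cfsg.isometryGroup F (Cfsg.quadFormOdd d F) := by
  intro u v
  show Cfsg.quadFormOdd d F (LinearMap.toMatrix' f *ᵥ u) = Cfsg.quadFormOdd d F u
  rw [LinearMap.toMatrix'_mulVec, hQ]

theorem d3_two_ne_zero [Fintype F] (hq3 : Fintype.card F % 4 = 3) : (2 : F) ≠ 0 := by
  apply Ring.two_ne_zero
  intro h
  have := FiniteField.even_card_of_char_two h
  omega

/-- the `(-1)`-eigenvectors of the bad involution are anisotropic -/
theorem d3_aniso [Fintype F] (hq3 : Fintype.card F % 4 = 3) (n : ℕ)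
    (z : VO (n + 2) F)
    (hz : d3_refl (n + 2) (fun i : Fin (n + 2) => i = 0 ∨ i = 1) z = -z)
    (hQ : Cfsg.quadFormOdd (n + 2) F z = 0) : z = 0 := by
  classical
  have h2 : (2 : F) ≠ 0 := d3_two_ne_zero hq3
  have hns : ¬ IsSquare (-1 : F) := by
    rw [FiniteField.isSquare_neg_one_iff]
    omega
  have hhalf : ∀ c : F, c = -c → c = 0 := by
    intro c hc
    have : (2 : F) * c = 0 := by linear_combination hc
    rcases mul_eq_zero.1 this with h | h
    · exact absurd h h2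
    · exact h
  have h0 : z (Sum.inl ()) = 0 := by
    have := congrFun hz (Sum.inl ())
    rw [d3_refl_inl, Pi.neg_apply] at this
    exact hhalf _ this
  have hx : ∀ i : Fin (n + 2), ¬ (i = 0 ∨ i = 1) → z (Sum.inr (Sum.inl i)) = 0 := by
    intro i hi
    have := congrFun hz (Sum.inr (Sum.inl i))
    rw [d3_refl_x, if_neg hi, Pi.neg_apply] at this
    exact hhalf _ this
  have hy : ∀ i : Fin (n + 2), ¬ (i = 0 ∨ i = 1) → z (Sum.inr (Sum.inr i)) = 0 := by
    intro i hi
    have := congrFun hz (Sum.inr (Sum.inr i))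
    rw [d3_refl_y, if_neg hi, Pi.neg_apply] at this
    exact hhalf _ this
  have hxy : ∀ i : Fin (n + 2), (i = 0 ∨ i = 1) →
      z (Sum.inr (Sum.inr i)) = z (Sum.inr (Sum.inl i)) := by
    intro i hi
    have := congrFun hz (Sum.inr (Sum.inl i))
    rw [d3_refl_x, if_pos hi, Pi.neg_apply] at this
    exact neg_injective this
  have h01 : (0 : Fin (n + 2)) ≠ 1 := by
    intro h
    have := congrArg Fin.val h
    simp at this
  have hsum : ∑ i : Fin (n + 2), z (Sum.inr (Sum.inl i)) * z (Sum.inr (Sum.inr i)) =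
      z (Sum.inr (Sum.inl 0)) * z (Sum.inr (Sum.inl 0)) +
        z (Sum.inr (Sum.inl 1)) * z (Sum.inr (Sum.inl 1)) := by
    rw [← Finset.sum_subset (Finset.subset_univ ({0, 1} : Finset (Fin (n + 2)))),
      Finset.sum_pair h01, hxy 0 (Or.inl rfl), hxy 1 (Or.inr rfl)]
    intro i _ hi
    rw [hx i, zero_mul]
    intro h
    apply hi
    rcases h with h | h
    · rw [h]; simp
    · rw [h]; simp
  have hQ' : z (Sum.inr (Sum.inl 0)) * z (Sum.inr (Sum.inl 0)) +
        z (Sum.inr (Sum.inl 1)) * z (Sum.inr (Sum.inl 1)) = 0 := by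
    unfold Cfsg.quadFormOdd at hQ
    rw [h0, hsum] at hQ
    linear_combination hQ
  have ht : z (Sum.inr (Sum.inl 1)) = 0 := by
    by_contra ht
    apply hns
    refine ⟨z (Sum.inr (Sum.inl 0)) / z (Sum.inr (Sum.inl 1)), ?_⟩
    field_simp
    linear_combination -hQ'
  have hs : z (Sum.inr (Sum.inl 0)) = 0 := by
    rw [ht, mul_zero, add_zero] at hQ'
    exact mul_self_eq_zero.1 hQ'
  funext a
  rcases a with _ | i | i
  · exact h0
  · by_cases hi : i = 0 ∨ i = 1
    · rcases hi with rfl | rfl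
      · exact hs
      · exact ht
    · exact hx i hi
  · by_cases hi : i = 0 ∨ i = 1
    · rw [hxy i hi]
      rcases hi with rfl | rfl
      · exact hs
      · exact ht
    · exact hy i hi

/-- the commutator identity `r_u r_v = [r_u, g]` -/
theorem d3_comm (n : ℕ) :
    d3_refl (F := F) (n + 2) (fun i : Fin (n + 2) => i = 0 ∨ i = 1) =
      (d3_refl (n + 2) (fun i : Fin (n + 2) => i = 0)) ∘ₗ
        (d3_perm (n + 2) (Equiv.swap (0 : Fin (n + 2)) 1)) ∘ₗ
        (d3_refl (n + 2) (fun i : Fin (n + 2) => i = 0)) ∘ₗ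
        (d3_perm (n + 2) (Equiv.swap (0 : Fin (n + 2)) 1)) := by
  have h01 : (0 : Fin (n + 2)) ≠ 1 := by
    intro h
    have := congrArg Fin.val h
    simp at this
  have hsw : ∀ i : Fin (n + 2), Equiv.swap (0 : Fin (n + 2)) 1 i = 0 ↔ i = 1 := by
    intro i
    rw [Equiv.swap_apply_eq_iff, Equiv.swap_apply_left]
  have hss : ∀ i : Fin (n + 2),
      Equiv.swap (0 : Fin (n + 2)) 1 (Equiv.swap (0 : Fin (n + 2)) 1 i) = i :=
    fun i => Equiv.swap_apply_self _ _ i
  apply LinearMap.ext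
  intro w
  funext a
  rcases a with _ | i | i
  · rfl
  · rw [LinearMap.comp_apply, LinearMap.comp_apply, LinearMap.comp_apply, d3_refl_x, d3_refl_x]
    by_cases hi0 : i = 0
    · subst hi0
      rw [if_pos (Or.inl rfl), if_pos rfl, d3_perm_y, d3_refl_y, Equiv.swap_apply_left,
        if_neg h01.symm, d3_perm_y, Equiv.swap_apply_right]
    · rw [if_neg hi0, d3_perm_x, d3_refl_x, d3_perm_y, d3_perm_x, hss]
      by_cases hi1 : i = 1
      · rw [if_pos (Or.inr hi1), if_pos ((hsw i).2 hi1)]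
      · rw [if_neg (not_or.2 ⟨hi0, hi1⟩), if_neg (fun h => hi1 ((hsw i).1 h))]
  · rw [LinearMap.comp_apply, LinearMap.comp_apply, LinearMap.comp_apply, d3_refl_y, d3_refl_y]
    by_cases hi0 : i = 0
    · subst hi0
      rw [if_pos (Or.inl rfl), if_pos rfl, d3_perm_x, d3_refl_x, Equiv.swap_apply_left,
        if_neg h01.symm, d3_perm_x, Equiv.swap_apply_right]
    · rw [if_neg hi0, d3_perm_y, d3_refl_y, d3_perm_x, d3_perm_y, hss]
      by_cases hi1 : i = 1
      · rw [if_pos (Or.inr hi1), if_pos ((hsw i).2 hi1)]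
      · rw [if_neg (not_or.2 ⟨hi0, hi1⟩), if_neg (fun h => hi1 ((hsw i).1 h))]

/-- TS-D3: `q ≡ 3 (mod 4)`: an involution of `Ω` without invariant totally singular `d`-space. -/
theorem exists_bad_involution [Fintype F] (hq3 : Fintype.card F % 4 = 3) (d : ℕ) (hd : 2 ≤ d) :
    ∃ x : GL (Unit ⊕ (Fin d ⊕ Fin d)) F, x ∈ Cfsg.Geo.omegaGL (Cfsg.quadFormOdd d F) ∧
      orderOf x = 2 ∧
      ∀ U : Submodule F (VO d F),
        U.map (Matrix.toLin'
          (x : Matrix (Unit ⊕ (Fin d ⊕ Fin d)) (Unit ⊕ (Fin d ⊕ Fin d)) F)) ≤ U →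
        (∀ w ∈ U, Cfsg.quadFormOdd d F w = 0) → finrank F U < d := by
  classical
  obtain ⟨n, rfl⟩ : ∃ n, d = n + 2 := ⟨d - 2, by omega⟩
  have h2 : (2 : F) ≠ 0 := d3_two_ne_zero hq3
  have h01 : (0 : Fin (n + 2)) ≠ 1 := by
    intro h
    have := congrArg Fin.val h
    simp at this
  -- the three involutive maps
  let R : VO (n + 2) F →ₗ[F] VO (n + 2) F := d3_refl (n + 2) (fun i : Fin (n + 2) => i = 0)
  let P : VO (n + 2) F →ₗ[F] VO (n + 2) F := d3_perm (n + 2) (Equiv.swap (0 : Fin (n + 2)) 1)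
  let R₂ : VO (n + 2) F →ₗ[F] VO (n + 2) F :=
    d3_refl (n + 2) (fun i : Fin (n + 2) => i = 0 ∨ i = 1)
  have hRR : R ∘ₗ R = LinearMap.id := d3_refl_refl _ _
  have hPP : P ∘ₗ P = LinearMap.id :=
    d3_perm_perm _ _ (fun i => Equiv.swap_apply_self _ _ i)
  have hR₂R₂ : R₂ ∘ₗ R₂ = LinearMap.id := d3_refl_refl _ _
  have hcomm : R₂ = R ∘ₗ P ∘ₗ R ∘ₗ P := d3_comm n
  let a : GL (Unit ⊕ (Fin (n + 2) ⊕ Fin (n + 2))) F := d3_gl (n + 2) R hRR
  let b : GL (Unit ⊕ (Fin (n + 2) ⊕ Fin (n + 2))) F := d3_gl (n + 2) P hPP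
  let x : GL (Unit ⊕ (Fin (n + 2) ⊕ Fin (n + 2))) F := d3_gl (n + 2) R₂ hR₂R₂
  have ha : a ∈ Cfsg.isometryGroup F (Cfsg.quadFormOdd (n + 2) F) :=
    d3_gl_mem _ _ _ (d3_refl_Q _ _)
  have hb : b ∈ Cfsg.isometryGroup F (Cfsg.quadFormOdd (n + 2) F) :=
    d3_gl_mem _ _ _ (d3_perm_Q _ _)
  have hxab : x = a * b * a⁻¹ * b⁻¹ := by
    apply Units.ext
    rw [Units.val_mul, Units.val_mul, Units.val_mul]
    show LinearMap.toMatrix' R₂ = LinearMap.toMatrix' R * LinearMap.toMatrix' P *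
      LinearMap.toMatrix' R * LinearMap.toMatrix' P
    rw [hcomm, LinearMap.toMatrix'_comp, LinearMap.toMatrix'_comp, LinearMap.toMatrix'_comp,
      mul_assoc, mul_assoc]
  have hxlin : Matrix.toLin' (x : Matrix (Unit ⊕ (Fin (n + 2) ⊕ Fin (n + 2)))
      (Unit ⊕ (Fin (n + 2) ⊕ Fin (n + 2))) F) = R₂ := Matrix.toLin'_toMatrix' R₂
  have hxmem : x ∈ Cfsg.Geo.omegaGL (Cfsg.quadFormOdd (n + 2) F) := by
    refine ⟨⁅(⟨a, ha⟩ : Cfsg.isometryGroup F (Cfsg.quadFormOdd (n + 2) F)), ⟨b, hb⟩⁆, ?_, ?_⟩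
    · rw [SetLike.mem_coe]
      show _ ∈ commutator _
      rw [commutator_def]
      exact Subgroup.commutator_mem_commutator (Subgroup.mem_top _) (Subgroup.mem_top _)
    · rw [hxab]
      rfl
  -- the eigenvectors `u`, `v`
  let u : VO (n + 2) F := Sum.elim (fun _ => 0)
    (Sum.elim (fun i => if i = 0 then 1 else 0) (fun i => if i = 0 then 1 else 0))
  let v : VO (n + 2) F := Sum.elim (fun _ => 0)
    (Sum.elim (fun i => if i = 1 then 1 else 0) (fun i => if i = 1 then 1 else 0))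
  have hu : R₂ u = -u := by
    funext c
    rcases c with _ | i | i
    · show (0 : F) = -0
      rw [neg_zero]
    · show (if (i = 0 ∨ i = 1) then - (if i = 0 then (1 : F) else 0) else (if i = 0 then (1 : F) else 0))
        = - (if i = 0 then (1 : F) else 0)
      by_cases hi0 : i = 0
      · rw [if_pos (Or.inl hi0)]
      · by_cases hi1 : i = 1
        · rw [if_pos (Or.inr hi1)]
        · rw [if_neg (not_or.2 ⟨hi0, hi1⟩), if_neg hi0, neg_zero]
    · show (if (i = 0 ∨ i = 1) then - (if i = 0 then (1 : F) else 0) else (if i = 0 then (1 : F) else 0))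
        = - (if i = 0 then (1 : F) else 0)
      by_cases hi0 : i = 0
      · rw [if_pos (Or.inl hi0)]
      · by_cases hi1 : i = 1
        · rw [if_pos (Or.inr hi1)]
        · rw [if_neg (not_or.2 ⟨hi0, hi1⟩), if_neg hi0, neg_zero]
  have hv : R₂ v = -v := by
    funext c
    rcases c with _ | i | i
    · show (0 : F) = -0
      rw [neg_zero]
    · show (if (i = 0 ∨ i = 1) then - (if i = 1 then (1 : F) else 0) else (if i = 1 then (1 : F) else 0))
        = - (if i = 1 then (1 : F) else 0)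
      by_cases hi0 : i = 0
      · rw [if_pos (Or.inl hi0)]
      · by_cases hi1 : i = 1
        · rw [if_pos (Or.inr hi1)]
        · rw [if_neg (not_or.2 ⟨hi0, hi1⟩), if_neg hi1, neg_zero]
    · show (if (i = 0 ∨ i = 1) then - (if i = 1 then (1 : F) else 0) else (if i = 1 then (1 : F) else 0))
        = - (if i = 1 then (1 : F) else 0)
      by_cases hi0 : i = 0
      · rw [if_pos (Or.inl hi0)]
      · by_cases hi1 : i = 1
        · rw [if_pos (Or.inr hi1)]
        · rw [if_neg (not_or.2 ⟨hi0, hi1⟩), if_neg hi1, neg_zero]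
  have hu0 : u (Sum.inr (Sum.inl 0)) = 1 := by
    show (if (0 : Fin (n + 2)) = 0 then (1 : F) else 0) = 1
    exact if_pos rfl
  have hu1 : u (Sum.inr (Sum.inl 1)) = 0 := by
    show (if (1 : Fin (n + 2)) = 0 then (1 : F) else 0) = 0
    exact if_neg h01.symm
  have hv0 : v (Sum.inr (Sum.inl 0)) = 0 := by
    show (if (0 : Fin (n + 2)) = 1 then (1 : F) else 0) = 0
    exact if_neg h01
  have hv1 : v (Sum.inr (Sum.inl 1)) = 1 := by
    show (if (1 : Fin (n + 2)) = 1 then (1 : F) else 0) = 1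
    exact if_pos rfl
  refine ⟨x, hxmem, ?_, ?_⟩
  · -- order two
    apply orderOf_eq_prime
    · apply Units.ext
      rw [pow_two, Units.val_mul, Units.val_one]
      show LinearMap.toMatrix' R₂ * LinearMap.toMatrix' R₂ = 1
      rw [← LinearMap.toMatrix'_comp, hR₂R₂, LinearMap.toMatrix'_id]
    · intro hx1
      have h1 : R₂ = LinearMap.id := by
        rw [← hxlin, hx1, Units.val_one, Matrix.toLin'_one]
      have h3 := hu
      rw [h1, LinearMap.id_apply] at h3
      have h4 := congrFun h3 (Sum.inr (Sum.inl 0))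
      rw [Pi.neg_apply, hu0] at h4
      have : (2 : F) = 0 := by linear_combination h4
      exact h2 this
  · intro U hUx hUQ
    rw [hxlin] at hUx
    have hUinv : ∀ w ∈ U, R₂ w ∈ U := fun w hw => hUx (Submodule.mem_map_of_mem hw)
    have hisom : Isom (oddB (n + 2)) R₂ := by
      have := (isom_of_mem_omega (n + 2) x hxmem).2
      rwa [hxlin] at this
    have hff : (R₂ : Module.End F (VO (n + 2) F)) * R₂ = 1 := hR₂R₂
    obtain ⟨hZ, -, -, hdim⟩ := invol_split h2 hisom hff (oddB_nd h2 (n + 2))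
    rw [finrank_VO] at hdim
    -- `U` lies in the fixed space
    have hUZ : U ≤ LinearMap.ker ((R₂ : Module.End F (VO (n + 2) F)) - 1) := by
      intro w hw
      rw [invol_mem_ker_sub]
      have hz : R₂ (w - R₂ w) = -(w - R₂ w) := by
        rw [map_sub]
        have : R₂ (R₂ w) = w := by
          have := congrArg (fun g : VO (n + 2) F →ₗ[F] VO (n + 2) F => g w) hR₂R₂
          simpa using this
        rw [this]
        abel
      have hzU : w - R₂ w ∈ U := U.sub_mem hw (hUinv w hw)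
      have := d3_aniso hq3 n (w - R₂ w) hz (hUQ _ hzU)
      exact (sub_eq_zero.1 this).symm
    have hTI : TI (oddB (n + 2)) U := (ts_iff_ti h2 (n + 2) U).1 hUQ
    have hbound := ts_bound (oddB_symm (n + 2)) hZ hUZ hTI
    -- the `(-1)`-eigenspace has dimension at least two
    have hum : u ∈ LinearMap.ker ((R₂ : Module.End F (VO (n + 2) F)) + 1) :=
      invol_mem_ker_add.2 hu
    have hvm : v ∈ LinearMap.ker ((R₂ : Module.End F (VO (n + 2) F)) + 1) :=
      invol_mem_ker_add.2 hv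
    have hli : LinearIndependent F
        ![(⟨u, hum⟩ : ↥(LinearMap.ker ((R₂ : Module.End F (VO (n + 2) F)) + 1))), ⟨v, hvm⟩] := by
      rw [LinearIndependent.pair_iff]
      intro s t hst
      have h := congrArg Subtype.val hst
      have e : s • u + t • v = 0 := h
      have e0 := congrFun e (Sum.inr (Sum.inl 0))
      have e1 := congrFun e (Sum.inr (Sum.inl 1))
      simp only [Pi.add_apply, Pi.smul_apply, smul_eq_mul, Pi.zero_apply, hu0, hu1, hv0, hv1,
        mul_one, mul_zero, add_zero, zero_add] at e0 e1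
      exact ⟨e0, e1⟩
    have h2le := hli.fintype_card_le_finrank
    rw [Fintype.card_fin] at h2le
    omega

end concrete

end Cfsg.Agent.Lib.Helper67.Ts
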