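import Mathlib
import Cfsg.Prelude.Def_ClassicalGeometry
import Cfsg.Prelude.Def_GeometricClasses
import Cfsg.Agent.Lib.Helper48.TiDefs
import Cfsg.Agent.Lib.Helper99.SympForm
import Cfsg.Agent.Lib.Helper13.Symp
import Cfsg.Agent.Lib.Helper8.SpIrredElt

/-! # S5972 Ts hive (helper67 / helper79): leaf TS-EXTSP (`exists_symp_ext`). -/

set_option autoImplicit false

namespace Cfsg.Agent.Lib.Helper79.TsSwap

open Polynomial Module
open Cfsg.Agent.Lib.Helper2.BG Cfsg.Agent.Lib.Helper99 Cfsg.Agent.Lib.Helper48.Ti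

/-- TS-EXTSP.  An isometry `φ` of an abstract nondegenerate alternating space `M` of dimension
`2e ≤ 2d` extends (by the identity on a complement) to a symplectic matrix of size `2d`. -/
theorem exists_symp_ext {F : Type*} [Field F] (d e : ℕ) (hed : e ≤ d) {M : Type*}
    [AddCommGroup M] [Module F M] [FiniteDimensional F M] (β : M →ₗ[F] M →ₗ[F] F)
    (halt : ∀ v, β v v = 0) (hnd : ∀ u, (∀ v, β u v = 0) → u = 0) (hfr : finrank F M = 2 * e)
    (φ : M →ₗ[F] M) (hφ : ∀ u v, β (φ u) (φ v) = β u v) :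
    ∃ (y : ↥(Matrix.symplecticGroup (Fin d) F)) (j : M →ₗ[F] (Fin d ⊕ Fin d → F)),
      Function.Injective j ∧
      (∀ u v, Cfsg.sympForm d F (j u) (j v) = β u v) ∧
      (∀ u, Matrix.toLin' (y : Matrix (Fin d ⊕ Fin d) (Fin d ⊕ Fin d) F) (j u) = j (φ u)) ∧
      (∀ w, (∀ u, Cfsg.sympForm d F (j u) w = 0) →
        Matrix.toLin' (y : Matrix (Fin d ⊕ Fin d) (Fin d ⊕ Fin d) F) w = w) := by
  classical
  obtain ⟨k, hk⟩ : ∃ k, d = e + k := ⟨d - e, by omega⟩
  -- skew-symmetry of `β`
  have hskew : ∀ u v, β u v = - β v u := by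
    intro u v
    have h := halt (u + v)
    simp only [map_add, LinearMap.add_apply, halt u, halt v, zero_add, add_zero] at h
    exact eq_neg_of_add_eq_zero_left (by rw [add_comm]; exact h)
  have hndr : ∀ u, (∀ v, β v u = 0) → u = 0 := by
    intro u hu
    apply hnd u
    intro v
    rw [hskew, hu v, neg_zero]
  -- the model space
  let W := M × (Fin k ⊕ Fin k → F)
  let ω : LinearMap.BilinForm F W :=
    β.compl₁₂ (LinearMap.fst F M (Fin k ⊕ Fin k → F)) (LinearMap.fst F M (Fin k ⊕ Fin k → F)) +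
      (sympB (F := F) k).compl₁₂ (LinearMap.snd F M (Fin k ⊕ Fin k → F))
        (LinearMap.snd F M (Fin k ⊕ Fin k → F))
  have hω : ∀ x y : W, ω x y = β x.1 y.1 + Cfsg.sympForm k F x.2 y.2 := by
    intro x y
    show β x.1 y.1 + sympB k x.2 y.2 = _
    rw [sympB_apply]
  have hωalt : ω.IsAlt := by
    intro x
    rw [hω, halt, ← sympB_apply, sympB_self, add_zero]
  have hωskew : ∀ x y : W, ω x y = - ω y x := by
    intro x y
    have h := hωalt (x + y)
    simp only [map_add, LinearMap.add_apply, hωalt x, hωalt y, zero_add, add_zero] at h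
    exact eq_neg_of_add_eq_zero_left (by rw [add_comm]; exact h)
  have hsepl : ∀ x : W, (∀ y : W, ω x y = 0) → x = 0 := by
    intro x hx
    have h1 : x.1 = 0 := by
      apply hnd
      intro v
      have := hx (v, 0)
      rw [hω] at this
      simpa [Cfsg.sympForm] using this
    have h2 : x.2 = 0 := by
      apply sympB_nd (F := F) (d := k) x.2 Submodule.mem_top
      intro b _
      have := hx (0, b)
      rw [hω] at this
      rw [sympB_apply]
      simpa using this
    exact Prod.ext h1 h2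
  have hωnd : ω.Nondegenerate := by
    refine ⟨hsepl, fun y hy => hsepl y (fun x => ?_)⟩
    rw [hωskew, hy x, neg_zero]
  have hfrW : finrank F W = 2 * d := by
    show finrank F (M × (Fin k ⊕ Fin k → F)) = 2 * d
    rw [Module.finrank_prod, hfr, Module.finrank_pi, Fintype.card_sum, Fintype.card_fin, hk]
    ring
  obtain ⟨Θ, hΘ⟩ := Cfsg.Agent.Lib.Helper8.exists_symp_coords_gen ω hωalt hωnd d hfrW
  -- the extended isometry
  let g : W →ₗ[F] W := LinearMap.prodMap φ LinearMap.id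
  have hg : ∀ x y : W, ω (g x) (g y) = ω x y := by
    intro x y
    rw [hω, hω]
    show β (φ x.1) (φ y.1) + Cfsg.sympForm k F x.2 y.2 = _
    rw [hφ]
  let T : (Fin d ⊕ Fin d → F) →ₗ[F] (Fin d ⊕ Fin d → F) :=
    (Θ : W →ₗ[F] (Fin d ⊕ Fin d → F)).comp (g.comp (Θ.symm : (Fin d ⊕ Fin d → F) →ₗ[F] W))
  have hT : ∀ w, T w = Θ (g (Θ.symm w)) := fun w => rfl
  let A : Matrix (Fin d ⊕ Fin d) (Fin d ⊕ Fin d) F := LinearMap.toMatrix' T
  have hA : ∀ w, Matrix.toLin' A w = T w := by
    intro w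
    show Matrix.toLin' (LinearMap.toMatrix' T) w = T w
    rw [Matrix.toLin'_toMatrix']
  have hAmem : A ∈ Matrix.symplecticGroup (Fin d) F := by
    apply Cfsg.Agent.Lib.Helper13.mem_symplectic_of_preserves
    intro u v
    rw [← Matrix.toLin'_apply, ← Matrix.toLin'_apply, hA, hA, hT, hT, hΘ, hg, ← hΘ,
      LinearEquiv.apply_symm_apply, LinearEquiv.apply_symm_apply]
  let j : M →ₗ[F] (Fin d ⊕ Fin d → F) :=
    (Θ : W →ₗ[F] (Fin d ⊕ Fin d → F)).comp (LinearMap.inl F M (Fin k ⊕ Fin k → F))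
  have hj : ∀ u, j u = Θ ((u, 0) : W) := fun u => rfl
  refine ⟨⟨A, hAmem⟩, j, ?_, ?_, ?_, ?_⟩
  · intro u v huv
    rw [hj, hj] at huv
    have := Θ.injective huv
    exact (Prod.mk.inj this).1
  · intro u v
    rw [hj, hj, hΘ, hω]
    simp [Cfsg.sympForm]
  · intro u
    show Matrix.toLin' A (j u) = j (φ u)
    rw [hA, hT, hj, LinearEquiv.symm_apply_apply, hj]
    rfl
  · intro w hw
    show Matrix.toLin' A w = w
    rw [hA, hT]
    obtain ⟨x, hx⟩ : ∃ x : W, x = Θ.symm w := ⟨_, rfl⟩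
    have hx1 : x.1 = 0 := by
      apply hndr
      intro u
      have := hw u
      rw [hj, ← Θ.apply_symm_apply w, hΘ, hω, ← hx] at this
      simpa [Cfsg.sympForm] using this
    rw [← hx]
    have hgx : g x = x := by
      have h1 : (g x).1 = φ x.1 := rfl
      have h2 : (g x).2 = x.2 := rfl
      apply Prod.ext
      · rw [h1, hx1, map_zero]
      · exact h2
    rw [hgx, hx, LinearEquiv.apply_symm_apply]

end Cfsg.Agent.Lib.Helper79.TsSwap
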