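import Mathlib
import Cfsg.Prelude.Def_Classical
import Cfsg.Agent.Lib.Helper14.TuDefs
import Cfsg.Agent.Lib.Helper40.HermMatrix
import Cfsg.Agent.Lib.Helper5.HermCount

/-! # Tu hive (S5953, helper14): TU-CNT, part (a): the orthogonal of a totally isotropic subspace, and the
number of isotropic vectors of a nondegenerate subspace of the standard hermitian space. -/

set_option autoImplicit false

namespace Cfsg.Agent.Lib.Helper14.Tu

open Cfsg.Agent.Lib.Helper40.Herm Module

section abstract
variable {F : Type*} [Field F] {τ : F →+* F} {V : Type*} [AddCommGroup V] [Module F V]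
  [FiniteDimensional F V] {H : V →ₗ[F] V →ₛₗ[τ] F}

/-- the orthogonal of a totally isotropic `W` is `W ⊕ Z` with `Z` nondegenerate of dimension
`dim V - 2 dim W` -/
theorem cnt_perp_decomp (hH : IsHermitian H) (hnd : HNondeg H) {W : Submodule F V}
    (hW : HIsotropic H W) :
    ∃ Z : Submodule F V, HNondegOn H Z ∧ Disjoint W Z ∧ hperp H W = W ⊔ Z ∧
      finrank F ↥Z + 2 * finrank F ↥W = finrank F V ∧
      (∀ w ∈ W, ∀ z ∈ Z, H w z = 0 ∧ H z w = 0) := by
  obtain ⟨U, hU⟩ := Submodule.exists_isCompl (hperp H W)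
  have hc : IsCompl U (hperp H W) := hU.symm
  obtain ⟨h1, h2, hdWU, hndP⟩ := hpairing_props hH hnd hW hc
  have hfrU : finrank F ↥U = finrank F ↥W := finrank_eq_of_perfect hH W U h1 h2
  have hcP := isCompl_hperp hH (W ⊔ U) hndP
  have hfrP : finrank F ↥(W ⊔ U) = finrank F ↥W + finrank F ↥U := by
    have := Submodule.finrank_sup_add_finrank_inf_eq W U
    rw [disjoint_iff.mp hdWU, finrank_bot] at this
    omega
  have hfr := Submodule.finrank_add_eq_of_isCompl hcP
  refine ⟨hperp H (W ⊔ U), hnondegOn_hperp hH hnd _ hndP,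
    hcP.disjoint.mono_left le_sup_left, ?_, by omega, ?_⟩
  · apply le_antisymm
    · intro v hv
      obtain ⟨p, hp, z, hz, rfl⟩ := Submodule.mem_sup.1
        (show v ∈ (W ⊔ U) ⊔ hperp H (W ⊔ U) by rw [hcP.sup_eq_top]; trivial)
      have hzW : z ∈ hperp H W := fun w hw => hz w (Submodule.mem_sup_left hw)
      have hpW : p ∈ hperp H W := by
        have : p = (p + z) - z := by abel
        rw [this]
        exact Submodule.sub_mem _ hv hzW
      obtain ⟨w, hw, u, hu, rfl⟩ := Submodule.mem_sup.1 hp
      have huW : u ∈ hperp H W := by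
        have : u = (w + u) - w := by abel
        rw [this]
        exact Submodule.sub_mem _ hpW (hisotropic_le_perp hW hw)
      have hu0 : u = 0 := by
        have h3 : u ∈ U ⊓ hperp H W := Submodule.mem_inf.2 ⟨hu, huW⟩
        rw [hc.inf_eq_bot, Submodule.mem_bot] at h3
        exact h3
      subst hu0
      rw [add_zero]
      exact Submodule.add_mem _ (Submodule.mem_sup_left hw) (Submodule.mem_sup_right hz)
    · apply sup_le (hisotropic_le_perp hW)
      intro z hz w hw
      exact hz w (Submodule.mem_sup_left hw)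
  · intro w hw z hz
    have h3 : H z w = 0 := hz w (Submodule.mem_sup_left hw)
    exact ⟨herm_swap hH h3, h3⟩

end abstract

section std
variable {F : Type*} [Field F] [Fintype F] {q : ℕ}

/-- Helper5's closed form for the number of nonzero isotropic vectors -/
def cnta_N (q k : ℕ) : ℕ :=
  if Even k then (q ^ k - 1) * (q ^ (k - 1) + 1) else (q ^ k + 1) * (q ^ (k - 1) - 1)

/-- a nondegenerate subspace of the standard hermitian space is isometric to a standard space -/
theorem cnt_exists_isometry (hF : Fintype.card F = q ^ 2) (n : ℕ) (Z : Submodule F (Fin n → F))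
    (hZ : HNondegOn (stdHerm hF n) Z) :
    ∃ φ : ↥Z ≃ₗ[F] (Fin (finrank F ↥Z) → F), ∀ u v : ↥Z,
      Cfsg.hermForm (finrank F ↥Z) F q (φ u) (φ v) = Cfsg.hermForm n F q (u : Fin n → F) (v : Fin n → F) := by
  set d := finrank F ↥Z with hd
  let HZ : ↥Z →ₗ[F] ↥Z →ₛₗ[tauHom hF] F := (stdHerm hF n).domRestrict₁₂ Z Z
  have hHZ : ∀ u v : ↥Z, HZ u v = stdHerm hF n (u : Fin n → F) (v : Fin n → F) := fun u v => rfl
  have h1 : IsHermitian HZ := fun u v => by
    rw [hHZ, hHZ]; exact stdHerm_isHermitian hF n _ _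
  have h2 : HNondeg HZ := by
    intro x hx
    have := hZ (x : Fin n → F) x.2 (fun y hy => by
      have := hx ⟨y, hy⟩
      rwa [hHZ] at this)
    exact Subtype.ext this
  have hcp : (1 : Module.End F ↥Z).charpoly = (1 : Module.End F (Fin d → F)).charpoly := by
    rw [LinearMap.charpoly_one, LinearMap.charpoly_one, Module.finrank_fin_fun]
  obtain ⟨φ, _, hφ⟩ := hexists_isometry (tauHom hF) (tauHom_tauHom hF) (tauHom_ne_id hF) d ↥Z
    (Fin d → F) HZ (stdHerm hF d) 1 1 1 hd.symm h1 (stdHerm_isHermitian hF d) h2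
    (stdHerm_nondeg hF d) (fun u v => rfl) (fun u v => rfl) Nat.one_pos (pow_one _) (pow_one _)
    (by rw [Nat.cast_one]; exact one_ne_zero) hcp
  refine ⟨φ, fun u v => ?_⟩
  have := hφ u v
  rw [hHZ, stdHerm_apply, stdHerm_apply] at this
  exact this

/-- the number of nonzero isotropic vectors of a nondegenerate subspace -/
theorem cnt_card_isotropic (hF : Fintype.card F = q ^ 2) (n : ℕ) (Z : Submodule F (Fin n → F))
    (hZ : HNondegOn (stdHerm hF n) Z) :
    Nat.card {z : ↥Z // (z : Fin n → F) ≠ 0 ∧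
      Cfsg.hermForm n F q (z : Fin n → F) (z : Fin n → F) = 0} = cnta_N q (finrank F ↥Z) := by
  classical
  obtain ⟨φ, hφ⟩ := cnt_exists_isometry hF n Z hZ
  have h1 := Cfsg.Agent.Lib.Helper5.card_hermForm_eq_zero hF (finrank F ↥Z)
  -- transport along `φ`
  have e1 : {z : ↥Z // (z : Fin n → F) ≠ 0 ∧
      Cfsg.hermForm n F q (z : Fin n → F) (z : Fin n → F) = 0} ≃
      {v : Fin (finrank F ↥Z) → F // v ≠ 0 ∧ Cfsg.hermForm (finrank F ↥Z) F q v v = 0} :=
    { toFun := fun z => ⟨φ z.1, by
        refine ⟨fun h => z.2.1 ?_, by rw [hφ]; exact z.2.2⟩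
        have : z.1 = 0 := φ.map_eq_zero_iff.mp h
        rw [this]; rfl⟩
      invFun := fun v => ⟨φ.symm v.1, by
        refine ⟨fun h => v.2.1 ?_, ?_⟩
        · have h0 : φ.symm v.1 = 0 := Subtype.ext h
          exact φ.symm.map_eq_zero_iff.mp h0
        · rw [← hφ, LinearEquiv.apply_symm_apply]; exact v.2.2⟩
      left_inv := fun z => by
        apply Subtype.ext
        exact φ.symm_apply_apply z.1
      right_inv := fun v => by
        apply Subtype.ext
        exact φ.apply_symm_apply v.1 }
  rw [Nat.card_congr e1]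
  -- remove the zero vector
  have e2 : {v : Fin (finrank F ↥Z) → F // Cfsg.hermForm (finrank F ↥Z) F q v v = 0} ≃
      Option {v : Fin (finrank F ↥Z) → F // v ≠ 0 ∧ Cfsg.hermForm (finrank F ↥Z) F q v v = 0} :=
    { toFun := fun v => if h : v.1 = 0 then none else some ⟨v.1, h, v.2⟩
      invFun := fun o => match o with
        | none => ⟨0, by simp [Cfsg.hermForm, (show q ≠ 0 by
            have := Cfsg.Agent.Lib.Helper5.two_le_of_card hF; omega)]⟩
        | some v => ⟨v.1, v.2.2⟩
      left_inv := fun v => by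
        by_cases h : v.1 = 0
        · simp only [h, dif_pos]
          exact Subtype.ext h.symm
        · simp only [h, dif_neg, not_false_eq_true]
      right_inv := fun o => by
        cases o with
        | none => simp
        | some v => simp [v.2.1] }
  have h2 := Nat.card_congr e2
  rw [h1] at h2
  have h3 : Nat.card (Option {v : Fin (finrank F ↥Z) → F // v ≠ 0 ∧
      Cfsg.hermForm (finrank F ↥Z) F q v v = 0}) =
      Nat.card {v : Fin (finrank F ↥Z) → F // v ≠ 0 ∧
      Cfsg.hermForm (finrank F ↥Z) F q v v = 0} + 1 := by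
    rw [Nat.card_eq_fintype_card, Nat.card_eq_fintype_card, Fintype.card_option]
  rw [h3] at h2
  unfold cnta_N
  omega

end std

end Cfsg.Agent.Lib.Helper14.Tu
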