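import Mathlib
import Cfsg.Prelude.Def_Classical
import Cfsg.Agent.Lib.Helper14.TuDefs
import Cfsg.Agent.Lib.Helper40.HermMatrix
import Cfsg.Agent.Lib.Helper5.HermCount
import Cfsg.Agent.Lib.Helper2.TuCNTa

/-! # Tu hive (S5953, helper14): TU-CNT, part (b2): the number of isotropic frames of the standard
hermitian space. -/

set_option autoImplicit false

namespace Cfsg.Agent.Lib.Helper14.Tu

open Cfsg.Agent.Lib.Helper40.Herm Module

variable {F : Type*} [Field F] [Fintype F] {q : ℕ}

/-- the number of isotropic vectors orthogonal to, and outside of, a totally isotropic `W` -/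
theorem cnt_card_ext (hF : Fintype.card F = q ^ 2) (n : ℕ) (W : Submodule F (Fin n → F))
    (hW : HIsotropic (stdHerm hF n) W) :
    Nat.card {v : Fin n → F // v ∈ hperp (stdHerm hF n) W ∧ Cfsg.hermForm n F q v v = 0 ∧ v ∉ W} =
      (q ^ 2) ^ finrank F ↥W * cnta_N q (n - 2 * finrank F ↥W) := by
  classical
  obtain ⟨Z, hZ, hdisj, hperpW, hfr, horth⟩ :=
    cnt_perp_decomp (stdHerm_isHermitian hF n) (stdHerm_nondeg hF n) hW
  have hfrV : finrank F (Fin n → F) = n := by simp
  rw [hfrV] at hfr
  have hZd : n - 2 * finrank F ↥W = finrank F ↥Z := by omega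
  have hcW : Nat.card ↥W = (q ^ 2) ^ finrank F ↥W := by
    rw [Module.natCard_eq_pow_finrank (K := F), Nat.card_eq_fintype_card, hF]
  rw [hZd, ← cnt_card_isotropic hF n Z hZ, ← hcW, ← Nat.card_prod]
  symm
  -- the bijection `(w, z) ↦ w + z`
  have hsq : ∀ w ∈ W, ∀ z ∈ Z, Cfsg.hermForm n F q (w + z) (w + z) = Cfsg.hermForm n F q z z := by
    intro w hw z hz
    have h1 := hW w hw w hw
    have h2 := (horth w hw z hz).1
    have h3 := (horth w hw z hz).2
    rw [stdHerm_apply] at h1 h2 h3
    have key : stdHerm hF n (w + z) (w + z) = stdHerm hF n w w + stdHerm hF n w z +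
        (stdHerm hF n z w + stdHerm hF n z z) := by
      rw [map_add (stdHerm hF n (w + z)) w z, map_add (stdHerm hF n) w z, LinearMap.add_apply,
        LinearMap.add_apply]
      ring
    rw [stdHerm_apply, stdHerm_apply, stdHerm_apply, stdHerm_apply, stdHerm_apply] at key
    rw [key, h1, h2, h3, zero_add, zero_add, zero_add]
  let f : ↥W × {z : ↥Z // (z : Fin n → F) ≠ 0 ∧
      Cfsg.hermForm n F q (z : Fin n → F) (z : Fin n → F) = 0} →
      {v : Fin n → F // v ∈ hperp (stdHerm hF n) W ∧ Cfsg.hermForm n F q v v = 0 ∧ v ∉ W} :=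
    fun x => ⟨(x.1 : Fin n → F) + (x.2.1 : Fin n → F), by
      refine ⟨?_, ?_, ?_⟩
      · rw [hperpW]
        exact Submodule.add_mem _ (Submodule.mem_sup_left x.1.2) (Submodule.mem_sup_right x.2.1.2)
      · rw [hsq _ x.1.2 _ x.2.1.2]; exact x.2.2.2
      · intro h
        have hz : (x.2.1 : Fin n → F) ∈ W := by
          have : (x.2.1 : Fin n → F) = ((x.1 : Fin n → F) + (x.2.1 : Fin n → F)) - x.1 := by abel
          rw [this]
          exact Submodule.sub_mem _ h x.1.2
        exact x.2.2.1 (Submodule.disjoint_def.mp hdisj _ hz x.2.1.2)⟩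
  apply Nat.card_congr
  apply Equiv.ofBijective f
  constructor
  · rintro ⟨w, z⟩ ⟨w', z'⟩ h
    have h1 : (w : Fin n → F) + (z.1 : Fin n → F) = (w' : Fin n → F) + (z'.1 : Fin n → F) :=
      congrArg Subtype.val h
    have h2 : (w : Fin n → F) - w' = (z'.1 : Fin n → F) - z.1 := by
      rw [sub_eq_sub_iff_add_eq_add]; rw [h1]; abel
    have h3 : (w : Fin n → F) - w' = 0 := by
      apply Submodule.disjoint_def.mp hdisj
      · exact Submodule.sub_mem _ w.2 w'.2
      · rw [h2]; exact Submodule.sub_mem _ z'.1.2 z.1.2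
    have h4 : (z'.1 : Fin n → F) - z.1 = 0 := by rw [← h2, h3]
    have hw : w = w' := Subtype.ext (sub_eq_zero.mp h3)
    have hz : z = z' := Subtype.ext (Subtype.ext (sub_eq_zero.mp h4).symm)
    rw [hw, hz]
  · rintro ⟨v, hv1, hv2, hv3⟩
    rw [hperpW] at hv1
    obtain ⟨w, hw, z, hz, rfl⟩ := Submodule.mem_sup.1 hv1
    refine ⟨(⟨w, hw⟩, ⟨⟨z, hz⟩, ?_, ?_⟩), rfl⟩
    · intro h0
      apply hv3
      have h0' : z = 0 := h0
      rw [h0', add_zero]; exact hw
    · rw [hsq w hw z hz] at hv2; exact hv2

/-- the set of isotropic `k`-frames -/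
abbrev cnt_Frames (F : Type*) [Field F] (n q k : ℕ) : Type _ :=
  {s : Fin k → (Fin n → F) // LinearIndependent F s ∧ ∀ i j, Cfsg.hermForm n F q (s i) (s j) = 0}

theorem cnt_span_isotropic (hF : Fintype.card F = q ^ 2) (n k : ℕ) (s : Fin k → (Fin n → F))
    (hs : ∀ i j, Cfsg.hermForm n F q (s i) (s j) = 0) :
    HIsotropic (stdHerm hF n) (Submodule.span F (Set.range s)) := by
  intro x hx y hy
  induction hx using Submodule.span_induction with
  | mem x hx =>
    obtain ⟨i, rfl⟩ := hx
    induction hy using Submodule.span_induction with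
    | mem y hy =>
      obtain ⟨j, rfl⟩ := hy
      rw [stdHerm_apply]; exact hs i j
    | zero => simp
    | add a b _ _ ha hb => rw [map_add, ha, hb, add_zero]
    | smul c a _ ha => rw [map_smulₛₗ, ha, smul_zero]
  | zero => simp
  | add a b _ _ ha hb => rw [map_add, LinearMap.add_apply, ha, hb, add_zero]
  | smul c a _ ha => rw [map_smul, LinearMap.smul_apply, ha, smul_zero]

theorem cnt_mem_hperp_span (hF : Fintype.card F = q ^ 2) (n k : ℕ) (s : Fin k → (Fin n → F))
    (v : Fin n → F) :
    v ∈ hperp (stdHerm hF n) (Submodule.span F (Set.range s)) ↔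
      ∀ i, Cfsg.hermForm n F q v (s i) = 0 := by
  constructor
  · intro h i
    have := h (s i) (Submodule.subset_span ⟨i, rfl⟩)
    rwa [stdHerm_apply] at this
  · intro h y hy
    induction hy using Submodule.span_induction with
    | mem y hy =>
      obtain ⟨j, rfl⟩ := hy
      rw [stdHerm_apply]; exact h j
    | zero => simp
    | add a b _ _ ha hb => rw [map_add, ha, hb, add_zero]
    | smul c a _ ha => rw [map_smulₛₗ, ha, smul_zero]

/-- the frame recursion -/
theorem cnt_frames_succ (hF : Fintype.card F = q ^ 2) (n k : ℕ) :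
    Nat.card (cnt_Frames F n q (k + 1)) =
      Nat.card (cnt_Frames F n q k) * ((q ^ 2) ^ k * cnta_N q (n - 2 * k)) := by
  classical
  have hswap : ∀ u v : Fin n → F, Cfsg.hermForm n F q u v = 0 → Cfsg.hermForm n F q v u = 0 := by
    intro u v h
    have := herm_swap (stdHerm_isHermitian hF n) (x := u) (y := v) (by rw [stdHerm_apply]; exact h)
    rwa [stdHerm_apply] at this
  -- fibre over a `k`-frame
  let Fib : cnt_Frames F n q k → Type _ := fun s =>
    {v : Fin n → F // v ∈ hperp (stdHerm hF n) (Submodule.span F (Set.range s.1)) ∧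
      Cfsg.hermForm n F q v v = 0 ∧ v ∉ Submodule.span F (Set.range s.1)}
  have hfib : ∀ s : cnt_Frames F n q k, Nat.card (Fib s) = (q ^ 2) ^ k * cnta_N q (n - 2 * k) := by
    intro s
    have h1 := cnt_card_ext hF n (Submodule.span F (Set.range s.1))
      (cnt_span_isotropic hF n k s.1 s.2.2)
    rw [finrank_span_eq_card s.2.1, Fintype.card_fin] at h1
    exact h1
  -- the map `init`
  have hinit : ∀ t : cnt_Frames F n q (k + 1),
      LinearIndependent F (Fin.init t.1 : Fin k → (Fin n → F)) ∧
        t.1 (Fin.last k) ∉ Submodule.span F (Set.range (Fin.init t.1 : Fin k → (Fin n → F))) := by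
    intro t
    have h1 : (Fin.snoc (Fin.init t.1) (t.1 (Fin.last k)) : Fin (k + 1) → (Fin n → F)) = t.1 :=
      Fin.snoc_init_self t.1
    have h2 := t.2.1
    rw [← h1, linearIndependent_finSnoc] at h2
    exact h2
  let ini : cnt_Frames F n q (k + 1) → cnt_Frames F n q k := fun t =>
    ⟨Fin.init t.1, (hinit t).1, fun i j => t.2.2 _ _⟩
  have hsnoc : ∀ (s : cnt_Frames F n q k) (v : Fib s),
      LinearIndependent F (Fin.snoc s.1 v.1 : Fin (k + 1) → (Fin n → F)) ∧
      ∀ i j, Cfsg.hermForm n F q ((Fin.snoc s.1 v.1 : Fin (k + 1) → (Fin n → F)) i)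
        ((Fin.snoc s.1 v.1 : Fin (k + 1) → (Fin n → F)) j) = 0 := by
    intro s v
    refine ⟨linearIndependent_finSnoc.mpr ⟨s.2.1, v.2.2.2⟩, ?_⟩
    have hperp := (cnt_mem_hperp_span hF n k s.1 v.1).mp v.2.1
    intro i j
    induction i using Fin.lastCases with
    | last =>
      induction j using Fin.lastCases with
      | last => simp only [Fin.snoc_last]; exact v.2.2.1
      | cast j => simp only [Fin.snoc_last, Fin.snoc_castSucc]; exact hperp j
    | cast i =>
      induction j using Fin.lastCases with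
      | last => simp only [Fin.snoc_last, Fin.snoc_castSucc]; exact hswap _ _ (hperp i)
      | cast j => simp only [Fin.snoc_castSucc]; exact s.2.2 i j
  have efib : ∀ s : cnt_Frames F n q k, {t : cnt_Frames F n q (k + 1) // ini t = s} ≃ Fib s :=
    fun s =>
    { toFun := fun t => ⟨t.1.1 (Fin.last k), by
        have hs : (Fin.init t.1.1 : Fin k → (Fin n → F)) = s.1 := congrArg Subtype.val t.2
        refine ⟨?_, t.1.2.2 _ _, ?_⟩
        · rw [cnt_mem_hperp_span, ← hs]
          intro i
          exact t.1.2.2 _ _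
        · rw [← hs]; exact (hinit t.1).2⟩
      invFun := fun v => ⟨⟨Fin.snoc s.1 v.1, hsnoc s v⟩, by
        apply Subtype.ext
        show Fin.init (Fin.snoc s.1 v.1 : Fin (k + 1) → (Fin n → F)) = s.1
        exact Fin.init_snoc _ _⟩
      left_inv := fun t => by
        have hs : (Fin.init t.1.1 : Fin k → (Fin n → F)) = s.1 := congrArg Subtype.val t.2
        apply Subtype.ext
        apply Subtype.ext
        show (Fin.snoc s.1 (t.1.1 (Fin.last k)) : Fin (k + 1) → (Fin n → F)) = t.1.1
        rw [← hs]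
        exact Fin.snoc_init_self t.1.1
      right_inv := fun v => by
        apply Subtype.ext
        show (Fin.snoc s.1 v.1 : Fin (k + 1) → (Fin n → F)) (Fin.last k) = v.1
        exact Fin.snoc_last _ _ }
  rw [← Nat.card_congr (Equiv.sigmaFiberEquiv ini), Nat.card_sigma]
  have hfib' : ∀ s : cnt_Frames F n q k,
      Nat.card {t : cnt_Frames F n q (k + 1) // ini t = s} = (q ^ 2) ^ k * cnta_N q (n - 2 * k) :=
    fun s => (Nat.card_congr (efib s)).trans (hfib s)
  simp only [hfib']
  rw [Finset.sum_const, Finset.card_univ, smul_eq_mul, Nat.card_eq_fintype_card]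

/-- the number of isotropic `m`-frames -/
theorem cnt_card_frames (hF : Fintype.card F = q ^ 2) (n m : ℕ) :
    Nat.card (cnt_Frames F n q m) =
      ∏ j ∈ Finset.range m, ((q ^ 2) ^ j * cnta_N q (n - 2 * j)) := by
  induction m with
  | zero =>
    rw [Finset.range_zero, Finset.prod_empty]
    have : Unique (cnt_Frames F n q 0) :=
      { default := ⟨fun i => Fin.elim0 i, linearIndependent_empty_type, fun i => Fin.elim0 i⟩
        uniq := fun s => Subtype.ext (funext fun i => Fin.elim0 i) }
    exact Nat.card_unique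
  | succ k ih =>
    rw [cnt_frames_succ hF n k, ih, Finset.prod_range_succ]

end Cfsg.Agent.Lib.Helper14.Tu
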