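import Mathlib
import Cfsg.Prelude.Def_Classical
import Cfsg.Agent.Lib.Helper14.TuDefs
import Cfsg.Agent.Lib.Helper40.HermMatrix
import Cfsg.Agent.Lib.Helper2.TuARC
import Cfsg.Agent.Lib.Helper2.TuCNTb2
import Cfsg.Agent.Lib.Helper14.TuCNTb1
import Cfsg.Agent.Lib.Helper25.TuCNTc

/-! # Tu hive (S5953, helper14): leaf TU-CNT (`not_dvd_card_Omega`, `exists_dvd_of_dvd_card_Omega`):
the isotropic frame count of the standard hermitian space. -/

set_option autoImplicit false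

namespace Cfsg.Agent.Lib.Helper14.Tu

open Cfsg.Agent.Lib.Helper40.Herm Module

section cnt
variable {F : Type*} [Field F] [Fintype F] {p : ℕ} [Fact p.Prime] [CharP F p] {q : ℕ}

theorem cnt_cnta_N_eq (q k : ℕ) : cnta_N q k = cnt_A q k := rfl

omit [Fact p.Prime] [CharP F p] in
/-- `#Ω · |bases of an m-space| = ∏_{j<m} q^(2j) N(n-2j)` -/
theorem cnt_card_Omega_mul (hq : Fintype.card F = q ^ 2) (n m : ℕ) :
    Nat.card (Omega F n q m) * ∏ j ∈ Finset.range m, ((q ^ 2) ^ m - (q ^ 2) ^ j) =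
      ∏ j ∈ Finset.range m, ((q ^ 2) ^ j * cnt_A q (n - 2 * j)) := by
  have h1 := cnt_frames_eq (F := F) (V := Fin n → F)
    (fun W => ∀ u ∈ W, ∀ v ∈ W, Cfsg.hermForm n F q u v = 0) m
  rw [hq] at h1
  have h2 := cnt_card_frames hq n m (F := F)
  have e : {s : Fin m → (Fin n → F) // LinearIndependent F s ∧
      ∀ u ∈ Submodule.span F (Set.range s), ∀ v ∈ Submodule.span F (Set.range s),
        Cfsg.hermForm n F q u v = 0} ≃ cnt_Frames F n q m :=
    Equiv.subtypeEquivRight (fun s => by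
      constructor
      · rintro ⟨h, hs⟩
        exact ⟨h, fun i j => hs _ (Submodule.subset_span ⟨i, rfl⟩) _ (Submodule.subset_span ⟨j, rfl⟩)⟩
      · rintro ⟨h, hs⟩
        refine ⟨h, fun u hu v hv => ?_⟩
        have := cnt_span_isotropic hq n m s hs u hu v hv
        rwa [stdHerm_apply] at this)
  rw [Nat.card_congr e, h2] at h1
  simp only [cnt_cnta_N_eq] at h1
  exact h1.symm

/-- TU-CNT.  `p ∤ #Ω`. -/
theorem not_dvd_card_Omega (hq : Fintype.card F = q ^ 2) (n m : ℕ) (hm : 1 ≤ m) (hmn : 2 * m ≤ n) :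
    ¬ p ∣ Nat.card (Omega F n q m) := by
  obtain ⟨f, hf, hqf⟩ := q_eq_pow (p := p) hq
  exact (cnt_arith p Fact.out q f hf hqf n m hm hmn _ (cnt_card_Omega_mul hq n m)).1

/-- TU-CNT (second part). -/
theorem exists_dvd_of_dvd_card_Omega (hq : Fintype.card F = q ^ 2) (n m : ℕ) (hm : 1 ≤ m)
    (hmn : 2 * m ≤ n) (r : ℕ) (hr : r.Prime) (hrp : r ≠ p) (h : r ∣ Nat.card (Omega F n q m)) :
    ∃ j : ℕ, n - 2 * m < j ∧ j ≤ n ∧ ((r : ℤ) ∣ (q : ℤ) ^ j - (-1) ^ j) := by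
  obtain ⟨f, hf, hqf⟩ := q_eq_pow (p := p) hq
  exact (cnt_arith p Fact.out q f hf hqf n m hm hmn _ (cnt_card_Omega_mul hq n m)).2 r hr hrp h

end cnt

end Cfsg.Agent.Lib.Helper14.Tu
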