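import Mathlib
import Cfsg.Agent.Lib.Helper2.HW1
import Cfsg.Agent.Lib.Helper2.HomFp2
import Cfsg.Agent.Lib.Helper50.PrimeIndex

set_option autoImplicit false

/-!
Tools for the refined Hall–Wielandt theorem (Yoshida): general Engel sum, fibrewise products,
homomorphisms to `F_p` and Frattini subgroups.
-/

namespace Cfsg.Agent.Lib.Helper2.Yo

open Finset Cfsg.Agent.Lib.Helper2 Cfsg.Agent.Lib.Helper2.HW

section engel

variable {p : ℕ} [hp : Fact p.Prime]

open fwdDiff in
theorem sum_range_eq_fwdDiff (L : ℕ → ZMod p) :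
    ∑ k ∈ Finset.range p, L k = (Δ_[1])^[p - 1] L 0 := by
  rw [fwdDiff_iter_eq_sum_shift]
  have hp1 : p - 1 + 1 = p := by have := hp.1.pos; omega
  rw [hp1]
  apply Finset.sum_congr rfl
  intro k hk
  rw [Finset.mem_range] at hk
  have hk' : k ≤ p - 1 := by omega
  rw [zsmul_eq_mul]
  have hc : (((-1 : ℤ) ^ (p - 1 - k) * ((p - 1).choose k : ℤ) : ℤ) : ZMod p) = 1 := by
    push_cast
    rw [choose_pred_prime_zmod k hk', ← pow_add]
    have : p - 1 - k + k = p - 1 := by omega
    rw [this]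
    exact neg_one_pow_pred_prime_zmod
  rw [hc, one_mul]
  simp

/-- **Engel sum, general form.** -/
theorem engel_prod_eq {D : Type*} [Group D] (τ : D →* D)
    (Λ : D →* Multiplicative (ZMod p)) (w : D) :
    ∏ i ∈ Finset.range p, Λ (τ^[i] w) = Λ ((fun y => y⁻¹ * τ y)^[p - 1] w) := by
  set T : D → D := fun y => y⁻¹ * τ y with hT
  let ℓ : D → ZMod p := fun d => Multiplicative.toAdd (Λ d)
  have ℓ_mul : ∀ a b, ℓ (a * b) = ℓ a + ℓ b := by
    intro a b; simp only [ℓ, map_mul, toAdd_mul]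
  have ℓ_inv : ∀ a, ℓ a⁻¹ = - ℓ a := by
    intro a; simp only [ℓ, map_inv, toAdd_inv]
  let L : ℕ → ℕ → ZMod p := fun j k => ℓ (τ^[k] (T^[j] w))
  have hstep : ∀ j, L (j + 1) = fwdDiff 1 (L j) := by
    intro j
    funext k
    simp only [L, fwdDiff]
    rw [Function.iterate_succ_apply' T, hT]
    simp only
    rw [iterate_map_mul, iterate_map_inv, ℓ_mul, ℓ_inv,
      ← Function.iterate_succ_apply]
    ring
  have hL : ∀ j, L j = (fwdDiff 1)^[j] (L 0) := by
    intro j
    induction j with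
    | zero => rfl
    | succ j ih => rw [hstep, ih, Function.iterate_succ_apply']
  have hsum := sum_range_eq_fwdDiff (L 0)
  rw [← hL] at hsum
  have h1 : ∏ i ∈ Finset.range p, Λ (τ^[i] w) =
      Multiplicative.ofAdd (∑ i ∈ Finset.range p, L 0 i) := by
    rw [ofAdd_sum]
    apply Finset.prod_congr rfl
    intro i _
    simp only [L, ℓ, Function.iterate_zero, id_eq, ofAdd_toAdd]
  rw [h1, hsum]
  simp only [L, ℓ, Function.iterate_zero, id_eq, ofAdd_toAdd]

end engel

/-- A product is trivial as soon as it is trivial on each fibre of a map. -/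
theorem prod_eq_one_of_fibers {α β M : Type*} [DecidableEq β] [CommMonoid M] (s : Finset α)
    (g : α → β) (f : α → M)
    (h : ∀ y₀ ∈ s, ∏ x ∈ s.filter (fun x => g x = g y₀), f x = 1) : ∏ x ∈ s, f x = 1 := by
  rw [← Finset.prod_fiberwise_of_maps_to (t := s.image g) (g := g)
    (fun x hx => Finset.mem_image_of_mem g hx)]
  apply Finset.prod_eq_one
  intro b hb
  obtain ⟨y₀, hy₀, rfl⟩ := Finset.mem_image.1 hb
  exact h y₀ hy₀

section homs

variable {p : ℕ} [hp : Fact p.Prime]

/-- The kernel of a nontrivial homomorphism to `F_p` has index `p`. -/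
theorem index_ker_Fp {Y : Type*} [Group Y] (κ : Y →* Multiplicative (ZMod p)) (hκ : κ ≠ 1) :
    κ.ker.index = p := by
  rw [Subgroup.index_ker]
  have hne : κ.range ≠ ⊥ := by
    intro h
    apply hκ
    ext y
    have : κ y ∈ κ.range := ⟨y, rfl⟩
    rw [h, Subgroup.mem_bot] at this
    rw [this]; rfl
  have hdvd : Nat.card κ.range ∣ p := by
    have := Subgroup.card_subgroup_dvd_card κ.range
    rwa [card_Fp] at this
  rcases (Nat.dvd_prime hp.1).1 hdvd with h1 | h1
  · exact absurd (Subgroup.card_eq_one.1 h1) hne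
  · exact h1

theorem isCoatom_ker_Fp {Y : Type*} [Group Y] (κ : Y →* Multiplicative (ZMod p)) (hκ : κ ≠ 1) :
    IsCoatom κ.ker := by
  apply Cfsg.Agent.Lib.Helper50.isCoatom_of_index_prime
  rw [index_ker_Fp κ hκ]
  exact hp.1

/-- Homomorphisms to `F_p` kill the Frattini subgroup. -/
theorem frattini_le_ker_Fp {Y : Type*} [Group Y] (κ : Y →* Multiplicative (ZMod p)) :
    frattini Y ≤ κ.ker := by
  by_cases hκ : κ = 1
  · rw [hκ, MonoidHom.ker_one]; exact le_top
  · exact frattini_le_coatom (isCoatom_ker_Fp κ hκ)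

/-- In a finite `p`-group, a proper subgroup lies in the kernel of a nontrivial homomorphism
to `F_p`. -/
theorem exists_hom_of_ne_top {T : Type*} [Group T] [Finite T] (hT : IsPGroup p T)
    (D : Subgroup T) (hD : D ≠ ⊤) :
    ∃ θ : T →* Multiplicative (ZMod p), θ ≠ 1 ∧ D ≤ θ.ker := by
  rcases eq_top_or_exists_le_coatom D with h | ⟨M, hM, hDM⟩
  · exact absurd h hD
  · haveI := coatom_normal hT M hM
    have hc := coatom_card_quotient hT M hM
    have hidx : M.index = p := by rw [Subgroup.index_eq_card]; exact hc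
    obtain ⟨l, hl⟩ := exists_hom_ker_eq M hidx
    refine ⟨l, ?_, by rw [hl]; exact hDM⟩
    intro h1
    rw [h1, MonoidHom.ker_one] at hl
    exact hM.1 hl.symm

end homs

end Cfsg.Agent.Lib.Helper2.Yo
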