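import Mathlib
import Cfsg.Agent.Lib.Helper2.HW2

set_option autoImplicit false

/-!
Orbit lemma: the fixed cosets inside one orbit of a subgroup `X` correspond to the fixed cosets of
`X` modulo the point stabilizer.
-/

namespace Cfsg.Agent.Lib.Helper2.Yo

open Finset MulAction Cfsg.Agent.Lib.Helper2.HW

variable {G : Type*} [Group G] {A : Type*} [CommGroup A] {H : Subgroup G}

/-- The stabilizer in `X` of a coset, as a subgroup of `X`. -/
abbrev stabIn (X : Subgroup G) (y₀ : G ⧸ H) : Subgroup X := (stabilizer G y₀).subgroupOf X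

theorem mem_stabIn (X : Subgroup G) (y₀ : G ⧸ H) (d : X) :
    d ∈ stabIn X y₀ ↔ y₀.out⁻¹ * (d : G) * y₀.out ∈ H := by
  unfold stabIn
  rw [Subgroup.mem_subgroupOf, mem_stabilizer_iff, smul_eq_iff_out]

/-- The homomorphism `d ↦ μ (x⁻¹ d x)` on the stabilizer of the coset `xH`. -/
noncomputable def orbHom (μ : H →* A) (X : Subgroup G) (y₀ : G ⧸ H) : stabIn X y₀ →* A :=
  MonoidHom.mk' (fun d => μ ⟨y₀.out⁻¹ * ((d : X) : G) * y₀.out, (mem_stabIn X y₀ d).1 d.2⟩)
    (fun a b => by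
      rw [← map_mul]
      congr 1
      apply Subtype.ext
      show y₀.out⁻¹ * (((a : X) : G) * ((b : X) : G)) * y₀.out =
        (y₀.out⁻¹ * ((a : X) : G) * y₀.out) * (y₀.out⁻¹ * ((b : X) : G) * y₀.out)
      group)

theorem orbHom_apply (μ : H →* A) (X : Subgroup G) (y₀ : G ⧸ H) (d : stabIn X y₀) :
    orbHom μ X y₀ d = μ ⟨y₀.out⁻¹ * ((d : X) : G) * y₀.out, (mem_stabIn X y₀ d).1 d.2⟩ := rfl

theorem smul_smul_eq_iff (X : Subgroup G) (y₀ : G ⧸ H) (u t : X) :
    (u : G) • ((t : G) • y₀) = (t : G) • y₀ ↔ u • (t : X ⧸ stabIn X y₀) = (t : X ⧸ stabIn X y₀) := by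
  rw [smul_mk_eq_iff, mem_stabIn, ← smul_eq_iff_out, ← mul_smul]
  constructor
  · intro h
    have : ((t⁻¹ * u * t : X) : G) = (t : G)⁻¹ * ((u : G) * (t : G)) := by
      push_cast; group
    rw [this, mul_smul, h, ← mul_smul, inv_mul_cancel, one_smul]
  · intro h
    have : ((t⁻¹ * u * t : X) : G) = (t : G)⁻¹ * ((u : G) * (t : G)) := by
      push_cast; group
    rw [this, mul_smul, inv_smul_eq_iff] at h
    rw [h]

theorem orbit_prod_eq [Finite G] [Fintype (G ⧸ H)] (μ : H →* A) (X : Subgroup G) (y₀ : G ⧸ H)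
    (u : X) [Fintype (X ⧸ stabIn X y₀)]
    [DecidablePred (fun y : G ⧸ H => (u : G) • y = y ∧ y ∈ orbit X y₀)]
    [DecidablePred (fun q : X ⧸ stabIn X y₀ => u • q = q)] :
    ∏ y ∈ Finset.univ.filter (fun y : G ⧸ H => (u : G) • y = y ∧ y ∈ orbit X y₀),
        extH μ (y.out⁻¹ * (u : G) * y.out) =
      ∏ q ∈ Finset.univ.filter (fun q : X ⧸ stabIn X y₀ => u • q = q),
        extH (orbHom μ X y₀) (q.out⁻¹ * u * q.out) := by
  symm
  refine Finset.prod_bij (fun q _ => ((q.out : X) : G) • y₀) ?_ ?_ ?_ ?_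
  · intro q hq
    rw [Finset.mem_filter] at hq ⊢
    refine ⟨Finset.mem_univ _, ?_, ?_⟩
    · rw [smul_smul_eq_iff, QuotientGroup.out_eq']
      exact hq.2
    · exact ⟨q.out, rfl⟩
  · intro q₁ _ q₂ _ h
    have h1 : ((q₂.out⁻¹ * q₁.out : X) : G) • y₀ = y₀ := by
      push_cast
      rw [mul_smul, h, ← mul_smul, inv_mul_cancel, one_smul]
    have h2 : q₂.out⁻¹ * q₁.out ∈ stabIn X y₀ := by
      unfold stabIn
      rw [Subgroup.mem_subgroupOf, mem_stabilizer_iff]
      exact h1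
    rw [← QuotientGroup.out_eq' q₁, ← QuotientGroup.out_eq' q₂]
    exact (QuotientGroup.eq.2 h2).symm
  · intro y hy
    rw [Finset.mem_filter] at hy
    obtain ⟨-, hyu, ⟨t, ht⟩⟩ := hy
    have ht' : (t : G) • y₀ = y := ht
    refine ⟨(t : X ⧸ stabIn X y₀), ?_, ?_⟩
    · rw [Finset.mem_filter]
      refine ⟨Finset.mem_univ _, ?_⟩
      rw [← smul_smul_eq_iff, ht']
      exact hyu
    · obtain ⟨d, hd⟩ := QuotientGroup.mk_out_eq_mul (stabIn X y₀) t
      rw [hd]
      push_cast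
      rw [mul_smul]
      have : ((d : X) : G) • y₀ = y₀ := by
        have := d.2
        unfold stabIn at this
        rw [Subgroup.mem_subgroupOf, mem_stabilizer_iff] at this
        exact this
      rw [this, ht']
  · intro q hq
    rw [Finset.mem_filter] at hq
    have hfix := hq.2
    rw [smul_eq_iff_out] at hfix
    have hmem : q.out⁻¹ * u * q.out ∈ stabIn X y₀ := hfix
    have hmemH := (mem_stabIn X y₀ _).1 hmem
    set t : X := q.out with ht
    set x : G := y₀.out with hx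
    have hy : (t : G) • y₀ = (((t : G) * x : G) : G ⧸ H) := by
      rw [hx]
      conv_lhs => rw [← QuotientGroup.out_eq' y₀]
      rfl
    have hm2 : ((t : G) * x)⁻¹ * (u : G) * ((t : G) * x) ∈ H := by
      have : ((t : G) * x)⁻¹ * (u : G) * ((t : G) * x) =
          x⁻¹ * ((t⁻¹ * u * t : X) : G) * x := by
        push_cast; group
      rw [this]
      exact hmemH
    rw [hy, extH_conj_out μ (u : G) ((t : G) * x) hm2, extH_of_mem μ hm2,
      extH_of_mem (orbHom μ X y₀) hmem, orbHom_apply]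
    congr 1
    apply Subtype.ext
    show x⁻¹ * ((t⁻¹ * u * t : X) : G) * x = ((t : G) * x)⁻¹ * (u : G) * ((t : G) * x)
    push_cast
    group

/-- Version of `orbit_prod_eq` for an element of `G` lying in `X`. -/
theorem orbit_prod_eq' [Finite G] [Fintype (G ⧸ H)] (μ : H →* A) (X : Subgroup G) (y₀ : G ⧸ H)
    (u : G) (hu : u ∈ X) [Fintype (X ⧸ stabIn X y₀)]
    [DecidablePred (fun y : G ⧸ H => u • y = y ∧ y ∈ orbit X y₀)]
    [DecidablePred (fun q : X ⧸ stabIn X y₀ => (⟨u, hu⟩ : X) • q = q)] :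
    ∏ y ∈ Finset.univ.filter (fun y : G ⧸ H => u • y = y ∧ y ∈ orbit X y₀),
        extH μ (y.out⁻¹ * u * y.out) =
      ∏ q ∈ Finset.univ.filter (fun q : X ⧸ stabIn X y₀ => (⟨u, hu⟩ : X) • q = q),
        extH (orbHom μ X y₀) (q.out⁻¹ * (⟨u, hu⟩ : X) * q.out) :=
  orbit_prod_eq μ X y₀ ⟨u, hu⟩

end Cfsg.Agent.Lib.Helper2.Yo
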