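import Mathlib
import Cfsg.Agent.Lib.Helper2.HW2
import Cfsg.Agent.Lib.Helper2.Yo1

set_option autoImplicit false

/-!
The index-`p` step: for `D ≤ M = ker θ ⊴ X` with `X / M` of order `p` generated by `z`, the fixed
point product for `(X, D)` at `u ∈ M` is the transfer `D → M` evaluated at `[u, z; p-1]`.
-/

namespace Cfsg.Agent.Lib.Helper2.Yo

open Finset MulAction Cfsg.Agent.Lib.Helper2 Cfsg.Agent.Lib.Helper2.HW

variable {X : Type*} [Group X] {p : ℕ} [hp : Fact p.Prime]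

/-- Conjugation by `z` on the kernel of `θ`. -/
def kerConj (θ : X →* Multiplicative (ZMod p)) (z : X) : θ.ker →* θ.ker :=
  MonoidHom.mk' (fun m => ⟨z⁻¹ * (m : X) * z, by
    rw [MonoidHom.mem_ker, map_mul, map_mul, map_inv, (MonoidHom.mem_ker).1 m.2, mul_one,
      inv_mul_cancel]⟩)
    (fun a b => by
      apply Subtype.ext
      show z⁻¹ * ((a : X) * (b : X)) * z = (z⁻¹ * (a : X) * z) * (z⁻¹ * (b : X) * z)
      group)

theorem kerConj_coe (θ : X →* Multiplicative (ZMod p)) (z : X) (m : θ.ker) :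
    ((kerConj θ z m : θ.ker) : X) = z⁻¹ * (m : X) * z := rfl

theorem kerConj_iterate_coe (θ : X →* Multiplicative (ZMod p)) (z : X) (m : θ.ker) (i : ℕ) :
    (((kerConj θ z)^[i] m : θ.ker) : X) = (z ^ i)⁻¹ * (m : X) * z ^ i := by
  induction i with
  | zero => simp
  | succ i ih =>
    rw [Function.iterate_succ_apply', kerConj_coe, ih, pow_succ]
    group

theorem engel_iterate_coe (θ : X →* Multiplicative (ZMod p)) (z : X) (m : θ.ker) (j : ℕ) :
    (((fun y : θ.ker => y⁻¹ * kerConj θ z y)^[j] m : θ.ker) : X) =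
      (fun y : X => y⁻¹ * z⁻¹ * y * z)^[j] (m : X) := by
  induction j with
  | zero => rfl
  | succ j ih =>
    rw [Function.iterate_succ_apply', Function.iterate_succ_apply', ← ih]
    show ((_ : θ.ker) : X)⁻¹ * (z⁻¹ * ((_ : θ.ker) : X) * z) = _
    group

/-- Restriction of `Λ : D → A` to `D` viewed inside `ker θ`. -/
def resHom {A : Type*} [CommGroup A] (θ : X →* Multiplicative (ZMod p)) {D : Subgroup X}
    (Λ : D →* A) : D.subgroupOf θ.ker →* A :=
  MonoidHom.mk' (fun d => Λ ⟨((d : θ.ker) : X), Subgroup.mem_subgroupOf.1 d.2⟩)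
    (fun a b => by
      rw [← map_mul]
      rfl)

theorem resHom_apply {A : Type*} [CommGroup A] (θ : X →* Multiplicative (ZMod p)) {D : Subgroup X}
    (Λ : D →* A) (d : D.subgroupOf θ.ker) :
    resHom θ Λ d = Λ ⟨((d : θ.ker) : X), Subgroup.mem_subgroupOf.1 d.2⟩ := rfl

theorem extH_resHom {A : Type*} [CommGroup A] (θ : X →* Multiplicative (ZMod p)) {D : Subgroup X}
    (Λ : D →* A) (m : θ.ker) (hm : m ∈ D.subgroupOf θ.ker) :
    extH (resHom θ Λ) m = extH Λ (m : X) := by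
  rw [extH_of_mem _ hm, extH_of_mem Λ (Subgroup.mem_subgroupOf.1 hm), resHom_apply]


section step

variable (θ : X →* Multiplicative (ZMod p)) (D : Subgroup X) (hD : D ≤ θ.ker) (z : X)
  (hz : θ z ≠ 1)

theorem fixed_iff (u : θ.ker) (i : ℕ) (r : θ.ker ⧸ D.subgroupOf θ.ker) :
    ((kerConj θ z)^[i] u) • r = r ↔
      (u : X) • ((z ^ i * (r.out : X) : X) : X ⧸ D) = ((z ^ i * (r.out : X) : X) : X ⧸ D) := by
  rw [smul_eq_iff_out, Subgroup.mem_subgroupOf, smul_mk_eq_iff]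
  have : ((r.out⁻¹ * (kerConj θ z)^[i] u * r.out : θ.ker) : X) =
      (z ^ i * (r.out : X))⁻¹ * (u : X) * (z ^ i * (r.out : X)) := by
    push_cast
    rw [kerConj_iterate_coe]
    group
  rw [this]

include hz in
theorem pow_inj_of_lt {i j : ℕ} (hi : i < p) (hj : j < p) (h : θ z ^ i = θ z ^ j) : i = j := by
  have ho : orderOf (θ z) = p := orderOf_Fp hz
  apply pow_injOn_Iio_orderOf (x := θ z)
  · rw [ho]; exact hi
  · rw [ho]; exact hj
  · exact h

include hD hz in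
theorem step_bij [Fintype (X ⧸ D)] [Fintype (θ.ker ⧸ D.subgroupOf θ.ker)] {A : Type*}
    [CommGroup A] (Λ : D →* A) (u : θ.ker)
    [DecidablePred (fun q : X ⧸ D => (u : X) • q = q)]
    [∀ i : ℕ, DecidablePred (fun r : θ.ker ⧸ D.subgroupOf θ.ker => ((kerConj θ z)^[i] u) • r = r)] :
    ∏ q ∈ Finset.univ.filter (fun q : X ⧸ D => (u : X) • q = q),
        extH Λ (q.out⁻¹ * (u : X) * q.out) =
      ∏ i ∈ Finset.range p,
        ∏ r ∈ Finset.univ.filter
            (fun r : θ.ker ⧸ D.subgroupOf θ.ker => ((kerConj θ z)^[i] u) • r = r),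
          extH (resHom θ Λ) (r.out⁻¹ * (kerConj θ z)^[i] u * r.out) := by
  rw [Finset.prod_sigma']
  symm
  refine Finset.prod_bij
    (fun (x : (_ : ℕ) × (θ.ker ⧸ D.subgroupOf θ.ker)) _ =>
      ((z ^ x.1 * (x.2.out : X) : X) : X ⧸ D)) ?_ ?_ ?_ ?_
  · rintro ⟨i, r⟩ hx
    rw [Finset.mem_sigma, Finset.mem_filter] at hx
    rw [Finset.mem_filter]
    exact ⟨Finset.mem_univ _, (fixed_iff θ D z u i r).1 hx.2.2⟩
  · rintro ⟨i, r⟩ hx ⟨j, r'⟩ hx' h
    rw [Finset.mem_sigma, Finset.mem_range] at hx hx'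
    simp only at h
    have h1 := QuotientGroup.eq.1 h
    have h2 : θ ((z ^ i * (r.out : X))⁻¹ * (z ^ j * (r'.out : X))) = 1 :=
      (MonoidHom.mem_ker).1 (hD h1)
    have hr : θ (r.out : X) = 1 := (MonoidHom.mem_ker).1 r.out.2
    have hr' : θ (r'.out : X) = 1 := (MonoidHom.mem_ker).1 r'.out.2
    rw [map_mul, map_inv, map_mul, map_mul, hr, hr', mul_one, mul_one, map_pow, map_pow,
      inv_mul_eq_one] at h2
    have hij : i = j := pow_inj_of_lt θ z hz hx.1 hx'.1 h2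
    subst hij
    have h3 : r.out⁻¹ * r'.out ∈ D.subgroupOf θ.ker := by
      rw [Subgroup.mem_subgroupOf]
      have : ((r.out⁻¹ * r'.out : θ.ker) : X) =
          (z ^ i * (r.out : X))⁻¹ * (z ^ i * (r'.out : X)) := by
        push_cast; group
      rw [this]
      exact h1
    have h4 : r = r' := by
      rw [← QuotientGroup.out_eq' r, ← QuotientGroup.out_eq' r']
      exact QuotientGroup.eq.2 h3
    rw [h4]
  · intro q hq
    rw [Finset.mem_filter] at hq
    set t : X := q.out with ht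
    obtain ⟨k, hk⟩ := exists_pow_eq_Fp hz (θ t)
    have ho : orderOf (θ z) = p := orderOf_Fp hz
    set i := k % p with hi
    have hip : i < p := Nat.mod_lt _ hp.1.pos
    have hki : θ z ^ i = θ t := by
      have h0 : θ z ^ (k % orderOf (θ z)) = θ z ^ k := pow_mod_orderOf (θ z) k
      rw [ho] at h0
      rw [hi, h0, hk]
    have hm : (z ^ i)⁻¹ * t ∈ θ.ker := by
      rw [MonoidHom.mem_ker, map_mul, map_inv, map_pow, hki, inv_mul_cancel]
    set m : θ.ker := ⟨(z ^ i)⁻¹ * t, hm⟩ with hmdef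
    set r : θ.ker ⧸ D.subgroupOf θ.ker := (m : θ.ker ⧸ D.subgroupOf θ.ker) with hr
    have hqr : ((z ^ i * (r.out : X) : X) : X ⧸ D) = q := by
      obtain ⟨d, hd⟩ := QuotientGroup.mk_out_eq_mul (D.subgroupOf θ.ker) m
      rw [hr, hd]
      push_cast
      rw [← QuotientGroup.out_eq' q, ← ht]
      rw [eq_comm, QuotientGroup.eq]
      have : t⁻¹ * (z ^ i * ((z ^ i)⁻¹ * t * ((d : θ.ker) : X))) = ((d : θ.ker) : X) := by group
      rw [this]
      exact Subgroup.mem_subgroupOf.1 d.2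
    refine ⟨⟨i, r⟩, ?_, hqr⟩
    rw [Finset.mem_sigma, Finset.mem_range, Finset.mem_filter]
    refine ⟨hip, Finset.mem_univ _, ?_⟩
    rw [fixed_iff, hqr]
    exact hq.2
  · rintro ⟨i, r⟩ hx
    rw [Finset.mem_sigma, Finset.mem_filter] at hx
    have hfix := hx.2.2
    have hfix2 := (fixed_iff θ D z u i r).1 hfix
    rw [smul_eq_iff_out] at hfix
    rw [smul_mk_eq_iff] at hfix2
    simp only
    rw [extH_conj_out Λ (u : X) _ hfix2, extH_resHom θ Λ _ hfix]
    congr 1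
    push_cast
    rw [kerConj_iterate_coe]
    group

include hD hz in
/-- **Index-`p` step.** -/
theorem step_eq [Finite X] [Fintype (X ⧸ D)] (Λ : D →* Multiplicative (ZMod p)) (u : θ.ker)
    [DecidablePred (fun q : X ⧸ D => (u : X) • q = q)]
    (hinv : ∀ n, 1 < n → n ∣ orderOf (u : X) → ∀ t : X, t⁻¹ * (u : X) ^ n * t ∈ D →
      extH Λ (t⁻¹ * (u : X) ^ n * t) = 1) :
    ∏ q ∈ Finset.univ.filter (fun q : X ⧸ D => (u : X) • q = q),
        extH Λ (q.out⁻¹ * (u : X) * q.out) =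
      MonoidHom.transfer (resHom θ Λ) ((fun y : θ.ker => y⁻¹ * kerConj θ z y)^[p - 1] u) := by
  classical
  haveI : Fintype (θ.ker ⧸ D.subgroupOf θ.ker) := Fintype.ofFinite _
  rw [step_bij θ D hD z hz Λ u, ← engel_prod_eq (kerConj θ z) (MonoidHom.transfer (resHom θ Λ)) u]
  apply Finset.prod_congr rfl
  intro i _
  have hcoe : (((kerConj θ z)^[i] u : θ.ker) : X) = (z ^ i)⁻¹ * (u : X) * z ^ i :=
    kerConj_iterate_coe θ z u i
  have hord : orderOf ((kerConj θ z)^[i] u) = orderOf (u : X) := by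
    rw [← Subgroup.orderOf_coe, hcoe]
    have := Cfsg.Agent.Lib.Helper2.orderOf_conj_eq (z ^ i)⁻¹ (u : X)
    rwa [inv_inv] at this
  rw [transfer_eq_prod_fixed (resHom θ Λ) ((kerConj θ z)^[i] u)]
  intro n hn hnd m hm
  rw [hord] at hnd
  rw [extH_resHom θ Λ _ hm]
  have hm' := Subgroup.mem_subgroupOf.1 hm
  have e : ((m⁻¹ * (kerConj θ z)^[i] u ^ n * m : θ.ker) : X) =
      (z ^ i * (m : X))⁻¹ * (u : X) ^ n * (z ^ i * (m : X)) := by
    push_cast
    rw [hcoe]
    have : ((z ^ i)⁻¹ * (u : X) * z ^ i) ^ n = (z ^ i)⁻¹ * (u : X) ^ n * z ^ i := by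
      have h1 := conj_pow (a := (z ^ i)⁻¹) (b := (u : X)) (i := n)
      rw [inv_inv] at h1
      exact h1
    rw [this]
    group
  rw [e] at hm' ⊢
  exact hinv n hn hnd _ hm'

include hD hz in
/-- Version of `step_eq` for an element of `X` lying in `ker θ`. -/
theorem step_eq' [Finite X] [Fintype (X ⧸ D)] (Λ : D →* Multiplicative (ZMod p)) (u : X)
    (hu : u ∈ θ.ker)
    [DecidablePred (fun q : X ⧸ D => u • q = q)]
    (hinv : ∀ n, 1 < n → n ∣ orderOf u → ∀ t : X, t⁻¹ * u ^ n * t ∈ D →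
      extH Λ (t⁻¹ * u ^ n * t) = 1) :
    ∏ q ∈ Finset.univ.filter (fun q : X ⧸ D => u • q = q),
        extH Λ (q.out⁻¹ * u * q.out) =
      MonoidHom.transfer (resHom θ Λ)
        ((fun y : θ.ker => y⁻¹ * kerConj θ z y)^[p - 1] ⟨u, hu⟩) :=
  step_eq θ D hD z hz Λ ⟨u, hu⟩ hinv

end step

end Cfsg.Agent.Lib.Helper2.Yo
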