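import Mathlib
import Cfsg.Prelude.Def_Transfer
import Cfsg.Agent.Lib.Helper2.HW5
import Cfsg.Agent.Lib.Helper2.Yo2
import Cfsg.Agent.Lib.Helper2.Yo3

set_option autoImplicit false

/-!
Stage B of the refined Hall–Wielandt theorem: fibres of the fixed cosets.
-/

namespace Cfsg.Agent.Lib.Helper2.Yo

open Cfsg.Agent.Lib.Helper33 MulAction Cfsg.Agent.Lib.Helper2 Cfsg.Agent.Lib.Helper2.HW

variable {G : Type*} [Group G] [Finite G] {p : ℕ} [hp : Fact p.Prime]

/-- iterated commutators stay in a subgroup -/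
theorem engel_mem (K : Subgroup G) {z u : G} (hz : z ∈ K) (hu : u ∈ K) (j : ℕ) :
    (fun y : G => y⁻¹ * z⁻¹ * y * z)^[j] u ∈ K := by
  induction j with
  | zero => exact hu
  | succ j ih =>
    rw [Function.iterate_succ_apply']
    exact K.mul_mem (K.mul_mem (K.mul_mem (K.inv_mem ih) (K.inv_mem hz)) ih) hz

/-- iterated commutators commute with the inclusion of a subgroup -/
theorem engel_coe (K : Subgroup G) (z u : K) (j : ℕ) :
    (((fun y : K => y⁻¹ * z⁻¹ * y * z)^[j] u : K) : G) =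
      (fun y : G => y⁻¹ * (z : G)⁻¹ * y * (z : G))^[j] (u : G) := by
  induction j with
  | zero => rfl
  | succ j ih =>
    rw [Function.iterate_succ_apply', Function.iterate_succ_apply', ← ih]
    push_cast
    rfl

/-- iterated commutators with an element of a normalized subgroup land in it -/
theorem engel_mem_normal (W K : Subgroup G) (hKW : K ≤ Subgroup.normalizer (W : Set G))
    {z u : G} (hz : z ∈ W) (hzK : z ∈ K) (hu : u ∈ K) (j : ℕ) :
    (fun y : G => y⁻¹ * z⁻¹ * y * z)^[j + 1] u ∈ W := by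
  rw [Function.iterate_succ_apply']
  set c := (fun y : G => y⁻¹ * z⁻¹ * y * z)^[j] u with hc
  have hcK : c ∈ K := engel_mem K hzK hu j
  have h1 : c⁻¹ * z⁻¹ * c ∈ W := by
    have := (Subgroup.mem_normalizer_iff''.1 (hKW hcK) z⁻¹).1 (W.inv_mem hz)
    exact this
  exact W.mul_mem h1 hz

section fib

variable (S : Sylow p G) (W : Subgroup G) (hW : Cfsg.IsWeaklyClosed W (S : Subgroup G))

/-- the subgroup `D_y W` -/
def TW (y : G ⧸ Subgroup.normalizer (W : Set G)) : Subgroup G := Dy S y ⊔ W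

/-- the fibre through `y` -/
def fib (y : G ⧸ Subgroup.normalizer (W : Set G)) : Set (G ⧸ Subgroup.normalizer (W : Set G)) :=
  {y' | ∃ t ∈ TW S W y, t • y = y'}

theorem mem_fib_self (y : G ⧸ Subgroup.normalizer (W : Set G)) : y ∈ fib S W y :=
  ⟨1, Subgroup.one_mem _, one_smul _ _⟩

include hW in
theorem TW_le (y : G ⧸ Subgroup.normalizer (W : Set G)) : TW S W y ≤ (S : Subgroup G) :=
  sup_le (Dy_le S y) hW.1

theorem Dy_smul' (y : G ⧸ Subgroup.normalizer (W : Set G)) (g : G)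
    (hgS : g ∈ (S : Subgroup G)) : Dy S (g • y) = cj g (Dy S y) := by
  have h1 : stabilizer G (g • y) = cj g (stabilizer G y) :=
    stabilizer_smul_eq_stabilizer_map_conj g y
  unfold Dy
  rw [h1]
  have h2 : cj g (S : Subgroup G) = (S : Subgroup G) := cj_eq_self_of_mem hgS
  conv_lhs => rw [← h2]
  rw [← cj_inf]

include hW in
theorem TW_smul (y : G ⧸ Subgroup.normalizer (W : Set G)) (t : G) (ht : t ∈ TW S W y) :
    TW S W (t • y) = TW S W y := by
  have htS : t ∈ (S : Subgroup G) := TW_le S W hW y ht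
  unfold TW
  rw [Dy_smul' S W y t htS]
  have h1 : cj t W = W := cj_eq_self_iff.mpr (wc_le_normalizer S W hW htS)
  have h2 : cj t (Dy S y) ⊔ W = cj t (Dy S y ⊔ W) := by
    rw [cj_sup, h1]
  rw [h2]
  exact cj_eq_self_of_mem ht

include hW in
theorem fib_eq_of_mem (y y₀ : G ⧸ Subgroup.normalizer (W : Set G)) (h : y ∈ fib S W y₀) :
    fib S W y = fib S W y₀ := by
  obtain ⟨t, ht, rfl⟩ := h
  have hT := TW_smul S W hW y₀ t ht
  ext y'
  constructor
  · rintro ⟨t', ht', rfl⟩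
    rw [hT] at ht'
    exact ⟨t' * t, Subgroup.mul_mem _ ht' ht, mul_smul _ _ _⟩
  · rintro ⟨t', ht', rfl⟩
    refine ⟨t' * t⁻¹, ?_, ?_⟩
    · rw [hT]
      exact Subgroup.mul_mem _ ht' (Subgroup.inv_mem _ ht)
    · rw [mul_smul, inv_smul_smul]

include hW in
theorem fib_eq_iff (y y₀ : G ⧸ Subgroup.normalizer (W : Set G)) :
    fib S W y = fib S W y₀ ↔ y ∈ fib S W y₀ := by
  constructor
  · intro h
    rw [← h]
    exact mem_fib_self S W y
  · exact fib_eq_of_mem S W hW y y₀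

theorem mem_fib_iff_orbit (y y₀ : G ⧸ Subgroup.normalizer (W : Set G)) :
    y ∈ fib S W y₀ ↔ y ∈ orbit (TW S W y₀) y₀ := by
  constructor
  · rintro ⟨t, ht, rfl⟩
    exact ⟨⟨t, ht⟩, rfl⟩
  · rintro ⟨t, rfl⟩
    exact ⟨(t : G), t.2, rfl⟩

end fib

section fiber

variable (S : Sylow p G) (W : Subgroup G) (hW : Cfsg.IsWeaklyClosed W (S : Subgroup G))

/-- the negation of the conclusion of the refined Hall–Wielandt theorem -/
def NoWitness : Prop := ∀ x ∈ (S : Subgroup G), ∀ z ∈ W, ∀ W₀ : Subgroup ↥W, IsCoatom W₀ →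
    (fun y : G => y⁻¹ * z⁻¹ * y * z)^[p - 1] x ∈ W₀.map W.subtype →
    (fun y : G => y⁻¹ * z⁻¹ * y * z)^[p - 1] x ∈
      ((frattini ↥W₀).map W₀.subtype).map W.subtype

include hW in
theorem fiber_prod_eq_one (hneg : NoWitness S W)
    (μ : Subgroup.normalizer (W : Set G) →* Multiplicative (ZMod p)) (u : G)
    (hu : u ∈ (S : Subgroup G))
    (hinv : ∀ n, 1 < n → n ∣ orderOf u → ∀ x : G,
      x⁻¹ * u ^ n * x ∈ Subgroup.normalizer (W : Set G) → extH μ (x⁻¹ * u ^ n * x) = 1)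
    (y₀ : G ⧸ Subgroup.normalizer (W : Set G))
    (hy₀ : y₀ ≠ ((1 : G) : G ⧸ Subgroup.normalizer (W : Set G))) (hfix : u • y₀ = y₀)
    (T : Subgroup G) (hTdef : T = TW S W y₀)
    [Fintype (G ⧸ Subgroup.normalizer (W : Set G))]
    [DecidablePred (fun y : G ⧸ Subgroup.normalizer (W : Set G) =>
      u • y = y ∧ y ∈ orbit T y₀)] :
    ∏ y ∈ Finset.univ.filter (fun y : G ⧸ Subgroup.normalizer (W : Set G) =>
        u • y = y ∧ y ∈ orbit T y₀),
      extH μ (y.out⁻¹ * u * y.out) = 1 := by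
  classical
  have hTS : T ≤ (S : Subgroup G) := hTdef ▸ TW_le S W hW y₀
  have hDT : Dy S y₀ ≤ T := by rw [hTdef]; exact le_sup_left
  have huD : u ∈ Dy S y₀ := (mem_Dy S y₀ u).2 ⟨hfix, hu⟩
  have huT : u ∈ T := hDT huD
  have hWT : W ≤ T := by rw [hTdef]; exact le_sup_right
  have hTp : IsPGroup p T := S.2.to_le hTS
  haveI : Fintype (T ⧸ stabIn T y₀) := Fintype.ofFinite _
  rw [orbit_prod_eq' μ T y₀ u huT]
  have hDne : stabIn T y₀ ≠ ⊤ := by
    intro h
    apply not_le_Dy S W hW y₀ hy₀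
    intro w hw
    rw [mem_Dy]
    have h1 : (⟨w, hWT hw⟩ : T) ∈ stabIn T y₀ := by rw [h]; exact Subgroup.mem_top _
    unfold stabIn at h1
    rw [Subgroup.mem_subgroupOf, mem_stabilizer_iff] at h1
    exact ⟨h1, hW.1 hw⟩
  obtain ⟨θ, hθ1, hθD⟩ := exists_hom_of_ne_top hTp (stabIn T y₀) hDne
  have hDyker : ∀ d (hd : d ∈ Dy S y₀), θ ⟨d, hDT hd⟩ = 1 := by
    intro d hd
    apply (MonoidHom.mem_ker).1
    apply hθD
    unfold stabIn
    rw [Subgroup.mem_subgroupOf, mem_stabilizer_iff]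
    exact ((mem_Dy S y₀ d).1 hd).1
  obtain ⟨z₀, hz₀W, hz₀⟩ : ∃ z₀, ∃ hz : z₀ ∈ W, θ ⟨z₀, hWT hz⟩ ≠ 1 := by
    by_contra hcon
    push Not at hcon
    apply hθ1
    have hle : T ≤ θ.ker.map T.subtype := by
      conv_lhs => rw [hTdef]
      unfold TW
      apply sup_le
      · intro d hd
        exact ⟨⟨d, _⟩, (MonoidHom.mem_ker).2 (hDyker d hd), rfl⟩
      · intro w hw
        exact ⟨⟨w, hWT hw⟩, (MonoidHom.mem_ker).2 (hcon w hw), rfl⟩
    ext t
    obtain ⟨t', ht', htt⟩ := hle t.2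
    have : t' = t := Subtype.ext htt
    rw [← this, (MonoidHom.mem_ker).1 ht']
    rfl
  set z : T := ⟨z₀, hWT hz₀W⟩ with hz
  have huker : (⟨u, huT⟩ : T) ∈ θ.ker := (MonoidHom.mem_ker).2 (hDyker u huD)
  rw [step_eq' θ (stabIn T y₀) hθD z hz₀ (orbHom μ T y₀) ⟨u, huT⟩ huker]
  · -- the transfer value is trivial
    set c' : θ.ker := (fun y : θ.ker => y⁻¹ * kerConj θ z y)^[p - 1] ⟨⟨u, huT⟩, huker⟩ with hc'
    set c : G := (fun y : G => y⁻¹ * z₀⁻¹ * y * z₀)^[p - 1] u with hc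
    have hcc : (((c' : θ.ker) : T) : G) = c := by
      rw [hc', engel_iterate_coe, engel_coe]
    have hcW : c ∈ W := by
      have hp1 : p - 1 = (p - 2) + 1 := by have := hp.1.two_le; omega
      rw [hc, hp1]
      exact engel_mem_normal W (S : Subgroup G) (wc_le_normalizer S W hW) hz₀W (hW.1 hz₀W) hu _
    let θW : W →* Multiplicative (ZMod p) := θ.comp (Subgroup.inclusion hWT)
    have hθW : θW ≠ 1 := by
      intro h
      apply hz₀
      have := DFunLike.congr_fun h ⟨z₀, hz₀W⟩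
      exact this
    have hcoatom : IsCoatom θW.ker := isCoatom_ker_Fp θW hθW
    have hcmem : c ∈ θW.ker.map W.subtype := by
      refine ⟨⟨c, hcW⟩, ?_, rfl⟩
      rw [SetLike.mem_coe, MonoidHom.mem_ker]
      show θ ⟨c, _⟩ = 1
      have h1 : θ (c' : T) = 1 := (MonoidHom.mem_ker).1 c'.2
      have h2 : (c' : T) = ⟨c, hWT hcW⟩ := Subtype.ext hcc
      rw [← h2]; exact h1
    have hfr := hneg u hu z₀ hz₀W θW.ker hcoatom hcmem
    obtain ⟨w₁, ⟨w₀, hw₀, hw₀₁⟩, hw₁c⟩ := hfr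
    let incl : θW.ker →* θ.ker := MonoidHom.mk'
      (fun w => ⟨⟨((w : W) : G), hWT (w : W).2⟩,
        (MonoidHom.mem_ker).2 ((MonoidHom.mem_ker).1 w.2)⟩)
      (fun a b => rfl)
    let κ' : θW.ker →* Multiplicative (ZMod p) :=
      (MonoidHom.transfer (resHom θ (orbHom μ T y₀))).comp incl
    have h3 : κ' w₀ = 1 := (MonoidHom.mem_ker).1 (frattini_le_ker_Fp κ' hw₀)
    have h4 : incl w₀ = c' := by
      apply Subtype.ext
      apply Subtype.ext
      rw [hcc, hc, ← hw₁c, ← hw₀₁]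
      rfl
    rw [← h4]
    exact h3
  · -- hinv
    intro n hn hnd t ht
    rw [Subgroup.orderOf_mk] at hnd
    have e : y₀.out⁻¹ * ((t⁻¹ * (⟨u, huT⟩ : T) ^ n * t : T) : G) * y₀.out =
        ((t : G) * y₀.out)⁻¹ * u ^ n * ((t : G) * y₀.out) := by
      push_cast
      group
    have hmem : ((t : G) * y₀.out)⁻¹ * u ^ n * ((t : G) * y₀.out) ∈
        Subgroup.normalizer (W : Set G) := by
      rw [← e]
      exact (mem_stabIn T y₀ _).1 ht
    have h1 := hinv n hn hnd _ hmem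
    rw [extH_of_mem μ hmem] at h1
    rw [extH_of_mem _ ht, orbHom_apply, ← h1]
    congr 1
    exact Subtype.ext e

end fiber

end Cfsg.Agent.Lib.Helper2.Yo
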