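import Mathlib
import Cfsg.Prelude.Def_Transfer
import Cfsg.Agent.Lib.Helper2.Yo4
import Cfsg.Agent.Lib.Helper2.HW6

set_option autoImplicit false

/-!
Stages B and C of the refined Hall–Wielandt theorem.
-/

namespace Cfsg.Agent.Lib.Helper2.Yo

open Cfsg.Agent.Lib.Helper33 MulAction Cfsg.Agent.Lib.Helper2 Cfsg.Agent.Lib.Helper2.HW

variable {G : Type*} [Group G] [Finite G] {p : ℕ} [hp : Fact p.Prime]

variable (S : Sylow p G) (W : Subgroup G) (hW : Cfsg.IsWeaklyClosed W (S : Subgroup G))

include hW in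
theorem prod_fixed_eq' (hneg : NoWitness S W)
    (μ : Subgroup.normalizer (W : Set G) →* Multiplicative (ZMod p)) (u : G)
    (hu : u ∈ (S : Subgroup G))
    (hinv : ∀ n, 1 < n → n ∣ orderOf u → ∀ x : G,
      x⁻¹ * u ^ n * x ∈ Subgroup.normalizer (W : Set G) → extH μ (x⁻¹ * u ^ n * x) = 1)
    [Fintype (G ⧸ Subgroup.normalizer (W : Set G))]
    [DecidablePred fun y : G ⧸ Subgroup.normalizer (W : Set G) => u • y = y] :
    ∏ y ∈ Finset.univ.filter (fun y : G ⧸ Subgroup.normalizer (W : Set G) => u • y = y),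
      extH μ (y.out⁻¹ * u * y.out) = extH μ u := by
  classical
  have hPH : (S : Subgroup G) ≤ Subgroup.normalizer (W : Set G) := wc_le_normalizer S W hW
  set q₀ : G ⧸ Subgroup.normalizer (W : Set G) := ((1 : G) : G ⧸ Subgroup.normalizer (W : Set G))
    with hq₀def
  have hq₀ : ∀ g ∈ Subgroup.normalizer (W : Set G), g • q₀ = q₀ := by
    intro g hg
    rw [hq₀def, smul_mk_eq_iff]
    simpa using hg
  set F := Finset.univ.filter (fun y : G ⧸ Subgroup.normalizer (W : Set G) => u • y = y) with hF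
  have hq₀F : q₀ ∈ F := by
    rw [hF, Finset.mem_filter]
    exact ⟨Finset.mem_univ _, hq₀ u (hPH hu)⟩
  rw [← Finset.mul_prod_erase F _ hq₀F]
  have hfq₀ : extH μ (q₀.out⁻¹ * u * q₀.out) = extH μ u := by
    have := extH_conj_out μ u 1 (by simpa using hPH hu)
    rw [this]
    simp
  rw [hfq₀]
  suffices h : ∏ y ∈ F.erase q₀, extH μ (y.out⁻¹ * u * y.out) = 1 by rw [h, mul_one]
  apply prod_eq_one_of_fibers (F.erase q₀) (fib S W)
  intro y₀ hy₀mem
  rw [Finset.mem_erase, hF, Finset.mem_filter] at hy₀mem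
  obtain ⟨hy0, -, hfix⟩ := hy₀mem
  have hset : (F.erase q₀).filter (fun y => fib S W y = fib S W y₀) =
      Finset.univ.filter (fun y : G ⧸ Subgroup.normalizer (W : Set G) =>
        u • y = y ∧ y ∈ orbit (TW S W y₀) y₀) := by
    ext y
    rw [Finset.mem_filter, Finset.mem_erase, hF, Finset.mem_filter, Finset.mem_filter]
    constructor
    · rintro ⟨⟨-, -, hyu⟩, hfib⟩
      exact ⟨Finset.mem_univ _, hyu,
        (mem_fib_iff_orbit S W y y₀).1 ((fib_eq_iff S W hW y y₀).1 hfib)⟩
    · rintro ⟨-, hyu, horb⟩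
      have hmem := (mem_fib_iff_orbit S W y y₀).2 horb
      refine ⟨⟨?_, Finset.mem_univ _, hyu⟩, (fib_eq_iff S W hW y y₀).2 hmem⟩
      obtain ⟨t, ht, rfl⟩ := hmem
      intro h
      apply hy0
      have htN : t ∈ Subgroup.normalizer (W : Set G) := hPH (TW_le S W hW y₀ ht)
      have : y₀ = t⁻¹ • q₀ := by rw [← h, inv_smul_smul]
      rw [this]
      exact hq₀ _ (Subgroup.inv_mem _ htN)
  rw [hset]
  exact fiber_prod_eq_one S W hW hneg μ u hu hinv y₀ hy0 hfix (TW S W y₀) rfl

include hW in
/-- **Stage C**: the transfer into `N_G(W)` followed by `μ` restricts to `μ` on `S`. -/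
theorem transfer_eq_extH' (hneg : NoWitness S W) : ∀ n : ℕ, ∀ u ∈ (S : Subgroup G),
    orderOf u = n → ∀ μ : Subgroup.normalizer (W : Set G) →* Multiplicative (ZMod p),
      MonoidHom.transfer μ u = extH μ u := by
  intro n
  induction n using Nat.strong_induction_on with
  | _ n ih =>
    intro u hu hun μ
    classical
    haveI : Fintype (G ⧸ Subgroup.normalizer (W : Set G)) := Fintype.ofFinite _
    have hPH : (S : Subgroup G) ≤ Subgroup.normalizer (W : Set G) := wc_le_normalizer S W hW
    have huH : u ∈ Subgroup.normalizer (W : Set G) := hPH hu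
    obtain ⟨k, hk⟩ := (IsPGroup.iff_orderOf.1 S.2) ⟨u, hu⟩
    rw [Subgroup.orderOf_mk] at hk
    have hinv : ∀ m, 1 < m → m ∣ orderOf u → ∀ x : G,
        x⁻¹ * u ^ m * x ∈ Subgroup.normalizer (W : Set G) → extH μ (x⁻¹ * u ^ m * x) = 1 := by
      intro m hm hmd x hx
      set v := u ^ m with hv
      have hvP : v ∈ (S : Subgroup G) := (S : Subgroup G).pow_mem hu m
      have hm0 : m ≠ 0 := by omega
      have hov : orderOf v = orderOf u / m := orderOf_pow_of_dvd hm0 hmd
      have hovlt : orderOf v < n := by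
        rw [hov, ← hun]
        exact Nat.div_lt_self (orderOf_pos u) hm
      set g := x⁻¹ * v * x with hg
      have hog : orderOf g = orderOf v := by
        have := Cfsg.Agent.Lib.Helper2.orderOf_conj_eq x⁻¹ v
        rwa [inv_inv] at this
      obtain ⟨kv, hkv⟩ := (IsPGroup.iff_orderOf.1 S.2) ⟨v, hvP⟩
      rw [Subgroup.orderOf_mk] at hkv
      have hgp : IsPGroup p (Subgroup.zpowers g) := by
        apply IsPGroup.of_card (n := kv)
        rw [Nat.card_zpowers, hog, hkv]
      obtain ⟨c, hcH, hc⟩ := sylow_sub (K := Subgroup.normalizer (W : Set G))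
        (P := (S : Subgroup G))
        (H := Subgroup.zpowers g) hPH S.2 (not_dvd_relIndex_of_sylow_le S _ hPH)
        (by rw [Subgroup.zpowers_le]; exact hx) hgp
      have hwP : c * g * c⁻¹ ∈ (S : Subgroup G) := hc (conj_mem_cj (Subgroup.mem_zpowers g))
      have how : orderOf (c * g * c⁻¹) = orderOf v := by
        rw [Cfsg.Agent.Lib.Helper2.orderOf_conj_eq, hog]
      have ih1 := ih _ hovlt (c * g * c⁻¹) hwP how μ
      have ih2 := ih _ hovlt v hvP rfl μ
      have htr : MonoidHom.transfer μ (c * g * c⁻¹) = MonoidHom.transfer μ v := by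
        rw [hg]
        simp only [map_mul, map_inv]
        rw [mul_comm (MonoidHom.transfer μ c), mul_assoc, mul_assoc, mul_inv_cancel, mul_one,
          mul_comm, mul_inv_cancel_left]
      have h1 : extH μ (c * g * c⁻¹) = extH μ g := by
        have := extH_conj μ hx (Subgroup.inv_mem _ hcH)
        rwa [inv_inv] at this
      have h2 : extH μ v = 1 := by
        rw [hv, extH_pow μ huH]
        have hpm : p ∣ m := by
          rw [hk] at hmd
          obtain ⟨j, -, rfl⟩ := (Nat.dvd_prime_pow hp.1).1 hmd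
          rcases j with _ | j
          · simp at hm
          · exact dvd_pow_self p (Nat.succ_ne_zero j)
        obtain ⟨m', rfl⟩ := hpm
        rw [pow_mul, pow_p_eq_one_Fp, one_pow]
      rw [← h1, ← ih1, htr, ih2, h2]
    rw [transfer_eq_prod_fixed μ u hinv, prod_fixed_eq' S W hW hneg μ u hu hinv]

include hW in
theorem extFp_normalizer' (hneg : NoWitness S W) :
    ExtFp p (Subgroup.normalizer (W : Set G)) := by
  intro μ
  have hPH : (S : Subgroup G) ≤ Subgroup.normalizer (W : Set G) := wc_le_normalizer S W hW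
  refine ⟨MonoidHom.transfer μ, ?_⟩
  let PV : Sylow p (Subgroup.normalizer (W : Set G)) := S.subtype hPH
  have hPVcoe : (PV : Subgroup (Subgroup.normalizer (W : Set G))) =
      (S : Subgroup G).subgroupOf (Subgroup.normalizer (W : Set G)) := Sylow.coe_subtype _ _
  let d : Subgroup.normalizer (W : Set G) →* Multiplicative (ZMod p) :=
    ((MonoidHom.transfer μ).comp (Subgroup.normalizer (W : Set G)).subtype) * μ⁻¹
  have hd : ∀ v : Subgroup.normalizer (W : Set G), d v = 1 := by
    intro v
    apply hom_eq_one_of_sylow PV (1 : Subgroup.normalizer (W : Set G) →* Multiplicative (ZMod p))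
      d _ v rfl
    intro g hg _
    have hgP : (g : G) ∈ (S : Subgroup G) := Subgroup.mem_subgroupOf.mp (hPVcoe.le hg)
    show MonoidHom.transfer μ (g : G) * (μ g)⁻¹ = 1
    rw [transfer_eq_extH' S W hW hneg _ (g : G) hgP rfl μ, extH_of_mem μ g.2, mul_inv_cancel]
  intro v
  have := hd v
  exact mul_inv_eq_one.mp this

end Cfsg.Agent.Lib.Helper2.Yo
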