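import Mathlib
import Cfsg.Prelude.Def_Transfer
import Cfsg.Agent.Lib.Helper2.Tate4
import Cfsg.Agent.Lib.Helper2.PResidual2

set_option autoImplicit false

/-!
From control of `F_p`-valued homomorphisms to control of the focal subgroup:
if `S ≤ H` and every homomorphism `H → F_p` extends to `G`, then `S ∩ G' ≤ H'`.
-/

namespace Cfsg.Agent.Lib.Helper2.Yo

open Cfsg.Agent.Lib.Helper2

open scoped commutatorElement

variable {p : ℕ} [hp : Fact p.Prime]

/-- In a commutative target, the image of `O^p` consists of `p'`-elements. -/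
theorem coprime_orderOf_map_of_mem_pResidual {H B : Type*} [Group H] [CommGroup B] (φ : H →* B)
    {r : H} (hr : r ∈ Cfsg.pResidual p H) : Nat.Coprime (orderOf (φ r)) p := by
  unfold Cfsg.pResidual at hr
  induction hr using Subgroup.closure_induction with
  | mem x hx => exact Nat.Coprime.coprime_dvd_left (orderOf_map_dvd φ x) hx
  | one => rw [map_one, orderOf_one]; exact Nat.coprime_one_left p
  | mul x y _ _ hx hy =>
    rw [map_mul]
    have h1 : orderOf (φ x * φ y) ∣ Nat.lcm (orderOf (φ x)) (orderOf (φ y)) :=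
      (Commute.all (φ x) (φ y)).orderOf_mul_dvd_lcm
    have h2 : Nat.lcm (orderOf (φ x)) (orderOf (φ y)) ∣ orderOf (φ x) * orderOf (φ y) :=
      Nat.lcm_dvd_mul _ _
    exact Nat.Coprime.coprime_dvd_left (h1.trans h2) (Nat.Coprime.mul_left hx hy)
  | inv x _ hx => rw [map_inv, orderOf_inv]; exact hx

variable {G : Type*} [Group G] [Finite G]

/-- `G' ≤ S' O^p(G)`. -/
theorem commutator_le_sup (S : Sylow p G) :
    commutator G ≤ ⁅(S : Subgroup G), (S : Subgroup G)⁆ ⊔ Cfsg.pResidual p G := by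
  have hN := pResidual_normal (G := G) p
  rw [commutator_def, Subgroup.commutator_le]
  intro g₁ _ g₂ _
  have hdec : ∀ g : G, ∃ t ∈ (S : Subgroup G), ∃ c ∈ Cfsg.pResidual p G, g = t * c := by
    intro g
    have hg : g ∈ (S : Subgroup G) ⊔ Cfsg.pResidual p G := by
      rw [sylow_sup_pResidual]; exact Subgroup.mem_top g
    rw [← SetLike.mem_coe, Subgroup.mul_normal] at hg
    obtain ⟨t, ht, c, hc, rfl⟩ := hg
    exact ⟨t, ht, c, hc, rfl⟩
  obtain ⟨t₁, ht₁, c₁, hc₁, rfl⟩ := hdec g₁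
  obtain ⟨t₂, ht₂, c₂, hc₂, rfl⟩ := hdec g₂
  have e1 : ((t₁ * c₁ : G) : G ⧸ Cfsg.pResidual p G) = (t₁ : G ⧸ Cfsg.pResidual p G) := by
    rw [QuotientGroup.mk_mul, (QuotientGroup.eq_one_iff c₁).mpr hc₁, mul_one]
  have e2 : ((t₂ * c₂ : G) : G ⧸ Cfsg.pResidual p G) = (t₂ : G ⧸ Cfsg.pResidual p G) := by
    rw [QuotientGroup.mk_mul, (QuotientGroup.eq_one_iff c₂).mpr hc₂, mul_one]
  have hq : ((⁅t₁, t₂⁆ : G) : G ⧸ Cfsg.pResidual p G) =
      ((⁅t₁ * c₁, t₂ * c₂⁆ : G) : G ⧸ Cfsg.pResidual p G) := by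
    have hc₁' : ((c₁ : G) : G ⧸ Cfsg.pResidual p G) = 1 := (QuotientGroup.eq_one_iff c₁).mpr hc₁
    have hc₂' : ((c₂ : G) : G ⧸ Cfsg.pResidual p G) = 1 := (QuotientGroup.eq_one_iff c₂).mpr hc₂
    simp only [commutatorElement_def, QuotientGroup.mk_mul, QuotientGroup.mk_inv, hc₁', hc₂',
      mul_one]
  have h1 := QuotientGroup.eq.1 hq
  have h2 : ⁅t₁ * c₁, t₂ * c₂⁆ = ⁅t₁, t₂⁆ * (⁅t₁, t₂⁆⁻¹ * ⁅t₁ * c₁, t₂ * c₂⁆) := by group
  rw [h2]
  exact Subgroup.mul_mem _ (Subgroup.mem_sup_left (Subgroup.commutator_mem_commutator ht₁ ht₂))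
    (Subgroup.mem_sup_right h1)

/-- If `S ≤ H` and every homomorphism `H → F_p` extends to `G`, then `S ∩ G' ≤ H'`. -/
theorem inf_commutator_le_of_extFp (S : Sylow p G) (H : Subgroup G)
    (hSH : (S : Subgroup G) ≤ H) (hExt : ExtFp p H) :
    (S : Subgroup G) ⊓ commutator G ≤ ⁅H, H⁆ := by
  have hN := pResidual_normal (G := G) p
  intro g hg
  obtain ⟨hgS, hgG'⟩ := Subgroup.mem_inf.mp hg
  have h1 := commutator_le_sup S hgG'
  rw [← SetLike.mem_coe, Subgroup.mul_normal] at h1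
  obtain ⟨a, ha, r, hr, har⟩ := h1
  have ha' : a ∈ ⁅(S : Subgroup G), (S : Subgroup G)⁆ := ha
  have hr' : r ∈ Cfsg.pResidual p G := hr
  have haS : a ∈ (S : Subgroup G) :=
    (Subgroup.commutator_le.2 (fun g₁ h₁ g₂ h₂ =>
      (S : Subgroup G).mul_mem ((S : Subgroup G).mul_mem ((S : Subgroup G).mul_mem h₁ h₂)
        ((S : Subgroup G).inv_mem h₁)) ((S : Subgroup G).inv_mem h₂))) ha'
  have hrS : r ∈ (S : Subgroup G) := by
    have : r = a⁻¹ * g := by rw [← har]; group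
    rw [this]
    exact Subgroup.mul_mem _ (Subgroup.inv_mem _ haS) hgS
  have hrH : r ∈ (Cfsg.pResidual p H).map H.subtype :=
    tate H S hSH hExt (Subgroup.mem_inf.mpr ⟨hrS, hr'⟩)
  obtain ⟨r', hr'mem, hr'r⟩ := hrH
  have haH' : a ∈ ⁅H, H⁆ := Subgroup.commutator_mono hSH hSH ha'
  rw [← Subgroup.map_subtype_commutator] at haH' ⊢
  obtain ⟨a', ha'mem, ha'a⟩ := haH'
  -- the element g inside H
  set g' : H := a' * r' with hg'
  have hg'g : (g' : G) = g := by
    rw [hg', ← har]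
    push_cast
    rw [← ha'a, ← hr'r]
    rfl
  refine ⟨g', ?_, hg'g⟩
  rw [SetLike.mem_coe, ← Abelianization.ker_of, MonoidHom.mem_ker]
  have hφ : Abelianization.of g' = Abelianization.of r' := by
    rw [hg', map_mul]
    have : Abelianization.of a' = 1 := by
      rw [← MonoidHom.mem_ker, Abelianization.ker_of]
      exact ha'mem
    rw [this, one_mul]
  have hcop : Nat.Coprime (orderOf (Abelianization.of g')) p := by
    rw [hφ]
    exact coprime_orderOf_map_of_mem_pResidual Abelianization.of hr'mem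
  obtain ⟨k, hk⟩ := (IsPGroup.iff_orderOf.1 S.2) ⟨g, hgS⟩
  rw [Subgroup.orderOf_mk] at hk
  have hdvd : orderOf (Abelianization.of g') ∣ p ^ k := by
    have h3 := orderOf_map_dvd (Abelianization.of (G := H)) g'
    rw [← Subgroup.orderOf_coe, hg'g, hk] at h3
    exact h3
  have hone : orderOf (Abelianization.of g') = 1 := by
    have := Nat.Coprime.eq_one_of_dvd (Nat.Coprime.pow_right k hcop) hdvd
    exact this
  exact orderOf_eq_one_iff.1 hone

end Cfsg.Agent.Lib.Helper2.Yo
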